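import Mathlib

set_option autoImplicit false
set_option linter.unusedVariables false

/-!
# Computational certificates for the recognition of `PSL₂(p)`, `p ∈ {7, 11, 13}` (helper4)

Candidate "inversion" maps on the projective line over `ZMod p` which normalize the group of
square dilations, tested against one Bruhat-type relation.
-/

namespace Cfsg.Agent.Helper4.PSLp

/-- translation on the projective line `Option (ZMod p)` (`none` is the point at infinity) -/
def addO {p : ℕ} (y : Option (ZMod p)) (c : ZMod p) : Option (ZMod p) := y.map (fun x => x + c)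

/-- affine map on the projective line -/
def affO {p : ℕ} (s d : ZMod p) (y : Option (ZMod p)) : Option (ZMod p) :=
  y.map (fun x => s * x + d)

/-- the map swapping `0` and `∞` and acting as `f` elsewhere -/
def tauO {p : ℕ} (f : ZMod p → ZMod p) : Option (ZMod p) → Option (ZMod p)
  | none => some 0
  | some x => if x = 0 then none else some (f x)

/-- candidate function determined by `f (r² x) = s1 f x`, `f 1 = a`, `f r = b`; `tbl` is a table of
discrete logarithms to base `r` -/
def candF {p : ℕ} (tbl : List ℕ) (s1 a b : ZMod p) (x : ZMod p) : ZMod p :=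
  s1 ^ ((tbl.getD x.val 0) / 2) * (if (tbl.getD x.val 0) % 2 = 0 then a else b)

/-- the certificate: the table is a table of discrete logarithms, and the only candidates
satisfying the relation are the maps `x ↦ a / x` with `-a` a square -/
def Cert (p : ℕ) (r : ZMod p) (tbl : List ℕ) (ex : Prop) : Prop :=
  (∀ x : ZMod p, x ≠ 0 → r ^ (tbl.getD x.val 0) = x) ∧
  ∀ s1 a b : ZMod p, s1 ^ (p / 2) = 1 → a ≠ 0 → b ≠ 0 → ¬ (ex ∧ s1 = r * r) →
    (∃ s d : ZMod p, s ^ (p / 2) = 1 ∧ ∀ y : Option (ZMod p),
        tauO (candF tbl s1 a b) (addO (tauO (candF tbl s1 a b) y) 1)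
          = addO (tauO (candF tbl s1 a b) (affO s d y)) a) →
    s1 * (r * r) = 1 ∧ b * r = a ∧ ∃ ρ : ZMod p, ρ * ρ = -a

instance {p : ℕ} [NeZero p] (r : ZMod p) (tbl : List ℕ) (ex : Prop) [Decidable ex] :
    Decidable (Cert p r tbl ex) := by
  unfold Cert; infer_instance

set_option maxRecDepth 100000 in
theorem cert7 : Cert 7 3 [0, 0, 2, 1, 4, 5, 3] True := by decide +kernel

set_option maxRecDepth 100000 in
theorem cert11 : Cert 11 2 [0, 0, 1, 8, 2, 4, 9, 7, 3, 6, 5] False := by decide +kernel

set_option maxRecDepth 100000 in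
theorem cert13 : Cert 13 2 [0, 0, 1, 4, 2, 9, 5, 11, 3, 8, 10, 7, 6] False := by decide +kernel

end Cfsg.Agent.Helper4.PSLp
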