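import Mathlib
import Cfsg.Agent.Lib.Helper4.PSLpCert

set_option autoImplicit false
set_option linter.unusedVariables false
set_option linter.unusedSectionVars false
set_option linter.style.haveILetI false
set_option linter.deprecated false

/-!
# Recognition of `PSL₂(p)` from a 2-transitive action on `p + 1` points, part 1 (helper4)

Coordinates on the point set, affine structure of the point stabilizer, the slope homomorphism.
-/

namespace Cfsg.Agent.Helper4.PSLp

/-- the data of a faithful transitive action on `p + 1` points whose point stabilizer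
normalizes a subgroup `⟨u⟩` of order `p` that has a unique fixed point -/
structure Setup (p : ℕ) (G : Type*) (Ω : Type*) [Group G] [MulAction G Ω] where
  inf : Ω
  zero : Ω
  u : G
  hzero : zero ≠ inf
  hu : orderOf u = p
  hu_inf : u • inf = inf
  hfix : ∀ ω : Ω, u • ω = ω → ω = inf
  hnorm : ∀ g : G, g • inf = inf → g * u * g⁻¹ ∈ Subgroup.zpowers u
  hΩ : Nat.card Ω = p + 1
  hfaith : ∀ g : G, (∀ x : Ω, g • x = x) → g = 1
  htrans : ∀ x y : Ω, ∃ g : G, g • x = y
  hG : 2 * Nat.card G = p * (p ^ 2 - 1)
  hp2 : p ≠ 2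

namespace Setup

variable {p : ℕ} [hp : Fact p.Prime] {G : Type*} {Ω : Type*} [Group G] [MulAction G Ω]
variable [Finite G] [Finite Ω]
variable (S : Setup p G Ω)

include S in
theorem two_mul_half : 2 * (p / 2) = p - 1 := by
  have h1 := hp.out.eq_two_or_odd
  have h2 := S.hp2
  omega

/-- coordinates: the point `∞` and the points `uⁱ • 0` -/
def pt : Option (ZMod p) → Ω
  | none => S.inf
  | some i => S.u ^ i.val • S.zero

theorem pt_none : S.pt none = S.inf := rfl

theorem pt_some (i : ZMod p) : S.pt (some i) = S.u ^ i.val • S.zero := rfl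

theorem pt_zero : S.pt (some 0) = S.zero := by
  rw [pt_some, ZMod.val_zero, pow_zero, one_smul]

theorem upow_inf (n : ℕ) : S.u ^ n • S.inf = S.inf := by
  have h : S.u ∈ MulAction.stabilizer G S.inf := S.hu_inf
  exact MulAction.mem_stabilizer_iff.mp (pow_mem h n)

theorem upow_pt (n : ℕ) (i : ZMod p) :
    S.u ^ n • S.pt (some i) = S.pt (some (i + (n : ZMod p))) := by
  rw [pt_some, pt_some, ← mul_smul, ← pow_add]
  congr 1
  rw [pow_eq_pow_iff_modEq, S.hu, ← ZMod.natCast_eq_natCast_iff]
  push_cast
  rw [ZMod.natCast_zmod_val, ZMod.natCast_zmod_val]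
  ring

theorem pt_some_ne_inf (i : ZMod p) : S.pt (some i) ≠ S.inf := by
  intro h
  rw [pt_some] at h
  have h2 := S.upow_inf i.val
  exact S.hzero (MulAction.injective (S.u ^ i.val) (h.trans h2.symm))

theorem pt_some_injective {i j : ZMod p} (hij : S.pt (some i) = S.pt (some j)) : i = j := by
  by_contra hne
  have hd0 : j - i ≠ 0 := sub_ne_zero.mpr (Ne.symm hne)
  have h1 : S.u ^ (j - i).val • S.pt (some i) = S.pt (some i) := by
    rw [S.upow_pt, ZMod.natCast_zmod_val, add_sub_cancel]
    exact hij.symm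
  have h2 : (S.u ^ (j - i).val) ^ ((j - i)⁻¹).val = S.u := by
    calc (S.u ^ (j - i).val) ^ ((j - i)⁻¹).val
        = S.u ^ ((j - i).val * ((j - i)⁻¹).val) := (pow_mul _ _ _).symm
      _ = S.u ^ 1 := by
          rw [pow_eq_pow_iff_modEq, S.hu, ← ZMod.natCast_eq_natCast_iff]
          push_cast
          rw [ZMod.natCast_zmod_val, ZMod.natCast_zmod_val, mul_inv_cancel₀ hd0]
      _ = S.u := pow_one _
  have h3 : S.u • S.pt (some i) = S.pt (some i) := by
    have hmem : S.u ^ (j - i).val ∈ MulAction.stabilizer G (S.pt (some i)) := h1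
    have h4 := pow_mem hmem ((j - i)⁻¹).val
    rw [h2] at h4
    exact h4
  exact S.pt_some_ne_inf i (S.hfix _ h3)

theorem pt_injective : Function.Injective S.pt := by
  intro a b hab
  cases a with
  | none =>
    cases b with
    | none => rfl
    | some j => exact absurd hab.symm (S.pt_some_ne_inf j)
  | some i =>
    cases b with
    | none => exact absurd hab (S.pt_some_ne_inf i)
    | some j => exact congrArg some (S.pt_some_injective hab)

theorem pt_bijective : Function.Bijective S.pt := by
  apply S.pt_injective.bijective_of_nat_card_le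
  have h : Nat.card (Option (ZMod p)) = p + 1 := by
    rw [Finite.card_option, Nat.card_zmod]
  rw [S.hΩ, h]

/-- the coordinate bijection -/
noncomputable def ptEquiv : Option (ZMod p) ≃ Ω := Equiv.ofBijective S.pt S.pt_bijective

/-- the action in coordinates -/
noncomputable def act (g : G) (y : Option (ZMod p)) : Option (ZMod p) :=
  S.ptEquiv.symm (g • S.pt y)

theorem pt_act (g : G) (y : Option (ZMod p)) : S.pt (S.act g y) = g • S.pt y := by
  show S.ptEquiv (S.ptEquiv.symm (g • S.pt y)) = g • S.pt y
  exact Equiv.apply_symm_apply _ _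

theorem act_eq_iff (g : G) (y z : Option (ZMod p)) : S.act g y = z ↔ g • S.pt y = S.pt z := by
  constructor
  · intro h
    rw [← h, pt_act]
  · intro h
    apply S.pt_injective
    rw [pt_act, h]

theorem act_mul (g h : G) (y : Option (ZMod p)) : S.act (g * h) y = S.act g (S.act h y) := by
  rw [act_eq_iff, pt_act, pt_act, mul_smul]

theorem act_one (y : Option (ZMod p)) : S.act 1 y = y := by
  rw [act_eq_iff, one_smul]

theorem act_injective (g : G) : Function.Injective (S.act g) := by
  intro y z h
  have h2 := congrArg (S.act g⁻¹) h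
  rwa [← act_mul, ← act_mul, inv_mul_cancel, act_one, act_one] at h2

theorem act_upow (n : ℕ) (y : Option (ZMod p)) : S.act (S.u ^ n) y = addO y (n : ZMod p) := by
  rw [act_eq_iff]
  cases y with
  | none => exact S.upow_inf n
  | some i => exact S.upow_pt n i

theorem act_u (y : Option (ZMod p)) : S.act S.u y = addO y 1 := by
  have h := S.act_upow 1 y
  rwa [pow_one, Nat.cast_one] at h

theorem exists_pt_some (z : Ω) (hz : z ≠ S.inf) : ∃ c : ZMod p, S.pt (some c) = z := by
  obtain ⟨y, hy⟩ := S.pt_bijective.2 z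
  cases y with
  | none => exact absurd hy.symm hz
  | some c => exact ⟨c, hy⟩

theorem exists_aff (g : G) (hg : g • S.inf = S.inf) :
    ∃ m c : ZMod p, m ≠ 0 ∧ ∀ y, S.act g y = affO m c y := by
  obtain ⟨n, hn⟩ : ∃ n : ℕ, S.u ^ n = g * S.u * g⁻¹ := by
    have h := S.hnorm g hg
    rw [← mem_powers_iff_mem_zpowers, Submonoid.mem_powers_iff] at h
    exact h
  have hgz : g • S.zero ≠ S.inf := by
    intro h
    exact S.hzero (MulAction.injective g (h.trans hg.symm))
  obtain ⟨c, hc⟩ := S.exists_pt_some _ hgz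
  have key : ∀ y, S.act g y = affO (n : ZMod p) c y := by
    intro y
    rw [act_eq_iff]
    cases y with
    | none => exact hg
    | some i =>
      show g • S.pt (some i) = S.pt (some ((n : ZMod p) * i + c))
      rw [pt_some]
      have e1 : g • S.u ^ i.val • S.zero = (g * S.u ^ i.val * g⁻¹) • g • S.zero := by
        rw [← mul_smul, ← mul_smul, inv_mul_cancel_right]
      rw [e1, ← conj_pow, ← hn, ← pow_mul, ← hc, S.upow_pt]
      congr 2
      push_cast
      rw [ZMod.natCast_zmod_val]
      ring
  refine ⟨n, c, ?_, key⟩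
  intro hm
  have h0 := key (some 0)
  have h1 := key (some 1)
  rw [hm] at h0 h1
  have h2 : S.act g (some 0) = S.act g (some 1) := by
    rw [h0, h1]
    simp [affO]
  have h3 := S.act_injective g h2
  exact zero_ne_one (Option.some.inj h3)

/-- the translation part of an element of the point stabilizer -/
noncomputable def shift (g : G) : ZMod p := (S.act g (some 0)).getD 0

/-- the slope of an element of the point stabilizer -/
noncomputable def slope (g : G) : ZMod p := (S.act g (some 1)).getD 0 - S.shift g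

theorem act_eq_aff (g : G) (hg : g • S.inf = S.inf) :
    S.slope g ≠ 0 ∧ ∀ y, S.act g y = affO (S.slope g) (S.shift g) y := by
  obtain ⟨m, c, hm, h⟩ := S.exists_aff g hg
  have hc : S.shift g = c := by
    unfold shift
    rw [h]
    simp [affO]
  have hm' : S.slope g = m := by
    unfold slope
    rw [hc, h]
    simp [affO]
  rw [hm', hc]
  exact ⟨hm, h⟩

theorem slope_mul (g g' : G) (hg : g • S.inf = S.inf) (hg' : g' • S.inf = S.inf) :
    S.slope (g * g') = S.slope g * S.slope g' := by
  have h1 := (S.act_eq_aff g hg).2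
  have h2 := (S.act_eq_aff g' hg').2
  have hgg : (g * g') • S.inf = S.inf := by rw [mul_smul, hg', hg]
  have h3 := (S.act_eq_aff (g * g') hgg).2
  have e0 := h3 (some 0)
  have e1 := h3 (some 1)
  rw [act_mul, h2, h1] at e0 e1
  simp only [affO, Option.map_some, Option.some.injEq] at e0 e1
  linear_combination e0 - e1

theorem slope_one : S.slope (1 : G) = 1 := by
  unfold slope shift
  rw [act_one, act_one]
  simp

theorem slope_upow (n : ℕ) : S.slope (S.u ^ n) = 1 := by
  unfold slope shift
  rw [act_upow, act_upow]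
  simp [addO]

/-- the two point stabilizer -/
def K : Subgroup G := MulAction.stabilizer G S.inf ⊓ MulAction.stabilizer G S.zero

theorem mem_K {g : G} : g ∈ S.K ↔ g • S.inf = S.inf ∧ g • S.zero = S.zero := by
  unfold K
  rw [Subgroup.mem_inf, MulAction.mem_stabilizer_iff, MulAction.mem_stabilizer_iff]

theorem shift_of_mem_K {g : G} (hg : g ∈ S.K) : S.shift g = 0 := by
  unfold shift
  have h : S.act g (some 0) = some 0 := by
    rw [act_eq_iff, pt_zero]
    exact (S.mem_K.mp hg).2
  rw [h]
  rfl

theorem act_of_mem_K {g : G} (hg : g ∈ S.K) : ∀ y, S.act g y = affO (S.slope g) 0 y := by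
  have h := (S.act_eq_aff g (S.mem_K.mp hg).1).2
  rwa [S.shift_of_mem_K hg] at h

/-- the slope homomorphism on the two point stabilizer -/
noncomputable def slopeHom : S.K →* (ZMod p)ˣ where
  toFun g := Units.mk0 (S.slope g.1) (S.act_eq_aff g.1 (S.mem_K.mp g.2).1).1
  map_one' := by
    apply Units.ext
    show S.slope 1 = 1
    exact S.slope_one
  map_mul' a b := by
    apply Units.ext
    show S.slope (a.1 * b.1) = S.slope a.1 * S.slope b.1
    exact S.slope_mul _ _ (S.mem_K.mp a.2).1 (S.mem_K.mp b.2).1

theorem slopeHom_val (g : S.K) : ((S.slopeHom g : (ZMod p)ˣ) : ZMod p) = S.slope g.1 := rfl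

theorem eq_one_of_slope_eq_one {g : G} (hg : g ∈ S.K) (h1 : S.slope g = 1) : g = 1 := by
  apply S.hfaith
  intro x
  obtain ⟨y, rfl⟩ := S.pt_bijective.2 x
  have h2 := S.act_of_mem_K hg y
  rw [h1] at h2
  have h3 : S.act g y = y := by
    rw [h2]
    cases y <;> simp [affO]
  rw [act_eq_iff] at h3
  exact h3

theorem slopeHom_injective : Function.Injective S.slopeHom := by
  rw [injective_iff_map_eq_one]
  intro g hg
  have h1 : S.slope g.1 = 1 := by
    have h := congrArg Units.val hg
    exact h
  apply Subtype.ext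
  show (g : G) = 1
  exact S.eq_one_of_slope_eq_one g.2 h1

theorem K_comm {x y : G} (hx : x ∈ S.K) (hy : y ∈ S.K) : x * y = y * x := by
  have h : S.slopeHom (⟨x, hx⟩ * ⟨y, hy⟩) = S.slopeHom (⟨y, hy⟩ * ⟨x, hx⟩) := by
    rw [map_mul, map_mul, mul_comm]
  have h2 := S.slopeHom_injective h
  exact congrArg Subtype.val h2

theorem eq_of_slope_eq {x y : G} (hx : x ∈ S.K) (hy : y ∈ S.K) (h : S.slope x = S.slope y) :
    x = y := by
  have h1 : S.slopeHom ⟨x, hx⟩ = S.slopeHom ⟨y, hy⟩ := Units.ext h
  exact congrArg Subtype.val (S.slopeHom_injective h1)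

theorem card_stab_inf :
    Nat.card (MulAction.stabilizer G S.inf) * (p + 1) = Nat.card G := by
  haveI : MulAction.IsPretransitive G Ω := ⟨S.htrans⟩
  have h := MulAction.index_stabilizer_of_transitive G S.inf
  rw [← S.hΩ, ← h]
  exact Subgroup.card_mul_index _

theorem smul_zero_eq (g : G) (hg : g • S.inf = S.inf) : g • S.zero = S.pt (some (S.shift g)) := by
  have h1 := (S.act_eq_aff g hg).2 (some 0)
  rw [act_eq_iff, pt_zero] at h1
  rw [h1]
  simp [affO]

theorem card_stab_eq :
    Nat.card (MulAction.stabilizer G S.inf) = p * Nat.card S.K := by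
  have h0 : Nat.card (ZMod p × S.K) = p * Nat.card S.K := by
    rw [Nat.card_prod, Nat.card_zmod]
  rw [← h0]
  symm
  have hmem : ∀ x : ZMod p × S.K, S.u ^ x.1.val * x.2.1 ∈ MulAction.stabilizer G S.inf := by
    intro x
    rw [MulAction.mem_stabilizer_iff, mul_smul, (S.mem_K.mp x.2.2).1, S.upow_inf]
  let f : ZMod p × S.K → MulAction.stabilizer G S.inf := fun x => ⟨_, hmem x⟩
  have hf : Function.Bijective f := by
    constructor
    · rintro ⟨c, k⟩ ⟨c', k'⟩ h
      have h' : S.u ^ c.val * k.1 = S.u ^ c'.val * k'.1 := congrArg Subtype.val h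
      have hc : c = c' := by
        have e1 : (S.u ^ c.val * k.1) • S.zero = S.pt (some c) := by
          rw [mul_smul, (S.mem_K.mp k.2).2, pt_some]
        have e2 : (S.u ^ c'.val * k'.1) • S.zero = S.pt (some c') := by
          rw [mul_smul, (S.mem_K.mp k'.2).2, pt_some]
        rw [h', e2] at e1
        exact (S.pt_some_injective e1).symm
      subst hc
      have hk : k.1 = k'.1 := mul_left_cancel h'
      exact Prod.ext rfl (Subtype.ext hk)
    · rintro ⟨g, hg⟩
      have hg' : g • S.inf = S.inf := hg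
      have hk : (S.u ^ (S.shift g).val)⁻¹ * g ∈ S.K := by
        rw [mem_K]
        constructor
        · rw [mul_smul, hg', inv_smul_eq_iff, S.upow_inf]
        · rw [mul_smul, S.smul_zero_eq g hg', inv_smul_eq_iff, pt_some]
      refine ⟨(S.shift g, ⟨_, hk⟩), ?_⟩
      apply Subtype.ext
      show S.u ^ (S.shift g).val * ((S.u ^ (S.shift g).val)⁻¹ * g) = g
      rw [mul_inv_cancel_left]
  exact Nat.card_congr (Equiv.ofBijective f hf)

theorem card_K : 2 * Nat.card S.K = p - 1 := by
  have h1 := S.card_stab_inf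
  have h2 := S.card_stab_eq
  rw [h2] at h1
  have hG := S.hG
  have h3 : p ^ 2 - 1 = (p - 1) * (p + 1) := by
    have hp1 : 1 ≤ p := hp.out.one_lt.le
    have e : p ^ 2 = (p - 1) * (p + 1) + 1 := by
      have : p = (p - 1) + 1 := by omega
      conv_lhs => rw [this]
      have h5 : p - 1 + 1 + 1 = p + 1 := by omega
      rw [← h5]
      ring
    rw [e, Nat.add_sub_cancel]
  rw [h3, ← h1] at hG
  have hpos : 0 < p * (p + 1) := Nat.mul_pos hp.out.pos (Nat.succ_pos p)
  apply Nat.eq_of_mul_eq_mul_left hpos
  calc p * (p + 1) * (2 * Nat.card S.K) = 2 * (p * Nat.card S.K * (p + 1)) := by ring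
    _ = p * ((p - 1) * (p + 1)) := hG
    _ = p * (p + 1) * (p - 1) := by ring

theorem card_K' : Nat.card S.K = p / 2 := by
  have h1 := S.card_K
  have h2 := S.two_mul_half
  omega

theorem index_range_slopeHom : (S.slopeHom).range.index = 2 := by
  have h1 : Nat.card S.slopeHom.range = Nat.card S.K :=
    (Nat.card_congr (MonoidHom.ofInjective S.slopeHom_injective).toEquiv).symm
  have h2 := Subgroup.card_mul_index S.slopeHom.range
  rw [h1, Nat.card_eq_fintype_card (α := (ZMod p)ˣ), ZMod.card_units] at h2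
  have h3 := S.card_K
  have hK : 0 < Nat.card S.K := Nat.card_pos
  apply Nat.eq_of_mul_eq_mul_left hK
  rw [h2, ← h3]
  ring

theorem exists_K_slope_sq (n : ZMod p) (hn : n ≠ 0) : ∃ k ∈ S.K, S.slope k = n * n := by
  have h := Subgroup.sq_mem_of_index_two S.index_range_slopeHom (Units.mk0 n hn)
  obtain ⟨k, hk⟩ := h
  refine ⟨k.1, k.2, ?_⟩
  have h2 := congrArg Units.val hk
  rw [Units.val_pow_eq_pow_val, Units.val_mk0, sq] at h2
  exact h2

theorem slope_pow_of_mem_K {g : G} (hg : g ∈ S.K) : S.slope g ^ (p / 2) = 1 := by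
  have hc := S.card_K'
  have h1 : (⟨g, hg⟩ : S.K) ^ Nat.card S.K = 1 := pow_card_eq_one'
  have h2 := congrArg S.slopeHom h1
  rw [map_pow, map_one, hc] at h2
  have h3 := congrArg Units.val h2
  rw [Units.val_pow_eq_pow_val] at h3
  exact h3

theorem slope_pow_of_inf {g : G} (hg : g • S.inf = S.inf) : S.slope g ^ (p / 2) = 1 := by
  have hk : S.u ^ (-(S.shift g)).val * g ∈ S.K := by
    rw [mem_K]
    constructor
    · rw [mul_smul, hg, S.upow_inf]
    · rw [mul_smul, S.smul_zero_eq g hg, S.upow_pt, ZMod.natCast_zmod_val, add_neg_cancel,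
        pt_zero]
  have hs : S.slope (S.u ^ (-(S.shift g)).val * g) = S.slope g := by
    rw [S.slope_mul _ _ (S.upow_inf _) hg, S.slope_upow, one_mul]
  rw [← hs]
  exact S.slope_pow_of_mem_K hk

end Setup

end Cfsg.Agent.Helper4.PSLp
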