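import Mathlib
import Cfsg.Agent.Lib.Helper4.PSLp1
import Cfsg.Agent.Lib.Helper9.Mobius
import Cfsg.Agent.Lib.Helper3.CardSL

set_option autoImplicit false
set_option linter.unusedVariables false
set_option linter.unusedSectionVars false
set_option linter.style.haveILetI false
set_option linter.deprecated false

/-!
# Recognition of `PSL₂(p)` from a 2-transitive action on `p + 1` points, part 2 (helper4)

The element swapping `0` and `∞`, its functional equations, the certificate, Möbius form.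
-/

namespace Cfsg.Agent.Helper4.PSLp

open Cfsg.Agent.Lib.Helper9.Mobius

/-- view a point of `Option α` as a point of the one-point compactification -/
def toOP {α : Type*} (y : Option α) : OnePoint α := y

theorem toOP_none {α : Type*} : toOP (none : Option α) = (OnePoint.infty : OnePoint α) := rfl

theorem toOP_some {α : Type*} (k : α) : toOP (some k) = ((k : α) : OnePoint α) := rfl

theorem toOP_bijective {α : Type*} : Function.Bijective (toOP (α := α)) :=
  ⟨fun a b h => h, fun b => ⟨b, rfl⟩⟩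

theorem tauO_congr {p : ℕ} {f g : ZMod p → ZMod p} (h : ∀ x, x ≠ 0 → f x = g x) :
    tauO f = tauO g := by
  funext y
  cases y with
  | none => rfl
  | some x =>
    by_cases hx : x = 0
    · simp [tauO, hx]
    · simp [tauO, hx, h x hx]

theorem fun_pow {p : ℕ} [Fact p.Prime] (f : ZMod p → ZMod p) (r s1 : ZMod p) (hr : r ≠ 0)
    (hf : ∀ x, x ≠ 0 → f (r * r * x) = s1 * f x) (k : ℕ) :
    f (r ^ k) = s1 ^ (k / 2) * (if k % 2 = 0 then f 1 else f r) := by
  induction k using Nat.twoStepInduction with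
  | zero => simp
  | one => simp
  | more n ih _ =>
    have e : r ^ (n + 2) = r * r * r ^ n := by ring
    rw [e, hf _ (pow_ne_zero n hr), ih]
    have h1 : (n + 2) / 2 = n / 2 + 1 := by omega
    have h2 : (n + 2) % 2 = n % 2 := by omega
    rw [h1, h2, pow_succ]
    ring

theorem fun_eq_candF {p : ℕ} [Fact p.Prime] (f : ZMod p → ZMod p) (r s1 : ZMod p) (hr : r ≠ 0)
    (hf : ∀ x, x ≠ 0 → f (r * r * x) = s1 * f x) (tbl : List ℕ)
    (htbl : ∀ x : ZMod p, x ≠ 0 → r ^ (tbl.getD x.val 0) = x) (x : ZMod p) (hx : x ≠ 0) :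
    f x = candF tbl s1 (f 1) (f r) x := by
  unfold candF
  have h := fun_pow f r s1 hr hf (tbl.getD x.val 0)
  rw [htbl x hx] at h
  exact h

theorem fun_mul_self {p : ℕ} [Fact p.Prime] (f : ZMod p → ZMod p) (r s1 : ZMod p) (hr : r ≠ 0)
    (hf : ∀ x, x ≠ 0 → f (r * r * x) = s1 * f x) (h1 : s1 * (r * r) = 1) (h2 : f r * r = f 1)
    (k : ℕ) : f (r ^ k) * r ^ k = f 1 := by
  induction k using Nat.twoStepInduction with
  | zero => simp
  | one => simpa using h2
  | more n ih _ =>
    have e : r ^ (n + 2) = r * r * r ^ n := by ring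
    rw [e, hf _ (pow_ne_zero n hr)]
    linear_combination (f (r ^ n) * r ^ n) * h1 + ih

namespace Setup

variable {p : ℕ} [hp : Fact p.Prime] {G : Type*} {Ω : Type*} [Group G] [MulAction G Ω]
variable [Finite G] [Finite Ω]
variable (S : Setup p G Ω)

theorem exists_swap : ∃ t : G, t • S.inf = S.zero ∧ t • S.zero = S.inf := by
  obtain ⟨g, hg⟩ := S.htrans S.inf S.zero
  have hz : g⁻¹ • S.inf ≠ S.inf := by
    intro h
    rw [inv_smul_eq_iff] at h
    exact S.hzero (hg.symm.trans h.symm)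
  obtain ⟨c, hc⟩ := S.exists_pt_some _ hz
  refine ⟨g * S.u ^ c.val, ?_, ?_⟩
  · rw [mul_smul, S.upow_inf, hg]
  · rw [mul_smul, ← pt_some, hc, smul_inv_smul]

/-- the function induced by `t` on the finite nonzero points -/
noncomputable def fOf (t : G) (x : ZMod p) : ZMod p := (S.act t (some x)).getD 0

section swap

variable (t : G) (ht1 : t • S.inf = S.zero) (ht2 : t • S.zero = S.inf)

include ht1 in
theorem act_swap_none : S.act t none = some 0 := by
  rw [act_eq_iff, pt_zero]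
  exact ht1

include ht2 in
theorem act_swap_zero : S.act t (some 0) = none := by
  rw [act_eq_iff, pt_zero]
  exact ht2

include ht1 ht2 in
theorem act_swap_some {x : ZMod p} (hx : x ≠ 0) :
    S.act t (some x) = some (S.fOf t x) ∧ S.fOf t x ≠ 0 := by
  have h1 : S.act t (some x) ≠ none := by
    intro h
    rw [← S.act_swap_zero t ht2] at h
    exact hx (Option.some.inj (S.act_injective t h))
  obtain ⟨v, hv⟩ := Option.ne_none_iff_exists'.mp h1
  have hf : S.fOf t x = v := by
    unfold fOf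
    rw [hv]
    rfl
  rw [hf]
  refine ⟨hv, ?_⟩
  intro h0
  rw [h0, ← S.act_swap_none t ht1] at hv
  exact Option.some_ne_none x (S.act_injective t hv)

include ht1 ht2 in
theorem act_swap_eq (y : Option (ZMod p)) : S.act t y = tauO (S.fOf t) y := by
  cases y with
  | none => exact S.act_swap_none t ht1
  | some x =>
    by_cases hx : x = 0
    · subst hx
      rw [S.act_swap_zero t ht2]
      simp [tauO]
    · rw [(S.act_swap_some t ht1 ht2 hx).1]
      simp [tauO, hx]

include ht1 ht2 in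
theorem fOf_slope_mul {k : G} (hk : k ∈ S.K) :
    t * k * t⁻¹ ∈ S.K ∧
      ∀ x, x ≠ 0 → S.fOf t (S.slope k * x) = S.slope (t * k * t⁻¹) * S.fOf t x := by
  have hti1 : t⁻¹ • S.zero = S.inf := by rw [inv_smul_eq_iff, ht1]
  have hti2 : t⁻¹ • S.inf = S.zero := by rw [inv_smul_eq_iff, ht2]
  have hk' : t * k * t⁻¹ ∈ S.K := by
    rw [mem_K]
    constructor
    · rw [mul_smul, mul_smul, hti2, (S.mem_K.mp hk).2, ht2]
    · rw [mul_smul, mul_smul, hti1, (S.mem_K.mp hk).1, ht1]
  refine ⟨hk', fun x hx => ?_⟩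
  have hsk : S.slope k ≠ 0 := (S.act_eq_aff k (S.mem_K.mp hk).1).1
  have e : S.act (t * k * t⁻¹) (S.act t (some x)) = S.act t (S.act k (some x)) := by
    rw [← act_mul, ← act_mul, inv_mul_cancel_right]
  rw [S.act_of_mem_K hk, S.act_of_mem_K hk', (S.act_swap_some t ht1 ht2 hx).1] at e
  have hx' : S.slope k * x + 0 ≠ 0 := by
    rw [add_zero]
    exact mul_ne_zero hsk hx
  have e2 : S.act t (some (S.slope k * x + 0)) = some (S.fOf t (S.slope k * x + 0)) :=
    (S.act_swap_some t ht1 ht2 hx').1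
  simp only [affO, Option.map_some] at e
  rw [e2] at e
  have e3 := Option.some.inj e
  rw [add_zero, add_zero] at e3
  exact e3.symm

include ht1 ht2 in
theorem relation : ∃ s d : ZMod p, s ^ (p / 2) = 1 ∧ ∀ y : Option (ZMod p),
    tauO (S.fOf t) (addO (tauO (S.fOf t) y) 1)
      = addO (tauO (S.fOf t) (affO s d y)) (S.fOf t 1) := by
  have h10 : (1 : ZMod p) ≠ 0 := one_ne_zero
  have hw : S.act (t * S.u * t) none = some (S.fOf t 1) := by
    rw [act_mul, act_mul, S.act_swap_none t ht1, S.act_u]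
    have h : addO (some (0 : ZMod p)) 1 = some 1 := by simp [addO]
    rw [h, (S.act_swap_some t ht1 ht2 h10).1]
  have hv : S.act (S.u ^ (S.fOf t 1).val * t) none = some (S.fOf t 1) := by
    rw [act_mul, S.act_swap_none t ht1, S.act_upow, ZMod.natCast_zmod_val]
    simp [addO]
  have hb : ((S.u ^ (S.fOf t 1).val * t)⁻¹ * (t * S.u * t)) • S.inf = S.inf := by
    rw [mul_smul, inv_smul_eq_iff]
    have h1 := (S.act_eq_iff _ _ _).mp hw
    have h2 := (S.act_eq_iff _ _ _).mp hv
    rw [pt_none] at h1 h2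
    rw [h1, h2]
  obtain ⟨hs0, haff⟩ := S.act_eq_aff _ hb
  refine ⟨S.slope ((S.u ^ (S.fOf t 1).val * t)⁻¹ * (t * S.u * t)),
    S.shift ((S.u ^ (S.fOf t 1).val * t)⁻¹ * (t * S.u * t)), S.slope_pow_of_inf hb, fun y => ?_⟩
  have e : S.act (t * S.u * t) y = S.act (S.u ^ (S.fOf t 1).val * t)
      (S.act ((S.u ^ (S.fOf t 1).val * t)⁻¹ * (t * S.u * t)) y) := by
    rw [← act_mul, mul_inv_cancel_left]
  rw [haff, act_mul, act_mul, act_mul, S.act_upow, ZMod.natCast_zmod_val] at e
  simp only [S.act_u, S.act_swap_eq t ht1 ht2] at e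
  exact e

include ht1 ht2 in
/-- elements normalizing the two point stabilizer fix or swap the two points -/
theorem normalizer_K_cases {k₀ : G} (hk₀ : k₀ ∈ S.K) (hs : S.slope k₀ ≠ 1) (n : G)
    (hn : n ∈ Subgroup.normalizer (S.K : Set G)) : n ∈ S.K ∨ t⁻¹ * n ∈ S.K := by
  have hfixpt : ∀ ω : Ω, k₀ • ω = ω → ω = S.inf ∨ ω = S.zero := by
    intro ω h
    obtain ⟨y, rfl⟩ := S.pt_bijective.2 ω
    cases y with
    | none => exact Or.inl rfl
    | some x =>
      right
      have h1 : S.act k₀ (some x) = some x := (S.act_eq_iff _ _ _).mpr h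
      rw [S.act_of_mem_K hk₀] at h1
      simp only [affO, Option.map_some, Option.some.injEq, add_zero] at h1
      have h2 : (S.slope k₀ - 1) * x = 0 := by linear_combination h1
      rcases mul_eq_zero.mp h2 with h3 | h3
      · exact absurd (sub_eq_zero.mp h3) hs
      · rw [h3, pt_zero]
  have hk' : n⁻¹ * k₀ * n ∈ S.K := by
    have h1 := (Subgroup.mem_normalizer_iff.mp (inv_mem hn) k₀).mp hk₀
    rwa [inv_inv] at h1
  have hcomm : ∀ ω : Ω, k₀ • n • ω = n • (n⁻¹ * k₀ * n) • ω := by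
    intro ω
    rw [← mul_smul, ← mul_smul]
    congr 1
    group
  have h1 : n • S.inf = S.inf ∨ n • S.inf = S.zero := by
    apply hfixpt
    rw [hcomm, (S.mem_K.mp hk').1]
  have h2 : n • S.zero = S.inf ∨ n • S.zero = S.zero := by
    apply hfixpt
    rw [hcomm, (S.mem_K.mp hk').2]
  have hne : n • S.inf ≠ n • S.zero := fun h => S.hzero (MulAction.injective n h).symm
  rcases h1 with h1 | h1
  · left
    rw [mem_K]
    refine ⟨h1, ?_⟩
    rcases h2 with h2 | h2
    · exact absurd (h1.trans h2.symm) hne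
    · exact h2
  · right
    have h2' : n • S.zero = S.inf := by
      rcases h2 with h2 | h2
      · exact h2
      · exact absurd (h1.trans h2.symm) hne
    rw [mem_K]
    constructor
    · rw [mul_smul, h1, inv_smul_eq_iff, ht1]
    · rw [mul_smul, h2', inv_smul_eq_iff, ht2]

end swap

/-- **Key step**: there is an element acting as `x ↦ a / x` with `-a` a square. -/
theorem exists_inversion (r : ZMod p) (tbl : List ℕ) (ex : Prop) (hcert : Cert p r tbl ex)
    (hr : r ≠ 0) (hr2 : r * r ≠ 1)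
    (hex : ex → ∀ (K : Subgroup G) (t k₀ : G), Nat.card K = p / 2 →
      (∀ x ∈ K, ∀ y ∈ K, x * y = y * x) → k₀ ∈ K → k₀ ≠ 1 → t * k₀ * t⁻¹ = k₀ →
      (∀ n ∈ Subgroup.normalizer (K : Set G), n ∈ K ∨ t⁻¹ * n ∈ K) → False) :
    ∃ (t : G) (a ρ : ZMod p), t • S.inf = S.zero ∧ t • S.zero = S.inf ∧ a ≠ 0 ∧ ρ * ρ = -a ∧
      ∀ x, x ≠ 0 → S.act t (some x) = some (a / x) := by
  obtain ⟨t, ht1, ht2⟩ := S.exists_swap
  obtain ⟨k₀, hk₀, hsl⟩ := S.exists_K_slope_sq r hr
  obtain ⟨hk', hfun⟩ := S.fOf_slope_mul t ht1 ht2 hk₀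
  rw [hsl] at hfun
  have hs1 := S.slope_pow_of_mem_K hk'
  have h10 : (1 : ZMod p) ≠ 0 := one_ne_zero
  have ha := (S.act_swap_some t ht1 ht2 h10).2
  have hb := (S.act_swap_some t ht1 ht2 hr).2
  have hnex : ¬ (ex ∧ S.slope (t * k₀ * t⁻¹) = r * r) := by
    rintro ⟨hex1, hex2⟩
    have heq : t * k₀ * t⁻¹ = k₀ := S.eq_of_slope_eq hk' hk₀ (hex2.trans hsl.symm)
    have hk1 : k₀ ≠ 1 := by
      rintro rfl
      rw [S.slope_one] at hsl
      exact hr2 hsl.symm
    have hs : S.slope k₀ ≠ 1 := by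
      rw [hsl]
      exact hr2
    exact hex hex1 S.K t k₀ S.card_K' (fun x hx y hy => S.K_comm hx hy) hk₀ hk1 heq
      (fun n hn => S.normalizer_K_cases t ht1 ht2 hk₀ hs n hn)
  obtain ⟨s, d, hs, hrel⟩ := S.relation t ht1 ht2
  have hcong : tauO (S.fOf t)
      = tauO (candF tbl (S.slope (t * k₀ * t⁻¹)) (S.fOf t 1) (S.fOf t r)) :=
    tauO_congr (fun x hx => fun_eq_candF (S.fOf t) r _ hr hfun tbl hcert.1 x hx)
  rw [hcong] at hrel
  obtain ⟨c1, c2, ρ, hρ⟩ := hcert.2 _ _ _ hs1 ha hb hnex ⟨s, d, hs, hrel⟩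
  refine ⟨t, S.fOf t 1, ρ, ht1, ht2, ha, hρ, fun x hx => ?_⟩
  rw [(S.act_swap_some t ht1 ht2 hx).1]
  congr 1
  have h3 := fun_mul_self (S.fOf t) r _ hr hfun c1 c2 (tbl.getD x.val 0)
  rw [hcert.1 x hx] at h3
  rw [← h3]
  field_simp

/-- the coordinate map to the projective line -/
noncomputable def iota (ω : Ω) : OnePoint (ZMod p) := toOP (S.ptEquiv.symm ω)

theorem iota_pt (y : Option (ZMod p)) : S.iota (S.pt y) = toOP y :=
  congrArg toOP (S.ptEquiv.symm_apply_apply y)

theorem iota_bijective : Function.Bijective S.iota :=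
  Function.Bijective.comp toOP_bijective S.ptEquiv.symm.bijective

theorem mem_mobius_of_act (g : G) (M : Matrix.SpecialLinearGroup (Fin 2) (ZMod p))
    (h : ∀ y : Option (ZMod p), (Matrix.SpecialLinearGroup.toGL M) • toOP y
      = toOP (S.act g y)) :
    g ∈ mobiusSubgroup (F := ZMod p) S.iota := by
  refine ⟨M, fun ω => ?_⟩
  obtain ⟨y, rfl⟩ := S.pt_bijective.2 ω
  rw [S.iota_pt]
  have h2 : S.iota (g • S.pt y) = toOP (S.act g y) := rfl
  rw [h2]
  exact h y

theorem aff_mem_mobius {g : G} (hg : g • S.inf = S.inf) :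
    g ∈ mobiusSubgroup (F := ZMod p) S.iota := by
  obtain ⟨hs0, haff⟩ := S.act_eq_aff g hg
  have hsq : IsSquare (S.slope g) := (ZMod.euler_criterion p hs0).mpr (S.slope_pow_of_inf hg)
  obtain ⟨n, hn⟩ := hsq
  have hn0 : n ≠ 0 := by
    rintro rfl
    rw [mul_zero] at hn
    exact hs0 hn
  refine S.mem_mobius_of_act g (mkSL n (S.shift g / n) 0 (1 / n)
    (by rw [mul_zero, sub_zero, mul_one_div_cancel hn0])) (fun y => ?_)
  rw [haff]
  cases y with
  | none =>
    show Matrix.SpecialLinearGroup.toGL (mkSL n (S.shift g / n) 0 (1 / n) _)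
      • (OnePoint.infty : OnePoint (ZMod p)) = (OnePoint.infty : OnePoint (ZMod p))
    rw [mkSL_smul_infty, if_pos rfl]
  | some k =>
    show Matrix.SpecialLinearGroup.toGL (mkSL n (S.shift g / n) 0 (1 / n) _)
      • ((k : ZMod p) : OnePoint (ZMod p))
      = ((S.slope g * k + S.shift g : ZMod p) : OnePoint (ZMod p))
    rw [mkSL_smul_coe]
    have h1 : (0 : ZMod p) * k + 1 / n ≠ 0 := by
      rw [zero_mul, zero_add]
      exact one_div_ne_zero hn0
    rw [if_neg h1, hn]
    congr 1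
    rw [zero_mul, zero_add]
    field_simp

theorem inv_mem_mobius (t : G) (a ρ : ZMod p) (ha : a ≠ 0) (hρ : ρ * ρ = -a)
    (h0 : S.act t none = some 0) (h1 : S.act t (some 0) = none)
    (h2 : ∀ x, x ≠ 0 → S.act t (some x) = some (a / x)) :
    t ∈ mobiusSubgroup (F := ZMod p) S.iota := by
  have hρ0 : ρ ≠ 0 := by
    rintro rfl
    rw [mul_zero] at hρ
    exact ha (neg_eq_zero.mp hρ.symm)
  have hdet : (0 : ZMod p) * 0 - a / ρ * (1 / ρ) = 1 := by
    rw [zero_mul, zero_sub, div_mul_div_comm, mul_one, hρ, div_neg, div_self ha, neg_neg]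
  refine S.mem_mobius_of_act t (mkSL 0 (a / ρ) (1 / ρ) 0 hdet) (fun y => ?_)
  cases y with
  | none =>
    rw [h0]
    show Matrix.SpecialLinearGroup.toGL (mkSL 0 (a / ρ) (1 / ρ) 0 hdet)
      • (OnePoint.infty : OnePoint (ZMod p)) = ((0 : ZMod p) : OnePoint (ZMod p))
    rw [mkSL_smul_infty, if_neg (one_div_ne_zero hρ0), zero_div]
  | some k =>
    show Matrix.SpecialLinearGroup.toGL (mkSL 0 (a / ρ) (1 / ρ) 0 hdet)
      • ((k : ZMod p) : OnePoint (ZMod p)) = toOP (S.act t (some k))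
    rw [mkSL_smul_coe]
    by_cases hk : k = 0
    · subst hk
      rw [h1, if_pos (by rw [mul_zero, add_zero])]
      rfl
    · have hc : 1 / ρ * k + 0 ≠ 0 := by
        rw [add_zero]
        exact mul_ne_zero (one_div_ne_zero hρ0) hk
      rw [h2 k hk, if_neg hc]
      show (((0 * k + a / ρ) / (1 / ρ * k + 0) : ZMod p) : OnePoint (ZMod p))
        = ((a / k : ZMod p) : OnePoint (ZMod p))
      congr 1
      rw [zero_mul, zero_add, add_zero]
      field_simp

/-- every element acts as a Möbius transformation -/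
theorem forall_mem_mobius (r : ZMod p) (tbl : List ℕ) (ex : Prop) (hcert : Cert p r tbl ex)
    (hr : r ≠ 0) (hr2 : r * r ≠ 1)
    (hex : ex → ∀ (K : Subgroup G) (t k₀ : G), Nat.card K = p / 2 →
      (∀ x ∈ K, ∀ y ∈ K, x * y = y * x) → k₀ ∈ K → k₀ ≠ 1 → t * k₀ * t⁻¹ = k₀ →
      (∀ n ∈ Subgroup.normalizer (K : Set G), n ∈ K ∨ t⁻¹ * n ∈ K) → False) (g : G) :
    g ∈ mobiusSubgroup (F := ZMod p) S.iota := by
  obtain ⟨t, a, ρ, ht1, ht2, ha, hρ, hact⟩ := S.exists_inversion r tbl ex hcert hr hr2 hex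
  have ht : t ∈ mobiusSubgroup (F := ZMod p) S.iota :=
    S.inv_mem_mobius t a ρ ha hρ (S.act_swap_none t ht1) (S.act_swap_zero t ht2) hact
  by_cases hg : g • S.inf = S.inf
  · exact S.aff_mem_mobius hg
  · obtain ⟨c, hc⟩ := S.exists_pt_some _ hg
    have hv : (S.u ^ c.val * t) • S.inf = g • S.inf := by
      rw [mul_smul, ht1, ← pt_some, hc]
    have hb : ((S.u ^ c.val * t)⁻¹ * g) • S.inf = S.inf := by
      rw [mul_smul, inv_smul_eq_iff, hv]
    have hgg : (S.u ^ c.val * t) * ((S.u ^ c.val * t)⁻¹ * g) = g := mul_inv_cancel_left _ _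
    rw [← hgg]
    exact mul_mem (mul_mem (S.aff_mem_mobius (S.upow_inf _)) ht) (S.aff_mem_mobius hb)

end Setup

/-- **Recognition of `PSL₂(F)`**: a faithful action all of whose elements act as Möbius
transformations, of the right order, is `PSL₂(F)`. -/
theorem nonempty_mulEquiv_PSL {F : Type*} [Field F] [DecidableEq F] [Finite F]
    {G Ω : Type*} [Group G] [Finite G] [MulAction G Ω]
    (ι : Ω → OnePoint F) (hι : Function.Bijective ι)
    (hfaith : ∀ g : G, (∀ x : Ω, g • x = x) → g = 1)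
    (hall : ∀ g : G, ∃ S : Matrix.SpecialLinearGroup (Fin 2) F,
      ∀ x : Ω, (Matrix.SpecialLinearGroup.toGL S) • ι x = ι (g • x))
    (hcard : Nat.card (Matrix.ProjectiveSpecialLinearGroup (Fin 2) F) ≤ Nat.card G) :
    Nonempty (G ≃* Matrix.ProjectiveSpecialLinearGroup (Fin 2) F) := by
  classical
  have : Fintype F := Fintype.ofFinite F
  have hker : Subgroup.center (Matrix.SpecialLinearGroup (Fin 2) F) ≤ (rhoS (F := F)).ker := by
    intro A hA
    rw [Matrix.SpecialLinearGroup.mem_center_iff] at hA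
    obtain ⟨r, hr, hA⟩ := hA
    have hr2 : r ^ 2 = 1 := by simpa using hr
    have hr0 : r ≠ 0 := by
      rintro rfl
      simp at hr2
    have hdet : r * r - 0 * 0 = 1 := by rw [mul_zero, sub_zero, ← sq, hr2]
    have hAeq : A = mkSL r 0 0 r hdet := by
      apply Subtype.ext
      rw [← hA]
      ext i j
      fin_cases i <;> fin_cases j <;> simp [mkSL]
    rw [MonoidHom.mem_ker]
    apply Equiv.ext
    intro pnt
    show Matrix.SpecialLinearGroup.toGL A • pnt = pnt
    rw [hAeq]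
    induction pnt using OnePoint.rec with
    | infty => rw [mkSL_smul_infty, if_pos rfl]
    | coe k =>
      rw [mkSL_smul_coe]
      have h1 : (0 : F) * k + r ≠ 0 := by
        rw [zero_mul, zero_add]
        exact hr0
      rw [if_neg h1]
      congr 1
      rw [zero_mul, zero_add, add_zero]
      field_simp
  let ψ : Matrix.ProjectiveSpecialLinearGroup (Fin 2) F →* Equiv.Perm (OnePoint F) :=
    QuotientGroup.lift _ (rhoS (F := F)) hker
  let ιe : Ω ≃ OnePoint F := Equiv.ofBijective ι hι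
  let ρG : G →* Equiv.Perm (OnePoint F) :=
    (ιe.permCongrHom.toMonoidHom).comp (MulAction.toPermHom G Ω)
  have hρG : ∀ (g : G) (pnt : OnePoint F), ρG g pnt = ι (g • ιe.symm pnt) := fun g pnt => rfl
  have hρG_inj : Function.Injective ρG := by
    rw [injective_iff_map_eq_one]
    intro g hg
    apply hfaith
    intro x
    have h1 := congrArg (fun σ : Equiv.Perm (OnePoint F) => σ (ι x)) hg
    simp only [hρG, Equiv.Perm.coe_one, id_eq] at h1
    have h2 : ιe.symm (ι x) = x := ιe.symm_apply_apply x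
    rw [h2] at h1
    exact hι.1 h1
  have hle : ρG.range ≤ ψ.range := by
    rintro σ ⟨g, rfl⟩
    obtain ⟨S, hS⟩ := hall g
    refine ⟨QuotientGroup.mk S, ?_⟩
    show QuotientGroup.lift _ (rhoS (F := F)) hker (QuotientGroup.mk S) = ρG g
    rw [QuotientGroup.lift_mk]
    ext pnt
    rw [rhoS_apply, hρG]
    have h2 : ι (ιe.symm pnt) = pnt := ιe.apply_symm_apply pnt
    have h3 := hS (ιe.symm pnt)
    rw [h2] at h3
    exact h3
  have hcA : Nat.card ρG.range = Nat.card G :=
    (Nat.card_congr (MonoidHom.ofInjective hρG_inj).toEquiv).symm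
  have hcB : Nat.card ψ.range ≤ Nat.card (Matrix.ProjectiveSpecialLinearGroup (Fin 2) F) :=
    Nat.card_le_card_of_surjective _ ψ.rangeRestrict_surjective
  have hAB : ρG.range = ψ.range :=
    Subgroup.eq_of_le_of_card_ge hle (by rw [hcA]; exact hcB.trans hcard)
  have hcB' : Nat.card ψ.range = Nat.card (Matrix.ProjectiveSpecialLinearGroup (Fin 2) F) := by
    apply le_antisymm hcB
    rw [← hAB, hcA]
    exact hcard
  have hψ_inj : Function.Injective ψ := by
    have h1 : Function.Bijective ψ.rangeRestrict :=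
      (Nat.bijective_iff_surjective_and_card _).mpr ⟨ψ.rangeRestrict_surjective, hcB'.symm⟩
    intro a b hab
    apply h1.1
    exact Subtype.ext hab
  exact ⟨(MonoidHom.ofInjective hρG_inj).trans
    ((MulEquiv.subgroupCongr hAB).trans (MonoidHom.ofInjective hψ_inj).symm)⟩

/-- cardinality of `PSL₂(p)` -/
theorem two_mul_card_PSL (p : ℕ) [hp : Fact p.Prime] (hp2 : p ≠ 2) :
    2 * Nat.card (Matrix.ProjectiveSpecialLinearGroup (Fin 2) (ZMod p)) = p * (p ^ 2 - 1) := by
  have h2 : (2 : ZMod p) ≠ 0 := by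
    intro h
    have h3 : ((2 : ℕ) : ZMod p) = 0 := by exact_mod_cast h
    rw [ZMod.natCast_eq_zero_iff] at h3
    have h4 := Nat.le_of_dvd (by norm_num) h3
    have h5 := hp.out.two_le
    omega
  have e1 := Cfsg.Agent.Lib.Helper3.CardSL.card_PSL_mul (F := ZMod p) 2
  have e2 := Cfsg.Agent.Lib.Helper3.CardSL.card_center_SL2 (F := ZMod p) h2
  have e3 := Cfsg.Agent.Lib.Helper3.CardSL.card_SL2 (F := ZMod p)
  rw [ZMod.card] at e3
  rw [e2, e3] at e1
  rw [mul_comm]
  exact e1

/-- **Main recognition theorem** in the abstract setting. -/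
theorem Setup.nonempty_mulEquiv {p : ℕ} [hp : Fact p.Prime] {G : Type*} {Ω : Type*} [Group G]
    [MulAction G Ω] [Finite G] [Finite Ω] (S : Setup p G Ω)
    (r : ZMod p) (tbl : List ℕ) (ex : Prop) (hcert : Cert p r tbl ex)
    (hr : r ≠ 0) (hr2 : r * r ≠ 1)
    (hex : ex → ∀ (K : Subgroup G) (t k₀ : G), Nat.card K = p / 2 →
      (∀ x ∈ K, ∀ y ∈ K, x * y = y * x) → k₀ ∈ K → k₀ ≠ 1 → t * k₀ * t⁻¹ = k₀ →
      (∀ n ∈ Subgroup.normalizer (K : Set G), n ∈ K ∨ t⁻¹ * n ∈ K) → False) :
    Nonempty (G ≃* Matrix.ProjectiveSpecialLinearGroup (Fin 2) (ZMod p)) := by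
  apply nonempty_mulEquiv_PSL S.iota S.iota_bijective S.hfaith
  · intro g
    exact S.forall_mem_mobius r tbl ex hcert hr hr2 hex g
  · have h1 := two_mul_card_PSL p S.hp2
    have h2 := S.hG
    omega

end Cfsg.Agent.Helper4.PSLp
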