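import Mathlib
import Cfsg.Agent.Lib.Helper4.PSLp2
import Cfsg.Agent.Lib.Helper3.SLTransport

set_option autoImplicit false
set_option linter.unusedVariables false
set_option linter.unusedSectionVars false
set_option linter.style.haveILetI false
set_option linter.deprecated false

/-!
# Simple groups of order `p (p² - 1) / 2` for `p ∈ {7, 11, 13}` are `PSL₂(p)` (helper4)
-/

namespace Cfsg.Agent.Helper4.PSLp

open Subgroup

/-- a simple group of order `p (p² - 1) / 2` with `p + 1` Sylow `p`-subgroups acts on them as in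
`Setup` -/
theorem exists_setup {G : Type*} [Group G] [Finite G] [IsSimpleGroup G] (p : ℕ)
    [hp : Fact p.Prime] (hp2 : p ≠ 2) (hG : 2 * Nat.card G = p * (p ^ 2 - 1))
    (hdiv : ∀ n ∈ Nat.divisors ((p + 1) * (p / 2)), n % p = 1 → n = 1 ∨ n = p + 1) :
    Nonempty (Setup p G (Sylow p G)) := by
  have hodd : p % 2 = 1 := by
    rcases hp.out.eq_two_or_odd with h | h
    · exact absurd h hp2
    · exact h
  have hp1 : 1 < p := hp.out.one_lt
  have hp3 : 3 ≤ p := by omega
  -- the order of `G`
  have hGc : Nat.card G = p * ((p + 1) * (p / 2)) := by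
    have h3 : p ^ 2 - 1 = (p - 1) * (p + 1) := by
      have e : p ^ 2 = (p - 1) * (p + 1) + 1 := by
        have h4 : p = (p - 1) + 1 := by omega
        conv_lhs => rw [h4]
        have h5 : p - 1 + 1 + 1 = p + 1 := by omega
        rw [← h5]
        ring
      rw [e, Nat.add_sub_cancel]
    have h6 : p - 1 = 2 * (p / 2) := by omega
    rw [h3, h6] at hG
    have h7 : 2 * Nat.card G = 2 * (p * ((p + 1) * (p / 2))) := by
      rw [hG]
      ring
    exact Nat.eq_of_mul_eq_mul_left (by norm_num) h7
  have hm0 : (p + 1) * (p / 2) ≠ 0 := by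
    have h1 : 0 < p / 2 := by omega
    positivity
  have hpm : ¬ p ∣ (p + 1) * (p / 2) := by
    intro h
    rcases (Nat.Prime.dvd_mul hp.out).mp h with h | h
    · have h1 : p ∣ 1 := (Nat.dvd_add_right (dvd_refl p)).mp h
      have h2 := Nat.le_of_dvd (by norm_num) h1
      omega
    · have h1 : 0 < p / 2 := by omega
      have h2 := Nat.le_of_dvd h1 h
      omega
  obtain ⟨P⟩ : Nonempty (Sylow p G) := inferInstance
  have hPc : Nat.card P = p := by
    rw [Sylow.card_eq_multiplicity, hGc, Nat.factorization_mul hp.out.ne_zero hm0,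
      Finsupp.add_apply, hp.out.factorization_self,
      Nat.factorization_eq_zero_of_not_dvd hpm, pow_one]
  -- a generator of `P`
  haveI : IsCyclic P := isCyclic_of_prime_card hPc
  obtain ⟨g, hg⟩ := IsCyclic.exists_generator (α := P)
  have hog : orderOf (g : G) = p := by
    rw [Subgroup.orderOf_coe, orderOf_eq_card_of_forall_mem_zpowers hg, hPc]
  have hzp : Subgroup.zpowers (g : G) = (P : Subgroup G) := by
    apply Subgroup.eq_of_le_of_card_ge
    · rw [Subgroup.zpowers_le]
      exact g.2
    · rw [Nat.card_zpowers, hog, hPc]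
  -- the number of Sylow subgroups
  have hidx : (P : Subgroup G).index = (p + 1) * (p / 2) := by
    have h1 := Subgroup.card_mul_index (P : Subgroup G)
    rw [hPc, hGc] at h1
    exact Nat.eq_of_mul_eq_mul_left hp.out.pos h1
  have hnorm_ne : ¬ (P : Subgroup G).Normal := by
    intro hn
    rcases hn.eq_bot_or_eq_top with h | h
    · have h1 : Nat.card (P : Subgroup G) = 1 := by
        rw [h]
        exact Subgroup.card_bot
      omega
    · have h1 : Nat.card (P : Subgroup G) = Nat.card G := by
        rw [h]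
        exact Subgroup.card_top
      rw [hPc, hGc] at h1
      have h2 : 0 < p / 2 := by omega
      have h3 : 2 ≤ (p + 1) * (p / 2) := by nlinarith
      nlinarith
  have hΩ : Nat.card (Sylow p G) = p + 1 := by
    have h1 : Nat.card (Sylow p G) % p = 1 := by
      have h2 := card_sylow_modEq_one p G
      unfold Nat.ModEq at h2
      rw [h2]
      exact Nat.mod_eq_of_lt hp1
    have h2 : Nat.card (Sylow p G) ∣ (p + 1) * (p / 2) := by
      rw [← hidx]
      exact Sylow.card_dvd_index P
    rcases hdiv _ (Nat.mem_divisors.mpr ⟨h2, hm0⟩) h1 with h | h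
    · exfalso
      haveI : Subsingleton (Sylow p G) := Finite.card_le_one_iff_subsingleton.mp h.le
      exact hnorm_ne (Sylow.normal_of_subsingleton P)
    · exact h
  -- a second point
  obtain ⟨Q, hQ⟩ : ∃ Q : Sylow p G, Q ≠ P := by
    haveI : Nontrivial (Sylow p G) := by
      rw [← Finite.one_lt_card_iff_nontrivial, hΩ]
      omega
    exact exists_ne P
  have hstab : ∀ (x : G) (R : Sylow p G), x • R = R → x ∈ Subgroup.normalizer ((R : Subgroup G) : Set G) :=
    fun x R h => Sylow.smul_eq_iff_mem_normalizer.mp h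
  refine ⟨{
    inf := P
    zero := Q
    u := (g : G)
    hzero := hQ
    hu := hog
    hu_inf := Sylow.smul_eq_iff_mem_normalizer.mpr (Subgroup.le_normalizer g.2)
    hfix := ?_
    hnorm := ?_
    hΩ := hΩ
    hfaith := ?_
    htrans := fun x y => MulAction.exists_smul_eq G x y
    hG := hG
    hp2 := hp2 }⟩
  · -- unique fixed point
    intro R hR
    have h1 : (g : G) ∈ Subgroup.normalizer ((R : Subgroup G) : Set G) := hstab _ R hR
    have h2 : (P : Subgroup G) ≤ Subgroup.normalizer ((R : Subgroup G) : Set G) := by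
      rw [← hzp, Subgroup.zpowers_le]
      exact h1
    have h3 := P.2.inf_normalizer_sylow R
    have h4 : (P : Subgroup G) ≤ R :=
      (le_inf (le_refl _) h2).trans (h3.le.trans inf_le_right)
    have h5 : (R : Subgroup G) = P := P.is_maximal' R.2 h4
    exact Sylow.ext h5
  · -- the stabilizer normalizes `⟨u⟩`
    intro x hx
    have h1 := hstab x P hx
    rw [hzp]
    exact (Subgroup.mem_normalizer_iff.mp h1 (g : G)).mp g.2
  · -- faithful
    intro x hx
    have hker : x ∈ (MulAction.toPermHom G (Sylow p G)).ker := by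
      rw [MonoidHom.mem_ker]
      apply Equiv.ext
      intro R
      exact hx R
    rcases (MonoidHom.normal_ker (MulAction.toPermHom G (Sylow p G))).eq_bot_or_eq_top
      with h | h
    · rw [h, Subgroup.mem_bot] at hker
      exact hker
    · exfalso
      obtain ⟨y, hy⟩ := MulAction.exists_smul_eq G P Q
      have hy2 : y ∈ (MulAction.toPermHom G (Sylow p G)).ker := by
        rw [h]
        exact Subgroup.mem_top y
      rw [MonoidHom.mem_ker] at hy2
      have hy3 : y • P = P := by
        have h6 := congrArg (fun σ : Equiv.Perm (Sylow p G) => σ P) hy2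
        exact h6
      exact hQ (hy.symm.trans hy3)

/-- the exceptional hypothesis for `p = 7`, from Burnside's transfer theorem -/
theorem hex7 {G : Type*} [Group G] [Finite G] [IsSimpleGroup G] (hG : Nat.card G = 168)
    (K : Subgroup G) (t k₀ : G) (hK : Nat.card K = 3)
    (hcomm : ∀ x ∈ K, ∀ y ∈ K, x * y = y * x) (hk₀ : k₀ ∈ K) (hk1 : k₀ ≠ 1)
    (ht : t * k₀ * t⁻¹ = k₀)
    (hN : ∀ n ∈ Subgroup.normalizer (K : Set G), n ∈ K ∨ t⁻¹ * n ∈ K) : False := by
  haveI : Fact (Nat.Prime 3) := ⟨by norm_num⟩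
  -- `K` is generated by `k₀`
  have hgen : ∀ k ∈ K, ∃ i : ℤ, k₀ ^ i = k := by
    intro k hk
    have h1 : Subgroup.zpowers (⟨k₀, hk₀⟩ : K) = ⊤ :=
      zpowers_eq_top_of_prime_card hK (fun h => hk1 (congrArg Subtype.val h))
    have h2 : (⟨k, hk⟩ : K) ∈ Subgroup.zpowers (⟨k₀, hk₀⟩ : K) := by
      rw [h1]
      exact Subgroup.mem_top _
    obtain ⟨i, hi⟩ := Subgroup.mem_zpowers_iff.mp h2
    refine ⟨i, ?_⟩
    have h3 := congrArg Subtype.val hi
    simpa using h3
  -- `t` centralizes `K`
  have htc : ∀ k ∈ K, t * k = k * t := by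
    intro k hk
    obtain ⟨i, rfl⟩ := hgen k hk
    have h1 : t * k₀ = k₀ * t := by
      have h2 := congrArg (· * t) ht
      simpa using h2
    exact (Commute.zpow_right (show Commute t k₀ from h1) i)
  -- the normalizer of `K` centralizes `K`
  have hNC : ∀ n ∈ Subgroup.normalizer (K : Set G), ∀ k ∈ K, k * n = n * k := by
    intro n hn k hk
    rcases hN n hn with h | h
    · exact hcomm k hk n h
    · have h1 : n = t * (t⁻¹ * n) := by rw [mul_inv_cancel_left]
      rw [h1, ← mul_assoc, ← htc k hk, mul_assoc, mul_assoc, hcomm k hk _ h]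
  -- `K` is a Sylow 3-subgroup
  have hKp : IsPGroup 3 K := IsPGroup.of_card (n := 1) (by rw [hK, pow_one])
  obtain ⟨Q, hQ⟩ := hKp.exists_le_sylow
  have hQK : (Q : Subgroup G) = K := by
    symm
    apply Subgroup.eq_of_le_of_card_ge hQ
    obtain ⟨n, hn⟩ := IsPGroup.iff_card.mp Q.2
    have h1 : Nat.card (Q : Subgroup G) ∣ Nat.card G := Subgroup.card_subgroup_dvd_card _
    rw [hn, hG] at h1
    rw [hn, hK]
    have hn1 : n ≤ 1 := by
      by_contra h
      push Not at h
      have h2 : 3 ^ 2 ∣ 3 ^ n := pow_dvd_pow 3 h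
      have h3 := h2.trans h1
      omega
    calc 3 ^ n ≤ 3 ^ 1 := Nat.pow_le_pow_right (by norm_num) hn1
      _ = 3 := pow_one 3
  have hP : Subgroup.normalizer ((Q : Subgroup G) : Set G) ≤ Subgroup.centralizer (Q : Set G) := by
    intro n hn
    rw [hQK] at hn
    rw [Subgroup.mem_centralizer_iff]
    intro k hk
    have hk' : k ∈ K := by
      rw [← hQK]
      exact hk
    exact hNC n hn k hk'
  have hcompl := MonoidHom.ker_transferSylow_isComplement' Q hP
  have hcm := hcompl.card_mul
  have hQc : Nat.card (Q : Subgroup G) = 3 := by rw [hQK, hK]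
  rw [hQc, hG] at hcm
  rcases (MonoidHom.normal_ker (MonoidHom.transferSylow Q hP)).eq_bot_or_eq_top with h | h
  · rw [h, Subgroup.card_bot] at hcm
    omega
  · rw [h, Subgroup.card_top, hG] at hcm
    omega

/-- A simple group of order 168 is `PSL₂(7)`. -/
theorem psl27 {G : Type*} [Group G] [Finite G] [IsSimpleGroup G] (h : Nat.card G = 168) :
    Nonempty (G ≃* Matrix.ProjectiveSpecialLinearGroup (Fin 2) (ZMod 7)) := by
  haveI : Fact (Nat.Prime 7) := ⟨by norm_num⟩
  have hG : 2 * Nat.card G = 7 * (7 ^ 2 - 1) := by rw [h]; norm_num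
  obtain ⟨S⟩ := exists_setup (G := G) 7 (by norm_num) hG (by decide)
  refine S.nonempty_mulEquiv 3 [0, 0, 2, 1, 4, 5, 3] True cert7 (by decide +revert) (by decide +revert) ?_
  intro _ K t k₀ hK hcomm hk₀ hk1 ht hN
  exact hex7 h K t k₀ hK hcomm hk₀ hk1 ht hN

/-- A simple group of order 660 is `PSL₂(11)`. -/
theorem psl211 {G : Type*} [Group G] [Finite G] [IsSimpleGroup G]
    (hG : 2 * Nat.card G = 11 * (11 ^ 2 - 1)) :
    Nonempty (G ≃* Matrix.ProjectiveSpecialLinearGroup (Fin 2) (ZMod 11)) := by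
  haveI : Fact (Nat.Prime 11) := ⟨by norm_num⟩
  obtain ⟨S⟩ := exists_setup (G := G) 11 (by norm_num) hG (by decide)
  exact S.nonempty_mulEquiv 2 [0, 0, 1, 8, 2, 4, 9, 7, 3, 6, 5] False cert11 (by decide +revert)
    (by decide +revert) (fun h => h.elim)

/-- A simple group of order 1092 is `PSL₂(13)`. -/
theorem psl213 {G : Type*} [Group G] [Finite G] [IsSimpleGroup G]
    (hG : 2 * Nat.card G = 13 * (13 ^ 2 - 1)) :
    Nonempty (G ≃* Matrix.ProjectiveSpecialLinearGroup (Fin 2) (ZMod 13)) := by
  haveI : Fact (Nat.Prime 13) := ⟨by norm_num⟩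
  obtain ⟨S⟩ := exists_setup (G := G) 13 (by norm_num) hG (by decide)
  exact S.nonempty_mulEquiv 2 [0, 0, 1, 4, 2, 9, 5, 11, 3, 8, 10, 7, 6] False cert13 (by decide +revert)
    (by decide +revert) (fun h => h.elim)

/-- transport to an arbitrary field with `p` elements -/
theorem transport {G : Type*} [Group G] {p : ℕ} (hp : p.Prime) {F : Type*} [Field F] [Fintype F]
    (hF : Fintype.card F = p)
    (h : Nonempty (G ≃* Matrix.ProjectiveSpecialLinearGroup (Fin 2) (ZMod p))) :
    Nonempty (G ≃* Matrix.ProjectiveSpecialLinearGroup (Fin 2) F) := by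
  obtain ⟨e⟩ := h
  exact ⟨e.trans (Cfsg.Agent.Lib.Helper3.SLTransport.pslEquivZMod hp hF (Fin 2)).symm⟩

end Cfsg.Agent.Helper4.PSLp
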