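import Mathlib
import Cfsg.Prelude.Def_SolvableStructure
import Cfsg.Agent.Lib.Helper1.Basic
import Cfsg.Agent.Lib.Helper1.Hall
import Cfsg.Agent.Lib.Helper1.HallConverse
import Cfsg.Agent.Lib.Helper1.SylowSystem
import Cfsg.Agent.Lib.Helper18.ProductFormula

/-!
Hall complement systems and system normalizers of finite solvable groups.
-/

set_option autoImplicit false

open Pointwise

namespace Cfsg.Agent.Lib.Helper4

open Cfsg.Agent.Lib.Helper1

/-- subgroups of coprime indices: `G = H K` -/
theorem exists_mul_of_coprime_index {G : Type*} [Group G] [Finite G] (H K : Subgroup G)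
    (h : H.index.Coprime K.index) (x : G) : ∃ a ∈ H, ∃ b ∈ K, x = a * b := by
  have hsup : H ⊔ K = ⊤ := by
    rw [← Subgroup.index_eq_one]
    exact Nat.eq_one_of_dvd_coprimes h (Subgroup.index_dvd_of_le le_sup_left)
      (Subgroup.index_dvd_of_le le_sup_right)
  have hinf := index_inf_of_coprime H K h
  have h1 := Subgroup.card_mul_index H
  have h2 := Subgroup.card_mul_index K
  have h3 := Subgroup.card_mul_index (H ⊓ K)
  rw [hinf] at h3
  have hHi : 0 < H.index := Nat.pos_of_ne_zero Subgroup.index_ne_zero_of_finite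
  have hKi : 0 < K.index := Nat.pos_of_ne_zero Subgroup.index_ne_zero_of_finite
  have hcard : Nat.card H * Nat.card K = Nat.card ↥(H ⊔ K) * Nat.card ↥(H ⊓ K) := by
    rw [hsup, Subgroup.card_top]
    apply Nat.eq_of_mul_eq_mul_right (Nat.mul_pos hHi hKi)
    calc Nat.card H * Nat.card K * (H.index * K.index)
        = (Nat.card H * H.index) * (Nat.card K * K.index) := by ring
      _ = Nat.card G * Nat.card G := by rw [h1, h2]
      _ = Nat.card G * (Nat.card ↥(H ⊓ K) * (H.index * K.index)) := by rw [h3]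
      _ = Nat.card G * Nat.card ↥(H ⊓ K) * (H.index * K.index) := by ring
  have hset := Cfsg.Agent.Lib.Helper18.coe_sup_eq_mul_of_card_eq H K hcard
  have hx : x ∈ ((H ⊔ K : Subgroup G) : Set G) := by rw [hsup]; exact Set.mem_univ x
  rw [hset] at hx
  obtain ⟨a, ha, b, hb, rfl⟩ := Set.mem_mul.mp hx
  exact ⟨a, ha, b, hb, rfl⟩

/-- simultaneous transport in a family of orbits whose lengths are pairwise coprime -/
theorem exists_smul_eq_of_coprime {X : Type*} [Group X] [Finite X] {Ω : Type*} [MulAction X Ω]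
    {ι : Type*} [DecidableEq ι] (S : Finset ι) (k l : ι → Ω) (ind : ι → ℕ)
    (hcop : ∀ i ∈ S, ∀ j ∈ S, i ≠ j → (ind i).Coprime (ind j))
    (h1 : ∀ i ∈ S, ∃ x : X, x • k i = l i)
    (h2 : ∀ i ∈ S, (MulAction.stabilizer X (l i)).index ∣ ind i) :
    ∃ x : X, ∀ i ∈ S, x • k i = l i := by
  induction S using Finset.induction_on with
  | empty => exact ⟨1, by simp⟩
  | insert q S hq ih =>
    obtain ⟨x₀, hx₀⟩ := ih
      (fun i hi j hj hij => hcop i (Finset.mem_insert_of_mem hi) j (Finset.mem_insert_of_mem hj) hij)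
      (fun i hi => h1 i (Finset.mem_insert_of_mem hi))
      (fun i hi => h2 i (Finset.mem_insert_of_mem hi))
    obtain ⟨x₁, hx₁⟩ := h1 q (Finset.mem_insert_self q S)
    set Y : Subgroup X := ⨅ i ∈ S, MulAction.stabilizer X (l i) with hY
    have hYidx : Y.index = ∏ i ∈ S, (MulAction.stabilizer X (l i)).index := by
      apply index_iInf_finset_of_coprime
      intro i hi j hj hij
      exact Nat.Coprime.coprime_dvd_left (h2 i (Finset.mem_insert_of_mem hi))
        (Nat.Coprime.coprime_dvd_right (h2 j (Finset.mem_insert_of_mem hj))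
          (hcop i (Finset.mem_insert_of_mem hi) j (Finset.mem_insert_of_mem hj) hij))
    have hcop' : (MulAction.stabilizer X (l q)).index.Coprime Y.index := by
      rw [hYidx]
      apply Nat.Coprime.prod_right
      intro i hi
      exact Nat.Coprime.coprime_dvd_left (h2 q (Finset.mem_insert_self q S))
        (Nat.Coprime.coprime_dvd_right (h2 i (Finset.mem_insert_of_mem hi))
          (hcop q (Finset.mem_insert_self q S) i (Finset.mem_insert_of_mem hi)
            (fun h => hq (h ▸ hi))))
    obtain ⟨s, hs, y, hy, hz⟩ :=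
      exists_mul_of_coprime_index (MulAction.stabilizer X (l q)) Y hcop' (x₁ * x₀⁻¹)
    refine ⟨y * x₀, ?_⟩
    intro i hi
    rw [Finset.mem_insert] at hi
    rcases hi with rfl | hi
    · have hx : x₁ = s * (y * x₀) := by
        have : x₁ = (x₁ * x₀⁻¹) * x₀ := by group
        rw [this, hz]; group
      rw [hx, mul_smul] at hx₁
      have hs' : s⁻¹ • l i = l i := by
        have := MulAction.mem_stabilizer_iff.mp hs
        rw [inv_smul_eq_iff, this]
      rw [← hs', ← hx₁, inv_smul_smul]
    · rw [mul_smul, hx₀ i hi]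
      have hyi : y ∈ MulAction.stabilizer X (l i) := by
        have h3 : Y ≤ MulAction.stabilizer X (l i) := by
          rw [hY]
          exact iInf₂_le i hi
        exact h3 hy
      exact MulAction.mem_stabilizer_iff.mp hyi

/-- a subgroup normalizing `K` of order coprime to the index of `K` lies in `K` -/
theorem le_of_le_normalizer_of_coprime {G : Type*} [Group G] [Finite G] (P K : Subgroup G)
    (hPK : P ≤ Subgroup.normalizer (K : Set G)) (hcop : (Nat.card P).Coprime K.index) : P ≤ K := by
  rw [← Subgroup.relIndex_eq_one]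
  have h1 : K.relIndex P ∣ Nat.card P := Subgroup.relIndex_dvd_card K P
  have hn : (K.subgroupOf (Subgroup.normalizer (K : Set G))).Normal :=
    Subgroup.normal_in_normalizer
  have h2 : K.relIndex P ∣ K.index := by
    rw [← Subgroup.relIndex_subgroupOf hPK]
    refine dvd_trans (Subgroup.relIndex_dvd_index_of_normal _ _) ?_
    exact Subgroup.relIndex_dvd_index_of_le Subgroup.le_normalizer
  exact Nat.eq_one_of_dvd_coprimes hcop h1 h2

/-- for normal `N`, the index of `L ∩ N` in `N` divides the index of `L` -/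
theorem relIndex_dvd_index_of_normal_right {G : Type*} [Group G] [Finite G] (L N : Subgroup G)
    [N.Normal] : L.relIndex N ∣ L.index := by
  have h1 := card_sup_mul_card_inf L N
  have h2 := Cfsg.Agent.Lib.Helper18.card_eq_card_inf_mul_relIndex N L
  have h3 : Nat.card L * L.relIndex N = Nat.card ↥(L ⊔ N) := by
    have hpos : 0 < Nat.card ↥(L ⊓ N) := Nat.card_pos
    apply Nat.eq_of_mul_eq_mul_right hpos
    rw [h1, inf_comm L N]
    rw [h2]; ring
  have h4 : Nat.card ↥(L ⊔ N) ∣ Nat.card G := Subgroup.card_subgroup_dvd_card _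
  rw [← h3, ← Subgroup.card_mul_index L] at h4
  exact Nat.dvd_of_mul_dvd_mul_left Nat.card_pos h4


/-- the order of a Hall `p`-complement -/
theorem card_eq_ordCompl {G : Type*} [Group G] [Finite G] (p : ℕ) (K : Subgroup G)
    (hK : K.index = p ^ (Nat.card G).factorization p) :
    Nat.card K = ordCompl[p] (Nat.card G) := by
  have hn0 : Nat.card G ≠ 0 := Nat.card_pos.ne'
  have h1 := Subgroup.card_mul_index K
  rw [hK] at h1
  have h2 := Nat.ordProj_mul_ordCompl_eq_self (Nat.card G) p
  have hpos : 0 < p ^ (Nat.card G).factorization p :=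
    Nat.pos_of_dvd_of_pos (Nat.ordProj_dvd _ p) Nat.card_pos
  apply Nat.eq_of_mul_eq_mul_right hpos
  rw [h1, mul_comm, h2]

theorem coprime_card_index {G : Type*} [Group G] [Finite G] (p : ℕ) (hp : p.Prime)
    (K : Subgroup G) (hK : K.index = p ^ (Nat.card G).factorization p) :
    (Nat.card K).Coprime K.index := by
  have hn0 : Nat.card G ≠ 0 := Nat.card_pos.ne'
  rw [card_eq_ordCompl p K hK, hK]
  exact (Nat.Coprime.pow_left _ (Nat.coprime_ordCompl hp hn0)).symm

theorem not_dvd_card_of_complement {G : Type*} [Group G] [Finite G] (p : ℕ) (hp : p.Prime)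
    (K : Subgroup G) (hK : K.index = p ^ (Nat.card G).factorization p) :
    ¬ p ∣ Nat.card K := by
  have hn0 : Nat.card G ≠ 0 := Nat.card_pos.ne'
  rw [card_eq_ordCompl p K hK]
  exact Nat.not_dvd_ordCompl hp hn0

/-- a complement for a prime not dividing the order is everything -/
theorem eq_top_of_not_dvd {G : Type*} [Group G] [Finite G] (p : ℕ) (hp : ¬ p ∣ Nat.card G)
    (K : Subgroup G) (hK : K.index = p ^ (Nat.card G).factorization p) : K = ⊤ := by
  rw [← Subgroup.index_eq_one, hK, Nat.factorization_eq_zero_of_not_dvd hp, pow_zero]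

universe u

/-- Hall conjugacy by an element of a normal subgroup -/
theorem exists_conj_mem_normal {G : Type u} [Group G] [Finite G] [Group.IsSolvable G]
    (N : Subgroup G) [N.Normal] (K L : Subgroup G) (hKL : K ⊔ N = L ⊔ N)
    (hcard : Nat.card K = Nat.card L) (hcop : (Nat.card K).Coprime K.index) :
    ∃ n ∈ N, MulAut.conj n • K = L := by
  set M := K ⊔ N with hM
  have hK : K ≤ M := le_sup_left
  have hL : L ≤ M := by rw [hKL]; exact le_sup_left
  have hcK : Nat.card (K.subgroupOf M) = Nat.card K :=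
    Nat.card_congr (Subgroup.subgroupOfEquivOfLe hK).toEquiv
  have hcL : Nat.card (L.subgroupOf M) = Nat.card K := by
    rw [hcard]; exact Nat.card_congr (Subgroup.subgroupOfEquivOfLe hL).toEquiv
  have hG : Nat.card M = Nat.card K * K.relIndex M := by
    rw [← hcK]; exact (Subgroup.card_mul_index (K.subgroupOf M)).symm
  have hmn : (Nat.card K).Coprime (K.relIndex M) :=
    Nat.Coprime.coprime_dvd_right (Subgroup.relIndex_dvd_index_of_le hK) hcop
  obtain ⟨g, hg⟩ := hall_le_conj (G := M) (Nat.card K) (K.relIndex M) hG hmn (K.subgroupOf M)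
    (L.subgroupOf M) hcK (by rw [hcL]; exact hmn)
  have h1 : L ≤ MulAut.conj (g : G) • K := le_conj_of_subgroupOf_le hL g hg
  have h2 : MulAut.conj (g : G) • K = L :=
    (Subgroup.eq_of_le_of_card_ge h1 (by rw [card_conj_smul, hcard])).symm
  have hgM : (g : G) ∈ ((N ⊔ K : Subgroup G) : Set G) := by
    rw [sup_comm]; exact g.2
  rw [Subgroup.normal_mul] at hgM
  obtain ⟨n, hn, k, hk, hnk⟩ := Set.mem_mul.mp hgM
  refine ⟨n, hn, ?_⟩
  rw [← h2, ← hnk, map_mul, mul_smul, Subgroup.conj_smul_eq_self_of_mem hk]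

/-- two Hall complement systems agreeing modulo a normal subgroup `N` are conjugate by an element
of `N` -/
theorem exists_conj_system {G : Type u} [Group G] [Finite G] [Group.IsSolvable G]
    (N : Subgroup G) [N.Normal] (K L : Nat.Primes → Subgroup G)
    (hK : Cfsg.IsComplementSystem K) (hL : Cfsg.IsComplementSystem L)
    (hKL : ∀ p, K p ⊔ N = L p ⊔ N) : ∃ n ∈ N, ∀ p, MulAut.conj n • K p = L p := by
  classical
  let _ : MulAction N (Subgroup G) :=
    MulAction.compHom (Subgroup G) ((MulAut.conj : G →* MulAut G).comp N.subtype)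
  have hsmul : ∀ (n : N) (H : Subgroup G), n • H = MulAut.conj (n : G) • H := fun _ _ => rfl
  set S : Finset Nat.Primes := (Nat.card G).primeFactors.subtype Nat.Prime with hS
  have hcop : ∀ i ∈ S, ∀ j ∈ S, i ≠ j →
      ((i : ℕ) ^ (Nat.card G).factorization i).Coprime ((j : ℕ) ^ (Nat.card G).factorization j) := by
    intro i _ j _ hij
    apply Nat.Coprime.pow
    rw [Nat.coprime_primes i.2 j.2]
    exact fun h => hij (Subtype.ext h)
  have h1 : ∀ i ∈ S, ∃ x : N, x • K i = L i := by
    intro i _
    obtain ⟨n, hn, hn'⟩ := exists_conj_mem_normal N (K i) (L i) (hKL i)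
      (by rw [card_eq_ordCompl i (K i) (hK i), card_eq_ordCompl i (L i) (hL i)])
      (coprime_card_index i i.2 (K i) (hK i))
    exact ⟨⟨n, hn⟩, hn'⟩
  have h2 : ∀ i ∈ S, (MulAction.stabilizer N (L i)).index ∣
      (i : ℕ) ^ (Nat.card G).factorization i := by
    intro i _
    have hle : (L i).subgroupOf N ≤ MulAction.stabilizer N (L i) := by
      intro n hn
      rw [MulAction.mem_stabilizer_iff, hsmul]
      exact Subgroup.conj_smul_eq_self_of_mem (Subgroup.mem_subgroupOf.mp hn)
    refine dvd_trans (Subgroup.index_dvd_of_le hle) ?_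
    rw [← hL i]
    exact relIndex_dvd_index_of_normal_right (L i) N
  obtain ⟨x, hx⟩ := exists_smul_eq_of_coprime (X := N) S K L
    (fun p => (p : ℕ) ^ (Nat.card G).factorization p) hcop h1 h2
  refine ⟨x, x.2, fun p => ?_⟩
  by_cases hp : p ∈ S
  · exact hx p hp
  · have hnd : ¬ (p : ℕ) ∣ Nat.card G := by
      intro hd
      apply hp
      rw [hS]
      exact Finset.mem_subtype.mpr (Nat.mem_primeFactors.mpr ⟨p.2, hd, Nat.card_pos.ne'⟩)
    rw [eq_top_of_not_dvd p hnd (K p) (hK p), eq_top_of_not_dvd p hnd (L p) (hL p)]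
    exact Subgroup.conj_smul_eq_self_of_mem (Subgroup.mem_top _)

end Cfsg.Agent.Lib.Helper4
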