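import Mathlib

set_option autoImplicit false
set_option linter.style.haveILetI false
set_option linter.deprecated false

/-! Nonabelian `p`-groups with a self-centralizing cyclic normal subgroup: arithmetic and
basic computations. -/

namespace Cfsg.Agent.Helper4.CSC

/-- lifting the exponent: `r^p ≡ 1 (p^n)` forces `r ≡ 1 (p^(n-1))` for odd `p`. -/
theorem nt_odd {p : ℕ} (hp : p.Prime) (hodd : Odd p) {n r : ℕ} (hn : 1 ≤ n)
    (h : r ^ p ≡ 1 [MOD p ^ n]) : r ≡ 1 [MOD p ^ (n - 1)] := by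
  haveI : Fact p.Prime := ⟨hp⟩
  have hr1 : 1 ≤ r := by
    rcases Nat.eq_zero_or_pos r with h0 | h0
    · exfalso
      rw [h0, zero_pow hp.ne_zero] at h
      have h1 : p ^ n ∣ 1 := by
        have := (Nat.modEq_iff_dvd' (Nat.zero_le 1)).1 h
        simpa using this
      have h2 : p ∣ 1 := (dvd_pow_self p (by omega)).trans h1
      exact hp.one_lt.ne' (Nat.dvd_one.1 h2)
    · exact h0
  have hrp1 : 1 ≤ r ^ p := Nat.one_le_pow _ _ hr1
  have hdvd : p ^ n ∣ r ^ p - 1 := (Nat.modEq_iff_dvd' hrp1).1 h.symm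
  -- `r ≡ 1 mod p`
  have hmodp : r ≡ 1 [MOD p] := by
    have h1 : r ^ p ≡ 1 [MOD p] := h.of_dvd (dvd_pow_self p (by omega))
    have h2 : ((r ^ p : ℕ) : ZMod p) = ((1 : ℕ) : ZMod p) := (ZMod.natCast_eq_natCast_iff _ _ _).2 h1
    rw [Nat.cast_pow, ZMod.pow_card] at h2
    exact (ZMod.natCast_eq_natCast_iff _ _ _).1 h2
  have hp1 : p ∣ r - 1 := (Nat.modEq_iff_dvd' hr1).1 hmodp.symm
  have hpr : ¬ p ∣ r := by
    intro hpr
    have : p ∣ r - (r - 1) := Nat.dvd_sub hpr hp1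
    have h1 : r - (r - 1) = 1 := by omega
    rw [h1] at this
    exact hp.one_lt.ne' (Nat.dvd_one.1 this)
  have hlte := Nat.emultiplicity_pow_sub_pow hp hodd (x := r) (y := 1) hp1 hpr p
  rw [one_pow, Nat.Prime.emultiplicity_self hp] at hlte
  have hle : (n : ℕ∞) ≤ emultiplicity p (r ^ p - 1) := pow_dvd_iff_le_emultiplicity.1 hdvd
  rw [hlte] at hle
  have hle' : ((n - 1 : ℕ) : ℕ∞) ≤ emultiplicity p (r - 1) := by
    have hn' : (n : ℕ∞) = ((n - 1 : ℕ) : ℕ∞) + 1 := by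
      have : n = (n - 1) + 1 := by omega
      conv_lhs => rw [this]
      push_cast
      rfl
    rw [hn'] at hle
    by_cases htop : emultiplicity p (r - 1) = ⊤
    · rw [htop]; exact le_top
    · obtain ⟨e, he⟩ := ENat.ne_top_iff_exists.1 htop
      rw [← he] at hle ⊢
      have h3 : (n - 1) + 1 ≤ e + 1 := by exact_mod_cast hle
      have h4 : n - 1 ≤ e := by omega
      exact_mod_cast h4
  have hd : p ^ (n - 1) ∣ r - 1 := pow_dvd_iff_le_emultiplicity.2 hle'
  exact ((Nat.modEq_iff_dvd' hr1).2 hd).symm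

/-- `r^2 ≡ 1 (2^n)` forces `r ≡ ±1 (2^(n-1))`. -/
theorem nt_two {n r : ℕ} (h : r ^ 2 ≡ 1 [MOD 2 ^ n]) :
    r ≡ 1 [MOD 2 ^ (n - 1)] ∨ 2 ^ (n - 1) ∣ r + 1 := by
  rcases n with _ | k
  · left
    simp [Nat.modEq_one]
  rcases k with _ | k'
  · left
    simp [Nat.modEq_one]
  -- `n = k' + 2`
  have hr1 : 1 ≤ r := by
    rcases Nat.eq_zero_or_pos r with h0 | h0
    · exfalso
      rw [h0] at h
      have h1 : 2 ^ (k' + 1 + 1) ∣ 1 := by
        have := (Nat.modEq_iff_dvd' (Nat.zero_le 1)).1 h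
        simp at this
      have h2 : 2 ∣ 1 := (dvd_pow_self 2 (by omega)).trans h1
      omega
    · exact h0
  have hrp1 : 1 ≤ r ^ 2 := Nat.one_le_pow _ _ hr1
  have hdvd : 2 ^ (k' + 1 + 1) ∣ r ^ 2 - 1 := (Nat.modEq_iff_dvd' hrp1).1 h.symm
  have hodd : Odd r := by
    have h2 : 2 ∣ r ^ 2 - 1 := (dvd_pow_self 2 (by omega)).trans hdvd
    rcases Nat.even_or_odd r with hev | hod
    · exfalso
      have : Even (r ^ 2) := Nat.even_pow.2 ⟨hev, by norm_num⟩
      obtain ⟨t, ht⟩ := this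
      omega
    · exact hod
  obtain ⟨a, rfl⟩ := hodd
  have e1 : (2 * a + 1) ^ 2 - 1 = 4 * (a * (a + 1)) := by
    have : (2 * a + 1) ^ 2 = 4 * (a * (a + 1)) + 1 := by ring
    omega
  rw [e1] at hdvd
  have e2 : 2 ^ (k' + 1 + 1) = 4 * 2 ^ k' := by ring
  rw [e2] at hdvd
  have hd2 : 2 ^ k' ∣ a * (a + 1) := Nat.dvd_of_mul_dvd_mul_left (by norm_num) hdvd
  simp only [Nat.add_sub_cancel]
  rcases Nat.even_or_odd a with hev | hod
  · -- `a + 1` odd, so `2^k' ∣ a`
    have hcop : Nat.Coprime (2 ^ k') (a + 1) := by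
      apply Nat.Coprime.pow_left
      rw [Nat.coprime_two_left]
      exact hev.add_one
    have : 2 ^ k' ∣ a := hcop.dvd_of_dvd_mul_right hd2
    left
    obtain ⟨t, ht⟩ := this
    have : 2 ^ (k' + 1) ∣ (2 * a + 1) - 1 := ⟨t, by rw [ht]; ring_nf; omega⟩
    exact ((Nat.modEq_iff_dvd' (by omega)).2 this).symm
  · have hcop : Nat.Coprime (2 ^ k') a := by
      apply Nat.Coprime.pow_left
      rw [Nat.coprime_two_left]
      exact hod
    have : 2 ^ k' ∣ a + 1 := hcop.dvd_of_dvd_mul_left hd2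
    right
    obtain ⟨t, ht⟩ := this
    exact ⟨t, by rw [pow_succ]; linarith⟩

variable {G : Type*} [Group G]

/-- conjugating a power -/
lemma conj_pow' (g u : G) (k : ℕ) : g * u ^ k * g⁻¹ = (g * u * g⁻¹) ^ k := (conj_pow).symm

lemma conj_zpow' (g u : G) (k : ℤ) : g * u ^ k * g⁻¹ = (g * u * g⁻¹) ^ k := (conj_zpow).symm

/-- power formula in the class two situation: `w u w⁻¹ = u c`, `c` commuting with `u`, `w`. -/
theorem pow_formula {u w c : G} (hw : w * u * w⁻¹ = u * c) (hcu : c * u = u * c)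
    (hcw : c * w = w * c) (i : ℤ) :
    ∀ k : ℕ, (u ^ i * w) ^ k = u ^ (i * k) * c ^ (i * (k.choose 2 : ℤ)) * w ^ k := by
  have hcomm_cu : Commute c u := hcu
  have hcomm_cw : Commute c w := hcw
  -- `w^k u^i = u^i c^(i k) w^k`
  have hconj : ∀ k : ℕ, w ^ k * u ^ i = u ^ i * c ^ (i * (k : ℤ)) * w ^ k := by
    intro k
    induction k with
    | zero => simp
    | succ k ih =>
      have h1 : w * u ^ i = u ^ i * c ^ i * w := by
        have : w * u ^ i * w⁻¹ = (u * c) ^ i := by rw [conj_zpow', hw]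
        have h2 : (u * c) ^ i = u ^ i * c ^ i := (hcomm_cu.symm).mul_zpow i
        rw [h2] at this
        calc w * u ^ i = (w * u ^ i * w⁻¹) * w := by group
          _ = u ^ i * c ^ i * w := by rw [this]
      calc w ^ (k + 1) * u ^ i = w ^ k * (w * u ^ i) := by rw [pow_succ, mul_assoc]
        _ = w ^ k * (u ^ i * c ^ i * w) := by rw [h1]
        _ = (w ^ k * u ^ i) * c ^ i * w := by simp only [mul_assoc]
        _ = u ^ i * c ^ (i * (k : ℤ)) * w ^ k * c ^ i * w := by rw [ih]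
        _ = u ^ i * c ^ (i * (k : ℤ)) * (w ^ k * c ^ i) * w := by simp only [mul_assoc]
        _ = u ^ i * c ^ (i * (k : ℤ)) * (c ^ i * w ^ k) * w := by
            rw [((hcomm_cw.symm.pow_left k).zpow_right i).eq]
        _ = u ^ i * (c ^ (i * (k : ℤ)) * c ^ i) * (w ^ k * w) := by simp only [mul_assoc]
        _ = u ^ i * c ^ (i * ((k + 1 : ℕ) : ℤ)) * w ^ (k + 1) := by
            rw [← zpow_add, ← pow_succ]
            congr 3
            push_cast
            ring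
  intro k
  induction k with
  | zero => simp
  | succ k ih =>
    have hch : ((k + 1).choose 2 : ℤ) = (k : ℤ) + (k.choose 2 : ℤ) := by
      have : (k + 1).choose 2 = k + k.choose 2 := by
        rw [Nat.choose_succ_succ' k 1, Nat.choose_one_right]
      rw [this]
      push_cast
      rfl
    calc (u ^ i * w) ^ (k + 1) = (u ^ i * w) ^ k * (u ^ i * w) := pow_succ _ _
      _ = u ^ (i * k) * c ^ (i * (k.choose 2 : ℤ)) * w ^ k * (u ^ i * w) := by rw [ih]
      _ = u ^ (i * k) * c ^ (i * (k.choose 2 : ℤ)) * (w ^ k * u ^ i) * w := by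
          simp only [mul_assoc]
      _ = u ^ (i * k) * c ^ (i * (k.choose 2 : ℤ)) * (u ^ i * c ^ (i * (k : ℤ)) * w ^ k) * w := by
          rw [hconj k]
      _ = u ^ (i * k) * (c ^ (i * (k.choose 2 : ℤ)) * u ^ i) * c ^ (i * (k : ℤ)) * (w ^ k * w) := by
          simp only [mul_assoc]
      _ = u ^ (i * k) * (u ^ i * c ^ (i * (k.choose 2 : ℤ))) * c ^ (i * (k : ℤ)) * (w ^ k * w) := by
          rw [((hcomm_cu.zpow_zpow (i * (k.choose 2 : ℤ)) i)).eq]
      _ = (u ^ (i * k) * u ^ i) * (c ^ (i * (k.choose 2 : ℤ)) * c ^ (i * (k : ℤ))) * (w ^ k * w) := by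
          simp only [mul_assoc]
      _ = u ^ (i * ((k + 1 : ℕ) : ℤ)) * c ^ (i * ((k + 1).choose 2 : ℤ)) * w ^ (k + 1) := by
          rw [← zpow_add, ← zpow_add, ← pow_succ, hch]
          congr 3
          · push_cast
            ring
          · ring

end Cfsg.Agent.Helper4.CSC
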