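import Mathlib
import Cfsg.Prelude.Def_CaseTheorems
import Cfsg.Agent.Lib.Helper4.CSC1
import Cfsg.Agent.Lib.Helper10.UniqueOrderP
import Cfsg.Agent.Lib.Helper10.DihedralRecog
import Cfsg.Agent.Lib.Helper10.PGroup

set_option autoImplicit false
set_option linter.style.haveILetI false
set_option linter.deprecated false
set_option linter.unusedSectionVars false
set_option linter.unusedVariables false

/-! Nonabelian `p`-groups with a self-centralizing cyclic normal subgroup `⟨u⟩`: basic facts. -/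

namespace Cfsg.Agent.Helper4.CSC

open Subgroup Cfsg.Agent.Lib.Helper10

variable {G : Type*} [Group G]

/-- The hypotheses: `⟨u⟩` is a normal self-centralizing cyclic subgroup of order `p^n` of the
`p`-group `G`, and `G ≠ ⟨u⟩`. -/
structure Hyp (p n : ℕ) (u : G) : Prop where
  pgrp : IsPGroup p G
  ord : orderOf u = p ^ n
  norm : ∀ g : G, g * u * g⁻¹ ∈ zpowers u
  cent : ∀ g : G, g * u = u * g → g ∈ zpowers u
  nonab : ∃ g : G, g ∉ zpowers u

namespace Hyp

variable [Finite G] {p : ℕ} [hp : Fact p.Prime] {n : ℕ} {u : G}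

lemma mem_U_iff (h : Hyp p n u) {g : G} : g ∈ zpowers u ↔ g * u = u * g := by
  constructor
  · intro hg
    obtain ⟨k, rfl⟩ := mem_zpowers_iff.1 hg
    exact ((Commute.refl u).zpow_left k).eq
  · exact h.cent g

lemma normalU (h : Hyp p n u) : (zpowers u).Normal := by
  constructor
  intro v hv g
  obtain ⟨k, rfl⟩ := mem_zpowers_iff.1 hv
  rw [conj_zpow']
  exact (zpowers u).zpow_mem (h.norm g) k

lemma exists_pow (h : Hyp p n u) (g : G) : ∃ r : ℕ, g * u * g⁻¹ = u ^ r := by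
  have := mem_powers_iff_mem_zpowers.2 (h.norm g)
  obtain ⟨r, hr⟩ := (Submonoid.mem_powers_iff _ _).1 this
  exact ⟨r, hr.symm⟩

lemma ne_top (h : Hyp p n u) : zpowers u ≠ ⊤ := by
  intro htop
  obtain ⟨g, hg⟩ := h.nonab
  exact hg (htop ▸ mem_top g)

lemma one_le (h : Hyp p n u) : 1 ≤ n := by
  by_contra hn
  have hn0 : n = 0 := by omega
  have hu := h.ord
  rw [hn0, pow_zero, orderOf_eq_one_iff] at hu
  obtain ⟨g, hg⟩ := h.nonab
  apply hg
  apply h.cent
  rw [hu, mul_one, one_mul]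

/-- the element of order `p` of `⟨u⟩` -/
lemma z_pow (h : Hyp p n u) : (u ^ p ^ (n - 1)) ^ p = 1 := by
  rw [← pow_mul, ← pow_succ]
  have : n - 1 + 1 = n := by have := h.one_le; omega
  rw [this, ← h.ord, pow_orderOf_eq_one]

lemma z_ne_one (h : Hyp p n u) : u ^ p ^ (n - 1) ≠ 1 := by
  intro h1
  have := orderOf_dvd_of_pow_eq_one h1
  rw [h.ord] at this
  have hlt : p ^ (n - 1) < p ^ n := Nat.pow_lt_pow_right hp.out.one_lt (by have := h.one_le; omega)
  exact absurd (Nat.le_of_dvd (pow_pos hp.out.pos _) this) (by omega)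

lemma orderOf_z (h : Hyp p n u) : orderOf (u ^ p ^ (n - 1)) = p :=
  orderOf_eq_prime h.z_pow h.z_ne_one

/-- elements of `⟨u⟩` of order dividing `p` lie in `⟨z⟩` -/
lemma mem_Z (h : Hyp p n u) {v : G} (hv : v ∈ zpowers u) (hvp : v ^ p = 1) :
    v ∈ zpowers (u ^ p ^ (n - 1)) := by
  have := mem_powers_iff_mem_zpowers.2 hv
  obtain ⟨k, rfl⟩ := (Submonoid.mem_powers_iff _ _).1 this
  rw [← pow_mul] at hvp
  have hd := orderOf_dvd_of_pow_eq_one hvp
  rw [h.ord] at hd
  have hn : n = (n - 1) + 1 := by have := h.one_le; omega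
  rw [hn, pow_succ] at hd
  have hd2 : p ^ (n - 1) ∣ k := Nat.dvd_of_mul_dvd_mul_right hp.out.pos hd
  obtain ⟨t, rfl⟩ := hd2
  rw [pow_mul]
  exact (zpowers _).pow_mem (mem_zpowers _) t

/-- `⟨z⟩` is central -/
lemma z_central (h : Hyp p n u) (g : G) : g * u ^ p ^ (n - 1) = u ^ p ^ (n - 1) * g := by
  set z := u ^ p ^ (n - 1) with hz
  have hnorm : (zpowers z).Normal := by
    constructor
    intro v hv g
    obtain ⟨k, rfl⟩ := mem_zpowers_iff.1 hv
    rw [conj_zpow']
    apply (zpowers z).zpow_mem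
    apply h.mem_Z
    · rw [hz, conj_pow']
      exact (zpowers u).pow_mem (h.norm g) _
    · rw [← conj_pow', h.z_pow]; group
  have hne : zpowers z ≠ ⊥ := by
    rw [Ne, zpowers_eq_bot]
    exact h.z_ne_one
  have hmeet := normal_inf_center_ne_bot h.pgrp (zpowers z) hne
  obtain ⟨c, hc, hc1⟩ := (bot_or_exists_ne_one _).resolve_left hmeet
  -- `c` generates `⟨z⟩`
  have hcard : Nat.card (zpowers z) = p := by rw [Nat.card_zpowers, h.orderOf_z]
  have hzc : (⟨z, mem_zpowers z⟩ : zpowers z) ∈ zpowers (⟨c, hc.1⟩ : zpowers z) :=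
    mem_zpowers_of_prime_card hcard (fun h0 => hc1 (congrArg Subtype.val h0))
  obtain ⟨k, hk⟩ := mem_zpowers_iff.1 hzc
  have hk' : c ^ k = z := by
    have := congrArg Subtype.val hk
    simpa using this
  have hcc : ∀ g : G, g * c = c * g := fun g => (mem_center_iff.1 hc.2 g)
  rw [← hk']
  exact ((Commute.zpow_right (hcc g) k)).eq

lemma two_le (h : Hyp p n u) : 2 ≤ n := by
  by_contra hn
  have hn1 : n = 1 := by have := h.one_le; omega
  have hz := h.z_central
  rw [hn1] at hz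
  simp only [Nat.sub_self, pow_zero, pow_one] at hz
  obtain ⟨g, hg⟩ := h.nonab
  exact hg (h.cent g (hz g))

/-- membership in `M = C_G(⟨u^p⟩)` -/
def InM (p : ℕ) (u g : G) : Prop := g * u ^ p = u ^ p * g

lemma inM_iff (h : Hyp p n u) {g : G} : InM p u g ↔ (g * u * g⁻¹ * u⁻¹) ^ p = 1 := by
  obtain ⟨r, hr⟩ := h.exists_pow g
  have hcomm : Commute (u ^ r) u⁻¹ := ((Commute.refl u).pow_left r).inv_right
  unfold InM
  rw [hr, hcomm.mul_pow, inv_pow, mul_inv_eq_one]
  have : g * u ^ p * g⁻¹ = (u ^ r) ^ p := by rw [conj_pow', hr]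
  rw [← this]
  constructor
  · intro h1
    rw [h1]; group
  · intro h1
    calc g * u ^ p = (g * u ^ p * g⁻¹) * g := by group
      _ = u ^ p * g := by rw [h1]

lemma inM_of_mem (h : Hyp p n u) {g : G} (hg : g ∈ zpowers u) : InM p u g := by
  obtain ⟨k, rfl⟩ := mem_zpowers_iff.1 hg
  exact ((Commute.refl u).zpow_left k).pow_right p |>.eq

/-- elements of `M` commute with `⟨z⟩` (automatic) and the commutator with `u` lies in `⟨z⟩` -/
lemma kappa_mem (h : Hyp p n u) (g : G) : g * u * g⁻¹ * u⁻¹ ∈ zpowers u :=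
  (zpowers u).mul_mem (h.norm g) ((zpowers u).inv_mem (mem_zpowers u))

lemma kappa_mem_Z (h : Hyp p n u) {g : G} (hg : InM p u g) :
    g * u * g⁻¹ * u⁻¹ ∈ zpowers (u ^ p ^ (n - 1)) :=
  h.mem_Z (h.kappa_mem g) (h.inM_iff.1 hg)

lemma kappa_eq_one_iff (h : Hyp p n u) {g : G} : g * u * g⁻¹ * u⁻¹ = 1 ↔ g ∈ zpowers u := by
  rw [h.mem_U_iff]
  constructor
  · intro h1
    have : g * u * g⁻¹ = u := by
      have := mul_inv_eq_one.1 h1
      exact this
    calc g * u = (g * u * g⁻¹) * g := by group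
      _ = u * g := by rw [this]
  · intro h1
    rw [h1]; group

end Hyp

end Cfsg.Agent.Helper4.CSC
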