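import Mathlib
import Cfsg.Agent.Lib.Helper4.CSC2

set_option autoImplicit false
set_option linter.style.haveILetI false
set_option linter.deprecated false
set_option linter.unusedSectionVars false
set_option linter.unusedVariables false

/-! The main dichotomy for nonabelian `p`-groups with a self-centralizing cyclic normal
subgroup. -/

namespace Cfsg.Agent.Helper4.CSC

open Subgroup Cfsg.Agent.Lib.Helper10

variable {G : Type*} [Group G]

lemma comm_of_both_invert {a c v : G} (ha : a * v * a⁻¹ = v⁻¹) (hc : c * v * c⁻¹ = v⁻¹) :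
    (a⁻¹ * c) * v = v * (a⁻¹ * c) := by
  have h1 : c * v = v⁻¹ * c := by
    calc c * v = (c * v * c⁻¹) * c := by group
      _ = v⁻¹ * c := by rw [hc]
  have h2 : a⁻¹ * v⁻¹ = v * a⁻¹ := by
    calc a⁻¹ * v⁻¹ = a⁻¹ * (a * v * a⁻¹) := by rw [ha]
      _ = v * a⁻¹ := by group
  calc a⁻¹ * c * v = a⁻¹ * (c * v) := by group
    _ = a⁻¹ * (v⁻¹ * c) := by rw [h1]
    _ = (a⁻¹ * v⁻¹) * c := by group
    _ = v * a⁻¹ * c := by rw [h2]
    _ = v * (a⁻¹ * c) := by group

namespace Hyp

variable [Finite G] {p : ℕ} [hp : Fact p.Prime] {n : ℕ} {u : G}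

/-- arithmetic consequence for an element with `x^p ∈ U` -/
lemma pow_modEq (h : Hyp p n u) {x : G} {r : ℕ} (hr : x * u * x⁻¹ = u ^ r)
    (hxp : x ^ p ∈ zpowers u) : r ^ p ≡ 1 [MOD p ^ n] := by
  have h1 := conj_pow_eq_pow_pow hr p
  have h2 : x ^ p * u * (x ^ p)⁻¹ = u := by
    have := h.mem_U_iff.1 hxp
    rw [this]; group
  have h3 : u ^ (r ^ p) = u ^ 1 := by rw [← h1, h2, pow_one]
  rw [← h.ord]
  exact pow_eq_pow_iff_modEq.1 h3

/-- `r ≡ 1 mod p^(n-1)` gives membership in `M` -/
lemma inM_of_modEq (h : Hyp p n u) {x : G} {r : ℕ} (hr : x * u * x⁻¹ = u ^ r)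
    (hmod : r ≡ 1 [MOD p ^ (n - 1)]) : InM p u x := by
  unfold InM
  have h1 : x * u ^ p * x⁻¹ = u ^ (r * p) := by rw [conj_pow', hr, pow_mul]
  have h2 : u ^ (r * p) = u ^ p := by
    rw [pow_eq_pow_iff_modEq, h.ord]
    have := Nat.ModEq.mul_left' p hmod
    have hn : p * p ^ (n - 1) = p ^ n := by
      rw [← pow_succ']; congr 1; have := h.one_le; omega
    rw [hn, mul_one, mul_comm] at this
    exact this
  calc x * u ^ p = (x * u ^ p * x⁻¹) * x := by group
    _ = u ^ p * x := by rw [h1, h2]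

/-- `2^(n-1) ∣ r + 1` gives `(x u x⁻¹ u)^2 = 1` -/
lemma sq_of_dvd (h : Hyp 2 n u) {x : G} {r : ℕ} (hr : x * u * x⁻¹ = u ^ r)
    (hd : 2 ^ (n - 1) ∣ r + 1) : (x * u * x⁻¹ * u) ^ 2 = 1 := by
  rw [hr, ← pow_succ, ← pow_mul]
  apply orderOf_dvd_iff_pow_eq_one.1
  rw [h.ord]
  obtain ⟨t, ht⟩ := hd
  rw [ht]
  have hn : 2 ^ n = 2 ^ (n - 1) * 2 := by
    rw [← pow_succ]; congr 1; have := h.one_le; omega
  rw [hn]
  exact ⟨t, by ring⟩

lemma eq_one_or_z (h : Hyp 2 n u) {v : G} (hv : v ∈ zpowers (u ^ 2 ^ (n - 1))) :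
    v = 1 ∨ v = u ^ 2 ^ (n - 1) := by
  obtain ⟨k, rfl⟩ := mem_zpowers_iff.1 hv
  have hz2 : (u ^ 2 ^ (n - 1)) ^ (2 : ℤ) = 1 := by
    have := h.z_pow
    exact_mod_cast this
  obtain ⟨t, rfl | rfl⟩ := Int.even_or_odd' k
  · left; rw [zpow_mul, hz2, one_zpow]
  · right; rw [zpow_add, zpow_mul, hz2, one_zpow, one_mul, zpow_one]

/-- the main dichotomy -/
theorem dichotomy (h : Hyp p n u) :
    (p = 2 ∧ ∃ x, x ∉ zpowers u ∧ (∀ g, g ∈ zpowers u ∨ x⁻¹ * g ∈ zpowers u) ∧
      (x * u * x⁻¹ = u⁻¹ ∨ (3 ≤ n ∧ x * u * x⁻¹ = u ^ 2 ^ (n - 1) * u⁻¹))) ∨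
    (¬ (p = 2 ∧ n = 2) ∧ ∃ x, InM p u x ∧ x ∉ zpowers u) := by
  obtain ⟨x0, hx0, hx0p⟩ := exists_pow_mem_of_ne_top h.pgrp (zpowers u) h.ne_top
  obtain ⟨r, hr⟩ := h.exists_pow x0
  have hmod := h.pow_modEq hr hx0p
  by_cases hM : ∃ x, InM p u x ∧ x ∉ zpowers u
  · by_cases hpn : p = 2 ∧ n = 2
    · obtain ⟨rfl, rfl⟩ := hpn
      left
      refine ⟨rfl, ?_⟩
      have hu4 : u ^ 4 = 1 := by
        have := pow_orderOf_eq_one u
        rw [h.ord] at this
        exact this
      have hinv : ∀ g, g ∉ zpowers u → g * u * g⁻¹ = u⁻¹ := by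
        intro g hg
        obtain ⟨s, hs⟩ := h.exists_pow g
        have hord : orderOf (u ^ s) = 4 := by
          have hsc : SemiconjBy g u (g * u * g⁻¹) := by
            unfold SemiconjBy; group
          rw [← hs, ← SemiconjBy.orderOf_eq g hsc, h.ord]
          norm_num
        have hsodd : Odd s := by
          rcases Nat.even_or_odd s with ⟨t, ht⟩ | hod
          · exfalso
            have : (u ^ s) ^ 2 = 1 := by
              rw [← pow_mul, ht]
              have : (t + t) * 2 = 4 * t := by ring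
              rw [this, pow_mul, hu4, one_pow]
            have hd := orderOf_dvd_of_pow_eq_one this
            rw [hord] at hd
            omega
          · exact hod
        have hmod4 : s % 4 = 1 ∨ s % 4 = 3 := by
          obtain ⟨t, ht⟩ := hsodd
          omega
        have hs' : u ^ s = u ^ (s % 4) := by
          have := pow_mod_orderOf u s
          rw [h.ord] at this
          exact this.symm
        rcases hmod4 with h1 | h3
        · exfalso
          apply hg
          rw [h.mem_U_iff]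
          rw [hs', h1, pow_one] at hs
          calc g * u = (g * u * g⁻¹) * g := by group
            _ = u * g := by rw [hs]
        · rw [hs, hs', h3]
          apply eq_inv_of_mul_eq_one_left
          rw [← pow_succ]
          exact hu4
      refine ⟨x0, hx0, ?_, Or.inl (hinv x0 hx0)⟩
      intro g
      by_cases hg : g ∈ zpowers u
      · exact Or.inl hg
      · right
        rw [h.mem_U_iff]
        exact comm_of_both_invert (hinv x0 hx0) (hinv g hg)
    · right; exact ⟨hpn, hM⟩
  · push Not at hM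
    left
    have hp2 : p = 2 := by
      by_contra hne
      have hodd : Odd p := hp.out.odd_of_ne_two hne
      have := nt_odd hp.out hodd h.one_le hmod
      exact hx0 (hM x0 (h.inM_of_modEq hr this))
    subst hp2
    have hnt := nt_two hmod
    have key : ∀ g, g ∉ zpowers u → g ^ 2 ∈ zpowers u → (g * u * g⁻¹ * u) ^ 2 = 1 := by
      intro g hg hg2
      obtain ⟨s, hs⟩ := h.exists_pow g
      rcases nt_two (h.pow_modEq hs hg2) with h1 | h1
      · exact absurd (hM g (h.inM_of_modEq hs h1)) hg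
      · exact h.sq_of_dvd hs h1
    have hn3 : 3 ≤ n := by
      by_contra hlt
      have hn2 : n = 2 := by have := h.two_le; omega
      rcases hnt with h1 | h1
      · exact hx0 (hM x0 (h.inM_of_modEq hr h1))
      · apply hx0
        apply hM x0
        apply h.inM_of_modEq hr
        rw [hn2] at h1 ⊢
        norm_num at h1 ⊢
        unfold Nat.ModEq
        omega
    have hsq : ∀ k : ℕ, ∀ g : G, g ^ 2 ^ k ∈ zpowers u → g ^ 2 ∈ zpowers u := by
      intro k
      induction k with
      | zero =>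
        intro g hg
        rw [pow_zero, pow_one] at hg
        exact (zpowers u).pow_mem hg 2
      | succ k ih =>
        intro g hg
        have h4 : (g ^ 2) ^ 2 ∈ zpowers u := by
          apply ih
          rw [← pow_mul, ← pow_succ']
          exact hg
        by_contra hg2
        have hk := key (g ^ 2) hg2 h4
        obtain ⟨s, hs⟩ := h.exists_pow g
        have h5 := conj_pow_eq_pow_pow hs 2
        rw [h5, ← pow_succ, ← pow_mul] at hk
        have hd := orderOf_dvd_of_pow_eq_one hk
        rw [h.ord] at hd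
        have h8 : 2 ^ 3 ∣ (s ^ 2 + 1) * 2 := (pow_dvd_pow 2 hn3).trans hd
        have hs4 : s ^ 2 % 4 = 0 ∨ s ^ 2 % 4 = 1 := by
          rcases Nat.even_or_odd s with ⟨t, rfl⟩ | ⟨t, rfl⟩
          · left
            have : (t + t) ^ 2 = 4 * (t * t) := by ring
            omega
          · right
            have : (2 * t + 1) ^ 2 = 4 * (t * t + t) + 1 := by ring
            omega
        omega
    have hallsq : ∀ g : G, g ^ 2 ∈ zpowers u := by
      intro g
      obtain ⟨k, hk⟩ := h.pgrp g
      exact hsq k g (by rw [hk]; exact one_mem _)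
    have hinvsq : ∀ g, g ∉ zpowers u → g * u ^ 2 * g⁻¹ = (u ^ 2)⁻¹ := by
      intro g hg
      have hk := key g hg (hallsq g)
      have hcomm : Commute (g * u * g⁻¹) u := by
        obtain ⟨s, hs⟩ := h.exists_pow g
        rw [hs]
        exact (Commute.refl u).pow_left s
      rw [hcomm.mul_pow] at hk
      rw [conj_pow']
      exact eq_inv_of_mul_eq_one_left hk
    refine ⟨rfl, x0, hx0, ?_, ?_⟩
    · intro g
      by_cases hg : g ∈ zpowers u
      · exact Or.inl hg
      · right
        apply hM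
        exact comm_of_both_invert (hinvsq x0 hx0) (hinvsq g hg)
    · have he0 : x0 * u * x0⁻¹ * u ∈ zpowers (u ^ 2 ^ (n - 1)) := by
        apply h.mem_Z
        · exact (zpowers u).mul_mem (h.norm x0) (mem_zpowers u)
        · exact key x0 hx0 (hallsq x0)
      rcases h.eq_one_or_z he0 with h1 | h1
      · left
        exact eq_inv_of_mul_eq_one_left h1
      · right
        refine ⟨hn3, ?_⟩
        rw [← h1]
        group

end Hyp

end Cfsg.Agent.Helper4.CSC
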