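import Mathlib
import Cfsg.Agent.Lib.Helper4.CSC3

set_option autoImplicit false
set_option linter.style.haveILetI false
set_option linter.deprecated false
set_option linter.unusedSectionVars false
set_option linter.unusedVariables false

/-! Recognition of dihedral, quaternion and quasi-dihedral groups. -/

namespace Cfsg.Agent.Helper4.CSC

open Subgroup Cfsg.Agent.Lib.Helper10

variable {G : Type*} [Group G]

namespace Hyp

variable [Finite G] {n : ℕ} {u : G}

theorem beta_recog [hp : Fact (Nat.Prime 2)] (h : Hyp 2 n u) {x : G} (hx : x ∉ zpowers u)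
    (hall : ∀ g, g ∈ zpowers u ∨ x⁻¹ * g ∈ zpowers u)
    (hconj : x * u * x⁻¹ = u⁻¹ ∨ (3 ≤ n ∧ x * u * x⁻¹ = u ^ 2 ^ (n - 1) * u⁻¹)) :
    Nat.card G = 2 ^ (n + 1) ∧ ((∃ m : ℕ, Nonempty (G ≃* DihedralGroup m)) ∨
      (∃ m : ℕ, Nonempty (G ≃* QuaternionGroup m)) ∨ Cfsg.IsQuasiDihedral G) := by
  have hn1 := h.one_le
  -- `x * x ∈ U`
  have hxx : x * x ∈ zpowers u := by
    rcases hall (x * x) with h1 | h1
    · exact h1
    · exfalso; apply hx
      have : x⁻¹ * (x * x) = x := by group
      rwa [this] at h1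
  -- the order of `G`
  have hidx : (zpowers u).index = 2 := by
    rw [index_eq_two_iff']
    refine ⟨x⁻¹, fun b => ?_⟩
    rcases hall b with h1 | h1
    · right
      refine ⟨h1, fun h2 => hx ?_⟩
      have : x⁻¹ = (x⁻¹ * b) * b⁻¹ := by group
      have h3 : x⁻¹ ∈ zpowers u := by
        rw [this]; exact (zpowers u).mul_mem h2 ((zpowers u).inv_mem h1)
      have := (zpowers u).inv_mem h3
      rwa [inv_inv] at this
    · left
      refine ⟨h1, fun h2 => hx ?_⟩
      have : x⁻¹ = (x⁻¹ * b) * b⁻¹ := by group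
      have h3 : x⁻¹ ∈ zpowers u := by
        rw [this]; exact (zpowers u).mul_mem h1 ((zpowers u).inv_mem h2)
      have := (zpowers u).inv_mem h3
      rwa [inv_inv] at this
  have hcard : Nat.card G = 2 ^ (n + 1) := by
    rw [← (zpowers u).card_mul_index, hidx, Nat.card_zpowers, h.ord, pow_succ]
  refine ⟨hcard, ?_⟩
  set z := u ^ 2 ^ (n - 1) with hz
  have hz2 : z * z = 1 := by
    have := h.z_pow
    rwa [pow_two] at this
  have hzu : z * u = u * z := ((Commute.refl u).pow_left _).eq
  have hx1 : x ≠ 1 := fun h1 => hx (h1 ▸ one_mem _)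
  obtain ⟨k, hk⟩ := mem_zpowers_iff.1 hxx
  have hxcomm : x * (x * x) * x⁻¹ = x * x := by group
  rcases hconj with hinv | ⟨hn3, hc⟩
  · -- inverting case
    have h1 : x * (x * x) * x⁻¹ = (x * x)⁻¹ := by
      rw [← hk, conj_zpow', hinv, inv_zpow]
    rw [hxcomm] at h1
    have hsq : (x * x) ^ 2 = 1 := by
      rw [pow_two]
      nth_rewrite 1 [h1]
      exact inv_mul_cancel _
    rcases h.eq_one_or_z (h.mem_Z hxx hsq) with h2 | h2
    · -- dihedral
      left
      haveI : NeZero (2 ^ n) := ⟨by positivity⟩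
      obtain ⟨e⟩ := nonempty_mulEquiv_dihedralGroup (2 ^ n) x u h.ord h2 hinv hx
      have htop : zpowers x ⊔ zpowers u = ⊤ := by
        rw [eq_top_iff]
        intro g _
        rcases hall g with h3 | h3
        · exact (le_sup_right : zpowers u ≤ _) h3
        · have : g = x * (x⁻¹ * g) := by group
          rw [this]
          exact (zpowers x ⊔ zpowers u).mul_mem ((le_sup_left : zpowers x ≤ _) (mem_zpowers x))
            ((le_sup_right : zpowers u ≤ _) h3)
      exact ⟨2 ^ n, ⟨(topEquiv.symm.trans (MulEquiv.subgroupCongr htop.symm)).trans e⟩⟩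
    · -- quaternion
      right; left
      haveI : NeZero (2 ^ (n - 1)) := ⟨by positivity⟩
      have hord : orderOf u = 2 * 2 ^ (n - 1) := by
        rw [h.ord, ← pow_succ']; congr 1; omega
      have hx2 : x ^ 2 = u ^ 2 ^ (n - 1) := by rw [pow_two]; exact h2
      exact ⟨2 ^ (n - 1), nonempty_mulEquiv_quaternionGroup (2 ^ (n - 1)) u x hord hinv hx2 hx hall⟩
  · -- quasi-dihedral case
    right; right
    have hcz : Commute z u := hzu
    have hcz' : Commute z u⁻¹ := hcz.inv_right
    have h1 : x * (x * x) * x⁻¹ = z ^ k * (x * x)⁻¹ := by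
      rw [← hk, conj_zpow', hc, hcz'.mul_zpow, inv_zpow]
    rw [hxcomm] at h1
    have h2 : (x * x) * (x * x) = z ^ k := by
      nth_rewrite 1 [h1]
      rw [mul_assoc, inv_mul_cancel, mul_one]
    have hzk : z ^ k = 1 ∨ z ^ k = z := h.eq_one_or_z (zpow_mem (mem_zpowers _) k)
    have hxx' : x * x = 1 ∨ x * x = z := by
      rcases hzk with h3 | h3
      · apply h.eq_one_or_z
        apply h.mem_Z hxx
        rw [pow_two, h2, h3]
      · exfalso
        -- `k` is odd
        have hkodd : Odd k := by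
          rcases Int.even_or_odd k with ⟨t, ht⟩ | hod
          · exfalso
            have : z ^ k = 1 := by
              rw [ht, zpow_add, ← (Commute.refl z).mul_zpow, hz2, one_zpow]
            rw [this] at h3
            exact h.z_ne_one h3.symm
          · exact hod
        -- but `u^(2k) = z`
        have h4 : u ^ (2 * k) = u ^ ((2 ^ (n - 1) : ℕ) : ℤ) := by
          rw [zpow_natCast, ← hz, ← h3, ← h2, ← hk, ← zpow_add]
          congr 1
          ring
        rw [zpow_eq_zpow_iff_modEq, h.ord] at h4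
        have h5 := (Int.modEq_iff_dvd.1 h4)
        obtain ⟨e, rfl⟩ : ∃ e, n = e + 3 := ⟨n - 3, by omega⟩
        obtain ⟨t, ht⟩ := h5
        have e1 : (((2 : ℕ) ^ (e + 3) : ℕ) : ℤ) = 8 * (2 : ℤ) ^ e := by push_cast; ring
        have e2 : (((2 : ℕ) ^ (e + 3 - 1) : ℕ) : ℤ) = 4 * (2 : ℤ) ^ e := by
          have : e + 3 - 1 = e + 2 := by omega
          rw [this]; push_cast; ring
        rw [e1, e2] at ht
        have hev : Even k := ⟨(2 : ℤ) ^ e - 2 * ((2 : ℤ) ^ e * t), by linarith⟩
        exact (Int.not_even_iff_odd.2 hkodd) hev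
    have hpow : z * u⁻¹ = u ^ (2 ^ (n - 1) - 1) := by
      have h3 : u ^ (2 ^ (n - 1) - 1) * u = z := pow_sub_one_mul (by positivity) u
      rw [← h3]; group
    rcases hxx' with h3 | h3
    · refine ⟨n, hn3, hcard, u, x, h.ord, ?_, ?_⟩
      · exact orderOf_eq_prime (by rw [pow_two]; exact h3) hx1
      · rw [hc, hpow]
    · have hy2 : (u * x) * (u * x) = 1 := by
        have : (u * x) * (u * x) = u * (x * u * x⁻¹) * (x * x) := by group
        rw [this, hc, h3]
        calc u * (z * u⁻¹) * z = (u * z) * u⁻¹ * z := by group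
          _ = (z * u) * u⁻¹ * z := by rw [hzu]
          _ = z * z := by group
          _ = 1 := hz2
      have hy1 : u * x ≠ 1 := by
        intro h4
        apply hx
        have : x = u⁻¹ := by
          have := eq_inv_of_mul_eq_one_right h4
          exact this
        rw [this]
        exact (zpowers u).inv_mem (mem_zpowers u)
      refine ⟨n, hn3, hcard, u, u * x, h.ord, ?_, ?_⟩
      · exact orderOf_eq_prime (by rw [pow_two]; exact hy2) hy1
      · have : u * x * u * (u * x)⁻¹ = u * (x * u * x⁻¹) * u⁻¹ := by group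
        rw [this, hc, ← hpow]
        calc u * (z * u⁻¹) * u⁻¹ = (u * z) * u⁻¹ * u⁻¹ := by group
          _ = (z * u) * u⁻¹ * u⁻¹ := by rw [hzu]
          _ = z * u⁻¹ := by group

end Hyp

end Cfsg.Agent.Helper4.CSC
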