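import Mathlib
import Cfsg.Agent.Lib.Helper4.CSC3

set_option autoImplicit false
set_option linter.style.haveILetI false
set_option linter.deprecated false
set_option linter.unusedSectionVars false
set_option linter.unusedVariables false

/-! The modular case: structure of `M = C_G(⟨u^p⟩)`. -/

namespace Cfsg.Agent.Helper4.CSC

open Subgroup Cfsg.Agent.Lib.Helper10

variable {G : Type*} [Group G]

/-- `M` as a subgroup -/
def Msub (p : ℕ) (u : G) : Subgroup G := centralizer ({u ^ p} : Set G)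

/-- the commutator `[g, u]` -/
def kappa (u g : G) : G := g * u * g⁻¹ * u⁻¹

lemma mem_Msub {p : ℕ} {u g : G} : g ∈ Msub p u ↔ Hyp.InM p u g :=
  mem_centralizer_singleton_iff

namespace Hyp

variable [Finite G] {p : ℕ} [hp : Fact p.Prime] {n : ℕ} {u : G}

lemma U_le_Msub (h : Hyp p n u) : zpowers u ≤ Msub p u := fun _ hg =>
  mem_Msub.2 (h.inM_of_mem hg)

lemma mem_Z_central (h : Hyp p n u) {e : G} (he : e ∈ zpowers (u ^ p ^ (n - 1))) (g : G) :
    g * e = e * g := by
  obtain ⟨k, rfl⟩ := mem_zpowers_iff.1 he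
  exact (Commute.zpow_right (h.z_central g) k).eq

lemma pow_eq_one_of_mem_Z (h : Hyp p n u) {e : G} (he : e ∈ zpowers (u ^ p ^ (n - 1))) :
    e ^ p = 1 := by
  obtain ⟨k, rfl⟩ := mem_zpowers_iff.1 he
  rw [← zpow_natCast, ← zpow_mul, mul_comm, zpow_mul, zpow_natCast, h.z_pow, one_zpow]

lemma kappa_mul (h : Hyp p n u) (g : G) {k : G} (hk : InM p u k) :
    kappa u (g * k) = kappa u g * kappa u k := by
  have hkZ := h.kappa_mem_Z hk
  have hc := h.mem_Z_central hkZ g
  have hcomm : Commute (kappa u k) (kappa u g) := by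
    obtain ⟨a, ha⟩ := mem_zpowers_iff.1 (h.kappa_mem k)
    obtain ⟨b, hb⟩ := mem_zpowers_iff.1 (h.kappa_mem g)
    unfold kappa
    rw [← ha, ← hb]
    exact (Commute.refl u).zpow_zpow a b
  have e1 : kappa u (g * k) = (g * kappa u k * g⁻¹) * kappa u g := by
    unfold kappa; group
  have e2 : g * kappa u k * g⁻¹ = kappa u k := by
    change g * (k * u * k⁻¹ * u⁻¹) = (k * u * k⁻¹ * u⁻¹) * g at hc
    unfold kappa
    rw [hc]; group
  rw [e1, e2, hcomm.eq]

/-- the homomorphism `g ↦ [g, u]` on `M` -/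
noncomputable def phi (h : Hyp p n u) : ↥(Msub p u) →* G :=
  MonoidHom.mk' (fun g => kappa u g.1) (fun a b => h.kappa_mul a.1 (mem_Msub.1 b.2))

lemma phi_apply (h : Hyp p n u) (g : ↥(Msub p u)) : h.phi g = kappa u g.1 := rfl

lemma phi_ker (h : Hyp p n u) : h.phi.ker = (zpowers u).subgroupOf (Msub p u) := by
  ext g
  rw [MonoidHom.mem_ker, phi_apply, mem_subgroupOf]
  exact h.kappa_eq_one_iff

lemma phi_range_le (h : Hyp p n u) : h.phi.range ≤ zpowers (u ^ p ^ (n - 1)) := by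
  rintro _ ⟨g, rfl⟩
  exact h.kappa_mem_Z (mem_Msub.1 g.2)

/-- `|M : U| = p` in the presence of an element of `M ∖ U` -/
theorem relIndex_eq (h : Hyp p n u) {x : G} (hxM : InM p u x) (hxU : x ∉ zpowers u) :
    (zpowers u).relIndex (Msub p u) = p := by
  rw [relIndex, ← h.phi_ker, index_ker]
  have hcardZ : Nat.card (zpowers (u ^ p ^ (n - 1))) = p := by
    rw [Nat.card_zpowers, h.orderOf_z]
  have hdvd : Nat.card h.phi.range ∣ p := by
    have := card_dvd_of_le h.phi_range_le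
    rwa [hcardZ] at this
  rcases (Nat.dvd_prime hp.out).1 hdvd with h1 | h1
  · exfalso
    apply hxU
    have hbot : h.phi.range = ⊥ := (card_eq_one).1 h1
    have : h.phi ⟨x, mem_Msub.2 hxM⟩ ∈ h.phi.range := ⟨_, rfl⟩
    rw [hbot, mem_bot, phi_apply] at this
    exact h.kappa_eq_one_iff.1 this
  · exact h1

/-- decomposition of the elements of `M` -/
theorem exists_decomp (h : Hyp p n u) {x : G} (hxM : InM p u x) (hxU : x ∉ zpowers u)
    {g : G} (hg : InM p u g) : ∃ v ∈ zpowers u, ∃ k : ℤ, g = v * x ^ k := by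
  set z := u ^ p ^ (n - 1) with hz
  have hcardZ : Nat.card (zpowers z) = p := by
    rw [Nat.card_zpowers, h.orderOf_z]
  have hcx : kappa u x ∈ zpowers z := h.kappa_mem_Z hxM
  have hcg : kappa u g ∈ zpowers z := h.kappa_mem_Z hg
  have hcx1 : kappa u x ≠ 1 := fun h1 => hxU (h.kappa_eq_one_iff.1 h1)
  have hmem : (⟨kappa u g, hcg⟩ : zpowers z) ∈ zpowers (⟨kappa u x, hcx⟩ : zpowers z) :=
    mem_zpowers_of_prime_card hcardZ (fun h0 => hcx1 (congrArg Subtype.val h0))
  obtain ⟨k, hk⟩ := mem_zpowers_iff.1 hmem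
  have hk' : kappa u x ^ k = kappa u g := by
    have := congrArg Subtype.val hk
    simpa using this
  -- use the homomorphism
  set xM : ↥(Msub p u) := ⟨x, mem_Msub.2 hxM⟩ with hxM'
  set gM : ↥(Msub p u) := ⟨g, mem_Msub.2 hg⟩ with hgM'
  have h1 : h.phi (gM * (xM ^ k)⁻¹) = 1 := by
    rw [map_mul, map_inv, map_zpow, phi_apply, phi_apply]
    change kappa u g * (kappa u x ^ k)⁻¹ = 1
    rw [hk', mul_inv_cancel]
  have h2 : gM * (xM ^ k)⁻¹ ∈ h.phi.ker := h1
  rw [h.phi_ker, mem_subgroupOf] at h2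
  refine ⟨_, h2, k, ?_⟩
  simp only [hxM', hgM', Subgroup.coe_mul, Subgroup.coe_inv, Subgroup.coe_zpow]
  group

/-- `x^p ∈ U` for `x ∈ M` -/
theorem pow_mem_U (h : Hyp p n u) {x : G} (hxM : InM p u x) : x ^ p ∈ zpowers u := by
  set xM : ↥(Msub p u) := ⟨x, mem_Msub.2 hxM⟩ with hxM'
  have h1 : h.phi (xM ^ p) = 1 := by
    rw [map_pow, phi_apply]
    exact h.pow_eq_one_of_mem_Z (h.kappa_mem_Z hxM)
  have h2 : xM ^ p ∈ h.phi.ker := h1
  rw [h.phi_ker, mem_subgroupOf] at h2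
  simpa [hxM'] using h2

end Hyp

end Cfsg.Agent.Helper4.CSC
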