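import Mathlib
import Cfsg.Agent.Lib.Helper4.CSC5

set_option autoImplicit false
set_option linter.style.haveILetI false
set_option linter.deprecated false
set_option linter.unusedSectionVars false
set_option linter.unusedVariables false

/-! The modular case: elements of order `p` in `M`. -/

namespace Cfsg.Agent.Helper4.CSC

open Subgroup Cfsg.Agent.Lib.Helper10

variable {G : Type*} [Group G]

namespace Hyp

variable [Finite G] {p : ℕ} [hp : Fact p.Prime] {n : ℕ} {u : G}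

lemma zpow_eq_one_of_dvd (h : Hyp p n u) {e : ℤ} (hd : ((p ^ n : ℕ) : ℤ) ∣ e) : u ^ e = 1 := by
  rw [← h.ord] at hd
  exact orderOf_dvd_iff_zpow_eq_one.1 hd

lemma dvd_of_zpow_eq_one (h : Hyp p n u) {e : ℤ} (he : u ^ e = 1) : ((p ^ n : ℕ) : ℤ) ∣ e := by
  rw [← h.ord]
  exact orderOf_dvd_iff_zpow_eq_one.2 he

/-- the data attached to an element of `M ∖ U` -/
lemma conj_data (h : Hyp p n u) {x : G} (hxM : InM p u x) (hxU : x ∉ zpowers u) :
    kappa u x ∈ zpowers (u ^ p ^ (n - 1)) ∧ kappa u x ≠ 1 ∧ kappa u x ^ p = 1 ∧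
    kappa u x * u = u * kappa u x ∧ kappa u x * x = x * kappa u x ∧
    x * u * x⁻¹ = u * kappa u x := by
  have hcZ : kappa u x ∈ zpowers (u ^ p ^ (n - 1)) := h.kappa_mem_Z hxM
  have hcu : kappa u x * u = u * kappa u x := (h.mem_Z_central hcZ u).symm
  refine ⟨hcZ, fun h1 => hxU (h.kappa_eq_one_iff.1 h1), h.pow_eq_one_of_mem_Z hcZ, hcu,
    (h.mem_Z_central hcZ x).symm, ?_⟩
  have : x * u * x⁻¹ = kappa u x * u := by unfold kappa; group
  rw [this, hcu]

theorem exists_order_p (h : Hyp p n u) (hpn : ¬ (p = 2 ∧ n = 2)) {x : G} (hxM : InM p u x)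
    (hxU : x ∉ zpowers u) : ∃ y, InM p u y ∧ y ∉ zpowers u ∧ y ^ p = 1 := by
  obtain ⟨hcZ, hc1, hcp, hcu, hcx, hw⟩ := h.conj_data hxM hxU
  set c := kappa u x with hc
  have hordc : orderOf c = p := orderOf_eq_prime hcp hc1
  obtain ⟨j, hj⟩ := mem_zpowers_iff.1 (h.pow_mem_U hxM)
  have hcj : c ^ j = 1 := by
    have h1 : x * u ^ j * x⁻¹ = u ^ j := by rw [hj]; group
    rw [conj_zpow', hw, (show Commute u c from hcu.symm).mul_zpow] at h1
    exact mul_eq_left.1 h1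
  have hpj : (p : ℤ) ∣ j := by rw [← hordc]; exact orderOf_dvd_iff_zpow_eq_one.2 hcj
  obtain ⟨m, rfl⟩ := hpj
  have hform := fun i => pow_formula hw hcu hcx i p
  have hnotU : ∀ i : ℤ, u ^ i * x ∉ zpowers u := by
    intro i hi
    apply hxU
    have : x = (u ^ i)⁻¹ * (u ^ i * x) := by group
    rw [this]
    exact (zpowers u).mul_mem ((zpowers u).inv_mem (zpow_mem (mem_zpowers u) i)) hi
  have hinM : ∀ i : ℤ, InM p u (u ^ i * x) := fun i =>
    mem_Msub.1 ((Msub p u).mul_mem (h.U_le_Msub (zpow_mem (mem_zpowers u) i)) (mem_Msub.2 hxM))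
  by_cases hp2 : p = 2
  · subst hp2
    have hn3 : 3 ≤ n := by
      have := h.two_le
      by_contra hlt
      exact hpn ⟨rfl, by omega⟩
    have hcz : c = u ^ 2 ^ (n - 1) := (h.eq_one_or_z hcZ).resolve_left hc1
    obtain ⟨e, rfl⟩ : ∃ e, n = e + 3 := ⟨n - 3, by omega⟩
    have hP : ((2 ^ (e + 3 - 1) : ℕ) : ℤ) = 4 * 2 ^ e := by
      have : e + 3 - 1 = e + 2 := by omega
      rw [this]; push_cast; ring
    have hN : ((2 ^ (e + 3) : ℕ) : ℤ) = 8 * 2 ^ e := by push_cast; ring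
    have hch : ((Nat.choose 2 2 : ℕ) : ℤ) = 1 := by norm_num
    have hkey : ∀ i : ℤ, (8 * (2 : ℤ) ^ e) ∣ i * 2 + 4 * 2 ^ e * i + 2 * m →
        (u ^ i * x) ^ 2 = 1 := by
      intro i hd
      rw [hform, ← hj, hch, mul_one, hcz, ← zpow_natCast u (2 ^ (e + 3 - 1)), ← zpow_mul,
        ← zpow_add, ← zpow_add]
      apply h.zpow_eq_one_of_dvd
      rw [hN, hP]
      push_cast
      exact hd
    rcases Int.even_or_odd' m with ⟨t, rfl | rfl⟩
    · refine ⟨u ^ (-(2 * t)) * x, hinM _, hnotU _, hkey _ ⟨-t, by ring⟩⟩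
    · refine ⟨u ^ (-(2 * t + 1) + 2 * 2 ^ e) * x, hinM _, hnotU _, hkey _ ⟨-t + 2 ^ e, by ring⟩⟩
  · have h2p : 2 < p := by
      have := hp.out.two_le
      omega
    have hch : (p : ℤ) ∣ (p.choose 2 : ℤ) := by
      exact_mod_cast hp.out.dvd_choose_self (by norm_num) h2p
    obtain ⟨s, hs⟩ := hch
    refine ⟨u ^ (-m) * x, hinM _, hnotU _, ?_⟩
    rw [hform, ← hj]
    have h1 : c ^ (-m * (p.choose 2 : ℤ)) = 1 := by
      rw [hs, show -m * ((p : ℤ) * s) = (p : ℤ) * (-m * s) by ring, zpow_mul, zpow_natCast, hcp,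
        one_zpow]
    rw [h1, mul_one, ← zpow_add]
    have : -m * (p : ℤ) + (p : ℤ) * m = 0 := by ring
    rw [this, zpow_zero]

/-- every element of order dividing `p` of `M` lies in `⟨z, y⟩` -/
theorem mem_closure_of_pow_eq_one (h : Hyp p n u) (hpn : ¬ (p = 2 ∧ n = 2)) {y : G}
    (hyM : InM p u y) (hyU : y ∉ zpowers u) (hyp : y ^ p = 1) {g : G} (hg : InM p u g)
    (hgp : g ^ p = 1) : g ∈ Subgroup.closure ({u ^ p ^ (n - 1), y} : Set G) := by
  obtain ⟨v, hv, k, rfl⟩ := h.exists_decomp hyM hyU hg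
  have hyk : y ^ k ∈ Subgroup.closure ({u ^ p ^ (n - 1), y} : Set G) :=
    zpow_mem (subset_closure (by simp)) k
  have hzcl : zpowers (u ^ p ^ (n - 1)) ≤ Subgroup.closure ({u ^ p ^ (n - 1), y} : Set G) := by
    rw [zpowers_le]
    exact subset_closure (by simp)
  suffices hvp : v ^ p = 1 from
    (Subgroup.closure _).mul_mem (hzcl (h.mem_Z hv hvp)) hyk
  obtain ⟨i, rfl⟩ := mem_zpowers_iff.1 hv
  set w := y ^ k with hw'
  have hwM : InM p u w := mem_Msub.1 ((Msub p u).zpow_mem (mem_Msub.2 hyM) k)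
  have hwp : w ^ p = 1 := by
    rw [hw', ← zpow_natCast, ← zpow_mul, mul_comm, zpow_mul, zpow_natCast, hyp, one_zpow]
  by_cases hwU : w ∈ zpowers u
  · -- then everything is in `U`
    have hcomm : Commute (u ^ i) w := by
      obtain ⟨l, hl⟩ := mem_zpowers_iff.1 hwU
      rw [← hl]
      exact (Commute.refl u).zpow_zpow i l
    rw [hcomm.mul_pow, hwp, mul_one] at hgp
    exact hgp
  obtain ⟨hdZ, hd1, hdp, hdu, hdw, hw⟩ := h.conj_data hwM hwU
  set d := kappa u w with hd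
  have hform := pow_formula hw hdu hdw i p
  rw [hform, hwp, mul_one] at hgp
  by_cases hp2 : p = 2
  · subst hp2
    have hn3 : 3 ≤ n := by
      have := h.two_le
      by_contra hlt
      exact hpn ⟨rfl, by omega⟩
    have hdz : d = u ^ 2 ^ (n - 1) := (h.eq_one_or_z hdZ).resolve_left hd1
    obtain ⟨e, rfl⟩ : ∃ e, n = e + 3 := ⟨n - 3, by omega⟩
    have hP : ((2 ^ (e + 3 - 1) : ℕ) : ℤ) = 4 * 2 ^ e := by
      have : e + 3 - 1 = e + 2 := by omega
      rw [this]; push_cast; ring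
    have hN : ((2 ^ (e + 3) : ℕ) : ℤ) = 8 * 2 ^ e := by push_cast; ring
    have hch : ((Nat.choose 2 2 : ℕ) : ℤ) = 1 := by norm_num
    rw [hch, mul_one, hdz, ← zpow_natCast u (2 ^ (e + 3 - 1)), ← zpow_mul, ← zpow_add] at hgp
    have hdv := h.dvd_of_zpow_eq_one hgp
    rw [hN, hP] at hdv
    -- `8P ∣ i*2 + 4P*i`, so `4P ∣ i`
    obtain ⟨s, hs⟩ := hdv
    have h1 : (4 * (2 : ℤ) ^ e) ∣ i * (1 + 2 * 2 ^ e) := ⟨s, by push_cast at hs; linarith⟩
    have hcop : IsCoprime (4 * (2 : ℤ) ^ e) (1 + 2 * 2 ^ e) := by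
      have h2 : IsCoprime (2 : ℤ) (1 + 2 * 2 ^ e) := ⟨-(2 : ℤ) ^ e, 1, by ring⟩
      have h3 : (4 * (2 : ℤ) ^ e) = 2 ^ (e + 2) := by ring
      rw [h3]
      exact h2.pow_left
    have h4 : (4 * (2 : ℤ) ^ e) ∣ i := hcop.dvd_of_dvd_mul_right h1
    obtain ⟨t, ht⟩ := h4
    rw [← zpow_natCast, ← zpow_mul]
    apply h.zpow_eq_one_of_dvd
    rw [hN]
    exact ⟨t, by rw [ht]; push_cast; ring⟩
  · have h2p : 2 < p := by
      have := hp.out.two_le
      omega
    have hch : (p : ℤ) ∣ (p.choose 2 : ℤ) := by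
      exact_mod_cast hp.out.dvd_choose_self (by norm_num) h2p
    obtain ⟨s, hs⟩ := hch
    have h1 : d ^ (i * (p.choose 2 : ℤ)) = 1 := by
      rw [hs, show i * ((p : ℤ) * s) = (p : ℤ) * (i * s) by ring, zpow_mul, zpow_natCast, hdp,
        one_zpow]
    rw [h1, mul_one] at hgp
    rw [← zpow_natCast, ← zpow_mul]
    exact hgp

end Hyp

end Cfsg.Agent.Helper4.CSC
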