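import Mathlib
import Cfsg.Prelude.Def_PLocal
import Cfsg.Prelude.Def_Transfer
import Cfsg.Agent.Lib.Helper4.CSC6
import Cfsg.Agent.Lib.Helper1.Cores

set_option autoImplicit false
set_option linter.style.haveILetI false
set_option linter.deprecated false
set_option linter.unusedSectionVars false
set_option linter.unusedVariables false

/-! The modular case: `Ω₁(M)` is elementary abelian of order `p²` and characteristic. -/

namespace Cfsg.Agent.Helper4.CSC

open Subgroup Cfsg.Agent.Lib.Helper10

variable {G : Type*} [Group G]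

/-- closure of a commuting set is commutative -/
lemma isMulCommutative_closure {S : Set G} (hS : ∀ a ∈ S, ∀ b ∈ S, a * b = b * a) :
    IsMulCommutative (Subgroup.closure S) := by
  rw [← le_centralizer_iff_isMulCommutative, Subgroup.closure_le]
  intro s hs
  have h1 : Subgroup.closure S ≤ centralizer ({s} : Set G) := by
    rw [Subgroup.closure_le]
    intro t ht
    rw [SetLike.mem_coe, mem_centralizer_singleton_iff]
    exact hS t ht s hs
  rw [SetLike.mem_coe, mem_centralizer_iff]
  intro k hk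
  have := h1 hk
  rw [mem_centralizer_singleton_iff] at this
  exact this

/-- a conjugation invariant generating set generates a normal subgroup -/
lemma normal_closure_of_conj {S : Set G} (hS : ∀ s ∈ S, ∀ g : G, g * s * g⁻¹ ∈ S) :
    (Subgroup.closure S).Normal := by
  constructor
  intro n hn g
  induction hn using Subgroup.closure_induction with
  | mem x hx => exact Subgroup.subset_closure (hS x hx g)
  | one => simp
  | mul x y _ _ hx hy =>
    have : g * (x * y) * g⁻¹ = (g * x * g⁻¹) * (g * y * g⁻¹) := by group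
    rw [this]; exact mul_mem hx hy
  | inv x _ hx =>
    have : g * x⁻¹ * g⁻¹ = (g * x * g⁻¹)⁻¹ := by group
    rw [this]; exact inv_mem hx

namespace Hyp

variable [Finite G] {p : ℕ} [hp : Fact p.Prime] {n : ℕ} {u : G}

lemma centralizer_powerClosure (h : Hyp p n u) :
    centralizer (Cfsg.powerClosure p 1 (zpowers u) : Set G) = Msub p u := by
  unfold Cfsg.powerClosure Msub
  rw [centralizer_closure]
  ext g
  rw [mem_centralizer_iff, mem_centralizer_singleton_iff]
  constructor
  · intro hg
    have := hg (u ^ p) ⟨u, mem_zpowers u, by rw [pow_one]⟩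
    exact this.symm
  · rintro hg _ ⟨x, hx, rfl⟩
    obtain ⟨k, rfl⟩ := mem_zpowers_iff.1 hx
    rw [pow_one, ← zpow_natCast, ← zpow_mul, mul_comm, zpow_mul, zpow_natCast]
    have : Commute g (u ^ p) := hg
    exact (this.zpow_right k).eq.symm

/-- `M` is invariant under conjugation -/
lemma inM_conj (h : Hyp p n u) {x : G} (hx : InM p u x) (g : G) : InM p u (g * x * g⁻¹) := by
  unfold InM at hx ⊢
  obtain ⟨s, hs⟩ := h.exists_pow g⁻¹
  rw [inv_inv] at hs
  have h1 : g⁻¹ * u ^ p * g = (u ^ p) ^ s := by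
    have := conj_pow' g⁻¹ u p
    rw [inv_inv, hs] at this
    rw [this, ← pow_mul, ← pow_mul, mul_comm]
  have h2 : x * (u ^ p) ^ s = (u ^ p) ^ s * x := ((show Commute x (u ^ p) from hx).pow_right s).eq
  calc g * x * g⁻¹ * u ^ p = g * (x * (g⁻¹ * u ^ p * g)) * g⁻¹ := by group
    _ = g * ((g⁻¹ * u ^ p * g) * x) * g⁻¹ := by rw [h1, h2]
    _ = u ^ p * (g * x * g⁻¹) := by group

variable (h : Hyp p n u) (hpn : ¬ (p = 2 ∧ n = 2)) {y : G}
  (hyM : InM p u y) (hyU : y ∉ zpowers u) (hyp : y ^ p = 1)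

include h hpn hyM hyU hyp

lemma omegaOne_eq : Cfsg.omegaOne p (Msub p u) = Subgroup.closure ({u ^ p ^ (n - 1), y} : Set G) := by
  unfold Cfsg.omegaOne
  apply le_antisymm
  · rw [Subgroup.closure_le]
    rintro g ⟨hgM, hgp⟩
    exact h.mem_closure_of_pow_eq_one hpn hyM hyU hyp (mem_Msub.1 hgM) hgp
  · rw [Subgroup.closure_le]
    rintro g hg
    rcases hg with rfl | rfl
    · exact Subgroup.subset_closure ⟨h.U_le_Msub (pow_mem (mem_zpowers u) _), h.z_pow⟩
    · exact Subgroup.subset_closure ⟨mem_Msub.2 hyM, hyp⟩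

lemma comm_E : IsMulCommutative (Subgroup.closure ({u ^ p ^ (n - 1), y} : Set G)) := by
  apply isMulCommutative_closure
  have hzy : u ^ p ^ (n - 1) * y = y * u ^ p ^ (n - 1) := (h.z_central y).symm
  rintro a (rfl | rfl) b (rfl | rfl)
  · rfl
  · exact hzy
  · exact hzy.symm
  · rfl

lemma exp_E : ∀ a ∈ Subgroup.closure ({u ^ p ^ (n - 1), y} : Set G), a ^ p = 1 := by
  haveI := comm_E h hpn hyM hyU hyp
  intro a ha
  induction ha using Subgroup.closure_induction with
  | mem x hx =>
    rcases hx with rfl | rfl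
    · exact h.z_pow
    · exact hyp
  | one => simp
  | mul x y' hx hy' ihx ihy =>
    have hc : Commute x y' := mul_comm_of_mem_isMulCommutative _ hx hy'
    rw [hc.mul_pow, ihx, ihy, one_mul]
  | inv x _ ihx => rw [inv_pow, ihx, inv_one]

lemma card_E : Nat.card (Subgroup.closure ({u ^ p ^ (n - 1), y} : Set G)) = p ^ 2 := by
  set z := u ^ p ^ (n - 1) with hz
  have hcl : Subgroup.closure ({z, y} : Set G) = zpowers y ⊔ zpowers z := by
    rw [Set.insert_eq, Subgroup.closure_union, ← zpowers_eq_closure, ← zpowers_eq_closure, sup_comm]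
  haveI hzn : (zpowers z).Normal := by
    constructor
    intro v hv g
    have := h.mem_Z_central hv g
    have e : g * v * g⁻¹ = v := by rw [this]; group
    rw [e]; exact hv
  have hy1 : y ≠ 1 := fun h1 => hyU (h1 ▸ one_mem _)
  have hcy : Nat.card (zpowers y) = p := by rw [Nat.card_zpowers, orderOf_eq_prime hyp hy1]
  have hcz : Nat.card (zpowers z) = p := by rw [Nat.card_zpowers, h.orderOf_z]
  have hdvd : Nat.card (Subgroup.closure ({z, y} : Set G)) ∣ p ^ 2 := by
    rw [hcl, pow_two]
    have := Cfsg.Agent.Lib.Helper1.card_sup_dvd_of_normal (zpowers y) (zpowers z)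
    rwa [hcy, hcz] at this
  obtain ⟨m, hm, hcm⟩ := (Nat.dvd_prime_pow hp.out).1 hdvd
  have hzle : zpowers z ≤ Subgroup.closure ({z, y} : Set G) := by
    rw [zpowers_le]; exact Subgroup.subset_closure (by simp)
  have hpd : p ∣ Nat.card (Subgroup.closure ({z, y} : Set G)) := by
    rw [← hcz]; exact card_dvd_of_le hzle
  interval_cases m
  · rw [hcm, pow_zero] at hpd
    exact absurd (Nat.dvd_one.1 hpd) hp.out.one_lt.ne'
  · exfalso
    apply hyU
    have heq : zpowers z = Subgroup.closure ({z, y} : Set G) :=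
      eq_of_le_of_card_ge hzle (by rw [hcm, hcz, pow_one])
    have hyz : y ∈ zpowers z := by
      rw [heq]; exact Subgroup.subset_closure (by simp)
    exact (zpowers_le.2 (pow_mem (mem_zpowers u) _)) hyz
  · exact hcm

/-- uniqueness: a normal subgroup of order `p²` and exponent `p` is `⟨z, y⟩` -/
lemma unique_E (F : Subgroup G) (hFn : F.Normal) (hFp : ∀ f ∈ F, f ^ p = 1)
    (hFc : Nat.card F = p ^ 2) : F = Subgroup.closure ({u ^ p ^ (n - 1), y} : Set G) := by
  have hle : F ≤ Subgroup.closure ({u ^ p ^ (n - 1), y} : Set G) := by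
    intro f hf
    apply h.mem_closure_of_pow_eq_one hpn hyM hyU hyp _ (hFp f hf)
    rw [h.inM_iff]
    apply hFp
    have : f * u * f⁻¹ * u⁻¹ = f * (u * f⁻¹ * u⁻¹) := by group
    rw [this]
    exact F.mul_mem hf (hFn.conj_mem _ (F.inv_mem hf) u)
  exact eq_of_le_of_card_ge hle (by rw [hFc, card_E h hpn hyM hyU hyp])

lemma normal_E : (Subgroup.closure ({u ^ p ^ (n - 1), y} : Set G)).Normal := by
  rw [← omegaOne_eq h hpn hyM hyU hyp]
  unfold Cfsg.omegaOne
  apply normal_closure_of_conj
  rintro s ⟨hsM, hsp⟩ g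
  refine ⟨mem_Msub.2 (h.inM_conj (mem_Msub.1 hsM) g), ?_⟩
  rw [← conj_pow', hsp]; group

lemma char_E : (Subgroup.closure ({u ^ p ^ (n - 1), y} : Set G)).Characteristic := by
  rw [characteristic_iff_map_eq]
  intro φ
  apply unique_E h hpn hyM hyU hyp
  · exact (normal_E h hpn hyM hyU hyp).map _ φ.surjective
  · rintro _ ⟨e, he, rfl⟩
    change (φ e) ^ p = 1
    rw [← map_pow, exp_E h hpn hyM hyU hyp e he, map_one]
  · rw [card_map_of_injective φ.injective, card_E h hpn hyM hyU hyp]

omit hyM hyU hyp in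
/-- the modular alternative -/
theorem alpha_case {x : G} (hxM : InM p u x) (hxU : x ∉ zpowers u) :
    (zpowers u).relIndex (centralizer (Cfsg.powerClosure p 1 (zpowers u) : Set G)) = p ∧
    Cfsg.IsElementaryAbelian p
      (Cfsg.omegaOne p (centralizer (Cfsg.powerClosure p 1 (zpowers u) : Set G))) ∧
    Nat.card ↥(Cfsg.omegaOne p (centralizer (Cfsg.powerClosure p 1 (zpowers u) : Set G)))
      = p ^ 2 ∧
    (Cfsg.omegaOne p (centralizer (Cfsg.powerClosure p 1 (zpowers u) : Set G))).Characteristic := by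
  obtain ⟨y, hyM, hyU, hyp⟩ := h.exists_order_p hpn hxM hxU
  rw [h.centralizer_powerClosure, omegaOne_eq h hpn hyM hyU hyp]
  exact ⟨h.relIndex_eq hxM hxU, ⟨comm_E h hpn hyM hyU hyp, exp_E h hpn hyM hyU hyp⟩,
    card_E h hpn hyM hyU hyp, char_E h hpn hyM hyU hyp⟩

end Hyp

end Cfsg.Agent.Helper4.CSC
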