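import Mathlib
import Cfsg.Agent.Lib.Helper4.CSC4
import Cfsg.Agent.Lib.Helper4.CSC7

set_option autoImplicit false
set_option linter.style.haveILetI false
set_option linter.deprecated false
set_option linter.unusedSectionVars false
set_option linter.unusedVariables false

/-! Assembling the theorem on nonabelian `p`-groups with a self-centralizing cyclic normal
subgroup. -/

namespace Cfsg.Agent.Helper4.CSC

open Subgroup

variable {G : Type*} [Group G] [Finite G] {p : ℕ} [hp : Fact p.Prime]

/-- the hypotheses in the form of a structure -/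
theorem hyp_of (hG : IsPGroup p G) (hna : ¬ IsMulCommutative G) (u : G)
    (hn : (zpowers u).Normal) (n : ℕ) (hUn : Nat.card (zpowers u) = p ^ n)
    (hC : centralizer ((zpowers u : Subgroup G) : Set G) = zpowers u) : Hyp p n u := by
  refine ⟨hG, ?_, ?_, ?_, ?_⟩
  · rw [← hUn, Nat.card_zpowers]
  · intro g
    exact hn.conj_mem u (mem_zpowers u) g
  · intro g hg
    rw [← hC, mem_centralizer_iff]
    intro v hv
    obtain ⟨k, rfl⟩ := mem_zpowers_iff.1 hv
    exact ((show Commute g u from hg).zpow_right k).eq.symm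
  · by_contra hall
    push Not at hall
    apply hna
    refine ⟨⟨fun a b => ?_⟩⟩
    obtain ⟨i, rfl⟩ := mem_zpowers_iff.1 (hall a)
    obtain ⟨j, rfl⟩ := mem_zpowers_iff.1 (hall b)
    exact ((Commute.refl u).zpow_zpow i j).eq

/-- the main theorem in terms of a generator -/
theorem main (hG : IsPGroup p G) (hna : ¬ IsMulCommutative G) (u : G)
    (hn : (zpowers u).Normal) (n : ℕ) (hUn : Nat.card (zpowers u) = p ^ n)
    (hC : centralizer ((zpowers u : Subgroup G) : Set G) = zpowers u) :
    (p = 2 ∧ Nat.card G = 2 ^ (n + 1) ∧ ((∃ m : ℕ, Nonempty (G ≃* DihedralGroup m)) ∨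
      (∃ m : ℕ, Nonempty (G ≃* QuaternionGroup m)) ∨ Cfsg.IsQuasiDihedral G)) ∨
    ((zpowers u).relIndex (centralizer (Cfsg.powerClosure p 1 (zpowers u) : Set G)) = p ∧
      Cfsg.IsElementaryAbelian p
        (Cfsg.omegaOne p (centralizer (Cfsg.powerClosure p 1 (zpowers u) : Set G))) ∧
      Nat.card ↥(Cfsg.omegaOne p (centralizer (Cfsg.powerClosure p 1 (zpowers u) : Set G)))
        = p ^ 2 ∧
      (Cfsg.omegaOne p
        (centralizer (Cfsg.powerClosure p 1 (zpowers u) : Set G))).Characteristic) := by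
  have h := hyp_of hG hna u hn n hUn hC
  rcases h.dichotomy with ⟨hp2, x, hx, hall, hconj⟩ | ⟨hpn, x, hxM, hxU⟩
  · subst hp2
    exact Or.inl ⟨rfl, h.beta_recog hx hall hconj⟩
  · exact Or.inr (h.alpha_case hpn hxM hxU)

/-- a cyclic subgroup is generated by one element -/
theorem exists_eq_zpowers (U : Subgroup G) (hU : IsCyclic U) : ∃ u : G, U = zpowers u := by
  obtain ⟨⟨u, huU⟩, hgen⟩ := hU.exists_generator
  refine ⟨u, le_antisymm ?_ ?_⟩
  · intro x hx
    obtain ⟨k, hk⟩ := mem_zpowers_iff.1 (hgen ⟨x, hx⟩)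
    have := congrArg Subtype.val hk
    rw [mem_zpowers_iff]
    exact ⟨k, by simpa using this⟩
  · rw [zpowers_le]; exact huU

end Cfsg.Agent.Helper4.CSC
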