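import Mathlib
import Cfsg.Agent.Lib.Helper4.CSC8

set_option autoImplicit false
set_option linter.style.haveILetI false
set_option linter.deprecated false
set_option linter.unusedSectionVars false
set_option linter.unusedVariables false

/-! `p`-groups all of whose normal abelian subgroups are cyclic. -/

namespace Cfsg.Agent.Helper4.CSC

open Subgroup Cfsg.Agent.Lib.Helper10

variable {G : Type*} [Group G]

namespace Hyp

variable [Finite G] {u : G}

/-- the case `|U| = 4`: quaternion of order 8 or a normal four-group -/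
theorem n2_case [hp : Fact (Nat.Prime 2)] (h : Hyp 2 2 u) {x : G} (hx : x ∉ zpowers u)
    (hall : ∀ g, g ∈ zpowers u ∨ x⁻¹ * g ∈ zpowers u) (hinv : x * u * x⁻¹ = u⁻¹) :
    (∃ m : ℕ, Nonempty (G ≃* QuaternionGroup m)) ∨
    ∃ V : Subgroup G, V.Normal ∧ IsMulCommutative V ∧ ¬ IsCyclic V := by
  have hxx : x * x ∈ zpowers u := by
    rcases hall (x * x) with h1 | h1
    · exact h1
    · exfalso; apply hx
      have : x⁻¹ * (x * x) = x := by group
      rwa [this] at h1
  set z := u ^ 2 ^ (2 - 1) with hz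
  have hz2 : z * z = 1 := by
    have := h.z_pow
    rwa [pow_two] at this
  have hzc : ∀ g : G, g * z = z * g := h.z_central
  have hz1 : z ≠ 1 := h.z_ne_one
  have hzU : z ∈ zpowers u := (zpowers u).pow_mem (mem_zpowers u) _
  have hx1 : x ≠ 1 := fun h1 => hx (h1 ▸ one_mem _)
  obtain ⟨k, hk⟩ := mem_zpowers_iff.1 hxx
  have hxcomm : x * (x * x) * x⁻¹ = x * x := by group
  have h1 : x * (x * x) * x⁻¹ = (x * x)⁻¹ := by
    rw [← hk, conj_zpow', hinv, inv_zpow]
  rw [hxcomm] at h1
  have hsq : (x * x) ^ 2 = 1 := by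
    rw [pow_two]
    nth_rewrite 1 [h1]
    exact inv_mul_cancel _
  rcases h.eq_one_or_z (h.mem_Z hxx hsq) with h2 | h2
  · -- the four-group
    right
    have hzu2 : z = u ^ 2 := by rw [hz]; norm_num
    have hxz : x * z = z * x := hzc x
    have hconjx : ∀ k : ℤ, u ^ k * x * (u ^ k)⁻¹ = z ^ k * x := by
      intro k
      have e1 : x * (u ^ k)⁻¹ * x⁻¹ = u ^ k := by
        rw [← zpow_neg, conj_zpow', hinv, inv_zpow, zpow_neg, inv_inv]
      have e2 : u ^ k * u ^ k = z ^ k := by
        rw [hzu2, ← zpow_natCast u 2, ← zpow_mul, ← zpow_add]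
        congr 1; push_cast; ring
      calc u ^ k * x * (u ^ k)⁻¹ = u ^ k * (x * (u ^ k)⁻¹ * x⁻¹) * x := by group
        _ = u ^ k * u ^ k * x := by rw [e1]
        _ = z ^ k * x := by rw [e2]
    have hzk : ∀ k : ℤ, z ^ k = 1 ∨ z ^ k = z := fun k =>
      h.eq_one_or_z (zpow_mem (mem_zpowers _) k)
    have hcl : ∀ g : G, g * x * g⁻¹ = x ∨ g * x * g⁻¹ = z * x := by
      intro g
      rcases hall g with hg | hg
      · obtain ⟨k, rfl⟩ := mem_zpowers_iff.1 hg
        rw [hconjx k]
        rcases hzk k with e | e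
        · left; rw [e, one_mul]
        · right; rw [e]
      · obtain ⟨k, hk'⟩ := mem_zpowers_iff.1 hg
        have hg' : g = x * u ^ k := by rw [hk']; group
        have e3 : g * x * g⁻¹ = x * (u ^ k * x * (u ^ k)⁻¹) * x⁻¹ := by rw [hg']; group
        rw [e3, hconjx k]
        rcases hzk k with e | e
        · left; rw [e]; group
        · right; rw [e]
          calc x * (z * x) * x⁻¹ = x * z := by group
            _ = z * x := hxz
    have hS : ∀ s ∈ ({z, x, z * x} : Set G), ∀ g : G,
        g * s * g⁻¹ ∈ ({z, x, z * x} : Set G) := by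
      intro s hs g
      rcases hs with hs | hs | hs
      · have e4 : g * s * g⁻¹ = z := by rw [hs, hzc g]; group
        rw [e4]; exact Or.inl rfl
      · rw [hs]
        rcases hcl g with e | e
        · rw [e]; exact Or.inr (Or.inl rfl)
        · rw [e]; exact Or.inr (Or.inr rfl)
      · have hs' : s = z * x := hs
        have e4 : g * s * g⁻¹ = z * (g * x * g⁻¹) := by
          rw [hs', ← mul_assoc, hzc g]; group
        rcases hcl g with e | e
        · rw [e4, e]; exact Or.inr (Or.inr rfl)
        · rw [e4, e, ← mul_assoc, hz2, one_mul]; exact Or.inr (Or.inl rfl)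
    have hcommS : ∀ a ∈ ({z, x, z * x} : Set G), ∀ b ∈ ({z, x, z * x} : Set G),
        a * b = b * a := by
      intro a ha b hb
      have key : ∀ c ∈ ({z, x, z * x} : Set G), c * z = z * c ∧ c * x = x * c := by
        intro c hc
        rcases hc with hc | hc | hc
        · rw [hc]; exact ⟨rfl, hxz.symm⟩
        · rw [hc]; exact ⟨hxz, rfl⟩
        · have hc' : c = z * x := hc
          rw [hc']
          refine ⟨?_, ?_⟩
          · rw [mul_assoc, hxz]
          · rw [← mul_assoc, hxz]
      rcases hb with hb | hb | hb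
      · rw [hb]; exact (key a ha).1
      · rw [hb]; exact (key a ha).2
      · have hb' : b = z * x := hb
        rw [hb', ← mul_assoc, (key a ha).1, mul_assoc, (key a ha).2, ← mul_assoc]
    refine ⟨Subgroup.closure ({z, x, z * x} : Set G), normal_closure_of_conj hS,
      isMulCommutative_closure hcommS, ?_⟩
    intro hcyc
    haveI := hcyc
    have hzV : z ∈ Subgroup.closure ({z, x, z * x} : Set G) :=
      Subgroup.subset_closure (Or.inl rfl)
    have hxV : x ∈ Subgroup.closure ({z, x, z * x} : Set G) :=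
      Subgroup.subset_closure (Or.inr (Or.inl rfl))
    classical
    haveI : Fintype (Subgroup.closure ({z, x, z * x} : Set G)) := Fintype.ofFinite _
    have hle := IsCyclic.card_pow_eq_one_le
      (α := Subgroup.closure ({z, x, z * x} : Set G)) (n := 2) (by norm_num)
    refine absurd hle (not_le.2 ?_)
    rw [Finset.two_lt_card_iff]
    refine ⟨1, ⟨z, hzV⟩, ⟨x, hxV⟩, ?_, ?_, ?_, ?_, ?_, ?_⟩
    · exact Finset.mem_filter.2 ⟨Finset.mem_univ _, one_pow 2⟩
    · refine Finset.mem_filter.2 ⟨Finset.mem_univ _, Subtype.ext ?_⟩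
      rw [Subgroup.coe_pow, Subgroup.coe_one, pow_two]; exact hz2
    · refine Finset.mem_filter.2 ⟨Finset.mem_univ _, Subtype.ext ?_⟩
      rw [Subgroup.coe_pow, Subgroup.coe_one, pow_two]; exact h2
    · intro e; exact hz1 (congrArg Subtype.val e).symm
    · intro e; exact hx1 (congrArg Subtype.val e).symm
    · intro e
      apply hx
      have e' : z = x := congrArg Subtype.val e
      rw [← e']; exact hzU
  · -- quaternion
    left
    haveI : NeZero (2 ^ (2 - 1)) := ⟨by norm_num⟩
    have hord : orderOf u = 2 * 2 ^ (2 - 1) := by rw [h.ord]; norm_num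
    have hx2 : x ^ 2 = u ^ 2 ^ (2 - 1) := by rw [pow_two]; exact h2
    exact ⟨2 ^ (2 - 1), nonempty_mulEquiv_quaternionGroup (2 ^ (2 - 1)) u x hord hinv hx2 hx hall⟩

end Hyp

/-- an elementary abelian group of order `p^2` is not cyclic -/
theorem not_isCyclic_of_elementary {p : ℕ} [hp : Fact p.Prime] (E : Subgroup G)
    (hE : Cfsg.IsElementaryAbelian p E) (hcard : Nat.card E = p ^ 2) : ¬ IsCyclic E := by
  intro hEcyc
  obtain ⟨g, hg⟩ := hEcyc.exists_generator
  have hgp : g ^ p = 1 := Subtype.ext (by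
    rw [Subgroup.coe_pow, Subgroup.coe_one]; exact hE.2 g.1 g.2)
  have hdvd : orderOf g ∣ p := orderOf_dvd_of_pow_eq_one hgp
  rw [orderOf_eq_card_of_forall_mem_zpowers hg, hcard] at hdvd
  have hp2 := hp.out.two_le
  have hle := Nat.le_of_dvd (by omega) hdvd
  nlinarith

/-- a finite `p`-group all of whose normal abelian subgroups are cyclic, having a noncyclic
abelian subgroup, is a `2`-group which is quaternion, dihedral of order at least 16,
or quasi-dihedral -/
theorem pgroup_normal_abelian_cyclic {P : Type*} [Group P] [Finite P] (p : ℕ) [Fact p.Prime]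
    (hP : IsPGroup p P) (hn : ∀ A : Subgroup P, A.Normal → IsMulCommutative A → IsCyclic A)
    (hm : ∃ B : Subgroup P, IsMulCommutative B ∧ ¬ IsCyclic B) :
    p = 2 ∧ ((∃ n : ℕ, Nonempty (P ≃* QuaternionGroup n)) ∨
      (∃ n : ℕ, 8 ≤ n ∧ Nonempty (P ≃* DihedralGroup n)) ∨ Cfsg.IsQuasiDihedral P) := by
  obtain ⟨B, hBc, hBn⟩ := hm
  have hna : ¬ IsMulCommutative P := by
    intro hc
    apply hBn
    have htop : IsCyclic (⊤ : Subgroup P) :=
      hn ⊤ inferInstance ⟨⟨fun a b => Subtype.ext (hc.is_comm.comm a.1 b.1)⟩⟩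
    haveI : IsCyclic P := by
      haveI := htop
      exact isCyclic_of_surjective (Subgroup.topEquiv : (⊤ : Subgroup P) ≃* P)
        Subgroup.topEquiv.surjective
    infer_instance
  obtain ⟨A, hAn, hAc, hmax⟩ := exists_maximal_normal_abelian P
  have hAcyc : IsCyclic A := hn A hAn hAc
  have hCA : centralizer (A : Set P) ≤ A :=
    @centralizer_le_of_maximal_normal_abelian P _ _ p _ hP A hAn hAc hmax
  have hC : centralizer (A : Set P) = A :=
    le_antisymm hCA (le_centralizer_iff_isMulCommutative.2 hAc)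
  obtain ⟨u, rfl⟩ := exists_eq_zpowers A hAcyc
  obtain ⟨n, hUn⟩ := IsPGroup.iff_card.1 (hP.to_subgroup (zpowers u))
  have h : Hyp p n u := hyp_of hP hna u hAn n hUn hC
  rcases h.dichotomy with ⟨hp2, x, hx, hall, hconj⟩ | ⟨hpn, x, hxM, hxU⟩
  · subst hp2
    refine ⟨rfl, ?_⟩
    by_cases hn3 : 3 ≤ n
    · obtain ⟨hcard, hD | hQ | hQD⟩ := h.beta_recog hx hall hconj
      · obtain ⟨m, ⟨e⟩⟩ := hD
        right; left
        refine ⟨m, ?_, ⟨e⟩⟩
        have h8 : 8 ≤ 2 ^ n := by
          calc 8 = 2 ^ 3 := by norm_num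
            _ ≤ 2 ^ n := Nat.pow_le_pow_right (by norm_num) hn3
        have h1 : 2 * m = 2 ^ n * 2 := by
          rw [← pow_succ, ← hcard, Nat.card_congr e.toEquiv, DihedralGroup.nat_card]
        omega
      · exact Or.inl hQ
      · exact Or.inr (Or.inr hQD)
    · have hn2 : n = 2 := by have := h.two_le; omega
      subst hn2
      have hinv : x * u * x⁻¹ = u⁻¹ := by
        rcases hconj with h1 | ⟨h1, _⟩
        · exact h1
        · omega
      rcases h.n2_case hx hall hinv with hQ | ⟨V, hVn, hVc, hVcyc⟩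
      · exact Or.inl hQ
      · exact absurd (hn V hVn hVc) hVcyc
  · exfalso
    obtain ⟨-, hE, hcard, hchar⟩ := h.alpha_case hpn hxM hxU
    exact not_isCyclic_of_elementary _ hE hcard
      (hn _ (by haveI := hchar; infer_instance) hE.1)

end Cfsg.Agent.Helper4.CSC
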