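import Mathlib

set_option autoImplicit false

namespace Cfsg.Agent.Lib.Helper4

/-- `N` is a minimal normal subgroup of `G` -/
def IsMinNormal {G : Type*} [Group G] (N : Subgroup G) : Prop :=
  N.Normal ∧ N ≠ ⊥ ∧ ∀ K : Subgroup G, K.Normal → K ≤ N → K = ⊥ ∨ K = N

/-- a nontrivial normal subgroup of a finite group contains a minimal normal subgroup -/
theorem exists_minNormal_le {G : Type*} [Group G] [Finite G] (L : Subgroup G) (hLn : L.Normal)
    (hL : L ≠ ⊥) : ∃ N : Subgroup G, IsMinNormal N ∧ N ≤ L := by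
  let S : Set (Subgroup G) := {N | N.Normal ∧ N ≠ ⊥ ∧ N ≤ L}
  have hne : S.Nonempty := ⟨L, hLn, hL, le_rfl⟩
  obtain ⟨N, hN, hmin⟩ := wellFounded_lt.has_min S hne
  refine ⟨N, ⟨hN.1, hN.2.1, ?_⟩, hN.2.2⟩
  intro K hKn hKN
  by_cases hK : K = ⊥
  · left; exact hK
  · right
    by_contra hne'
    exact hmin K ⟨hKn, hK, hKN.trans hN.2.2⟩ (lt_of_le_of_ne hKN hne')

theorem exists_minNormal {G : Type*} [Group G] [Finite G] [Nontrivial G] :
    ∃ N : Subgroup G, IsMinNormal N := by
  obtain ⟨N, hN, _⟩ := exists_minNormal_le (⊤ : Subgroup G) inferInstance top_ne_bot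
  exact ⟨N, hN⟩

/-- in a solvable group a minimal normal subgroup is abelian -/
theorem IsMinNormal.le_centralizer {G : Type*} [Group G] [Group.IsSolvable G] {N : Subgroup G}
    (hN : IsMinNormal N) : N ≤ Subgroup.centralizer (N : Set G) := by
  obtain ⟨hNn, hne, hmin⟩ := hN
  have hn : (⁅N, N⁆ : Subgroup G).Normal := Subgroup.commutator_normal N N
  have hlt : ⁅N, N⁆ < N := Group.IsSolvable.commutator_lt_of_ne_bot hne
  rcases hmin _ hn hlt.le with h | h
  · exact Subgroup.commutator_eq_bot_iff_le_centralizer.mp h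
  · exact absurd h hlt.ne

/-- an abelian minimal normal subgroup of a finite group has exponent `p` for some prime `p` -/
theorem IsMinNormal.exists_prime_pow_eq_one {G : Type*} [Group G] [Finite G] {N : Subgroup G}
    (hN : IsMinNormal N) (hcomm : N ≤ Subgroup.centralizer (N : Set G)) :
    ∃ p : ℕ, p.Prime ∧ ∀ x ∈ N, x ^ p = 1 := by
  obtain ⟨hNn, hne, hmin⟩ := hN
  have hMcard : 1 < Nat.card N := by
    rw [Finite.one_lt_card_iff_nontrivial]
    by_contra h
    rw [not_nontrivial_iff_subsingleton] at h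
    exact hne (Subgroup.eq_bot_of_subsingleton N)
  obtain ⟨p, hp, hpd⟩ := Nat.exists_prime_and_dvd (ne_of_gt hMcard)
  have : Fact p.Prime := ⟨hp⟩
  let K : Subgroup G :=
    { carrier := {x | x ∈ N ∧ x ^ p = 1}
      mul_mem' := by
        rintro a b ⟨ha, ha'⟩ ⟨hb, hb'⟩
        refine ⟨N.mul_mem ha hb, ?_⟩
        have hc : Commute a b := Subgroup.mem_centralizer_iff.mp (hcomm hb) a ha
        rw [hc.mul_pow, ha', hb', one_mul]
      one_mem' := ⟨N.one_mem, one_pow p⟩
      inv_mem' := by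
        rintro a ⟨ha, ha'⟩
        exact ⟨N.inv_mem ha, by rw [inv_pow, ha', inv_one]⟩ }
  have hKn : K.Normal := by
    constructor
    rintro a ⟨ha, ha'⟩ g
    exact ⟨hNn.conj_mem a ha g, by rw [conj_pow, ha', mul_one, mul_inv_cancel]⟩
  have hKM : K ≤ N := fun x hx => hx.1
  have hKne : K ≠ ⊥ := by
    obtain ⟨x, hx⟩ := exists_prime_orderOf_dvd_card' (G := N) p hpd
    intro hK
    have hxK : (x : G) ∈ K := by
      refine ⟨x.2, ?_⟩
      have : x ^ p = 1 := by rw [← hx]; exact pow_orderOf_eq_one x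
      have := congrArg Subtype.val this
      simpa using this
    rw [hK, Subgroup.mem_bot] at hxK
    have : x = 1 := Subtype.ext hxK
    rw [this, orderOf_one] at hx
    exact hp.one_lt.ne hx
  have hKeq : K = N := (hmin K hKn hKM).resolve_left hKne
  refine ⟨p, hp, fun x hx => ?_⟩
  have : x ∈ K := by rw [hKeq]; exact hx
  exact this.2

/-- an abelian minimal normal subgroup of a finite group is a `p`-group -/
theorem IsMinNormal.exists_isPGroup {G : Type*} [Group G] [Finite G] {N : Subgroup G}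
    (hN : IsMinNormal N) (hcomm : N ≤ Subgroup.centralizer (N : Set G)) :
    ∃ p : ℕ, p.Prime ∧ IsPGroup p N := by
  obtain ⟨p, hp, h⟩ := hN.exists_prime_pow_eq_one hcomm
  refine ⟨p, hp, fun g => ⟨1, ?_⟩⟩
  rw [pow_one]
  exact Subtype.ext (by simpa using h g g.2)

end Cfsg.Agent.Lib.Helper4
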