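import Cfsg.Prelude.Def_SolvableStructure
import Mathlib

set_option autoImplicit false

namespace Cfsg.Agent.Lib.Helper4

open Cfsg

universe u

/-- `SChain B K`: `K` is reached from `B` by successively adjoining single elements, every
term of the chain after `B` being normal in the whole group. -/
inductive SChain {G : Type u} [Group G] (B : Subgroup G) : Subgroup G → Prop
  | base : SChain B B
  | step {K : Subgroup G} (g : G) : SChain B K → (K ⊔ Subgroup.zpowers g).Normal →
      SChain B (K ⊔ Subgroup.zpowers g)

namespace SChain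

variable {G : Type u} [Group G]

theorem normal {B K : Subgroup G} (hB : B.Normal) (h : SChain B K) : K.Normal := by
  induction h with
  | base => exact hB
  | step g _ hn _ => exact hn

theorem le {B K : Subgroup G} (h : SChain B K) : B ≤ K := by
  induction h with
  | base => exact le_rfl
  | step g _ _ ih => exact ih.trans le_sup_left

theorem trans {A B C : Subgroup G} (h1 : SChain A B) (h2 : SChain B C) : SChain A C := by
  induction h2 with
  | base => exact h1
  | step g _ hn ih => exact SChain.step g ih hn

theorem map {G' : Type*} [Group G'] (f : G →* G') (hf : Function.Surjective f) {B K : Subgroup G}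
    (h : SChain B K) : SChain (B.map f) (K.map f) := by
  induction h with
  | base => exact SChain.base
  | step g _ hn ih =>
    rw [Subgroup.map_sup, MonoidHom.map_zpowers]
    have : ((_ ⊔ Subgroup.zpowers g).map f).Normal := hn.map f hf
    rw [Subgroup.map_sup, MonoidHom.map_zpowers] at this
    exact SChain.step (f g) ih this

theorem comap {G' : Type*} [Group G'] (f : G →* G') (hf : Function.Surjective f)
    {B K : Subgroup G'} (h : SChain B K) : SChain (B.comap f) (K.comap f) := by
  induction h with
  | base => exact SChain.base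
  | @step K g' _ hn ih =>
    obtain ⟨g, rfl⟩ := hf g'
    have key : (K ⊔ Subgroup.zpowers (f g)).comap f = K.comap f ⊔ Subgroup.zpowers g := by
      rw [← Subgroup.comap_sup_eq f _ _ hf, ← MonoidHom.map_zpowers, Subgroup.comap_map_eq,
        ← sup_assoc]
      have : f.ker ≤ K.comap f := by
        intro x hx
        rw [Subgroup.mem_comap, MonoidHom.mem_ker.mp hx]
        exact K.one_mem
      exact sup_eq_left.mpr (this.trans le_sup_left)
    have hn' : ((K ⊔ Subgroup.zpowers (f g)).comap f).Normal := hn.comap f
    rw [key] at hn' ⊢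
    exact SChain.step g ih hn'

end SChain

variable {G : Type u} [Group G]

theorem isSupersolvable_of_sChain (h : SChain (⊥ : Subgroup G) ⊤) : IsSupersolvable G := by
  have key : ∀ K : Subgroup G, SChain (⊥ : Subgroup G) K →
      ∃ (n : ℕ) (H : Fin (n + 1) → Subgroup G),
        H 0 = ⊥ ∧ H (Fin.last n) = K ∧ (∀ i, (H i).Normal) ∧
          ∀ i : Fin n, ∃ g : G, H i.succ = H i.castSucc ⊔ Subgroup.zpowers g := by
    intro K hK
    induction hK with
    | base => exact ⟨0, fun _ => ⊥, rfl, rfl, fun _ => inferInstance, fun i => i.elim0⟩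
    | @step K g _ hn ih =>
      obtain ⟨n, H, h0, hl, hnorm, hstep⟩ := ih
      refine ⟨n + 1, Fin.snoc H (K ⊔ Subgroup.zpowers g), ?_, ?_, ?_, ?_⟩
      · have : (0 : Fin (n + 1 + 1)) = Fin.castSucc (0 : Fin (n + 1)) := rfl
        rw [this, Fin.snoc_castSucc]; exact h0
      · rw [Fin.snoc_last]
      · intro i
        refine Fin.lastCases ?_ (fun j => ?_) i
        · rw [Fin.snoc_last]; exact hn
        · rw [Fin.snoc_castSucc]; exact hnorm j
      · intro i
        refine Fin.lastCases ?_ (fun j => ?_) i
        · refine ⟨g, ?_⟩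
          rw [Fin.succ_last, Fin.snoc_last, Fin.snoc_castSucc, hl]
        · obtain ⟨g', hg'⟩ := hstep j
          refine ⟨g', ?_⟩
          rw [Fin.succ_castSucc, Fin.snoc_castSucc, Fin.snoc_castSucc, hg']
  exact key ⊤ h

theorem sChain_of_isSupersolvable (h : IsSupersolvable G) : SChain (⊥ : Subgroup G) ⊤ := by
  obtain ⟨n, H, h0, hl, hnorm, hstep⟩ := h
  have key : ∀ (i : ℕ) (hi : i < n + 1), SChain (⊥ : Subgroup G) (H ⟨i, hi⟩) := by
    intro i
    induction i with
    | zero => intro hi; have : (⟨0, hi⟩ : Fin (n + 1)) = 0 := rfl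
              rw [this, h0]; exact SChain.base
    | succ i ih =>
      intro hi
      have hi' : i < n := by omega
      obtain ⟨g, hg⟩ := hstep ⟨i, hi'⟩
      have e1 : (⟨i + 1, hi⟩ : Fin (n + 1)) = (⟨i, hi'⟩ : Fin n).succ := rfl
      have e2 : (⟨i, by omega⟩ : Fin (n + 1)) = (⟨i, hi'⟩ : Fin n).castSucc := rfl
      rw [e1, hg]
      refine SChain.step g ?_ ?_
      · rw [← e2]; exact ih (by omega)
      · rw [← hg]; exact hnorm _
  have := key n (by omega)
  have e : (⟨n, by omega⟩ : Fin (n + 1)) = Fin.last n := rfl
  rw [e, hl] at this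
  exact this

theorem isSupersolvable_iff_sChain : IsSupersolvable G ↔ SChain (⊥ : Subgroup G) ⊤ :=
  ⟨sChain_of_isSupersolvable, isSupersolvable_of_sChain⟩

/-- quotients (surjective images) of supersolvable groups are supersolvable -/
theorem isSupersolvable_of_surjective {G' : Type*} [Group G'] (f : G →* G')
    (hf : Function.Surjective f) (h : IsSupersolvable G) : IsSupersolvable G' := by
  have := (sChain_of_isSupersolvable h).map f hf
  rw [Subgroup.map_bot, ← MonoidHom.range_eq_map, MonoidHom.range_eq_top.mpr hf] at this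
  exact isSupersolvable_of_sChain this

theorem isSupersolvable_quotient (N : Subgroup G) [N.Normal] (h : IsSupersolvable G) :
    IsSupersolvable (G ⧸ N) :=
  isSupersolvable_of_surjective (QuotientGroup.mk' N) (QuotientGroup.mk'_surjective N) h

theorem isSupersolvable_of_mulEquiv {G' : Type*} [Group G'] (e : G ≃* G')
    (h : IsSupersolvable G) : IsSupersolvable G' :=
  isSupersolvable_of_surjective e.toMonoidHom e.surjective h

/-- extension of a cyclic normal subgroup by a supersolvable group -/
theorem isSupersolvable_of_cyclic_normal (N : Subgroup G) [hN : N.Normal] (g : G)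
    (hg : N = Subgroup.zpowers g) (h : IsSupersolvable (G ⧸ N)) : IsSupersolvable G := by
  apply isSupersolvable_of_sChain
  have h1 : SChain (⊥ : Subgroup G) N := by
    have : N = ⊥ ⊔ Subgroup.zpowers g := by rw [bot_sup_eq]; exact hg
    rw [this]
    exact SChain.step g SChain.base (by rw [← this]; exact hN)
  have h2 := (sChain_of_isSupersolvable h).comap (QuotientGroup.mk' N) (QuotientGroup.mk'_surjective N)
  rw [MonoidHom.comap_bot, QuotientGroup.ker_mk', Subgroup.comap_top] at h2
  exact h1.trans h2

/-- intersecting a cyclic step with a subgroup gives a cyclic step -/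
theorem exists_inf_eq_sup_zpowers (K H : Subgroup G) [K.Normal] (g : G) :
    ∃ h ∈ (K ⊔ Subgroup.zpowers g) ⊓ H,
      (K ⊔ Subgroup.zpowers g) ⊓ H = (K ⊓ H) ⊔ Subgroup.zpowers h := by
  set π := QuotientGroup.mk' K with hπ
  set C := ((K ⊔ Subgroup.zpowers g) ⊓ H).map π with hC
  have hCle : C ≤ Subgroup.zpowers (π g) := by
    rw [hC, ← MonoidHom.map_zpowers]
    have : (K ⊔ Subgroup.zpowers g).map π = (Subgroup.zpowers g).map π := by
      rw [Subgroup.map_sup]
      have : K.map π = ⊥ := by
        rw [Subgroup.map_eq_bot_iff, hπ, QuotientGroup.ker_mk']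
      rw [this, bot_sup_eq]
    rw [← this]
    exact Subgroup.map_mono inf_le_left
  have hcyc : IsCyclic C := Subgroup.isCyclic_of_le hCle
  obtain ⟨c, hc⟩ := (Subgroup.isCyclic_iff_exists_zpowers_eq_top C).mp hcyc
  have hcC : c ∈ C := by rw [← hc]; exact Subgroup.mem_zpowers c
  obtain ⟨h, hh, rfl⟩ := hcC
  refine ⟨h, hh, le_antisymm ?_ ?_⟩
  · intro x hx
    have hxC : π x ∈ C := Subgroup.mem_map_of_mem _ hx
    rw [← hc] at hxC
    obtain ⟨m, hm⟩ := Subgroup.mem_zpowers_iff.mp hxC
    have hk : x * h ^ (-m) ∈ K := by
      rw [← QuotientGroup.ker_mk' K, MonoidHom.mem_ker, map_mul, map_zpow, ← hπ, ← hm]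
      rw [zpow_neg, mul_inv_cancel]
    have hH : x * h ^ (-m) ∈ H := H.mul_mem hx.2 (H.zpow_mem hh.2 _)
    have : x = (x * h ^ (-m)) * h ^ m := by group
    rw [this]
    exact Subgroup.mul_mem_sup ⟨hk, hH⟩ (Subgroup.zpow_mem_zpowers h m)
  · rw [sup_le_iff]
    refine ⟨inf_le_inf_right _ le_sup_left, ?_⟩
    rw [Subgroup.zpowers_le]
    exact hh

theorem SChain.subgroupOf (H : Subgroup G) {B K : Subgroup G} (hB : B.Normal) (h : SChain B K) :
    SChain (B.subgroupOf H) (K.subgroupOf H) := by
  induction h with
  | base => exact SChain.base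
  | @step K g hK hn ih =>
    have : K.Normal := hK.normal hB
    obtain ⟨h, hh, heq⟩ := exists_inf_eq_sup_zpowers K H g
    have key : (K ⊔ Subgroup.zpowers g).subgroupOf H =
        K.subgroupOf H ⊔ Subgroup.zpowers (⟨h, hh.2⟩ : H) := by
      apply Subgroup.map_injective H.subtype_injective
      rw [Subgroup.subgroupOf_map_subtype, Subgroup.map_sup, Subgroup.subgroupOf_map_subtype,
        MonoidHom.map_zpowers, heq]
      rfl
    have hn' : ((K ⊔ Subgroup.zpowers g).subgroupOf H).Normal := hn.subgroupOf H
    rw [key] at hn' ⊢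
    exact SChain.step _ ih hn'

/-- subgroups of supersolvable groups are supersolvable -/
theorem isSupersolvable_subgroup (H : Subgroup G) (h : IsSupersolvable G) : IsSupersolvable H := by
  have := (sChain_of_isSupersolvable h).subgroupOf H inferInstance
  rw [Subgroup.bot_subgroupOf, Subgroup.top_subgroupOf] at this
  exact isSupersolvable_of_sChain this

/-- a nontrivial finite cyclic normal subgroup contains a normal subgroup of prime order -/
theorem exists_normal_prime_le_zpowers [Finite G] (c : G) (hn : (Subgroup.zpowers c).Normal)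
    (hc : c ≠ 1) :
    ∃ N : Subgroup G, N ≤ Subgroup.zpowers c ∧ N.Normal ∧ (Nat.card N).Prime := by
  set n := orderOf c with hn_def
  have hn1 : n ≠ 1 := by rw [hn_def, Ne, orderOf_eq_one_iff]; exact hc
  have hn0 : 0 < n := orderOf_pos c
  set p := n.minFac with hp_def
  have hp : p.Prime := Nat.minFac_prime hn1
  have hpn : p ∣ n := Nat.minFac_dvd n
  refine ⟨Subgroup.zpowers (c ^ (n / p)), ?_, ?_, ?_⟩
  · rw [Subgroup.zpowers_le]; exact Subgroup.pow_mem _ (Subgroup.mem_zpowers c) _
  · constructor
    intro y hy x
    obtain ⟨k, rfl⟩ := Subgroup.mem_zpowers_iff.mp hy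
    have h1 : x * c * x⁻¹ ∈ Subgroup.zpowers c := hn.conj_mem c (Subgroup.mem_zpowers c) x
    obtain ⟨j, hj⟩ := Subgroup.mem_zpowers_iff.mp h1
    have h2 : x * (c ^ (n / p)) ^ k * x⁻¹ = ((c ^ (n / p)) ^ k) ^ j := by
      have e1 : x * (c ^ (n / p)) ^ k * x⁻¹ = ((x * c * x⁻¹) ^ (n / p)) ^ k := by
        rw [conj_pow, conj_zpow]
      rw [e1, ← hj, ← zpow_natCast, ← zpow_natCast, ← zpow_mul, ← zpow_mul, ← zpow_mul, ← zpow_mul]
      congr 1
      ring
    rw [h2, ← zpow_mul]
    exact Subgroup.zpow_mem_zpowers _ _
  · rw [Nat.card_zpowers, orderOf_pow_of_dvd (Nat.div_pos (Nat.le_of_dvd hn0 hpn) hp.pos).ne'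
      (Nat.div_dvd_of_dvd hpn), ← hn_def, Nat.div_div_self hpn hn0.ne']
    exact hp

/-- in a finite supersolvable group every nontrivial normal subgroup contains a normal subgroup
of prime order -/
theorem SChain.exists_normal_prime_le [Finite G] (A : Subgroup G) [hA : A.Normal] {K : Subgroup G}
    (h : SChain (⊥ : Subgroup G) K) (hAK : A ⊓ K ≠ ⊥) :
    ∃ N : Subgroup G, N ≤ A ∧ N.Normal ∧ (Nat.card N).Prime := by
  induction h with
  | base => exact absurd (inf_bot_eq A) hAK
  | @step K g hK hn ih =>
    by_cases h0 : A ⊓ K = ⊥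
    · have : K.Normal := hK.normal inferInstance
      obtain ⟨c, hc, heq⟩ := exists_inf_eq_sup_zpowers K A g
      rw [inf_comm K A, h0, bot_sup_eq] at heq
      rw [inf_comm] at hAK
      have hc1 : c ≠ 1 := by
        rintro rfl
        rw [Subgroup.zpowers_one_eq_bot] at heq
        exact hAK heq
      have hnorm : (Subgroup.zpowers c).Normal := by
        rw [← heq]; exact Subgroup.normal_inf_normal _ _ (hH := hn) (hK := hA)
      obtain ⟨N, hN1, hN2, hN3⟩ := exists_normal_prime_le_zpowers c hnorm hc1
      refine ⟨N, ?_, hN2, hN3⟩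
      rw [← heq] at hN1
      exact hN1.trans inf_le_right
    · exact ih h0

theorem exists_normal_prime_le_of_isSupersolvable [Finite G] (h : IsSupersolvable G)
    (A : Subgroup G) [A.Normal] (hA : A ≠ ⊥) :
    ∃ N : Subgroup G, N ≤ A ∧ N.Normal ∧ (Nat.card N).Prime :=
  (sChain_of_isSupersolvable h).exists_normal_prime_le A (by rwa [inf_top_eq])

theorem exists_normal_prime_of_isSupersolvable [Finite G] [Nontrivial G] (h : IsSupersolvable G) :
    ∃ N : Subgroup G, N.Normal ∧ (Nat.card N).Prime := by
  obtain ⟨N, -, h2, h3⟩ := exists_normal_prime_le_of_isSupersolvable h ⊤ top_ne_bot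
  exact ⟨N, h2, h3⟩

/-- a cyclic normal subgroup is centralised by the commutator subgroup -/
theorem commutator_le_centralizer_of_cyclic_normal {X : Type*} [Group X] (A : Subgroup X)
    [hn : A.Normal] [hA : IsCyclic A] : commutator X ≤ Subgroup.centralizer (A : Set X) := by
  let _ := (hA.mulAutMulEquiv _).toMonoidHom.commGroupOfInjective (hA.mulAutMulEquiv _).injective
  have h := Abelianization.commutator_subset_ker A.normalizerMonoidHom
  intro x hx
  have hxN : x ∈ Subgroup.normalizer (A : Set X) := by
    rw [Subgroup.normalizer_eq_top]; exact Subgroup.mem_top x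
  have hx' : (⟨x, hxN⟩ : Subgroup.normalizer (A : Set X)) ∈
      commutator (Subgroup.normalizer (A : Set X)) := by
    have hmap : (commutator (Subgroup.normalizer (A : Set X))).map
        (Subgroup.normalizer (A : Set X)).subtype = commutator X := by
      rw [commutator_def, Subgroup.map_commutator, ← MonoidHom.range_eq_map, Subgroup.range_subtype,
        Subgroup.normalizer_eq_top, commutator_def]
    rw [← hmap] at hx
    obtain ⟨y, hy, hyx⟩ := hx
    have : y = ⟨x, hxN⟩ := Subtype.ext hyx
    rw [← this]; exact hy
  have := h hx'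
  rw [Subgroup.normalizerMonoidHom_ker, Subgroup.mem_subgroupOf] at this
  exact this

theorem card_quotient_lt_of_prime [Finite G] (N : Subgroup G) [N.Normal]
    (hN : (Nat.card N).Prime) : Nat.card (G ⧸ N) < Nat.card G := by
  rw [Subgroup.card_eq_card_quotient_mul_card_subgroup N]
  have h0 : 0 < Nat.card (G ⧸ N) := Nat.card_pos
  have := hN.two_le
  nlinarith

/-- induction principle for finite supersolvable groups: go up from `G ⧸ N` to `G` for a normal
subgroup `N` of prime order. -/
theorem isSupersolvable_induction {P : ∀ (G : Type u) [Group G], Prop}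
    (h1 : ∀ (G : Type u) [Group G] [Finite G], Subsingleton G → P G)
    (hstep : ∀ (G : Type u) [Group G] [Finite G] (N : Subgroup G) [N.Normal],
      (Nat.card N).Prime → IsSupersolvable G → IsSupersolvable (G ⧸ N) → P (G ⧸ N) → P G)
    (G : Type u) [Group G] [Finite G] (h : IsSupersolvable G) : P G := by
  suffices H : ∀ (n : ℕ) (G : Type u) [Group G] [Finite G], Nat.card G = n →
      IsSupersolvable G → P G from H _ G rfl h
  intro n
  induction n using Nat.strong_induction_on with
  | _ n ih =>
    intro G _ _ hcard hG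
    rcases subsingleton_or_nontrivial G with hs | hnt
    · exact h1 G hs
    · obtain ⟨N, hN1, hN2⟩ := exists_normal_prime_of_isSupersolvable hG
      have hq := isSupersolvable_quotient N hG
      exact hstep G N hN2 hG hq
        (ih _ (by rw [← hcard]; exact card_quotient_lt_of_prime N hN2) (G ⧸ N) rfl hq)

theorem isSupersolvable_of_subsingleton [Subsingleton G] : IsSupersolvable G := by
  apply isSupersolvable_of_sChain
  have : (⊤ : Subgroup G) = ⊥ := Subsingleton.elim _ _
  rw [this]
  exact SChain.base

/-- `N` normal of prime order with supersolvable quotient -/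
theorem isSupersolvable_of_prime_normal [Finite G] (N : Subgroup G) [N.Normal]
    (hN : (Nat.card N).Prime) (h : IsSupersolvable (G ⧸ N)) : IsSupersolvable G := by
  have : Fact (Nat.card N).Prime := ⟨hN⟩
  have hcyc : IsCyclic N := isCyclic_of_prime_card rfl
  obtain ⟨g, hg⟩ := (Subgroup.isCyclic_iff_exists_zpowers_eq_top N).mp hcyc
  exact isSupersolvable_of_cyclic_normal N g hg.symm h

theorem isSupersolvable_of_isPGroup_aux (p : ℕ) [hp : Fact p.Prime] (n : ℕ) :
    ∀ (G : Type u) [Group G] [Finite G], Nat.card G = n → IsPGroup p G → IsSupersolvable G := by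
  induction n using Nat.strong_induction_on with
  | _ n ih =>
    intro G _ _ hcard hG
    rcases subsingleton_or_nontrivial G with hs | hnt
    · exact isSupersolvable_of_subsingleton
    · have hnt' : Nontrivial (Subgroup.center G) := hG.center_nontrivial
      have hdvd : p ∣ Nat.card (Subgroup.center G) := by
        rcases (hG.to_subgroup (Subgroup.center G)).card_eq_or_dvd with h | h
        · exact absurd h Finite.one_lt_card.ne'
        · exact h
      obtain ⟨z, hz⟩ := exists_prime_orderOf_dvd_card' p hdvd
      set N := Subgroup.zpowers (z : G) with hN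
      have hNn : N.Normal := by
        constructor
        intro y hy x
        have hyc : y ∈ Subgroup.center G := by
          obtain ⟨k, rfl⟩ := Subgroup.mem_zpowers_iff.mp hy
          exact Subgroup.zpow_mem _ z.2 k
        have := Subgroup.mem_center_iff.mp hyc x
        rw [this, mul_inv_cancel_right]
        exact hy
      have hNc : Nat.card N = p := by
        rw [hN, Nat.card_zpowers, Subgroup.orderOf_coe, hz]
      have hlt : Nat.card (G ⧸ N) < n := by
        rw [← hcard]
        exact card_quotient_lt_of_prime N (by rw [hNc]; exact hp.out)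
      exact isSupersolvable_of_prime_normal N (by rw [hNc]; exact hp.out)
        (ih _ hlt (G ⧸ N) rfl (hG.to_quotient N))

/-- finite `p`-groups are supersolvable -/
theorem isSupersolvable_of_isPGroup (p : ℕ) [Fact p.Prime] [Finite G] (hG : IsPGroup p G) :
    IsSupersolvable G :=
  isSupersolvable_of_isPGroup_aux p _ G rfl hG

end Cfsg.Agent.Lib.Helper4
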