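import Cfsg.Prelude.Def_Sporadic_a
import Mathlib

set_option autoImplicit false

namespace Cfsg.Agent.Lib.Helper4

open Cfsg

/-- the binary word that is `1` exactly where `x i ≡ k (mod 4)` -/
def wd (x : GolayPt → ℤ) (k : ℤ) : GolayPt → ZMod 2 := fun i => if x i ≡ k [ZMOD 4] then 1 else 0

theorem zmod2_ne_zero_iff (a : ZMod 2) : a ≠ 0 ↔ a = 1 := by
  revert a; decide

theorem zmod2_eq_zero_or_one (a : ZMod 2) : a = 0 ∨ a = 1 := by
  revert a; decide

/-- a binary word is determined by its support -/
theorem eq_of_support₂_eq {α : Type*} [Fintype α] {u v : α → ZMod 2} (h : support₂ u = support₂ v) :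
    u = v := by
  funext i
  have h1 : i ∈ support₂ u ↔ i ∈ support₂ v := by rw [h]
  simp only [support₂, Finset.mem_filter, Finset.mem_univ, true_and] at h1
  rcases zmod2_eq_zero_or_one (u i) with hu | hu <;> rcases zmod2_eq_zero_or_one (v i) with hv | hv
  · rw [hu, hv]
  · exfalso; rw [hu, hv] at h1; simp at h1
  · exfalso; rw [hu, hv] at h1; simp at h1
  · rw [hu, hv]

theorem support₂_ite {α : Type*} [Fintype α] (p : α → Prop) [DecidablePred p] :
    support₂ (fun i => if p i then (1 : ZMod 2) else 0) = Finset.univ.filter p := by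
  ext i
  simp only [support₂, Finset.mem_filter, Finset.mem_univ, true_and]
  by_cases h : p i <;> simp [h]

theorem filter_mem_supports_iff {α : Type*} [Fintype α] (C : Set (α → ZMod 2)) (p : α → Prop)
    [DecidablePred p] :
    Finset.univ.filter p ∈ supports C ↔ (fun i => if p i then (1 : ZMod 2) else 0) ∈ C := by
  constructor
  · rintro ⟨w, hw, hs⟩
    have : w = (fun i => if p i then (1 : ZMod 2) else 0) := by
      apply eq_of_support₂_eq
      rw [hs, support₂_ite]
    rw [← this]; exact hw
  · intro h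
    exact ⟨_, h, support₂_ite p⟩

theorem mem_leechSet_iff (x : GolayPt → ℤ) :
    x ∈ leechSet ↔ ∃ m : ℤ, (∀ i, x i ≡ m [ZMOD 2]) ∧ (∑ i, x i ≡ 4 * m [ZMOD 8]) ∧
      ∀ k : ℤ, wd x k ∈ golayCode := by
  unfold leechSet
  simp only [Set.mem_ofPred_eq]
  constructor
  · rintro ⟨m, h1, h2, h3⟩
    refine ⟨m, h1, h2, fun k => ?_⟩
    have := (filter_mem_supports_iff (golayCode : Set (GolayPt → ZMod 2)) (fun i => x i ≡ k [ZMOD 4])).mp (h3 k)
    exact this
  · rintro ⟨m, h1, h2, h3⟩
    refine ⟨m, h1, h2, fun k => ?_⟩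
    exact (filter_mem_supports_iff (golayCode : Set (GolayPt → ZMod 2)) (fun i => x i ≡ k [ZMOD 4])).mpr (h3 k)

theorem one_mem_golayCode : (1 : GolayPt → ZMod 2) ∈ golayCode :=
  Submodule.subset_span (Or.inr rfl)

theorem qrWord_mem_golayCode (t : ZMod 23) : qrWord t ∈ golayCode :=
  Submodule.subset_span (Or.inl ⟨t, rfl⟩)

theorem zero_mem_leechSet : (0 : GolayPt → ℤ) ∈ leechSet := by
  rw [mem_leechSet_iff]
  refine ⟨0, fun i => by rfl, by simp, fun k => ?_⟩
  by_cases hk : (0 : ℤ) ≡ k [ZMOD 4]
  · have : wd 0 k = 1 := by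
      funext i; simp [wd, hk]
    rw [this]; exact one_mem_golayCode
  · have : wd 0 k = 0 := by
      funext i; simp [wd, hk]
    rw [this]; exact golayCode.zero_mem

theorem neg_mem_leechSet {x : GolayPt → ℤ} (hx : x ∈ leechSet) : -x ∈ leechSet := by
  rw [mem_leechSet_iff] at hx ⊢
  obtain ⟨m, h1, h2, h3⟩ := hx
  refine ⟨-m, fun i => ?_, ?_, fun k => ?_⟩
  · exact (h1 i).neg
  · simp only [Pi.neg_apply, Finset.sum_neg_distrib]
    have := h2.neg
    rwa [show -(4 * m) = 4 * -m by ring] at this
  · have : wd (-x) k = wd x (-k) := by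
      funext i
      unfold wd
      have : (-x) i ≡ k [ZMOD 4] ↔ x i ≡ -k [ZMOD 4] := by
        simp only [Pi.neg_apply]
        constructor
        · intro h; have := h.neg; rwa [neg_neg] at this
        · intro h; have := h.neg; rwa [neg_neg] at this
      simp only [this]
    rw [this]; exact h3 (-k)

theorem add_mem_leechSet {x y : GolayPt → ℤ} (hx : x ∈ leechSet) (hy : y ∈ leechSet) :
    x + y ∈ leechSet := by
  rw [mem_leechSet_iff] at hx hy ⊢
  obtain ⟨m, h1, h2, h3⟩ := hx
  obtain ⟨m', h1', h2', h3'⟩ := hy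
  refine ⟨m + m', fun i => (h1 i).add (h1' i), ?_, fun k => ?_⟩
  · simp only [Pi.add_apply, Finset.sum_add_distrib]
    have := h2.add h2'
    rwa [show 4 * m + 4 * m' = 4 * (m + m') by ring] at this
  · by_cases hk2 : k ≡ m + m' [ZMOD 2]
    · by_cases hk4 : k ≡ m + m' [ZMOD 4]
      · have : wd (x + y) k = wd x (m + 2) + wd y (m' + 2) + 1 := by
          funext i
          have a1 := h1 i
          have a2 := h1' i
          simp only [wd, Pi.add_apply, Pi.one_apply]
          split_ifs <;> first | rfl | (exfalso; unfold Int.ModEq at *; omega)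
        rw [this]
        exact golayCode.add_mem (golayCode.add_mem (h3 _) (h3' _)) one_mem_golayCode
      · have : wd (x + y) k = wd x (m + 2) + wd y (m' + 2) := by
          funext i
          have a1 := h1 i
          have a2 := h1' i
          simp only [wd, Pi.add_apply]
          split_ifs <;> first | rfl | (exfalso; unfold Int.ModEq at *; omega)
        rw [this]
        exact golayCode.add_mem (h3 _) (h3' _)
    · have : wd (x + y) k = 0 := by
        funext i
        have a1 := h1 i
        have a2 := h1' i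
        simp only [wd, Pi.add_apply, Pi.zero_apply]
        split_ifs <;> first | rfl | (exfalso; unfold Int.ModEq at *; omega)
      rw [this]; exact golayCode.zero_mem

/-- `leechSet` as an additive subgroup -/
def leechSubgroup : AddSubgroup (GolayPt → ℤ) where
  carrier := leechSet
  zero_mem' := zero_mem_leechSet
  add_mem' := add_mem_leechSet
  neg_mem' := neg_mem_leechSet

theorem leechLattice_eq : leechLattice = leechSubgroup := by
  unfold leechLattice
  apply le_antisymm
  · rw [AddSubgroup.closure_le]; exact subset_rfl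
  · exact AddSubgroup.subset_closure

theorem mem_leechLattice_iff (x : GolayPt → ℤ) : x ∈ leechLattice ↔ x ∈ leechSet := by
  rw [leechLattice_eq]; rfl

end Cfsg.Agent.Lib.Helper4
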