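import Cfsg.Agent.Lib.Helper4.Golay

set_option autoImplicit false

namespace Cfsg.Agent.Lib.Helper4

open Cfsg

/-- enumeration of the 24 points -/
def pt (i : Fin 24) : GolayPt := if h : i.val < 23 then some ⟨i.val, h⟩ else none

/-- bit `t` of `masks a` says whether `qrWord t` contains the point `pt a` -/
def masks : Fin 24 → ℕ :=
  ![8047777, 7706947, 7025287, 5661967, 2935327, 5870654, 3352701, 6705402, 5022197, 1655787,
    3311574, 6623148, 4857689, 1326771, 2653542, 5307084, 2225561, 4451122, 513637, 1027274,
    2054548, 4109096, 8218192, 0]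

set_option maxRecDepth 100000 in
theorem pt_bijective : Function.Bijective pt := by
  decide

set_option maxRecDepth 100000 in
theorem masks_correct : ∀ (a : Fin 24) (t : ZMod 23),
    qrWord t (pt a) = if (masks a).testBit t.val then 1 else 0 := by
  decide

set_option maxRecDepth 100000 in
theorem no_four : ∀ a b : Fin 24, a < b → ∀ c : Fin 24, b < c → ∀ d : Fin 24, c < d →
    ∃ t : ZMod 23, (((masks a).testBit t.val ^^ (masks b).testBit t.val) ^^
      ((masks c).testBit t.val ^^ (masks d).testBit t.val)) = true := by
  decide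

end Cfsg.Agent.Lib.Helper4

namespace Cfsg.Agent.Lib.Helper4

open Cfsg

theorem dot₂_eq_sum_support (w v : GolayPt → ZMod 2) : dot₂ w v = ∑ i ∈ support₂ w, v i := by
  unfold dot₂ support₂
  rw [Finset.sum_filter]
  apply Finset.sum_congr rfl
  intro i _
  rcases zmod2_eq_zero_or_one (w i) with h | h <;> simp [h]

theorem bool_sum_contra (p q r s : Bool) (hx : ((p ^^ q) ^^ (r ^^ s)) = true)
    (h0 : (if p then (1 : ZMod 2) else 0) + (if q then 1 else 0) + (if r then 1 else 0) +
      (if s then 1 else 0) = 0) : False := by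
  revert hx h0
  cases p <;> cases q <;> cases r <;> cases s <;> decide

/-- the code has no word of weight four -/
theorem golay_card_ne_four {w : GolayPt → ZMod 2} (hw : w ∈ golayCode) : (support₂ w).card ≠ 4 := by
  intro h4
  let e : Fin 24 ≃ GolayPt := Equiv.ofBijective pt pt_bijective
  let s' : Finset (Fin 24) := (support₂ w).map e.symm.toEmbedding
  have hs' : s'.card = 4 := by rw [Finset.card_map]; exact h4
  let f := s'.orderEmbOfFin hs'
  have hab : f 0 < f 1 := f.strictMono (by decide)
  have hbc : f 1 < f 2 := f.strictMono (by decide)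
  have hcd : f 2 < f 3 := f.strictMono (by decide)
  obtain ⟨t, ht⟩ := no_four (f 0) (f 1) hab (f 2) hbc (f 3) hcd
  have h0 : dot₂ w (qrWord t) = 0 := golay_self_orth hw (qrWord_mem_golayCode t)
  rw [dot₂_eq_sum_support] at h0
  have hsupp : support₂ w = s'.map e.toEmbedding := by
    ext i
    simp only [s', Finset.mem_map, Equiv.coe_toEmbedding]
    constructor
    · intro hi
      exact ⟨e.symm i, ⟨i, hi, rfl⟩, by simp⟩
    · rintro ⟨j, ⟨i', hi', rfl⟩, rfl⟩
      simpa using hi'
  have hs'' : s' = Finset.univ.map f.toEmbedding := (Finset.map_orderEmbOfFin_univ s' hs').symm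
  rw [hsupp, Finset.sum_map, hs'', Finset.sum_map, Fin.sum_univ_four] at h0
  simp only [RelEmbedding.coe_toEmbedding, Equiv.coe_toEmbedding] at h0
  have he : ∀ j, e j = pt j := fun j => rfl
  simp only [he, masks_correct] at h0
  exact bool_sum_contra _ _ _ _ ht h0

/-- nonzero words of the code have weight at least eight -/
theorem golay_min_weight {w : GolayPt → ZMod 2} (hw : w ∈ golayCode) (hne : w ≠ 0) :
    8 ≤ (support₂ w).card := by
  have h4 := golay_doubly_even hw
  have hn4 := golay_card_ne_four hw
  have h0 : (support₂ w).card ≠ 0 := by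
    intro h
    apply hne
    have : support₂ w = ∅ := Finset.card_eq_zero.mp h
    apply eq_of_support₂_eq
    rw [this]
    ext i; simp [support₂]
  obtain ⟨k, hk⟩ := h4
  omega

end Cfsg.Agent.Lib.Helper4
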