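import Cfsg.Agent.Lib.Helper4.CoXi
import Cfsg.Agent.S0359

set_option autoImplicit false
set_option linter.style.haveILetI false
set_option linter.unusedVariables false
set_option linter.unusedSectionVars false

/-! Self-duality of the length-24 code, restriction of code words to a set of points, and the
basic moves (sign changes on code words, coordinate permutations, good matrices) as a
conjugacy relation on the rank-24 lattice. -/

namespace Cfsg.Agent.Helper4.CO

open Cfsg Cfsg.Agent.Lib.Helper4 Cfsg.Agent.Lib.Helper28 Cfsg.Agent.Helper4.LC Cfsg.Agent.S0398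

/-! ### self-duality -/

/-- entries of the non-pivot part of the echelon basis -/
def Aent (j b : Fin 12) : ZMod 2 := if (hm j).testBit (12 + b.val) then 1 else 0

set_option maxRecDepth 1000000 in
theorem Aent_orth : ∀ a b : Fin 12, ∑ j : Fin 12, Aent j a * Aent j b = if a = b then 1 else 0 := by
  decide +kernel

theorem dot₂_hvec (j : Fin 12) (g : GolayPt → ZMod 2) (hg : ∀ k : Fin 12, g (pt (pv k)) = 0) :
    dot₂ (hvec j) g = ∑ b : Fin 12, Aent j b * g (pt (Fin.natAdd 12 b)) := by
  unfold dot₂
  rw [sum_pt]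
  show ∑ a : Fin (12 + 12), hvec j (pt a) * g (pt a) = _
  rw [Fin.sum_univ_add]
  have h1 : ∑ k : Fin 12, hvec j (pt (Fin.castAdd 12 k)) * g (pt (Fin.castAdd 12 k)) = 0 := by
    apply Finset.sum_eq_zero
    intro k _
    have : (Fin.castAdd 12 k : Fin (12 + 12)) = pv k := Fin.ext rfl
    rw [this, hg k, mul_zero]
  rw [h1, zero_add]
  refine Finset.sum_congr rfl fun b _ => ?_
  rw [hvec_apply]
  rfl

theorem zmod2_add_eq_zero : ∀ a b : ZMod 2, a + b = 0 → a = b := by decide

/-- the code is its own orthogonal complement -/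
theorem mem_code_of_orth {f : GolayPt → ZMod 2} (hf : ∀ c ∈ golayCode, dot₂ c f = 0) :
    f ∈ golayCode := by
  rw [mem_golayCode_iff]
  have hsC : (∑ j : Fin 12, f (pt (pv j)) • hvec j) ∈ golayCode :=
    Submodule.sum_mem _ fun j _ => Submodule.smul_mem _ _ (hvec_mem j)
  have hs : ∀ k, (∑ j : Fin 12, f (pt (pv j)) • hvec j) (pt (pv k)) = f (pt (pv k)) := by
    intro k
    rw [Finset.sum_apply]
    simp only [Pi.smul_apply, smul_eq_mul, hvec_apply, hm_pivot]
    simp
  have hg0 : ∀ k : Fin 12, (f + ∑ j : Fin 12, f (pt (pv j)) • hvec j) (pt (pv k)) = 0 := by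
    intro k
    rw [Pi.add_apply, hs k]
    exact CharTwo.add_self_eq_zero _
  have hgorth : ∀ j, dot₂ (hvec j) (f + ∑ j : Fin 12, f (pt (pv j)) • hvec j) = 0 := by
    intro j
    rw [dot₂_add_right, hf _ (hvec_mem j), golay_self_orth (hvec_mem j) hsC, add_zero]
  have h1 : ∀ j, ∑ a : Fin 12,
      Aent j a * (f + ∑ j : Fin 12, f (pt (pv j)) • hvec j) (pt (Fin.natAdd 12 a)) = 0 := by
    intro j
    rw [← dot₂_hvec j _ hg0]; exact hgorth j
  have hg' : ∀ b : Fin 12,
      (f + ∑ j : Fin 12, f (pt (pv j)) • hvec j) (pt (Fin.natAdd 12 b)) = 0 := by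
    intro b
    set g := f + ∑ j : Fin 12, f (pt (pv j)) • hvec j with hg
    have e1 : g (pt (Fin.natAdd 12 b)) =
        ∑ a : Fin 12, (if a = b then (1 : ZMod 2) else 0) * g (pt (Fin.natAdd 12 a)) := by
      simp
    have e2 : ∑ a : Fin 12, (if a = b then (1 : ZMod 2) else 0) * g (pt (Fin.natAdd 12 a)) =
        ∑ j : Fin 12, Aent j b * ∑ a : Fin 12, Aent j a * g (pt (Fin.natAdd 12 a)) := by
      simp_rw [← Aent_orth, Finset.sum_mul, Finset.mul_sum]
      rw [Finset.sum_comm]
      refine Finset.sum_congr rfl fun j _ => Finset.sum_congr rfl fun a _ => ?_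
      ring
    rw [e1, e2]
    apply Finset.sum_eq_zero
    intro j _
    rw [h1 j, mul_zero]
  have hgz : ∀ p, (f + ∑ j : Fin 12, f (pt (pv j)) • hvec j) p = 0 := by
    intro p
    obtain ⟨a, rfl⟩ := pt_bijective.2 p
    by_cases ha : a.val < 12
    · have : a = pv ⟨a.val, ha⟩ := Fin.ext rfl
      rw [this]; exact hg0 _
    · have : a = Fin.natAdd 12 (⟨a.val - 12, by omega⟩ : Fin 12) := by
        apply Fin.ext
        simp only [Fin.coe_natAdd]
        omega
      rw [this]; exact hg' _
  funext p
  exact zmod2_add_eq_zero _ _ (hgz p)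

/-! ### restriction of code words to a set of points -/

theorem mem_supports_of_mem {c : GolayPt → ZMod 2} (hc : c ∈ golayCode) :
    support₂ c ∈ supports (golayCode : Set (GolayPt → ZMod 2)) := ⟨c, hc, rfl⟩

/-- a subset `E` of `S` orthogonal to all code words inside `S` is cut out on `S` by a code word -/
theorem exists_code_inter (S E : Finset GolayPt) (hES : E ⊆ S)
    (h : ∀ d ∈ supports (golayCode : Set (GolayPt → ZMod 2)), d ⊆ S → Even (E ∩ d).card) :
    ∃ c ∈ supports (golayCode : Set (GolayPt → ZMod 2)), c ∩ S = E := by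
  classical
  let W : Submodule (ZMod 2) (GolayPt → ZMod 2) :=
    { carrier := {w | ∀ i ∈ S, w i = 0}
      zero_mem' := fun i _ => rfl
      add_mem' := fun {a b} ha hb i hi => by
        show a i + b i = 0
        rw [ha i hi, hb i hi, add_zero]
      smul_mem' := fun c {a} ha i hi => by
        show c * a i = 0
        rw [ha i hi, mul_zero] }
  have hW : ∀ w, w ∈ W ↔ ∀ i ∈ S, w i = 0 := fun w => Iff.rfl
  have hu : Cfsg.Agent.Lib.Helper28.bind E ∈ golayCode ⊔ W := by
    by_contra hnot
    obtain ⟨φ, hφu, hφR⟩ := Submodule.exists_dual_map_eq_bot_of_notMem hnot inferInstance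
    have hφ : ∀ x, φ x = dot₂ x (fun i => φ (fun j => if i = j then 1 else 0)) := by
      intro x
      rw [LinearMap.pi_apply_eq_sum_univ φ x]
      unfold dot₂
      exact Finset.sum_congr rfl fun i _ => by rw [smul_eq_mul]
    have hR0 : ∀ x ∈ golayCode ⊔ W, φ x = 0 := by
      intro x hx
      have : φ x ∈ Submodule.map φ (golayCode ⊔ W) := Submodule.mem_map_of_mem hx
      rw [hφR] at this
      exact (Submodule.mem_bot _).mp this
    have hfC : (fun i => φ (fun j => if i = j then 1 else 0)) ∈ golayCode := by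
      apply mem_code_of_orth
      intro c hc
      rw [← hφ]
      exact hR0 c (Submodule.mem_sup_left hc)
    have hfS : support₂ (fun i => φ (fun j => if i = j then 1 else 0)) ⊆ S := by
      intro i hi
      by_contra hiS
      have hw : (fun j => if i = j then (1 : ZMod 2) else 0) ∈ W := by
        rw [hW]
        intro j hj
        show (if i = j then (1 : ZMod 2) else 0) = 0
        rw [if_neg (fun hij : i = j => hiS (hij ▸ hj))]
      have h0 := hR0 _ (Submodule.mem_sup_right hw)
      rw [mem_support₂_iff] at hi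
      exact hi h0
    have hev := h _ (mem_supports_of_mem hfC) hfS
    apply hφu
    rw [hφ, dot₂_eq_card]
    have e : support₂ (Cfsg.Agent.Lib.Helper28.bind E) = E := by rw [support₂_eq_bsupp, bsupp_bind]
    rw [e]
    exact (ZMod.natCast_eq_zero_iff _ 2).mpr hev.two_dvd
  obtain ⟨c, hc, w, hw, hcw⟩ := Submodule.mem_sup.mp hu
  refine ⟨support₂ c, mem_supports_of_mem hc, ?_⟩
  ext i
  simp only [Finset.mem_inter, mem_support₂_iff]
  have hi := congrFun hcw i
  simp only [Pi.add_apply] at hi
  constructor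
  · rintro ⟨hic, hiS⟩
    rw [(hW w).mp hw i hiS, add_zero] at hi
    by_contra hiE
    have : Cfsg.Agent.Lib.Helper28.bind E i = 0 := by unfold Cfsg.Agent.Lib.Helper28.bind; rw [if_neg hiE]
    rw [this] at hi
    exact hic hi
  · intro hiE
    have hiS := hES hiE
    rw [(hW w).mp hw i hiS, add_zero] at hi
    have : Cfsg.Agent.Lib.Helper28.bind E i = 1 := by unfold Cfsg.Agent.Lib.Helper28.bind; rw [if_pos hiE]
    rw [this] at hi
    exact ⟨by rw [hi]; decide, hiS⟩

/-! ### conjugacy under the automorphism group -/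

/-- two lattice vectors in the same orbit of the automorphism group -/
def Conj (x y : leechLattice) : Prop := ∃ g : Co0, g • x = y

theorem Conj.refl (x : leechLattice) : Conj x x := ⟨1, one_smul _ _⟩

theorem Conj.symm {x y : leechLattice} (h : Conj x y) : Conj y x := by
  obtain ⟨g, rfl⟩ := h
  exact ⟨g⁻¹, inv_smul_smul g x⟩

theorem Conj.trans {x y z : leechLattice} (h : Conj x y) (h' : Conj y z) : Conj x z := by
  obtain ⟨g, rfl⟩ := h
  obtain ⟨g', rfl⟩ := h'
  exact ⟨g' * g, mul_smul g' g x⟩

theorem Conj.of_eq {x y : leechLattice} (h : (x : GolayPt → ℤ) = y) : Conj x y := by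
  rw [Subtype.ext h]; exact Conj.refl _

theorem conj_sign (c : Finset GolayPt) (hc : c ∈ supports (golayCode : Set (GolayPt → ZMod 2)))
    (x y : leechLattice) (h : (y : GolayPt → ℤ) = signFun c x) : Conj x y :=
  ⟨⟨signPerm c hc, signPerm_mem c hc⟩, Subtype.ext h.symm⟩

theorem conj_perm (σ : Equiv.Perm GolayPt) (hσ : σ ∈ M24) (x y : leechLattice)
    (h : (y : GolayPt → ℤ) = permFun σ x) : Conj x y :=
  ⟨⟨permPerm σ hσ, permPerm_mem σ hσ⟩, Subtype.ext h.symm⟩

theorem conj_mat (A : List (List ℤ)) (hA : GoodMat A) (x y : leechLattice)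
    (h : (y : GolayPt → ℤ) = actV A x) : Conj x y :=
  ⟨matCo0 A hA, Subtype.ext h.symm⟩

/-- the move by a good matrix, on lists -/
theorem conj_matL (A : List (List ℤ)) (hA : GoodMat A) (l : List ℤ) (hl : l.length = 24)
    (x y : leechLattice) (hx : (x : GolayPt → ℤ) = toV l) (hy : (y : GolayPt → ℤ) = toV (actL A l)) :
    Conj x y := by
  apply conj_mat A hA
  rw [hy, hx, toV_actL hA.1 l hl]

theorem conj_sqNorm {x y : leechLattice} (h : Conj x y) :
    sqNorm (y : GolayPt → ℤ) = sqNorm (x : GolayPt → ℤ) := by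
  obtain ⟨g, rfl⟩ := h
  exact g.2.2 x

/-- sign normalisation -/
theorem conj_of_sign {x y : leechLattice}
    (habs : ∀ i, (y : GolayPt → ℤ) i = (x : GolayPt → ℤ) i ∨ (y : GolayPt → ℤ) i = -(x : GolayPt → ℤ) i)
    (hd : ∀ d ∈ supports (golayCode : Set (GolayPt → ZMod 2)),
      (∀ i ∈ d, (x : GolayPt → ℤ) i ≠ 0) →
      Even ((Finset.univ.filter fun i => (y : GolayPt → ℤ) i ≠ (x : GolayPt → ℤ) i) ∩ d).card) :
    Conj x y := by
  classical
  have hES : (Finset.univ.filter fun i => (y : GolayPt → ℤ) i ≠ (x : GolayPt → ℤ) i) ⊆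
      Finset.univ.filter fun i => (x : GolayPt → ℤ) i ≠ 0 := by
    intro i hi
    simp only [Finset.mem_filter, Finset.mem_univ, true_and] at hi ⊢
    intro h0
    rcases habs i with h | h
    · exact hi h
    · rw [h0, neg_zero] at h; exact hi (by rw [h, h0])
  obtain ⟨c, hc, hcE⟩ := exists_code_inter _ _ hES (fun d hd' hdS => hd d hd' (fun i hi => by
    have := hdS hi
    simpa using this))
  apply conj_sign c hc
  funext i
  unfold signFun
  by_cases hic : i ∈ c
  · rw [if_pos hic]
    by_cases h0 : (x : GolayPt → ℤ) i = 0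
    · rcases habs i with h | h
      · rw [h, h0, neg_zero]
      · exact h
    · have : i ∈ c ∩ Finset.univ.filter fun i => (x : GolayPt → ℤ) i ≠ 0 := by
        simp [hic, h0]
      rw [hcE] at this
      simp only [Finset.mem_filter, Finset.mem_univ, true_and] at this
      rcases habs i with h | h
      · exact absurd h this
      · exact h
  · rw [if_neg hic]
    by_contra hne
    have : i ∈ c ∩ Finset.univ.filter fun i => (x : GolayPt → ℤ) i ≠ 0 := by
      rw [hcE]; simp [hne]
    exact hic (Finset.mem_inter.mp this).1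

/-- parity from the difference of two lattice vectors -/
theorem even_card_of_diff {x y : GolayPt → ℤ} (hx : x ∈ leechLattice) (hy : y ∈ leechLattice)
    (F : Finset GolayPt) (h : ∀ i, (x i - y i) % 8 = if i ∈ F then 4 else 0) : Even F.card := by
  have hz : x - y ∈ leechLattice := leechLattice.sub_mem hx hy
  rw [mem_leech_iff] at hz
  have hs : (∑ i, (x - y) i) % 8 = 0 := by
    rcases hz with ⟨_, hs, _⟩ | ⟨ho, _, _⟩
    · exact hs
    · exfalso
      have h1 := ho none
      have h2 := h none
      simp only [Pi.sub_apply] at h1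
      split_ifs at h2 <;> omega
  rw [Finset.sum_int_mod] at hs
  have e : ∑ i, (x - y) i % 8 = ∑ i, (if i ∈ F then (4 : ℤ) else 0) :=
    Finset.sum_congr rfl fun i _ => h i
  rw [e, sum_ite_mem_four] at hs
  rw [Nat.even_iff]
  omega

end Cfsg.Agent.Helper4.CO
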