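import Mathlib
import Cfsg.Agent.H5.SharpTwo

set_option autoImplicit false
set_option linter.style.haveILetI false
set_option linter.deprecated false

/-!
Sharply `k`-transitive actions (Jordan's theorem), in the generality of an abstract group `G`
acting on a type `α`.
-/

namespace Cfsg.Agent.Helper4.SharpTrans

open MulAction Cfsg.H5.SharpTwo

/-- sharply `k`-transitive actions -/
def IsSharp (G : Type*) [Group G] (α : Type*) [MulAction G α] (k : ℕ) : Prop :=
  IsMultiplyPretransitive G α k ∧ ∀ x : Fin k ↪ α, stabilizer G x = ⊥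

section basics

variable {G : Type*} [Group G] {α : Type*} [MulAction G α]

theorem card_fixed_lt {k : ℕ} (hS : IsSharp G α k) {g : G} (hg : g ≠ 1) (F : Finset α)
    (hF : ∀ a ∈ F, g • a = a) : F.card < k := by
  by_contra hcon
  push_neg at hcon
  obtain ⟨F', hF'sub, hF'card⟩ := Finset.exists_subset_card_eq hcon
  let e : Fin k ≃ F' := (Finset.equivFinOfCardEq hF'card).symm
  let y : Fin k ↪ α := e.toEmbedding.trans (Function.Embedding.subtype _)
  have h1 : g ∈ stabilizer G y := by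
    rw [mem_stabilizer_iff]
    ext i
    rw [Function.Embedding.smul_apply]
    exact hF _ (hF'sub (e i).2)
  rw [hS.2 y] at h1
  exact hg (Subgroup.mem_bot.mp h1)

theorem ncard_fixed_lt [Finite α] {k : ℕ} (hS : IsSharp G α k) {g : G} (hg : g ≠ 1) (S : Set α)
    (hF : ∀ a ∈ S, g • a = a) : S.ncard < k := by
  classical
  have hfin : S.Finite := S.toFinite
  rw [Set.ncard_eq_toFinset_card S hfin]
  exact card_fixed_lt hS hg _ (fun a ha => hF a (by simpa using ha))

theorem faithful [Finite α] {k : ℕ} (hS : IsSharp G α k) (hk : k ≤ Nat.card α) (g : G)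
    (hg : ∀ a : α, g • a = a) : g = 1 := by
  by_contra hne
  have := ncard_fixed_lt hS hne Set.univ (fun a _ => hg a)
  rw [Set.ncard_univ] at this
  omega

theorem card_eq [Finite α] {k : ℕ} (hS : IsSharp G α k) (hk : k ≤ Nat.card α) :
    Nat.card G = (Nat.card α).descFactorial k := by
  classical
  haveI : Fintype α := Fintype.ofFinite α
  obtain ⟨x⟩ : Nonempty (Fin k ↪ α) :=
    Function.Embedding.nonempty_of_card_le (by simpa [Nat.card_eq_fintype_card] using hk)
  haveI := hS.1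
  have h1 := index_stabilizer_of_transitive G x
  rw [hS.2 x, Subgroup.index_bot] at h1
  rw [h1, Nat.card_eq_fintype_card, Fintype.card_embedding_eq, Nat.card_eq_fintype_card,
    Fintype.card_fin]

theorem finite_of_sharp [Finite α] {k : ℕ} (hS : IsSharp G α k) (hk : k ≤ Nat.card α) :
    Finite G := by
  apply Nat.finite_of_card_ne_zero
  rw [card_eq hS hk]
  exact (Nat.descFactorial_pos.mpr hk).ne'  -- placeholder

theorem IsSharp.ofStabilizer [Finite α] {k : ℕ} (hS : IsSharp G α (k + 1))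
    (hk : k + 1 ≤ Nat.card α) (a : α) :
    IsSharp (stabilizer G a) (SubMulAction.ofStabilizer G a) k := by
  haveI := hS.1
  haveI : IsPretransitive G α := by
    rw [← is_one_pretransitive_iff]
    exact isMultiplyPretransitive_of_le (n := k + 1) (by omega) hk
  refine ⟨SubMulAction.ofStabilizer.isMultiplyPretransitive.mp hS.1, ?_⟩
  intro y
  rw [eq_bot_iff]
  intro g hg
  rw [mem_stabilizer_iff] at hg
  have h1 : (g : G) ∈ stabilizer G (SubMulAction.ofStabilizer.snoc y) := by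
    rw [mem_stabilizer_iff]
    ext i
    rw [Function.Embedding.smul_apply]
    rcases Fin.eq_castSucc_or_eq_last i with ⟨j, rfl⟩ | rfl
    · rw [SubMulAction.ofStabilizer.snoc_castSucc]
      have := congrArg (fun z : Fin k ↪ SubMulAction.ofStabilizer G a =>
        ((z j : SubMulAction.ofStabilizer G a) : α)) hg
      exact this
    · rw [SubMulAction.ofStabilizer.snoc_last]
      exact g.2
  rw [hS.2] at h1
  exact Subgroup.mem_bot.mpr (Subtype.ext (Subgroup.mem_bot.mp h1))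

theorem eq_one_of_four_fixed (hS : IsSharp G α 4) {g : G} {p q r t : α}
    (hpq : p ≠ q) (hpr : p ≠ r) (hpt : p ≠ t) (hqr : q ≠ r) (hqt : q ≠ t) (hrt : r ≠ t)
    (h1 : g • p = p) (h2 : g • q = q) (h3 : g • r = r) (h4 : g • t = t) : g = 1 := by
  classical
  by_contra hg
  have := card_fixed_lt hS hg {p, q, r, t} (by
    intro a ha
    simp only [Finset.mem_insert, Finset.mem_singleton] at ha
    rcases ha with rfl | rfl | rfl | rfl <;> assumption)
  have hc : ({p, q, r, t} : Finset α).card = 4 := by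
    rw [Finset.card_insert_of_notMem, Finset.card_insert_of_notMem, Finset.card_pair hrt]
    · simp [hqr, hqt]
    · simp [hpq, hpr, hpt]
  omega

end basics

section core

variable {G : Type*} [Group G] {α : Type*} [MulAction G α]

/-- The Frobenius kernel of the stabiliser of two points in a sharply 4-transitive group,
described inside `G`. -/
theorem exists_kernel [Finite G] [Finite α] (hS : IsSharp G α 4) {a b c d : α} (hab : a ≠ b)
    (hca : c ≠ a) (hcb : c ≠ b) (hda : d ≠ a) (hdb : d ≠ b) (hcd : c ≠ d) :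
    ∃ (K : Subgroup G) (p j : ℕ), p.Prime ∧ 1 ≤ j ∧ Nat.card K = p ^ j ∧
      Nat.card α = p ^ j + 2 ∧
      (∀ g ∈ K, g • a = a ∧ g • b = b) ∧
      (∀ g ∈ K, ∀ δ : α, δ ≠ a → δ ≠ b → g • δ = δ → g = 1) ∧
      (∀ δ₁ δ₂ : α, δ₁ ≠ a → δ₁ ≠ b → δ₂ ≠ a → δ₂ ≠ b → ∃ g ∈ K, g • δ₁ = δ₂) ∧
      (∀ g ∈ K, ∀ h ∈ K, g * h = h * g) ∧
      (∀ g ∈ K, g ^ p = 1) ∧
      (∀ g : G, g • a = a → g • b = b → (∀ δ : α, δ ≠ a → δ ≠ b → g • δ ≠ δ) → g ∈ K) ∧
      (∀ c₁ c₂ d₁ d₂ : α, c₁ ≠ a → c₁ ≠ b → c₂ ≠ a → c₂ ≠ b → d₁ ≠ a → d₁ ≠ b → d₂ ≠ a →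
        d₂ ≠ b → c₁ ≠ c₂ → d₁ ≠ d₂ →
        ∃ t : G, t • a = a ∧ t • b = b ∧ t • c₁ = d₁ ∧ t • c₂ = d₂) := by
  classical
  set s : Set α := {a, b} with hs
  have hsn : s.ncard = 2 := Set.ncard_pair hab
  have mem_s : ∀ y, y ∈ s ↔ y = a ∨ y = b := by intro y; simp [hs]
  have nmem_s : ∀ y, y ≠ a → y ≠ b → y ∉ s := by
    intro y h1 h2 h
    rcases (mem_s y).mp h with h | h
    · exact h1 h
    · exact h2 h
  haveI := hS.1
  haveI : IsMultiplyPretransitive (fixingSubgroup G s) (SubMulAction.ofFixingSubgroup G s) 2 :=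
    SubMulAction.ofFixingSubgroup.isMultiplyPretransitive G s (by rw [hsn])
  have hT : TwoTrans (fixingSubgroup G s) (SubMulAction.ofFixingSubgroup G s) := by
    intro c₁ c₂ d₁ d₂ h h'
    exact is_two_pretransitive_iff.mp inferInstance h h'
  have hΓ : ∀ g : fixingSubgroup G s, (g : G) • a = a ∧ (g : G) • b = b := by
    intro g
    have := (mem_fixingSubgroup_iff G).mp g.2
    exact ⟨this a (by simp [hs]), this b (by simp [hs])⟩
  have hΓmem : ∀ g : G, g • a = a → g • b = b → g ∈ fixingSubgroup G s := by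
    intro g ha hb
    rw [mem_fixingSubgroup_iff]
    intro y hy
    rcases (mem_s y).mp hy with rfl | rfl
    · exact ha
    · exact hb
  have hSh : Sharp (fixingSubgroup G s) (SubMulAction.ofFixingSubgroup G s) := by
    intro g c₁ c₂ h12 h1 h2
    have hc₁ : (c₁ : α) ∉ s := c₁.2
    have hc₂ : (c₂ : α) ∉ s := c₂.2
    rw [mem_s] at hc₁ hc₂
    push_neg at hc₁ hc₂
    have e1 : (g : G) • (c₁ : α) = c₁ := congrArg Subtype.val h1
    have e2 : (g : G) • (c₂ : α) = c₂ := congrArg Subtype.val h2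
    have : (g : G) = 1 := eq_one_of_four_fixed hS hab (Ne.symm hc₁.1) (Ne.symm hc₂.1)
      (Ne.symm hc₁.2) (Ne.symm hc₂.2) (fun h => h12 (Subtype.ext h)) (hΓ g).1 (hΓ g).2 e1 e2
    exact Subtype.ext this
  have hn : ∃ c₁ c₂ : SubMulAction.ofFixingSubgroup G s, c₁ ≠ c₂ :=
    ⟨⟨c, nmem_s c hca hcb⟩, ⟨d, nmem_s d hda hdb⟩, fun h => hcd (congrArg Subtype.val h)⟩
  obtain ⟨p, j, hp, hj, hcard, hexp⟩ := exists_prime_exponent hSh hT hn
  have hΔ : Nat.card (SubMulAction.ofFixingSubgroup G s) = sᶜ.ncard := Nat.card_coe_set_eq _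
  refine ⟨(kernel hSh hT hn).map (fixingSubgroup G s).subtype, p, j, hp, hj, ?_, ?_, ?_, ?_, ?_,
    ?_, ?_, ?_, ?_⟩
  · rw [Subgroup.card_map_of_injective (Subgroup.subtype_injective _), card_kernel hSh hT hn, hcard]
  · have := Set.ncard_add_ncard_compl s
    rw [hsn, ← hΔ, hcard] at this
    omega
  · rintro _ ⟨k, -, rfl⟩
    exact hΓ k
  · rintro _ ⟨k, hk, rfl⟩ δ hδa hδb hfix
    have := eq_one_of_mem_kernel_of_smul_eq hSh hT hn hk
      (a := (⟨δ, nmem_s δ hδa hδb⟩ : SubMulAction.ofFixingSubgroup G s)) (Subtype.ext hfix)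
    rw [this]
    rfl
  · intro δ₁ δ₂ h1a h1b h2a h2b
    obtain ⟨k, hk, hk2⟩ := exists_mem_kernel_smul_eq hSh hT hn
      (⟨δ₁, nmem_s δ₁ h1a h1b⟩ : SubMulAction.ofFixingSubgroup G s) ⟨δ₂, nmem_s δ₂ h2a h2b⟩
    exact ⟨k, ⟨k, hk, rfl⟩, congrArg Subtype.val hk2⟩
  · rintro _ ⟨k, hk, rfl⟩ _ ⟨k', hk', rfl⟩
    exact congrArg Subtype.val (kernel_comm hSh hT hn k hk k' hk')
  · rintro _ ⟨k, hk, rfl⟩
    have := congrArg Subtype.val (hexp k hk)
    simpa using this
  · intro g ha hb hfpf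
    refine ⟨⟨g, hΓmem g ha hb⟩, ?_, rfl⟩
    refine (mem_kernel hSh hT hn _).mpr (Or.inr ?_)
    intro δ h
    have hδ : (δ : α) ∉ s := δ.2
    rw [mem_s] at hδ
    push_neg at hδ
    exact hfpf δ hδ.1 hδ.2 (congrArg Subtype.val h)
  · intro c₁ c₂ d₁ d₂ h1 h2 h3 h4 h5 h6 h7 h8 hc hd
    obtain ⟨t, ht1, ht2⟩ := hT (⟨c₁, nmem_s c₁ h1 h2⟩ : SubMulAction.ofFixingSubgroup G s)
      ⟨c₂, nmem_s c₂ h3 h4⟩ ⟨d₁, nmem_s d₁ h5 h6⟩ ⟨d₂, nmem_s d₂ h7 h8⟩
      (fun h => hc (congrArg Subtype.val h)) (fun h => hd (congrArg Subtype.val h))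
    exact ⟨t, (hΓ t).1, (hΓ t).2, congrArg Subtype.val ht1, congrArg Subtype.val ht2⟩

/-- a finite abelian group with an involutory automorphism: the order is the product of the
order of the fixed subgroup and the order of a subgroup of inverted elements -/
theorem card_eq_fix_mul_range {A : Type*} [Group A] [Finite A] (hc : ∀ x y : A, x * y = y * x)
    (φ : A →* A) (hφ : ∀ x, φ (φ x) = x) :
    ∃ F R : Subgroup A, Nat.card A = Nat.card F * Nat.card R ∧ (∀ x, x ∈ F ↔ φ x = x) ∧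
      (∀ y ∈ R, φ y = y⁻¹) := by
  let ψ : A →* A :=
    { toFun := fun x => x⁻¹ * φ x
      map_one' := by simp
      map_mul' := fun x y => by
        rw [map_mul, mul_inv_rev]
        calc y⁻¹ * x⁻¹ * (φ x * φ y) = x⁻¹ * y⁻¹ * (φ x * φ y) := by rw [hc y⁻¹ x⁻¹]
          _ = x⁻¹ * (y⁻¹ * φ x) * φ y := by simp only [mul_assoc]
          _ = x⁻¹ * (φ x * y⁻¹) * φ y := by rw [hc y⁻¹ (φ x)]
          _ = x⁻¹ * φ x * (y⁻¹ * φ y) := by simp only [mul_assoc] }
  refine ⟨ψ.ker, ψ.range, ?_, ?_, ?_⟩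
  · rw [← Subgroup.index_ker ψ]
    exact (Subgroup.card_mul_index ψ.ker).symm
  · intro x
    rw [MonoidHom.mem_ker]
    show x⁻¹ * φ x = 1 ↔ φ x = x
    rw [inv_mul_eq_one]
    exact eq_comm
  · rintro y ⟨x, rfl⟩
    show φ (x⁻¹ * φ x) = (x⁻¹ * φ x)⁻¹
    rw [map_mul, map_inv, hφ, mul_inv_rev, inv_inv]

end core

section main4

variable {G : Type*} [Group G] {α : Type*} [MulAction G α]

theorem conj_smul_eq (v g : G) (y : α) : v • g • y = (v * g * v⁻¹) • (v • y) := by
  simp [mul_smul]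

/-- **Jordan**: a sharply 4-transitive group has degree 4, 5, 6 or 11. -/
theorem card_of_sharp_four [Finite α] (hS : IsSharp G α 4) (h4 : 4 ≤ Nat.card α) :
    Nat.card α = 4 ∨ Nat.card α = 5 ∨ Nat.card α = 6 ∨ Nat.card α = 11 := by
  classical
  haveI : Finite G := finite_of_sharp hS h4
  haveI : Fintype α := Fintype.ofFinite α
  obtain ⟨x⟩ : Nonempty (Fin 4 ↪ α) :=
    Function.Embedding.nonempty_of_card_le (by simpa [Nat.card_eq_fintype_card] using h4)
  obtain ⟨a, ha⟩ : ∃ a, a = x 0 := ⟨_, rfl⟩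
  obtain ⟨b, hb⟩ : ∃ b, b = x 1 := ⟨_, rfl⟩
  obtain ⟨c, hc⟩ : ∃ c, c = x 2 := ⟨_, rfl⟩
  obtain ⟨d, hd⟩ : ∃ d, d = x 3 := ⟨_, rfl⟩
  have hab : a ≠ b := by rw [ha, hb]; exact x.injective.ne (by decide)
  have hca : c ≠ a := by rw [hc, ha]; exact x.injective.ne (by decide)
  have hcb : c ≠ b := by rw [hc, hb]; exact x.injective.ne (by decide)
  have hda : d ≠ a := by rw [hd, ha]; exact x.injective.ne (by decide)
  have hdb : d ≠ b := by rw [hd, hb]; exact x.injective.ne (by decide)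
  have hcd : c ≠ d := by rw [hc, hd]; exact x.injective.ne (by decide)
  obtain ⟨K, p, j, hp, hj, hKcard, hαcard, hK1, hKreg, hKtr, hKcomm, hKexp, hKmem, hG2⟩ :=
    exists_kernel hS hab hca hcb hda hdb hcd
  haveI := hS.1
  obtain ⟨u, hu⟩ := exists_smul_eq G x ((Equiv.swap (0 : Fin 4) 1).toEmbedding.trans x)
  have hux : ∀ i, u • x i = x (Equiv.swap (0 : Fin 4) 1 i) := fun i =>
    congrFun (congrArg (fun f : Fin 4 ↪ α => (f : Fin 4 → α)) hu) i
  have hua : u • a = b := by rw [ha, hb, hux, Equiv.swap_apply_left]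
  have hub : u • b = a := by rw [ha, hb, hux, Equiv.swap_apply_right]
  have huc : u • c = c := by
    rw [hc, hux, Equiv.swap_apply_of_ne_of_ne (by decide) (by decide)]
  have hud : u • d = d := by
    rw [hd, hux, Equiv.swap_apply_of_ne_of_ne (by decide) (by decide)]
  have huu : u * u = 1 := eq_one_of_four_fixed hS hab hca.symm hda.symm hcb.symm hdb.symm hcd
    (by rw [mul_smul, hua, hub]) (by rw [mul_smul, hub, hua]) (by rw [mul_smul, huc, huc])
    (by rw [mul_smul, hud, hud])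
  have hu1 : u ≠ 1 := by
    intro h
    rw [h, one_smul] at hua
    exact hab hua
  have huinv : u⁻¹ = u := inv_eq_of_mul_eq_one_right huu
  have huinvc : u⁻¹ • c = c := by rw [huinv, huc]
  -- membership in `K`
  have hmemK : ∀ g : G, g ∈ K ↔
      (g • a = a ∧ g • b = b) ∧ (g = 1 ∨ ∀ δ : α, δ ≠ a → δ ≠ b → g • δ ≠ δ) := by
    intro g
    constructor
    · intro hg
      refine ⟨hK1 g hg, ?_⟩
      by_cases h1 : g = 1
      · exact Or.inl h1
      · right
        intro δ h2 h3 h4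
        exact h1 (hKreg g hg δ h2 h3 h4)
    · rintro ⟨⟨h1, h2⟩, rfl | h3⟩
      · exact K.one_mem
      · exact hKmem g h1 h2 h3
  have hconj : ∀ v : G, (∀ y, (v⁻¹ • y = a ∨ v⁻¹ • y = b) ↔ (y = a ∨ y = b)) →
      ∀ g ∈ K, v * g * v⁻¹ ∈ K := by
    intro v hv g hg
    rw [hmemK] at hg ⊢
    obtain ⟨⟨ga, gb⟩, hg2⟩ := hg
    have key : ∀ y, (y = a ∨ y = b) → (v * g * v⁻¹) • y = y := by
      intro y hy
      have h1 := (hv y).mpr hy
      have h2 : g • (v⁻¹ • y) = v⁻¹ • y := by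
        rcases h1 with h | h <;> rw [h] <;> assumption
      rw [mul_smul, mul_smul, h2, smul_inv_smul]
    refine ⟨⟨key a (Or.inl rfl), key b (Or.inr rfl)⟩, ?_⟩
    rcases hg2 with rfl | hfpf
    · left; group
    · right
      intro δ hδa hδb h
      have h1 : ¬ (v⁻¹ • δ = a ∨ v⁻¹ • δ = b) := by
        rw [hv δ]; push_neg; exact ⟨hδa, hδb⟩
      push_neg at h1
      apply hfpf (v⁻¹ • δ) h1.1 h1.2
      rw [mul_smul, mul_smul] at h
      calc g • v⁻¹ • δ = v⁻¹ • (v • g • v⁻¹ • δ) := by rw [inv_smul_smul]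
        _ = v⁻¹ • δ := by rw [h]
  have hvu : ∀ y, (u⁻¹ • y = a ∨ u⁻¹ • y = b) ↔ (y = a ∨ y = b) := by
    intro y
    rw [inv_smul_eq_iff, inv_smul_eq_iff, hua, hub]
    exact or_comm
  let φ : K →* K :=
    { toFun := fun k => ⟨u * k * u⁻¹, hconj u hvu k k.2⟩
      map_one' := Subtype.ext (by simp)
      map_mul' := fun k k' => Subtype.ext (by simp [mul_assoc]) }
  have hφval : ∀ k : K, ((φ k : K) : G) = u * k * u⁻¹ := fun k => rfl
  have hφ : ∀ k : K, φ (φ k) = k := by
    intro k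
    apply Subtype.ext
    rw [hφval, hφval, huinv]
    calc u * (u * (k : G) * u) * u = (u * u) * k * (u * u) := by group
      _ = k := by rw [huu, one_mul, mul_one]
  obtain ⟨F, R, hFR, hF, hR⟩ := card_eq_fix_mul_range (A := K)
    (fun x y => Subtype.ext (hKcomm x x.2 y y.2)) φ hφ
  have hιinj : ∀ k k' : K, (k : G) • c = (k' : G) • c → k = k' := by
    intro k k' h
    have h1 : ((k'⁻¹ * k : K) : G) • c = c := by
      rw [Subgroup.coe_mul, Subgroup.coe_inv, mul_smul, h, inv_smul_smul]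
    have h2 := hKreg _ (k'⁻¹ * k).2 c hca hcb h1
    have h3 : k'⁻¹ * k = 1 := Subtype.ext h2
    exact (inv_mul_eq_one.mp h3).symm
  have hιs : ∀ k : K, (k : G) • c ≠ a ∧ (k : G) • c ≠ b := by
    intro k
    constructor
    · intro h
      exact hca (MulAction.injective (k : G) (h.trans (hK1 k k.2).1.symm))
    · intro h
      exact hcb (MulAction.injective (k : G) (h.trans (hK1 k k.2).2.symm))
  have key : ∀ (v : G) (S : Subgroup K), v ≠ 1 →
      (∀ k ∈ S, v • ((k : K) : G) • c = ((k : K) : G) • c) → Nat.card S ≤ 3 := by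
    intro v S hv hfix
    have hinj : Function.Injective (fun k : S => ((k : K) : G) • c) :=
      fun k k' h => Subtype.ext (hιinj _ _ h)
    have h1 : Nat.card S = (Set.range (fun k : S => ((k : K) : G) • c)).ncard := by
      rw [← Nat.card_coe_set_eq, Nat.card_range_of_injective hinj]
    have h2 := ncard_fixed_lt hS hv (Set.range (fun k : S => ((k : K) : G) • c)) (by
      rintro _ ⟨k, rfl⟩
      exact hfix k k.2)
    omega
  -- the element `k₀`
  obtain ⟨k₀, hk₀K, hk₀⟩ := hKtr c d hca hcb hda hdb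
  have hk₀1 : k₀ ≠ 1 := by
    intro h
    rw [h, one_smul] at hk₀
    exact hcd hk₀
  have hk₀F : (⟨k₀, hk₀K⟩ : K) ∈ F := by
    rw [hF]
    apply hιinj
    rw [hφval]
    show (u * k₀ * u⁻¹) • c = k₀ • c
    rw [mul_smul, mul_smul, huinvc, hk₀, hud]
  have hFdvd : Nat.card F ∣ p ^ j := by
    rw [← hKcard]
    exact Subgroup.card_subgroup_dvd_card F
  obtain ⟨i, hij, hFi⟩ := (Nat.dvd_prime_pow hp).mp hFdvd
  have hF3 : Nat.card F ≤ 3 := key u F hu1 (by
    intro k hk
    have h1 : u * (k : G) * u⁻¹ = k := congrArg Subtype.val ((hF k).mp hk)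
    rw [conj_smul_eq u (k : G) c, h1, huc])
  have hFne : Nat.card F ≠ 1 := by
    intro h
    have h1 := Subgroup.card_eq_one.mp h
    rw [h1, Subgroup.mem_bot] at hk₀F
    exact hk₀1 (congrArg Subtype.val hk₀F)
  have hp2 := hp.two_le
  have hi : i = 1 := by
    rcases i with _ | _ | i
    · rw [pow_zero] at hFi
      exact absurd hFi hFne
    · rfl
    · exfalso
      have h1 : p ^ 2 ≤ p ^ (i + 1 + 1) := Nat.pow_le_pow_right hp.pos (by omega)
      have h2 : 4 ≤ p ^ 2 := by nlinarith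
      omega
  subst hi
  rw [pow_one] at hFi
  have hp23 : p = 2 ∨ p = 3 := by omega
  rcases hp23 with rfl | rfl
  · -- p = 2
    have hRF : R ≤ F := by
      intro y hy
      rw [hF, hR y hy]
      have h2 : (y : G) ^ 2 = 1 := hKexp y y.2
      have h3 : y * y = 1 := Subtype.ext (by rw [Subgroup.coe_mul, ← pow_two]; exact h2)
      exact inv_eq_of_mul_eq_one_right h3
    have hRle := Subgroup.card_le_of_le hRF
    have hK4 : 2 ^ j ≤ 4 := by
      rw [← hKcard, hFR, hFi]
      omega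
    have hj2 : j ≤ 2 := by
      by_contra hcon
      push_neg at hcon
      have : 2 ^ 3 ≤ 2 ^ j := Nat.pow_le_pow_right (by norm_num) hcon
      omega
    interval_cases j
    · left; rw [hαcard]; norm_num
    · right; right; left; rw [hαcard]; norm_num
  · -- p = 3
    have hk₀3 : k₀ ^ 3 = 1 := hKexp k₀ hk₀K
    have hk₀inv : k₀⁻¹ ∈ K := K.inv_mem hk₀K
    obtain ⟨d', hd'⟩ : ∃ d', d' = k₀⁻¹ • c := ⟨_, rfl⟩
    have hd's : d' ≠ a ∧ d' ≠ b := by
      rw [hd']
      exact hιs ⟨k₀⁻¹, hk₀inv⟩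
    have hcd' : c ≠ d' := by
      intro h
      rw [hd'] at h
      have := hKreg k₀⁻¹ hk₀inv c hca hcb h.symm
      rw [inv_eq_one] at this
      exact hk₀1 this
    obtain ⟨t, hta, htb, htc, htd⟩ :=
      hG2 c d c d' hca hcb hda hdb hca hcb hd's.1 hd's.2 hcd hcd'
    have hvt : ∀ y, (t⁻¹ • y = a ∨ t⁻¹ • y = b) ↔ (y = a ∨ y = b) := by
      intro y
      rw [inv_smul_eq_iff, inv_smul_eq_iff, hta, htb]
    have htinvc : t⁻¹ • c = c := by rw [inv_smul_eq_iff, htc]
    have htk₀ : t * k₀ * t⁻¹ = k₀⁻¹ := by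
      have h1 := hconj t hvt k₀ hk₀K
      have := hιinj ⟨t * k₀ * t⁻¹, h1⟩ ⟨k₀⁻¹, hk₀inv⟩ (by
        show (t * k₀ * t⁻¹) • c = k₀⁻¹ • c
        rw [mul_smul, mul_smul, htinvc, hk₀, htd, hd'])
      exact congrArg Subtype.val this
    have htt : t * t = 1 := by
      apply eq_one_of_four_fixed hS hab hca.symm hda.symm hcb.symm hdb.symm hcd
      · rw [mul_smul, hta, hta]
      · rw [mul_smul, htb, htb]
      · rw [mul_smul, htc, htc]
      · rw [mul_smul, htd, hd', conj_smul_eq t k₀⁻¹ c, htc,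
          show t * k₀⁻¹ * t⁻¹ = (t * k₀ * t⁻¹)⁻¹ by group, htk₀, inv_inv, hk₀]
    have ht1 : t ≠ 1 := by
      intro h
      rw [h, one_smul] at htd
      have h1 : k₀ = k₀⁻¹ := congrArg Subtype.val (hιinj ⟨k₀, hk₀K⟩ ⟨k₀⁻¹, hk₀inv⟩ (by
        show k₀ • c = k₀⁻¹ • c
        rw [hk₀, ← hd', htd]))
      have h2 : k₀ * k₀ = 1 := by
        nth_rewrite 2 [h1]
        exact mul_inv_cancel k₀
      have h3 := hk₀3
      rw [pow_succ, pow_two, h2, one_mul] at h3
      exact hk₀1 h3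
    have htinv : ∀ k ∈ K, t * k * t⁻¹ = k⁻¹ := by
      intro k hk
      have hk' := hconj t hvt k hk
      have hx : k * (t * k * t⁻¹) ∈ K := K.mul_mem hk hk'
      have htx : t * (k * (t * k * t⁻¹)) * t⁻¹ = k * (t * k * t⁻¹) := by
        have e : t * (k * (t * k * t⁻¹)) * t⁻¹ = (t * k * t⁻¹) * ((t * t) * k * (t * t)⁻¹) := by
          group
        rw [e, htt, one_mul, inv_one, mul_one]
        exact hKcomm _ hk' _ hk
      have hx1 : k * (t * k * t⁻¹) = 1 := by
        by_contra hne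
        have h1 : (k * (t * k * t⁻¹)) • c ≠ c := fun h => hne (hKreg _ hx c hca hcb h)
        have h2 := hιs ⟨_, hx⟩
        have h3 : t • ((k * (t * k * t⁻¹)) • c) = (k * (t * k * t⁻¹)) • c := by
          rw [conj_smul_eq t _ c, htx, htc]
        exact ht1 (eq_one_of_four_fixed hS hab hca.symm (Ne.symm h2.1) hcb.symm (Ne.symm h2.2)
          (Ne.symm h1) hta htb htc h3)
      exact eq_inv_of_mul_eq_one_right hx1
    have hw1 : u * t ≠ 1 := by
      intro h
      have : (u * t) • a = b := by rw [mul_smul, hta, hua]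
      rw [h, one_smul] at this
      exact hab this
    have hRle : Nat.card R ≤ 3 := key (u * t) R hw1 (by
      intro y hy
      have h1 : u * (y : G) * u⁻¹ = (y : G)⁻¹ := by
        have := congrArg Subtype.val (hR y hy)
        rw [hφval] at this
        simpa using this
      rw [mul_smul, conj_smul_eq t (y : G) c, htinv (y : G) y.2, htc,
        conj_smul_eq u ((y : G)⁻¹) c, huc,
        show u * (y : G)⁻¹ * u⁻¹ = (u * (y : G) * u⁻¹)⁻¹ by group, h1, inv_inv])
    have hK9 : 3 ^ j ≤ 9 := by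
      rw [← hKcard, hFR, hFi]
      omega
    have hj2 : j ≤ 2 := by
      by_contra hcon
      push_neg at hcon
      have : 3 ^ 3 ≤ 3 ^ j := Nat.pow_le_pow_right (by norm_num) hcon
      omega
    interval_cases j
    · right; left; rw [hαcard]; norm_num
    · right; right; right; rw [hαcard]; norm_num

end main4

end Cfsg.Agent.Helper4.SharpTrans
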