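import Cfsg.Agent.S0566
import Cfsg.Agent.S0560
import Mathlib

set_option autoImplicit false

/-!
Factorized groups `G = HK`: Wielandt's lemma on permutability of conjugates of normal subgroups of
the factors.
-/

namespace Cfsg.Agent.Lib.Helper4

open scoped Pointwise
open Cfsg.Agent.S0539 Cfsg.Agent.S0566

variable {G : Type*} [Group G]

/-- `G = HK` as a statement about elements -/
def IsFactorized (H K : Subgroup G) : Prop := ∀ g : G, ∃ h ∈ H, ∃ k ∈ K, g = h * k

theorem IsFactorized.symm {H K : Subgroup G} (h : IsFactorized H K) : IsFactorized K H := by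
  intro g
  obtain ⟨a, ha, b, hb, he⟩ := h g⁻¹
  refine ⟨b⁻¹, K.inv_mem hb, a⁻¹, H.inv_mem ha, ?_⟩
  calc g = (g⁻¹)⁻¹ := by group
    _ = (a * b)⁻¹ := by rw [he]
    _ = b⁻¹ * a⁻¹ := by group

/-- a subgroup normal in `H` is fixed by conjugation with elements of `H` -/
theorem conj_smul_eq_of_normal_subgroupOf {A H : Subgroup G} (hA : A ≤ H)
    (hAn : (A.subgroupOf H).Normal) {h : G} (hh : h ∈ H) : MulAut.conj h • A = A := by
  have key : ∀ x ∈ H, ∀ a ∈ A, x * a * x⁻¹ ∈ A := by
    intro x hx a ha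
    have h1 : (⟨a, hA ha⟩ : H) ∈ A.subgroupOf H := Subgroup.mem_subgroupOf.mpr ha
    have h2 := hAn.conj_mem _ h1 ⟨x, hx⟩
    rw [Subgroup.mem_subgroupOf] at h2
    simpa using h2
  ext z
  rw [mem_conj_smul_iff]
  constructor
  · intro hz
    have := key h hh _ hz
    have e : h * (h⁻¹ * z * h) * h⁻¹ = z := by group
    rwa [e] at this
  · intro hz
    have := key h⁻¹ (H.inv_mem hh) z hz
    rwa [inv_inv] at this

/-- **Wielandt's lemma**: if `G = HK`, `A ⊴ H`, `B ⊴ K` and some conjugates of `A` and `B` have a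
subgroup as product set, then all conjugates do. -/
theorem wielandt_permute {H K A B : Subgroup G} (hHK : IsFactorized H K) (hA : A ≤ H)
    (hAn : (A.subgroupOf H).Normal) (hB : B ≤ K) (hBn : (B.subgroupOf K).Normal)
    {u v : G} {S : Subgroup G}
    (hS : (S : Set G) = ((MulAut.conj u • A : Subgroup G) : Set G) *
      ((MulAut.conj v • B : Subgroup G) : Set G)) (x y : G) :
    ∃ S' : Subgroup G, (S' : Set G) = ((MulAut.conj x • A : Subgroup G) : Set G) *
      ((MulAut.conj y • B : Subgroup G) : Set G) := by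
  -- reduce both to `A * B`
  have red : ∀ (p q : G), ∃ w : G, MulAut.conj p • A = MulAut.conj w • A ∧
      MulAut.conj q • B = MulAut.conj w • B := by
    intro p q
    obtain ⟨h, hh, k, hk, he⟩ := hHK (p⁻¹ * q)
    refine ⟨p * h, ?_, ?_⟩
    · rw [map_mul, mul_smul, conj_smul_eq_of_normal_subgroupOf hA hAn hh]
    · have : q = p * h * k := by rw [mul_assoc, ← he]; group
      rw [this, map_mul, mul_smul, conj_smul_eq_of_normal_subgroupOf hB hBn hk]
  obtain ⟨w, hwA, hwB⟩ := red u v
  rw [hwA, hwB] at hS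
  -- `A * B` is the carrier of `conj w⁻¹ • S`
  have hAB : ((MulAut.conj w⁻¹ • S : Subgroup G) : Set G) = (A : Set G) * (B : Set G) := by
    rw [conj_isProd w⁻¹ hS, ← mul_smul, ← mul_smul, ← map_mul, inv_mul_cancel, map_one, one_smul,
      one_smul]
  obtain ⟨w', hw'A, hw'B⟩ := red x y
  refine ⟨MulAut.conj w' • (MulAut.conj w⁻¹ • S), ?_⟩
  rw [conj_isProd w' hAB, ← hw'A, ← hw'B]

end Cfsg.Agent.Lib.Helper4
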