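import Mathlib

set_option autoImplicit false
set_option linter.style.haveILetI false
set_option linter.unusedVariables false
set_option linter.unusedSectionVars false

/-! Abstract simplicity criteria: maximality of a subgroup from the sizes of its orbits
(no sum of orbit sizes divides the degree), and simplicity of a finite group from a maximal
simple subgroup together with a second subgroup. -/

namespace Cfsg.Agent.Helper4.SC

open MulAction

section Max

variable {G : Type*} [Group G] {X : Type*} [MulAction G X]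

theorem stabilizer_subgroup_eq (M : Subgroup G) (α : X) :
    stabilizer M α = (stabilizer G α).subgroupOf M := by
  ext m
  simp only [mem_stabilizer_iff, Subgroup.mem_subgroupOf]
  rfl

/-- A subgroup `H'` containing a point stabiliser is maximal when the only `H'`-invariant
subsets of the orbit that contain the point and whose size divides the size of the orbit are the
`H'`-orbit of the point and the whole orbit. -/
theorem maximal_of_blocks (α : X) (H' : Subgroup G) (hH' : stabilizer G α ≤ H')
    (hprim : ∀ S : Set X, α ∈ S → S ⊆ orbit G α →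
        (∀ h ∈ H', ∀ x ∈ S, h • x ∈ S) →
        S.ncard ∣ (orbit G α).ncard → S = orbit H' α ∨ S = orbit G α)
    (M : Subgroup G) (hM : H' ≤ M) : M = H' ∨ M = ⊤ := by
  set S : Set X := orbit M α with hS
  have h1 : α ∈ S := mem_orbit_self α
  have h2 : S ⊆ orbit G α := by
    rintro _ ⟨m, rfl⟩
    exact ⟨m.1, rfl⟩
  have h3 : ∀ h ∈ H', ∀ x ∈ S, h • x ∈ S := by
    rintro h hh _ ⟨m, rfl⟩
    refine ⟨⟨h, hM hh⟩ * m, ?_⟩
    show ((⟨h, hM hh⟩ * m : M) : G) • α = h • ((m : G) • α)
    rw [Subgroup.coe_mul, mul_smul]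
  have h4 : S.ncard ∣ (orbit G α).ncard := by
    rw [← index_stabilizer, ← index_stabilizer, stabilizer_subgroup_eq]
    exact ⟨M.index, (Subgroup.relIndex_mul_index (hH'.trans hM)).symm⟩
  rcases hprim S h1 h2 h3 h4 with h | h
  · left
    apply le_antisymm _ hM
    intro m hm
    have hm' : m • α ∈ S := ⟨⟨m, hm⟩, rfl⟩
    rw [h] at hm'
    obtain ⟨k, hk⟩ := hm'
    have hk' : (k : G) • α = m • α := hk
    have h5 : (k : G)⁻¹ * m ∈ stabilizer G α := by
      rw [mem_stabilizer_iff, mul_smul, ← hk', inv_smul_smul]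
    have h6 := H'.mul_mem k.2 (hH' h5)
    rwa [mul_inv_cancel_left] at h6
  · right
    rw [eq_top_iff]
    intro g _
    have hg : g • α ∈ S := by rw [h]; exact ⟨g, rfl⟩
    obtain ⟨m, hm⟩ := hg
    have hm' : (m : G) • α = g • α := hm
    have h5 : (m : G)⁻¹ * g ∈ stabilizer G α := by
      rw [mem_stabilizer_iff, mul_smul, ← hm', inv_smul_smul]
    have h6 := M.mul_mem m.2 (hM (hH' h5))
    rwa [mul_inv_cancel_left] at h6

/-- The arithmetic form of the hypothesis of `maximal_of_blocks`: the orbit of the big group is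
the disjoint union of a base `H'`-orbit `O₀` (of size `n₀`) and `k` further `H'`-orbits of sizes
`n i`, and no proper partial sum of the sizes that includes `n₀` divides the total. -/
theorem prim_of_suborbits {k : ℕ} (H' : Subgroup G) (Ωs O₀ : Set X) (O : Fin k → Set X)
    (n₀ : ℕ) (n : Fin k → ℕ)
    (hΩ : ∀ x ∈ Ωs, x ∈ O₀ ∨ ∃ i, x ∈ O i)
    (hO₀ : O₀ ⊆ Ωs) (hO : ∀ i, O i ⊆ Ωs)
    (hfin₀ : O₀.Finite) (hfin : ∀ i, (O i).Finite)
    (hα : ∀ i, Disjoint O₀ (O i)) (hdisj : ∀ i j, i ≠ j → Disjoint (O i) (O j))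
    (hcard₀ : O₀.ncard = n₀) (hcard : ∀ i, (O i).ncard = n i)
    (htrans : ∀ i, ∀ x ∈ O i, ∀ y ∈ O i, ∃ h ∈ H', h • x = y)
    (harith : ∀ I : Finset (Fin k), (n₀ + ∑ i ∈ I, n i) ∣ (n₀ + ∑ i, n i) →
      I = ∅ ∨ I = Finset.univ)
    (S : Set X) (h1 : O₀ ⊆ S) (h2 : S ⊆ Ωs) (h3 : ∀ h ∈ H', ∀ x ∈ S, h • x ∈ S)
    (h4 : S.ncard ∣ Ωs.ncard) : S = O₀ ∨ S = Ωs := by
  classical
  let I : Finset (Fin k) := Finset.univ.filter (fun i => O i ⊆ S)
  have key : ∀ i, (∃ x ∈ O i, x ∈ S) → O i ⊆ S := by
    rintro i ⟨x, hx, hxS⟩ y hy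
    obtain ⟨h, hh, rfl⟩ := htrans i x hx y hy
    exact h3 h hh x hxS
  have hS : ∀ J : Finset (Fin k), (∀ x, x ∈ O₀ ∪ ⋃ i ∈ J, O i ↔ x ∈ O₀ ∨ ∃ i ∈ J, x ∈ O i) := by
    intro J x
    simp only [Set.mem_union, Set.mem_iUnion, exists_prop]
  have hSI : S = O₀ ∪ ⋃ i ∈ I, O i := by
    ext x
    rw [hS]
    constructor
    · intro hx
      rcases hΩ x (h2 hx) with h | ⟨i, hi⟩
      · exact Or.inl h
      · exact Or.inr ⟨i, Finset.mem_filter.mpr ⟨Finset.mem_univ _, key i ⟨x, hi, hx⟩⟩, hi⟩
    · rintro (h | ⟨i, hi, hx⟩)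
      · exact h1 h
      · exact (Finset.mem_filter.mp hi).2 hx
  have hΩU : Ωs = O₀ ∪ ⋃ i ∈ (Finset.univ : Finset (Fin k)), O i := by
    ext x
    rw [hS]
    constructor
    · intro hx
      rcases hΩ x hx with h | ⟨i, hi⟩
      · exact Or.inl h
      · exact Or.inr ⟨i, Finset.mem_univ _, hi⟩
    · rintro (h | ⟨i, _, hx⟩)
      · exact hO₀ h
      · exact hO i hx
  have hcardJ : ∀ J : Finset (Fin k), (O₀ ∪ ⋃ i ∈ J, O i).ncard = n₀ + ∑ i ∈ J, n i := by
    intro J
    have e : (O₀ ∪ ⋃ i ∈ J, O i) =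
        ((hfin₀.toFinset ∪ J.biUnion (fun i => (hfin i).toFinset) : Finset X) : Set X) := by
      ext x
      simp only [Set.mem_union, Set.mem_iUnion, exists_prop, Finset.coe_union,
        Set.Finite.coe_toFinset, Finset.coe_biUnion, Finset.mem_coe]
    rw [e, Set.ncard_coe_finset, Finset.card_union_of_disjoint, Finset.card_biUnion]
    · congr 1
      · rw [← Set.ncard_eq_toFinset_card _ hfin₀, hcard₀]
      · apply Finset.sum_congr rfl
        intro i _
        rw [← Set.ncard_eq_toFinset_card _ (hfin i), hcard i]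
    · intro i _ j _ hij
      rw [Function.onFun, Set.Finite.disjoint_toFinset]
      exact hdisj i j hij
    · rw [Finset.disjoint_biUnion_right]
      intro i _
      rw [Set.Finite.disjoint_toFinset]
      exact hα i
  have h5 : (n₀ + ∑ i ∈ I, n i) ∣ (n₀ + ∑ i, n i) := by
    rw [← hcardJ I, ← hcardJ Finset.univ, ← hSI, ← hΩU]
    exact h4
  rcases harith I h5 with h | h
  · left
    rw [hSI, h]
    simp
  · right
    rw [hSI, h, ← hΩU]

/-- `maximal_of_blocks` for a point stabiliser, in arithmetic form -/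
theorem maximal_of_suborbits {k : ℕ} (α : X) (O : Fin k → Set X) (n : Fin k → ℕ)
    (hΩ : ∀ x ∈ orbit G α, x = α ∨ ∃ i, x ∈ O i)
    (hO : ∀ i, O i ⊆ orbit G α)
    (hfin : ∀ i, (O i).Finite)
    (hα : ∀ i, α ∉ O i) (hdisj : ∀ i j, i ≠ j → Disjoint (O i) (O j))
    (hcard : ∀ i, (O i).ncard = n i)
    (htrans : ∀ i, ∀ x ∈ O i, ∀ y ∈ O i, ∃ h ∈ stabilizer G α, h • x = y)
    (harith : ∀ I : Finset (Fin k), (1 + ∑ i ∈ I, n i) ∣ (1 + ∑ i, n i) →
      I = ∅ ∨ I = Finset.univ)
    (M : Subgroup G) (hM : stabilizer G α ≤ M) : M = stabilizer G α ∨ M = ⊤ := by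
  apply maximal_of_blocks α (stabilizer G α) le_rfl ?_ M hM
  intro S h1 h2 h3 h4
  have horb : orbit (stabilizer G α) α = {α} := by
    ext y
    constructor
    · rintro ⟨h, rfl⟩
      exact h.2
    · rintro rfl
      exact mem_orbit_self _
  rw [horb]
  exact prim_of_suborbits (stabilizer G α) (orbit G α) {α} O 1 n
    (fun x hx => by
      rcases hΩ x hx with h | h
      · exact Or.inl h
      · exact Or.inr h)
    (Set.singleton_subset_iff.mpr (mem_orbit_self α)) hO (Set.finite_singleton α) hfin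
    (fun i => Set.disjoint_singleton_left.mpr (hα i)) hdisj (Set.ncard_singleton α) hcard htrans
    harith S (Set.singleton_subset_iff.mpr h1) h2 h3 h4

/-- a point stabiliser moving a point of the orbit is not normal -/
theorem not_normal_of_moves (α : X) (h : G) (hh : h ∈ stabilizer G α) (x : X)
    (hx : x ∈ orbit G α) (hne : h • x ≠ x) : ¬ (stabilizer G α).Normal := by
  intro hn
  obtain ⟨g, rfl⟩ := hx
  apply hne
  have h1 : g⁻¹ * h * g⁻¹⁻¹ ∈ stabilizer G α := hn.conj_mem h hh g⁻¹
  rw [inv_inv, mem_stabilizer_iff, mul_smul, mul_smul, inv_smul_eq_iff] at h1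
  exact h1

end Max

section Simple

variable {G : Type*} [Group G] [Finite G]

/-- A non-trivial normal subgroup meeting a maximal subgroup trivially has order the index. -/
theorem card_of_disjoint (H : Subgroup G) (hmax : ∀ M : Subgroup G, H ≤ M → M = H ∨ M = ⊤)
    (N : Subgroup G) [N.Normal] (hN : N ≠ ⊥) (hd : Disjoint N H) : Nat.card N = H.index := by
  have hsup : H ⊔ N = ⊤ := by
    rcases hmax (H ⊔ N) le_sup_left with h | h
    · exfalso
      have hle : N ≤ H := by rw [← h]; exact le_sup_right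
      apply hN
      rw [eq_bot_iff]
      exact hd le_rfl hle
    · exact h
  have h1 : N.index = Nat.card H := by
    have := Subgroup.relIndex_sup_right H N
    rw [hsup, Subgroup.relIndex_top_right] at this
    rw [this, Subgroup.relIndex, (Subgroup.subgroupOf_eq_bot).mpr hd, Subgroup.index_bot]
  have h2 := N.card_mul_index
  have h3 := H.card_mul_index
  rw [h1] at h2
  have hpos : 0 < Nat.card H := Nat.card_pos
  have : Nat.card N * Nat.card H = H.index * Nat.card H := by rw [h2, ← h3, mul_comm]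
  exact Nat.eq_of_mul_eq_mul_right hpos this

/-- a normal subgroup meets a simple subgroup trivially or contains it -/
theorem disjoint_or_le (H : Subgroup G) (hHs : IsSimpleGroup H) (N : Subgroup G) [N.Normal] :
    Disjoint N H ∨ H ≤ N := by
  have hn : (N.subgroupOf H).Normal := Subgroup.normal_subgroupOf
  rcases hHs.eq_bot_or_eq_top_of_normal _ hn with h | h
  · exact Or.inl (Subgroup.subgroupOf_eq_bot.mp h)
  · exact Or.inr (Subgroup.subgroupOf_eq_top.mp h)

/-- the dichotomy for normal subgroups when there is a maximal non-normal simple subgroup -/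
theorem top_or_regular (H : Subgroup G) (hHs : IsSimpleGroup H)
    (hmax : ∀ M : Subgroup G, H ≤ M → M = H ∨ M = ⊤) (hnn : ¬ H.Normal)
    (N : Subgroup G) [hNn : N.Normal] (hN : N ≠ ⊥) :
    N = ⊤ ∨ (Disjoint N H ∧ Nat.card N = H.index) := by
  rcases disjoint_or_le H hHs N with h | h
  · exact Or.inr ⟨h, card_of_disjoint H hmax N hN h⟩
  · rcases hmax N h with h' | h'
    · exfalso; apply hnn; rw [← h']; exact hNn
    · exact Or.inl h'

theorem nontrivial_of_not_normal (H : Subgroup G) (hnn : ¬ H.Normal) : Nontrivial G := by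
  by_contra hc
  rw [not_nontrivial_iff_subsingleton] at hc
  apply hnn
  have : H = ⊥ := Subsingleton.elim _ _
  rw [this]
  infer_instance

/-- Simplicity from a maximal simple subgroup `H` and a second simple subgroup `K` which is
larger than the index of `H` and whose index is not a multiple of the index of `H`. -/
theorem simple_of_max_of_simple (H K : Subgroup G) (hHs : IsSimpleGroup H)
    (hKs : IsSimpleGroup K) (hmax : ∀ M : Subgroup G, H ≤ M → M = H ∨ M = ⊤)
    (hnn : ¬ H.Normal) (hK1 : H.index < Nat.card K) (hK2 : ¬ H.index ∣ K.index) :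
    IsSimpleGroup G := by
  haveI := nontrivial_of_not_normal H hnn
  refine ⟨fun N hNn => ?_⟩
  by_cases hN : N = ⊥
  · exact Or.inl hN
  right
  haveI := hNn
  rcases top_or_regular H hHs hmax hnn N hN with h | ⟨_, hc⟩
  · exact h
  exfalso
  rcases disjoint_or_le K hKs N with h | h
  · apply hK2
    rw [← hc]
    have h1 : N.relIndex (K ⊔ N) = Nat.card K := by
      rw [Subgroup.relIndex_sup_right, Subgroup.relIndex, (Subgroup.subgroupOf_eq_bot).mpr h,
        Subgroup.index_bot]
    have hNM : N ≤ K ⊔ N := le_sup_right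
    have h2 : Nat.card N * Nat.card K = Nat.card (K ⊔ N : Subgroup G) := by
      have := (N.subgroupOf (K ⊔ N)).card_mul_index
      rw [Nat.card_congr (Subgroup.subgroupOfEquivOfLe hNM).toEquiv] at this
      rw [← h1]
      exact this
    have h3 : Nat.card (K ⊔ N : Subgroup G) ∣ Nat.card G := Subgroup.card_subgroup_dvd_card _
    have h4 : Nat.card K * K.index = Nat.card G := K.card_mul_index
    rw [← h2, ← h4, mul_comm] at h3
    exact Nat.dvd_of_mul_dvd_mul_left Nat.card_pos h3
  · have := Subgroup.card_le_of_le h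
    omega

/-- Simplicity from a maximal simple subgroup `H` whose index `n` is not a prime power while the
only divisor of `n` congruent to `1` modulo a prime divisor `p` of `n` is `1`. -/
theorem simple_of_max_of_sylow (H : Subgroup G) (hHs : IsSimpleGroup H)
    (hmax : ∀ M : Subgroup G, H ≤ M → M = H ∨ M = ⊤) (hnn : ¬ H.Normal)
    (p : ℕ) [hpp : Fact p.Prime] (hp : p ∣ H.index) (hnp : ∀ k, H.index ≠ p ^ k)
    (hsyl : ∀ d, d ∣ H.index → d % p = 1 → d = 1) : IsSimpleGroup G := by
  haveI := nontrivial_of_not_normal H hnn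
  refine ⟨fun N hNn => ?_⟩
  by_cases hN : N = ⊥
  · exact Or.inl hN
  right
  haveI := hNn
  rcases top_or_regular H hHs hmax hnn N hN with h | ⟨hd, hc⟩
  · exact h
  exfalso
  let P : Sylow p N := default
  have h1 : Nat.card (Sylow p N) = 1 := by
    apply hsyl
    · rw [← hc]
      exact (Sylow.card_dvd_index P).trans (Subgroup.index_dvd_card _)
    · have := card_sylow_modEq_one p N
      unfold Nat.ModEq at this
      rw [this]
      exact Nat.mod_eq_of_lt hpp.out.one_lt
  haveI : Subsingleton (Sylow p N) := (Nat.card_eq_one_iff_unique.mp h1).1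
  haveI : (P : Subgroup N).Characteristic := Sylow.characteristic_of_subsingleton P
  let Q : Subgroup G := (P : Subgroup N).map N.subtype
  haveI : Q.Normal := ConjAct.normal_of_characteristic_of_normal
  have hQN : Q ≤ N := Subgroup.map_subtype_le _
  have hQ : Q ≠ ⊥ := by
    intro h
    have h2 : (P : Subgroup N) = ⊥ := by
      rwa [Subgroup.map_eq_bot_iff_of_injective _ N.subtype_injective] at h
    exact P.ne_bot_of_dvd_card (by rw [hc]; exact hp) h2
  have hQd : Disjoint Q H := hd.mono_left hQN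
  have hcQ := card_of_disjoint H hmax Q hQ hQd
  have h3 : Nat.card Q = Nat.card P :=
    Nat.card_congr (Subgroup.equivMapOfInjective _ _ N.subtype_injective).symm.toEquiv
  obtain ⟨k, hk⟩ := IsPGroup.iff_card.mp P.isPGroup'
  exact hnp k (by rw [← hcQ, h3, hk])

/-- Simplicity from a maximal simple subgroup `H` and a second maximal subgroup `K` containing
no non-trivial normal subgroup, whose index does not divide that of `H`. -/
theorem simple_of_two_max (H K : Subgroup G) (hHs : IsSimpleGroup H)
    (hmax : ∀ M : Subgroup G, H ≤ M → M = H ∨ M = ⊤) (hnn : ¬ H.Normal)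
    (hmaxK : ∀ M : Subgroup G, K ≤ M → M = K ∨ M = ⊤)
    (hcore : ∀ N : Subgroup G, N.Normal → N ≤ K → N = ⊥)
    (hidx : ¬ K.index ∣ H.index) : IsSimpleGroup G := by
  haveI := nontrivial_of_not_normal H hnn
  refine ⟨fun N hNn => ?_⟩
  by_cases hN : N = ⊥
  · exact Or.inl hN
  right
  haveI := hNn
  rcases top_or_regular H hHs hmax hnn N hN with h | ⟨hd, hc⟩
  · exact h
  exfalso
  rcases hmaxK (K ⊔ N) le_sup_left with h | h
  · apply hN
    apply hcore N hNn
    rw [← h]
    exact le_sup_right
  · apply hidx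
    rw [← hc]
    have h1 : N.index ∣ Nat.card K := by
      have := Subgroup.relIndex_sup_right K N
      rw [h, Subgroup.relIndex_top_right] at this
      rw [this]
      exact Subgroup.relIndex_dvd_card _ _
    obtain ⟨c, hc'⟩ := h1
    have h2 := N.card_mul_index
    have h3 := K.card_mul_index
    rw [hc'] at h3
    have hpos : 0 < N.index := Nat.pos_of_ne_zero Subgroup.index_ne_zero_of_finite
    refine ⟨c, ?_⟩
    apply Nat.eq_of_mul_eq_mul_right hpos
    rw [h2, ← h3]
    ring

end Simple

end Cfsg.Agent.Helper4.SC
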