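import Cfsg.Agent.Lib.Helper4.CoTrans32
import Cfsg.Agent.Lib.Helper28.M12Trans
import Cfsg.Agent.Lib.Helper28.M24Multi

set_option autoImplicit false
set_option linter.style.haveILetI false
set_option linter.unusedVariables false
set_option linter.unusedSectionVars false

/-! The automorphism group of the rank-24 lattice is transitive on the vectors of sum of
squares 48. -/

namespace Cfsg.Agent.Helper4.CO

open Cfsg Cfsg.Agent.Lib.Helper4 Cfsg.Agent.Lib.Helper28 Cfsg.Agent.Helper4.LC Cfsg.Agent.S0398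
open scoped Pointwise

/-! ### the four shapes -/

/-- shape `(±2^12, 0^12)` on a dodecad -/
def IsA (x : GolayPt → ℤ) : Prop :=
  ∃ D ∈ dodecads, (∀ i ∈ D, x i = 2 ∨ x i = -2) ∧ ∀ i, i ∉ D → x i = 0

/-- shape `(±4, ±2^8, 0^15)` -/
def IsB (x : GolayPt → ℤ) : Prop :=
  ∃ O ∈ octads, ∃ p, p ∉ O ∧ (x p = 4 ∨ x p = -4) ∧ (∀ i ∈ O, x i = 2 ∨ x i = -2) ∧
    ∀ i, i ∉ O → i ≠ p → x i = 0

/-- shape `(±3^3, ±1^21)` -/
def IsC (x : GolayPt → ℤ) : Prop :=
  ∃ i j k, i ≠ j ∧ i ≠ k ∧ j ≠ k ∧ x i ^ 2 = 9 ∧ x j ^ 2 = 9 ∧ x k ^ 2 = 9 ∧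
    ∀ l, l ≠ i → l ≠ j → l ≠ k → x l ^ 2 = 1

/-- shape `(±5, ±1^23)` -/
def IsD (x : GolayPt → ℤ) : Prop :=
  ∃ k, x k ^ 2 = 25 ∧ ∀ l, l ≠ k → x l ^ 2 = 1

def A0L : List ℤ := [2, 2, 2, 2, 2, 2, 0, 0, 0, 2, 0, 2, 2, 0, 0, 2, 2, 0, 0, 0, 0, 0, 0, 2]
def B0L : List ℤ := [-2, 2, 2, 2, 4, 2, 0, 0, 0, 0, 0, 0, 0, 0, 2, 0, 0, 2, 0, 0, 0, 0, 0, 2]
def C0L : List ℤ :=
  [3, 3, 3, -1, -1, -1, -1, -1, -1, -1, -1, -1, -1, -1, -1, -1, -1, -1, -1, -1, -1, -1, -1, -1]
def D0L : List ℤ :=
  [-1, -1, -1, -1, -1, -1, -1, -1, -1, -1, -1, -1, -1, -1, -1, -1, -1, -1, -1, -1, -1, -1, -1, -5]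
def a1L : List ℤ := [-2, -2, -2, 2, 2, 2, 0, 0, 0, 2, 0, 2, 2, 0, 0, -2, 2, 0, 0, 0, 0, 0, 0, 2]
def xa1L : List ℤ :=
  [0, 0, 0, -4, 0, 0, -2, -2, 0, 0, -2, 0, 0, 0, -2, -2, 2, -2, 0, 0, 0, 0, -2, 0]
def c1L : List ℤ :=
  [-3, -3, 3, 1, -1, -1, -1, -1, 1, -1, -1, 1, 1, -1, -1, 1, -1, 1, 1, 1, 1, 1, -1, -1]
def xc1L : List ℤ := [2, 2, -4, -2, 0, 0, 0, 0, 0, 0, 0, 2, 2, -2, 0, 0, -2, 2, 0, 0, 0, 0, 0, 0]
def d1L : List ℤ :=
  [1, -1, 1, 1, -1, -1, -1, 1, -1, 1, 1, 1, 1, 1, -1, -1, -1, 1, -1, 1, -1, -1, 1, -5]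
def xd1L : List ℤ := [0, 2, 0, 0, -2, 2, -2, 0, 0, 0, 0, 0, 0, 2, 2, 0, 0, 4, 0, 2, 0, 0, 0, -2]

set_option maxRecDepth 1000000 in
theorem A0L_in : InLP A0L := by decide +kernel
set_option maxRecDepth 1000000 in
theorem B0L_in : InLP B0L := by decide +kernel
set_option maxRecDepth 1000000 in
theorem C0L_in : InLP C0L := by decide +kernel
set_option maxRecDepth 1000000 in
theorem D0L_in : InLP D0L := by decide +kernel
set_option maxRecDepth 1000000 in
theorem a1L_in : InLP a1L := by decide +kernel
set_option maxRecDepth 1000000 in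
theorem xa1L_in : InLP xa1L := by decide +kernel
set_option maxRecDepth 1000000 in
theorem c1L_in : InLP c1L := by decide +kernel
set_option maxRecDepth 1000000 in
theorem xc1L_in : InLP xc1L := by decide +kernel
set_option maxRecDepth 1000000 in
theorem d1L_in : InLP d1L := by decide +kernel
set_option maxRecDepth 1000000 in
theorem xd1L_in : InLP xd1L := by decide +kernel

set_option maxRecDepth 1000000 in
theorem xi_a1 : actL xiMat a1L = xa1L := by decide +kernel
set_option maxRecDepth 1000000 in
theorem xi_c1 : actL xiMat c1L = xc1L := by decide +kernel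
set_option maxRecDepth 1000000 in
theorem xi_d1 : actL xiMat d1L = xd1L := by decide +kernel

set_option maxRecDepth 1000000 in
theorem A0L_eq : toV A0L = twoVec (Cfsg.Agent.Lib.Helper28.bind baseDodecad) := by decide +kernel

set_option maxRecDepth 1000000 in
theorem B0L_eq : toV B0L =
    twoVec (Cfsg.Agent.Lib.Helper28.bind baseOctad) + (E (some 4) - E (some 0)) := by
  decide +kernel

set_option maxRecDepth 1000000 in
theorem B0_pts : (some 0 : GolayPt) ∈ baseOctad ∧ (some 4 : GolayPt) ∉ baseOctad := by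
  decide +kernel

/-- the vector `(3 at i, j, k; -1 elsewhere)` -/
def cVec (i j k : GolayPt) : GolayPt → ℤ := fun l => if l = i ∨ l = j ∨ l = k then 3 else -1

/-- the vector `(-5 at k; -1 elsewhere)` -/
def dVec (k : GolayPt) : GolayPt → ℤ := fun l => if l = k then -5 else -1

set_option maxRecDepth 1000000 in
theorem C0L_eq : toV C0L = cVec (some 0) (some 1) (some 2) := by decide +kernel

set_option maxRecDepth 1000000 in
theorem D0L_eq : toV D0L = dVec none := by decide +kernel

set_option maxRecDepth 1000000 in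
theorem a1L_A : (∀ i ∈ baseDodecad, toV a1L i = 2 ∨ toV a1L i = -2) ∧
    ∀ i, i ∉ baseDodecad → toV a1L i = 0 := by decide +kernel

set_option maxRecDepth 1000000 in
theorem c1L_C : toV c1L (some 0) ^ 2 = 9 ∧ toV c1L (some 1) ^ 2 = 9 ∧ toV c1L (some 2) ^ 2 = 9 ∧
    ∀ l : GolayPt, l ≠ some 0 → l ≠ some 1 → l ≠ some 2 → toV c1L l ^ 2 = 1 := by decide +kernel

set_option maxRecDepth 1000000 in
theorem d1L_D : toV d1L none ^ 2 = 25 ∧ ∀ l : GolayPt, l ≠ none → toV d1L l ^ 2 = 1 := by
  decide +kernel

set_option maxRecDepth 1000000 in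
theorem maskB_facts : (IsCodeMask 4441280 ∧
    (Finset.univ.filter fun a : Fin 24 => (4441280 : ℕ).testBit a.val = true).card = 8) ∧
    (IsCodeMask 210955 ∧
    (Finset.univ.filter fun a : Fin 24 => (210955 : ℕ).testBit a.val = true).card = 8) ∧
    (IsCodeMask 8937586 ∧
    (Finset.univ.filter fun a : Fin 24 => (8937586 : ℕ).testBit a.val = true).card = 8) := by
  decide +kernel

set_option maxRecDepth 1000000 in
theorem xa1L_B : (some 3 : GolayPt) ∉ maskSet 4441280 ∧
    (toV xa1L (some 3) = 4 ∨ toV xa1L (some 3) = -4) ∧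
    (∀ i ∈ maskSet 4441280, toV xa1L i = 2 ∨ toV xa1L i = -2) ∧
    ∀ i, i ∉ maskSet 4441280 → i ≠ some 3 → toV xa1L i = 0 := by decide +kernel

set_option maxRecDepth 1000000 in
theorem xc1L_B : (some 2 : GolayPt) ∉ maskSet 210955 ∧
    (toV xc1L (some 2) = 4 ∨ toV xc1L (some 2) = -4) ∧
    (∀ i ∈ maskSet 210955, toV xc1L i = 2 ∨ toV xc1L i = -2) ∧
    ∀ i, i ∉ maskSet 210955 → i ≠ some 2 → toV xc1L i = 0 := by decide +kernel

set_option maxRecDepth 1000000 in
theorem xd1L_B : (some 17 : GolayPt) ∉ maskSet 8937586 ∧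
    (toV xd1L (some 17) = 4 ∨ toV xd1L (some 17) = -4) ∧
    (∀ i ∈ maskSet 8937586, toV xd1L i = 2 ∨ toV xd1L i = -2) ∧
    ∀ i, i ∉ maskSet 8937586 → i ≠ some 17 → toV xd1L i = 0 := by decide +kernel

/-! ### normal forms -/

theorem dodecad_bind_mem {D : Finset GolayPt} (hD : D ∈ dodecads) :
    Cfsg.Agent.Lib.Helper28.bind D ∈ golayCode ∧ D.card = 12 := (mem_dodecads_iff D).mp hD

theorem mem_supports_bind {O : Finset GolayPt}
    (h : Cfsg.Agent.Lib.Helper28.bind O ∈ golayCode) :
    O ∈ supports (golayCode : Set (GolayPt → ZMod 2)) :=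
  (mem_supports_golayCode_iff O).mpr h

/-- cardinality of the symmetric difference of two code words, via their intersection -/
theorem supports_inter_card {d d' : Finset GolayPt}
    (hd : d ∈ supports (golayCode : Set (GolayPt → ZMod 2)))
    (hd' : d' ∈ supports (golayCode : Set (GolayPt → ZMod 2))) :
    ∃ n, (n = 0 ∨ n = 8 ∨ n = 12 ∨ n = 16 ∨ n = 24) ∧ n + 2 * (d ∩ d').card = d.card + d'.card := by
  obtain ⟨c, hc, rfl⟩ := hd
  obtain ⟨c', hc', rfl⟩ := hd'
  refine ⟨(support₂ (c + c')).card, ?_, card_support₂_add c c'⟩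
  exact supports_card (mem_supports_of_mem (golayCode.add_mem hc hc'))

theorem conj_A (x : leechLattice) (h : IsA x) : Conj x (mkL A0L A0L_in) := by
  classical
  obtain ⟨D, hD, hon, hoff⟩ := h
  obtain ⟨hDc, hD12⟩ := dodecad_bind_mem hD
  have step1 : Conj x ⟨twoVec (Cfsg.Agent.Lib.Helper28.bind D), twoVec_mem hDc⟩ := by
    apply conj_of_sign
    · intro k
      show twoVec _ k = _ ∨ twoVec _ k = _
      rw [twoVec_bind_apply]
      by_cases hk : k ∈ D
      · rw [if_pos hk]
        rcases hon k hk with h | h <;> rw [h] <;> simp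
      · rw [if_neg hk, hoff k hk]; simp
    · intro d hd hne
      have hsub : d ⊆ D := by
        intro k hk
        by_contra hkn
        exact hne k hk (hoff k hkn)
      have hcard : d.card ≤ 12 := hD12 ▸ Finset.card_le_card hsub
      obtain ⟨n, hn, hn2⟩ := supports_inter_card hd (mem_supports_bind hDc)
      rw [Finset.inter_eq_left.mpr hsub, hD12] at hn2
      rcases supports_card hd with h | h | h | h | h
      · rw [Finset.card_eq_zero.mp h, Finset.inter_empty]; exact ⟨0, rfl⟩
      · exfalso; omega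
      · have hdD : d = D := Finset.eq_of_subset_of_card_le hsub (by omega)
        apply even_card_of_diff (twoVec_mem hDc) x.2
        intro k
        rw [twoVec_bind_apply]
        simp only [Finset.mem_inter, Finset.mem_filter, Finset.mem_univ, true_and, hdD,
          twoVec_bind_apply]
        by_cases hk : k ∈ D
        · rw [if_pos hk]
          rcases hon k hk with h | h
          · rw [h, if_neg (by simp)]; norm_num
          · rw [h, if_pos ⟨by norm_num, hk⟩]; norm_num
        · rw [if_neg hk, hoff k hk, if_neg (by simp [hk])]; norm_num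
      all_goals omega
  refine step1.trans ?_
  obtain ⟨g, hg, hgD⟩ := M24_dodecad_transitive hD baseDodecad_mem
  apply conj_perm g⁻¹ (M24.inv_mem hg)
  rw [mkL_coe, A0L_eq]
  funext k
  show twoVec _ k = twoVec _ (g⁻¹ k)
  rw [twoVec_bind_apply, twoVec_bind_apply, ← hgD]
  have : k ∈ g • D ↔ g⁻¹ k ∈ D := by
    rw [← Finset.inv_smul_mem_iff]
    rfl
  by_cases hk : g⁻¹ k ∈ D
  · rw [if_pos hk, if_pos (this.mpr hk)]
  · rw [if_neg hk, if_neg (fun h => hk (this.mp h))]

theorem E_apply (i k : GolayPt) : E i k = if k = i then 4 else 0 := by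
  simp only [E, Pi.single_apply]

theorem conj_B (x : leechLattice) (h : IsB x) : Conj x (mkL B0L B0L_in) := by
  classical
  obtain ⟨O, hO, p, hpO, hp, hon, hoff⟩ := h
  obtain ⟨hOc, hO8⟩ := octad_bind_mem hO
  obtain ⟨a, haO⟩ : ∃ a, a ∈ O := Finset.card_pos.mp (by omega)
  have hpa : p ≠ a := fun h => hpO (h ▸ haO)
  have hEΛ : E p - E a ∈ leechLattice := by
    obtain ⟨_, ⟨h4, h8, _⟩⟩ := E_facts p a hpa
    exact mem_of_four h4 h8
  have hyΛ : twoVec (Cfsg.Agent.Lib.Helper28.bind O) + (E p - E a) ∈ leechLattice :=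
    leechLattice.add_mem (twoVec_mem hOc) hEΛ
  have hy : ∀ k, (twoVec (Cfsg.Agent.Lib.Helper28.bind O) + (E p - E a)) k =
      (if k ∈ O then 2 else 0) + ((if k = p then 4 else 0) - (if k = a then 4 else 0)) := by
    intro k
    simp only [Pi.add_apply, Pi.sub_apply, twoVec_bind_apply, E_apply]
  have step1 : Conj x ⟨_, hyΛ⟩ := by
    apply conj_of_sign
    · intro k
      show (twoVec _ + (E p - E a)) k = _ ∨ (twoVec _ + (E p - E a)) k = _
      rw [hy]
      by_cases hk : k ∈ O
      · have hkp : k ≠ p := fun h => hpO (h ▸ hk)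
        rw [if_pos hk, if_neg hkp]
        by_cases hka : k = a
        · rw [if_pos hka]; rcases hon k hk with h | h <;> rw [h] <;> simp
        · rw [if_neg hka]; rcases hon k hk with h | h <;> rw [h] <;> simp
      · have hka : k ≠ a := fun h => hk (h ▸ haO)
        rw [if_neg hk, if_neg hka]
        by_cases hkp : k = p
        · rw [if_pos hkp, hkp]; rcases hp with h | h <;> rw [h] <;> simp
        · rw [if_neg hkp, hoff k hk hkp]; simp
    · intro d hd hne
      have hsub : d ⊆ insert p O := by
        intro k hk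
        by_contra hkn
        simp only [Finset.mem_insert, not_or] at hkn
        exact hne k hk (hoff k hkn.2 hkn.1)
      have hcard : d.card ≤ 9 := by
        have := Finset.card_le_card hsub
        rw [Finset.card_insert_of_notMem hpO, hO8] at this
        exact this
      rcases supports_card hd with h | h | h | h | h
      · rw [Finset.card_eq_zero.mp h, Finset.inter_empty]; exact ⟨0, rfl⟩
      · -- `d` is the octad itself
        obtain ⟨n, hn, hn2⟩ := supports_inter_card hd (mem_supports_bind hOc)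
        rw [h, hO8] at hn2
        have h7 : 7 ≤ (d ∩ O).card := by
          have h1 : d.erase p ⊆ d ∩ O := by
            intro k hk
            rw [Finset.mem_erase] at hk
            rw [Finset.mem_inter]
            refine ⟨hk.2, ?_⟩
            have := hsub hk.2
            rw [Finset.mem_insert] at this
            rcases this with h' | h'
            · exact absurd h' hk.1
            · exact h'
          have h2 := Finset.card_le_card h1
          have h3 := Finset.pred_card_le_card_erase (s := d) (a := p)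
          omega
        have h8 : (d ∩ O).card ≤ 8 := by
          have := Finset.card_le_card (Finset.inter_subset_left (s₁ := d) (s₂ := O))
          omega
        have hdO8 : (d ∩ O).card = 8 := by omega
        have hdO : d = O := by
          have h1 : d ∩ O = d :=
            Finset.eq_of_subset_of_card_le Finset.inter_subset_left (by omega)
          have h2 : d ⊆ O := Finset.inter_eq_left.mp h1
          exact Finset.eq_of_subset_of_card_le h2 (by omega)
        apply even_card_of_diff hyΛ x.2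
        intro k
        show ((twoVec _ + (E p - E a)) k - (x : GolayPt → ℤ) k) % 8 = _
        rw [hy]
        simp only [Finset.mem_inter, Finset.mem_filter, Finset.mem_univ, true_and, hdO]
        by_cases hk : k ∈ O
        · have hkp : k ≠ p := fun h => hpO (h ▸ hk)
          rw [if_pos hk, if_neg hkp]
          by_cases hka : k = a
          · rw [if_pos hka]
            rcases hon k hk with h | h
            · have hne' : (twoVec (Cfsg.Agent.Lib.Helper28.bind O) + (E p - E a)) k ≠
                  (x : GolayPt → ℤ) k := by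
                rw [hy, if_pos hk, if_neg hkp, if_pos hka, h]; norm_num
              rw [if_pos ⟨hne', hk⟩, h]; norm_num
            · have hne' : ¬ ((twoVec (Cfsg.Agent.Lib.Helper28.bind O) + (E p - E a)) k ≠
                  (x : GolayPt → ℤ) k) := by
                rw [hy, if_pos hk, if_neg hkp, if_pos hka, h]; norm_num
              rw [if_neg (fun hh => hne' hh.1), h]; norm_num
          · rw [if_neg hka]
            rcases hon k hk with h | h
            · have hne' : ¬ ((twoVec (Cfsg.Agent.Lib.Helper28.bind O) + (E p - E a)) k ≠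
                  (x : GolayPt → ℤ) k) := by
                rw [hy, if_pos hk, if_neg hkp, if_neg hka, h]; norm_num
              rw [if_neg (fun hh => hne' hh.1), h]; norm_num
            · have hne' : (twoVec (Cfsg.Agent.Lib.Helper28.bind O) + (E p - E a)) k ≠
                  (x : GolayPt → ℤ) k := by
                rw [hy, if_pos hk, if_neg hkp, if_neg hka, h]; norm_num
              rw [if_pos ⟨hne', hk⟩, h]; norm_num
        · have hka : k ≠ a := fun h => hk (h ▸ haO)
          have hF : ¬ ((twoVec (Cfsg.Agent.Lib.Helper28.bind O) + (E p - E a)) k ≠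
              (x : GolayPt → ℤ) k ∧ k ∈ O) := fun hh => hk hh.2
          rw [if_neg hk, if_neg hka, if_neg hF]
          by_cases hkp : k = p
          · rw [if_pos hkp, hkp]; rcases hp with h | h <;> rw [h] <;> norm_num
          · rw [if_neg hkp, hoff k hk hkp]; norm_num
      all_goals omega
  refine step1.trans ?_
  obtain ⟨g, hg, hgO, hga, hgp⟩ :=
    M24_flag_antiflag_transitive hO baseOctad_mem haO hpO B0_pts.1 B0_pts.2
  apply conj_perm g⁻¹ (M24.inv_mem hg)
  rw [mkL_coe, B0L_eq]
  funext k
  show (twoVec _ + (E (some 4) - E (some 0))) k = (twoVec _ + (E p - E a)) (g⁻¹ k)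
  rw [hy]
  simp only [Pi.add_apply, Pi.sub_apply, twoVec_bind_apply, E_apply]
  have h1 : k ∈ baseOctad ↔ g⁻¹ k ∈ O := by
    rw [← hgO, ← Finset.inv_smul_mem_iff]
    rfl
  have h2 : k = some 4 ↔ g⁻¹ k = p := by
    rw [← hgp]
    constructor
    · intro h; rw [h]; simp
    · intro h; rw [← h]; simp
  have h3 : k = some 0 ↔ g⁻¹ k = a := by
    rw [← hga]
    constructor
    · intro h; rw [h]; simp
    · intro h; rw [← h]; simp
  simp only [h1, h2, h3]

/-- sign normalisation of a vector with odd coordinates -/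
theorem conj_oddNorm (x : leechLattice) (hodd : ∀ i, (x : GolayPt → ℤ) i % 2 = 1) :
    ∃ y : leechLattice, Conj x y ∧ (∀ i, (y : GolayPt → ℤ) i % 4 = 3) ∧
      ∀ i, (y : GolayPt → ℤ) i ^ 2 = (x : GolayPt → ℤ) i ^ 2 := by
  have hx := x.2
  rw [mem_leech_iff] at hx
  have hc : wd (x : GolayPt → ℤ) 1 ∈ golayCode := by
    rcases hx with ⟨he, _, _⟩ | ⟨_, _, h⟩
    · exfalso
      have := he none
      have := hodd none
      omega
    · exact h
  have hsup := mem_supports_of_mem hc
  have hyΛ : signFun (support₂ (wd (x : GolayPt → ℤ) 1)) x ∈ leechLattice :=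
    Cfsg.Agent.S0433.result _ hsup x x.2
  refine ⟨⟨_, hyΛ⟩, conj_sign _ hsup x _ rfl, ?_, ?_⟩
  · intro i
    have hmem : i ∈ support₂ (wd (x : GolayPt → ℤ) 1) ↔ (x : GolayPt → ℤ) i % 4 = 1 := by
      rw [mem_support₂_iff]
      unfold wd Int.ModEq
      by_cases h : (x : GolayPt → ℤ) i % 4 = 1
      · simp [h]
      · simp [h]
    show signFun _ _ i % 4 = 3
    unfold signFun
    have := hodd i
    by_cases hi : i ∈ support₂ (wd (x : GolayPt → ℤ) 1)
    · rw [if_pos hi]
      have := hmem.mp hi
      omega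
    · rw [if_neg hi]
      have h1 : ¬ ((x : GolayPt → ℤ) i % 4 = 1) := fun h => hi (hmem.mpr h)
      omega
  · intro i
    show signFun _ _ i ^ 2 = _
    unfold signFun
    split_ifs <;> ring

theorem odd_of_sq_odd {x : leechLattice} {k : GolayPt} (h : (x : GolayPt → ℤ) k % 2 = 1) :
    ∀ i, (x : GolayPt → ℤ) i % 2 = 1 := by
  have hx := x.2
  rw [mem_leech_iff] at hx
  rcases hx with ⟨he, _, _⟩ | ⟨ho, _, _⟩
  · exfalso; have := he k; omega
  · exact ho

theorem conj_C (x : leechLattice) (h : IsC x) : Conj x (mkL C0L C0L_in) := by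
  obtain ⟨i, j, k, hij, hik, hjk, hi, hj, hk, hoff⟩ := h
  have hodd : ∀ l, (x : GolayPt → ℤ) l % 2 = 1 := by
    apply odd_of_sq_odd (k := i)
    rcases int_sq_eq_nine hi with h | h <;> rw [h] <;> norm_num
  obtain ⟨y, hxy, hy4, hysq⟩ := conj_oddNorm x hodd
  refine hxy.trans ?_
  have hyv : (y : GolayPt → ℤ) = cVec i j k := by
    funext l
    unfold cVec
    have h4 := hy4 l
    by_cases hl : l = i ∨ l = j ∨ l = k
    · rw [if_pos hl]
      have : (y : GolayPt → ℤ) l ^ 2 = 9 := by
        rw [hysq]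
        rcases hl with h | h | h <;> rw [h] <;> assumption
      rcases int_sq_eq_nine this with h | h
      · exact h
      · rw [h] at h4; norm_num at h4
    · rw [if_neg hl]
      push Not at hl
      have : (y : GolayPt → ℤ) l ^ 2 = 1 := by
        rw [hysq]; exact hoff l hl.1 hl.2.1 hl.2.2
      rcases int_sq_eq_one this with h | h
      · rw [h] at h4; norm_num at h4
      · exact h
  obtain ⟨σ, hσ, hmap⟩ := M24_exists_map_list [some 0, some 1, some 2] [i, j, k]
    (by decide) (by simp [hij, hik, hjk]) rfl (by simp)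
  simp only [List.map_cons, List.map_nil, List.cons.injEq, and_true] at hmap
  obtain ⟨h1, h2, h3⟩ := hmap
  apply conj_perm σ hσ
  rw [mkL_coe, C0L_eq, hyv]
  funext l
  show cVec (some 0) (some 1) (some 2) l = cVec i j k (σ l)
  unfold cVec
  rw [← h1, ← h2, ← h3]
  simp only [σ.injective.eq_iff]

theorem conj_D (x : leechLattice) (h : IsD x) : Conj x (mkL D0L D0L_in) := by
  obtain ⟨k, hk, hoff⟩ := h
  have h5 : (x : GolayPt → ℤ) k = 5 ∨ (x : GolayPt → ℤ) k = -5 := by
    have : (x : GolayPt → ℤ) k ^ 2 = 5 ^ 2 := by rw [hk]; norm_num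
    exact sq_eq_sq_iff_eq_or_eq_neg.mp this
  have hodd : ∀ l, (x : GolayPt → ℤ) l % 2 = 1 := by
    apply odd_of_sq_odd (k := k)
    rcases h5 with h | h <;> rw [h] <;> norm_num
  obtain ⟨y, hxy, hy4, hysq⟩ := conj_oddNorm x hodd
  refine hxy.trans ?_
  have hyv : (y : GolayPt → ℤ) = dVec k := by
    funext l
    unfold dVec
    have h4 := hy4 l
    by_cases hl : l = k
    · rw [if_pos hl]
      have : (y : GolayPt → ℤ) l ^ 2 = 5 ^ 2 := by
        rw [hysq, hl, hk]; norm_num
      rcases sq_eq_sq_iff_eq_or_eq_neg.mp this with h | h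
      · rw [h] at h4; norm_num at h4
      · exact h
    · rw [if_neg hl]
      have : (y : GolayPt → ℤ) l ^ 2 = 1 := by
        rw [hysq]; exact hoff l hl
      rcases int_sq_eq_one this with h | h
      · rw [h] at h4; norm_num at h4
      · exact h
  obtain ⟨σ, hσ, h1⟩ := exists_M24_map k none
  apply conj_perm σ hσ
  rw [mkL_coe, D0L_eq, hyv]
  funext l
  show dVec none l = dVec k (σ l)
  unfold dVec
  rw [← h1]
  simp only [σ.injective.eq_iff]

/-! ### classification of the vectors of sum of squares 48 -/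

theorem shape48 (x : GolayPt → ℤ) (hx : x ∈ leechLattice) (hn : sqNorm x = 48) :
    IsA x ∨ IsB x ∨ IsC x ∨ IsD x := by
  classical
  have hx' := hx
  rw [mem_leech_iff] at hx'
  unfold sqNorm at hn
  rcases hx' with ⟨hev, hs8, hc⟩ | ⟨hodd, hs8, hc⟩
  · -- even type
    have hr : ∀ i, x i % 4 = if wd x 2 i = 1 then 2 else 0 :=
      res_of_wd_eq (by norm_num) rfl (fun i => by have := hev i; omega)
    have hw := Cfsg.Agent.S0359.result _ hc
    rw [hammingNorm_eq_card_support₂] at hw
    have hlow : ∀ i, (if wd x 2 i = 1 then (4 : ℤ) else 0) ≤ x i ^ 2 := by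
      intro i
      have := hr i
      split_ifs at this ⊢ with h1
      · rcases sq_of_res_two this with h | h <;> omega
      · positivity
    have hsum : ∑ i, (if wd x 2 i = 1 then (4 : ℤ) else 0) =
        4 * ((support₂ (wd x 2)).card : ℤ) + 0 * (24 - ((support₂ (wd x 2)).card : ℤ)) :=
      sum_ite_c (wd x 2) 4 0
    have hle := Finset.sum_le_sum (fun i (_ : i ∈ Finset.univ) => hlow i)
    rw [hsum, hn] at hle
    have hdiff : ∑ i, (x i ^ 2 - if wd x 2 i = 1 then (4 : ℤ) else 0) =
        48 - 4 * ((support₂ (wd x 2)).card : ℤ) := by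
      rw [Finset.sum_sub_distrib, hn, hsum]; ring
    have hsingle : ∀ i, x i ^ 2 - (if wd x 2 i = 1 then (4 : ℤ) else 0) ≤
        ∑ j, (x j ^ 2 - if wd x 2 j = 1 then (4 : ℤ) else 0) := fun i =>
      Finset.single_le_sum (f := fun j => x j ^ 2 - if wd x 2 j = 1 then (4 : ℤ) else 0)
        (fun j _ => by have := hlow j; omega) (Finset.mem_univ i)
    rcases hw with h | h | h | h | h
    · -- weight 0 is impossible
      exfalso
      have hc0 : ∀ i, wd x 2 i ≠ 1 := by
        intro i hi
        have : i ∈ support₂ (wd x 2) := by rw [mem_support₂_iff, hi]; decide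
        rw [Finset.card_eq_zero.mp h] at this
        exact absurd this (Finset.notMem_empty i)
      have h4 : ∀ i, x i % 4 = 0 := fun i => by rw [hr i, if_neg (hc0 i)]
      have hnz : ∀ i, x i ≠ 0 → x i ^ 2 = 16 := by
        intro i hi
        rcases sq_of_res_zero (h4 i) with h | h | h
        · exact absurd h hi
        · exact h
        · exfalso
          have hle2 : x i ^ 2 ≤ ∑ j, x j ^ 2 :=
            Finset.single_le_sum (f := fun j => x j ^ 2) (fun j _ => sq_nonneg (x j))
              (Finset.mem_univ i)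
          omega
      have hsq : ∀ i, x i ^ 2 = if x i ≠ 0 then 16 else 0 := by
        intro i
        by_cases hi : x i = 0
        · rw [if_neg (not_not.mpr hi), hi]; norm_num
        · rw [if_pos hi]; exact hnz i hi
      have hcard : ((Finset.univ.filter fun i => x i ≠ 0).card : ℤ) = 3 := by
        have e : ∑ i, x i ^ 2 = 16 * ((Finset.univ.filter fun i => x i ≠ 0).card : ℤ) := by
          rw [Finset.sum_congr rfl (fun i _ => hsq i), Finset.sum_ite, Finset.sum_const,
            Finset.sum_const_zero, add_zero, nsmul_eq_mul, mul_comm]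
        rw [hn] at e
        omega
      have hmod : ∀ i, x i % 8 = if x i ≠ 0 then 4 else 0 := by
        intro i
        by_cases hi : x i = 0
        · rw [if_neg (not_not.mpr hi), hi]; norm_num
        · rw [if_pos hi]
          rcases int_sq_eq_sixteen (hnz i hi) with h | h <;> rw [h] <;> norm_num
      rw [Finset.sum_int_mod, Finset.sum_congr rfl (fun i _ => hmod i), Finset.sum_ite,
        Finset.sum_const, Finset.sum_const_zero, add_zero, nsmul_eq_mul, hcard] at hs8
      norm_num at hs8
    · -- weight 8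
      right; left
      have hf : ∀ i, x i ^ 2 - (if wd x 2 i = 1 then (4 : ℤ) else 0) =
          if x i ^ 2 - (if wd x 2 i = 1 then (4 : ℤ) else 0) ≠ 0 then 16 else 0 := by
        intro i
        have h1 := hsingle i
        rw [hdiff, h] at h1
        have h2 := hr i
        by_cases hci : wd x 2 i = 1
        · rw [if_pos hci] at h1 h2 ⊢
          rcases sq_of_res_two h2 with h' | h'
          · rw [h']; norm_num
          · omega
        · rw [if_neg hci] at h1 h2 ⊢
          rcases sq_of_res_zero h2 with h' | h' | h'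
          · rw [h']; norm_num
          · rw [h']; norm_num
          · omega
      have hcard : (Finset.univ.filter fun i =>
          x i ^ 2 - (if wd x 2 i = 1 then (4 : ℤ) else 0) ≠ 0).card = 1 := by
        have e := hdiff
        rw [Finset.sum_congr rfl (fun i _ => hf i), Finset.sum_ite, Finset.sum_const,
          Finset.sum_const_zero, add_zero, nsmul_eq_mul, h] at e
        have : ((Finset.univ.filter fun i =>
          x i ^ 2 - (if wd x 2 i = 1 then (4 : ℤ) else 0) ≠ 0).card : ℤ) = 1 := by omega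
        exact_mod_cast this
      obtain ⟨p, hp⟩ := Finset.card_eq_one.mp hcard
      have hpne : x p ^ 2 - (if wd x 2 p = 1 then (4 : ℤ) else 0) ≠ 0 := by
        have : p ∈ Finset.univ.filter fun i =>
            x i ^ 2 - (if wd x 2 i = 1 then (4 : ℤ) else 0) ≠ 0 := by rw [hp]; simp
        simpa using this
      have hother : ∀ i, i ≠ p → x i ^ 2 - (if wd x 2 i = 1 then (4 : ℤ) else 0) = 0 := by
        intro i hi
        by_contra hne
        have : i ∈ Finset.univ.filter fun i =>
            x i ^ 2 - (if wd x 2 i = 1 then (4 : ℤ) else 0) ≠ 0 := by simpa using hne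
        rw [hp, Finset.mem_singleton] at this
        exact hi this
      have hpc : wd x 2 p ≠ 1 := by
        intro hci
        have h2 := hr p
        have h1 := hsingle p
        rw [hdiff, h] at h1
        rw [if_pos hci] at hpne h2 h1
        rcases sq_of_res_two h2 with h' | h'
        · rw [h'] at hpne; norm_num at hpne
        · omega
      have hp16 : x p ^ 2 = 16 := by
        have := hf p
        rw [if_pos hpne, if_neg hpc] at this
        omega
      refine ⟨support₂ (wd x 2), ⟨mem_supports_of_mem hc, h⟩, p, ?_, int_sq_eq_sixteen hp16, ?_, ?_⟩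
      · rw [mem_support₂_iff, Cfsg.Agent.Lib.Helper4.zmod2_ne_zero_iff]; exact hpc
      · intro i hi
        rw [mem_support₂_iff, Cfsg.Agent.Lib.Helper4.zmod2_ne_zero_iff] at hi
        have hip : i ≠ p := fun h' => hpc (h' ▸ hi)
        have := hother i hip
        rw [if_pos hi] at this
        exact int_sq_eq_four (by omega)
      · intro i hi hip
        rw [mem_support₂_iff, Cfsg.Agent.Lib.Helper4.zmod2_ne_zero_iff] at hi
        have := hother i hip
        rw [if_neg hi] at this
        have : x i ^ 2 = 0 := by omega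
        exact pow_eq_zero_iff (by norm_num) |>.mp this
    · -- weight 12: a dodecad
      left
      have hz : ∀ i, x i ^ 2 - (if wd x 2 i = 1 then (4 : ℤ) else 0) = 0 := by
        apply all_zero_of_sum_zero
        · intro i; have := hlow i; omega
        · rw [hdiff, h]; norm_num
      refine ⟨support₂ (wd x 2), ⟨mem_supports_of_mem hc, h⟩, ?_, ?_⟩
      · intro i hi
        rw [mem_support₂_iff, Cfsg.Agent.Lib.Helper4.zmod2_ne_zero_iff] at hi
        have := hz i
        rw [if_pos hi] at this
        exact int_sq_eq_four (by omega)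
      · intro i hi
        rw [mem_support₂_iff, Cfsg.Agent.Lib.Helper4.zmod2_ne_zero_iff] at hi
        have := hz i
        rw [if_neg hi] at this
        have : x i ^ 2 = 0 := by omega
        exact pow_eq_zero_iff (by norm_num) |>.mp this
    all_goals (exfalso; rw [h] at hle; norm_num at hle)
  · -- odd type
    right; right
    have hlow : ∀ i, 1 ≤ x i ^ 2 := by
      intro i
      rcases sq_of_odd (hodd i) with h | h | h | h <;> omega
    have hdiff : ∑ i, (x i ^ 2 - 1) = 24 := by
      rw [Finset.sum_sub_distrib, hn]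
      simp
    have hsingle : ∀ i, x i ^ 2 - 1 ≤ ∑ j, (x j ^ 2 - 1) := fun i =>
      Finset.single_le_sum (f := fun j => x j ^ 2 - 1)
        (fun j _ => by have := hlow j; omega) (Finset.mem_univ i)
    by_cases h25 : ∃ k, x k ^ 2 = 25
    · right
      obtain ⟨k, hk⟩ := h25
      refine ⟨k, hk, ?_⟩
      intro i hik
      have h2 : (x k ^ 2 - 1) + (x i ^ 2 - 1) ≤ ∑ j, (x j ^ 2 - 1) := by
        have := Finset.add_sum_erase Finset.univ (fun j => x j ^ 2 - 1) (Finset.mem_univ k)
        rw [← this]
        have h3 : x i ^ 2 - 1 ≤ ∑ j ∈ Finset.univ.erase k, (x j ^ 2 - 1) :=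
          Finset.single_le_sum (f := fun j => x j ^ 2 - 1)
            (fun j _ => by have := hlow j; omega)
            (Finset.mem_erase.mpr ⟨hik, Finset.mem_univ i⟩)
        omega
      rw [hdiff, hk] at h2
      rcases sq_of_odd (hodd i) with h | h | h | h <;> omega
    · left
      push Not at h25
      have hsq : ∀ i, x i ^ 2 - 1 = if x i ^ 2 ≠ 1 then 8 else 0 := by
        intro i
        have h1 := hsingle i
        rw [hdiff] at h1
        rcases sq_of_odd (hodd i) with h | h | h | h
        · rw [h]; norm_num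
        · rw [h]; norm_num
        · exact absurd h (h25 i)
        · omega
      have hcard : (Finset.univ.filter fun i => x i ^ 2 ≠ 1).card = 3 := by
        have e := hdiff
        rw [Finset.sum_congr rfl (fun i _ => hsq i), Finset.sum_ite, Finset.sum_const,
          Finset.sum_const_zero, add_zero, nsmul_eq_mul] at e
        have : ((Finset.univ.filter fun i => x i ^ 2 ≠ 1).card : ℤ) = 3 := by omega
        exact_mod_cast this
      obtain ⟨i, j, k, hij, hik, hjk, hS⟩ := Finset.card_eq_three.mp hcard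
      have hmem : ∀ l, x l ^ 2 ≠ 1 ↔ l = i ∨ l = j ∨ l = k := by
        intro l
        have : l ∈ (Finset.univ.filter fun i => x i ^ 2 ≠ 1) ↔ l ∈ ({i, j, k} : Finset GolayPt) := by
          rw [hS]
        simpa using this
      have h9 : ∀ l, x l ^ 2 ≠ 1 → x l ^ 2 = 9 := by
        intro l hl
        have h1 := hsq l
        rw [if_pos hl] at h1
        omega
      refine ⟨i, j, k, hij, hik, hjk, h9 i ((hmem i).mpr (Or.inl rfl)),
        h9 j ((hmem j).mpr (Or.inr (Or.inl rfl))), h9 k ((hmem k).mpr (Or.inr (Or.inr rfl))), ?_⟩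
      intro l hl1 hl2 hl3
      by_contra hne
      rcases (hmem l).mp hne with h | h | h
      · exact hl1 h
      · exact hl2 h
      · exact hl3 h

/-! ### transitivity -/

theorem conj_A0_B0 : Conj (mkL A0L A0L_in) (mkL B0L B0L_in) := by
  have h0 : Conj (mkL a1L a1L_in) (mkL A0L A0L_in) :=
    conj_A _ ⟨baseDodecad, baseDodecad_mem, a1L_A.1, a1L_A.2⟩
  have h1 : Conj (mkL a1L a1L_in) (mkL xa1L xa1L_in) :=
    conj_matL xiMat xiMat_good a1L (by decide) _ _ rfl (by rw [mkL_coe, xi_a1])
  have h2 : Conj (mkL xa1L xa1L_in) (mkL B0L B0L_in) :=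
    conj_B _ ⟨maskSet 4441280, maskSet_mem_octads _ maskB_facts.1.1 maskB_facts.1.2, some 3,
      xa1L_B.1, xa1L_B.2.1, xa1L_B.2.2.1, xa1L_B.2.2.2⟩
  exact h0.symm.trans (h1.trans h2)

theorem conj_C0_B0 : Conj (mkL C0L C0L_in) (mkL B0L B0L_in) := by
  have h0 : Conj (mkL c1L c1L_in) (mkL C0L C0L_in) :=
    conj_C _ ⟨some 0, some 1, some 2, by decide, by decide, by decide, c1L_C.1, c1L_C.2.1,
      c1L_C.2.2.1, c1L_C.2.2.2⟩
  have h1 : Conj (mkL c1L c1L_in) (mkL xc1L xc1L_in) :=
    conj_matL xiMat xiMat_good c1L (by decide) _ _ rfl (by rw [mkL_coe, xi_c1])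
  have h2 : Conj (mkL xc1L xc1L_in) (mkL B0L B0L_in) :=
    conj_B _ ⟨maskSet 210955, maskSet_mem_octads _ maskB_facts.2.1.1 maskB_facts.2.1.2, some 2,
      xc1L_B.1, xc1L_B.2.1, xc1L_B.2.2.1, xc1L_B.2.2.2⟩
  exact h0.symm.trans (h1.trans h2)

theorem conj_D0_B0 : Conj (mkL D0L D0L_in) (mkL B0L B0L_in) := by
  have h0 : Conj (mkL d1L d1L_in) (mkL D0L D0L_in) :=
    conj_D _ ⟨none, d1L_D.1, d1L_D.2⟩
  have h1 : Conj (mkL d1L d1L_in) (mkL xd1L xd1L_in) :=
    conj_matL xiMat xiMat_good d1L (by decide) _ _ rfl (by rw [mkL_coe, xi_d1])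
  have h2 : Conj (mkL xd1L xd1L_in) (mkL B0L B0L_in) :=
    conj_B _ ⟨maskSet 8937586, maskSet_mem_octads _ maskB_facts.2.2.1 maskB_facts.2.2.2, some 17,
      xd1L_B.1, xd1L_B.2.1, xd1L_B.2.2.1, xd1L_B.2.2.2⟩
  exact h0.symm.trans (h1.trans h2)

/-- every vector of sum of squares 48 is conjugate to the base vector -/
theorem conj_base48 (x : leechLattice) (hn : sqNorm (x : GolayPt → ℤ) = 48) :
    Conj x (mkL B0L B0L_in) := by
  rcases shape48 x x.2 hn with h | h | h | h
  · exact (conj_A x h).trans conj_A0_B0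
  · exact conj_B x h
  · exact (conj_C x h).trans conj_C0_B0
  · exact (conj_D x h).trans conj_D0_B0

end Cfsg.Agent.Helper4.CO
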