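import Cfsg.Agent.Lib.Helper4.CoStab
import Cfsg.Agent.Lib.Helper4.CoTrans48

set_option autoImplicit false
set_option linter.style.haveILetI false
set_option linter.unusedVariables false
set_option linter.unusedSectionVars false

/-! Moving a vector of sum of squares 32 or 48 of the rank-24 lattice to a chosen one. -/

namespace Cfsg.Agent.Helper4.CO

open Cfsg Cfsg.Agent.Lib.Helper4 Cfsg.Agent.Lib.Helper28 Cfsg.Agent.Helper4.LC

theorem exists_move48 (a : List ℤ) (ha : InLP a) (hn : dotL a a = 48) (u : leechLattice)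
    (hu : sqNorm (u : GolayPt → ℤ) = 48) :
    ∃ h : Co0, ((h • u : leechLattice) : GolayPt → ℤ) = toV a := by
  have h1 := conj_base48 u hu
  have h2 := conj_base48 (mkL a ha) (by rw [mkL_coe, sqNorm_toV a ha.1]; exact hn)
  obtain ⟨h, hh⟩ := h1.trans h2.symm
  exact ⟨h, by rw [hh]; rfl⟩

theorem exists_move32 (a : List ℤ) (ha : InLP a) (hn : dotL a a = 32) (u : leechLattice)
    (hu : sqNorm (u : GolayPt → ℤ) = 32) :
    ∃ h : Co0, ((h • u : leechLattice) : GolayPt → ℤ) = toV a := by
  have h1 := conj_base32 u hu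
  have h2 := conj_base32 (mkL a ha) (by rw [mkL_coe, sqNorm_toV a ha.1]; exact hn)
  obtain ⟨h, hh⟩ := h1.trans h2.symm
  exact ⟨h, by rw [hh]; rfl⟩

/-- for `u` of sum of squares 48 and `x` of sum of squares 32: `u - x` has sum of squares 32
exactly when the inner product is 24 -/
theorem sqNorm_sub_iff {u x : leechLattice} (hu : sqNorm (u : GolayPt → ℤ) = 48)
    (hx : sqNorm (x : GolayPt → ℤ) = 32) :
    sqNorm ((u : GolayPt → ℤ) - (x : GolayPt → ℤ)) = 32 ↔
      dotInt (u : GolayPt → ℤ) (x : GolayPt → ℤ) = 24 := by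
  rw [sqNorm_sub, hu, hx]
  constructor <;> intro h <;> omega

end Cfsg.Agent.Helper4.CO
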