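import Mathlib
import Cfsg.Prelude.Def_RootSubgroups
import Cfsg.Agent.H26.RootInv2

/-!
# S5046 reduction farm piece [CONJ]: conjugation of `A_d`, `C_D(d)`; odd-adjacent members are
conjugate; connected ⇒ one class ⇒ all `A_a` have the same size.
-/

set_option autoImplicit false

namespace Cfsg.Agent.Lib.Helper3.Red
open Cfsg Cfsg.Agent.H26

variable {G : Type*} [Group G] {D : Set G}

namespace Helper4

theorem conj_injective (h : G) : Function.Injective (fun x : G => h * x * h⁻¹) := by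
  intro x y hxy
  exact mul_left_cancel (mul_right_cancel hxy)

end Helper4

/-- [CONJ] `A_{h d h⁻¹} = h A_d h⁻¹`. -/
theorem oddPartners_conj (hD : IsRootInvolutionSet D) (h d : G) :
    oddPartners D (h * d * h⁻¹) = (fun x => h * x * h⁻¹) '' oddPartners D d := by
  ext x
  constructor
  · rintro ⟨hx, hne, hodd⟩
    refine ⟨h⁻¹ * x * h, ⟨ri_conj hD hx h, ?_, ?_⟩, by group⟩
    · intro hcon
      apply hne
      rw [← hcon]
      group
    · have e : d * (h⁻¹ * x * h) = h⁻¹ * (h * d * h⁻¹ * x) * (h⁻¹)⁻¹ := by group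
      rw [e, orderOf_conj_eq]
      exact hodd
  · rintro ⟨y, ⟨hy, hne, hodd⟩, rfl⟩
    refine ⟨hD.conj_mem y hy h, ?_, ?_⟩
    · intro hcon
      exact hne (Helper4.conj_injective h hcon)
    · have e : h * d * h⁻¹ * (h * y * h⁻¹) = h * (d * y) * h⁻¹ := by group
      rw [e, orderOf_conj_eq]
      exact hodd

/-- [CONJ] `C_D(h d h⁻¹) = h C_D(d) h⁻¹`. -/
theorem commutingMembers_conj (hD : IsRootInvolutionSet D) (h d : G) :
    commutingMembers D (h * d * h⁻¹) = (fun x => h * x * h⁻¹) '' commutingMembers D d := by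
  ext x
  constructor
  · rintro ⟨hx, hcomm⟩
    refine ⟨h⁻¹ * x * h, ⟨ri_conj hD hx h, ?_⟩, by group⟩
    have e1 : h⁻¹ * x * h * d = h⁻¹ * (x * (h * d * h⁻¹)) * h := by group
    have e2 : d * (h⁻¹ * x * h) = h⁻¹ * ((h * d * h⁻¹) * x) * h := by group
    rw [e1, e2, hcomm]
  · rintro ⟨y, ⟨hy, hcomm⟩, rfl⟩
    refine ⟨hD.conj_mem y hy h, ?_⟩
    have e1 : h * y * h⁻¹ * (h * d * h⁻¹) = h * (y * d) * h⁻¹ := by group
    have e2 : h * d * h⁻¹ * (h * y * h⁻¹) = h * (d * y) * h⁻¹ := by group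
    rw [e1, e2, hcomm]

/-- [CONJ] odd-adjacent members are conjugate (`b = w a w⁻¹`, `w` a power of `a b`). -/
theorem conj_of_oddAdj (hD : IsRootInvolutionSet D) {a b : G} (h : OddAdj D a b) :
    ∃ w : G, b = w * a * w⁻¹ := by
  obtain ⟨ha, hb, -, hodd⟩ := h
  obtain ⟨k, hk⟩ := hodd
  have ha2 : a * a = 1 := ri_mul_self hD ha
  have hainv : a⁻¹ = a := ri_inv hD ha
  have hbinv : b⁻¹ = b := ri_inv hD hb
  have hpow : (a * b) ^ (2 * k + 1) = 1 := by
    rw [← hk]
    exact pow_orderOf_eq_one (a * b)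
  have hconj : a * (a * b) * a⁻¹ = (a * b)⁻¹ := by
    rw [mul_inv_rev, hainv, hbinv, ← mul_assoc, ha2, one_mul]
  have hconjk : a * (a * b) ^ k * a⁻¹ = ((a * b)⁻¹) ^ k := by
    rw [← conj_pow, hconj]
  refine ⟨(a * b) ^ k, ?_⟩
  have h1 : (a * b) ^ k * a * ((a * b) ^ k)⁻¹ = (a * b) ^ k * (a * (a * b) ^ k * a⁻¹)⁻¹ * a := by
    group
  have h2 : (a * b) ^ (k + k) = (a * b)⁻¹ := by
    apply eq_inv_of_mul_eq_one_left
    rw [← pow_succ]
    have : k + k + 1 = 2 * k + 1 := by ring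
    rw [this]
    exact hpow
  rw [h1, hconjk, inv_pow, inv_inv, ← pow_add, h2, mul_inv_rev, hainv, hbinv, mul_assoc, ha2,
    mul_one]

/-- [CONJ] connected ⇒ one class. -/
theorem conj_of_conn (hD : IsRootInvolutionSet D) (hc : IsConnectedSet (OddAdj D) D) {a b : G}
    (ha : a ∈ D) (hb : b ∈ D) : ∃ w : G, b = w * a * w⁻¹ := by
  have key : ∀ b' : G, Relation.ReflTransGen (OddAdj D) a b' → ∃ w : G, b' = w * a * w⁻¹ := by
    intro b' hpath
    induction hpath with
    | refl => exact ⟨1, by simp⟩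
    | tail _ hstep ih =>
      obtain ⟨w, hw⟩ := ih
      obtain ⟨w', hw'⟩ := conj_of_oddAdj hD hstep
      refine ⟨w' * w, ?_⟩
      rw [hw', hw]
      group
  exact key b (hc a ha b hb)

/-- [CONJ] connected ⇒ all `A_a` have the same size. -/
theorem ncard_oddPartners_eq [Finite G] (hD : IsRootInvolutionSet D)
    (hc : IsConnectedSet (OddAdj D) D) {a b : G} (ha : a ∈ D) (hb : b ∈ D) :
    (oddPartners D a).ncard = (oddPartners D b).ncard := by
  obtain ⟨w, hw⟩ := conj_of_conn hD hc ha hb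
  rw [hw, oddPartners_conj hD w a, Set.ncard_image_of_injective _ (Helper4.conj_injective w)]

end Cfsg.Agent.Lib.Helper3.Red
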