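import Cfsg.Agent.Lib.Helper4.LeechCount2

set_option autoImplicit false
set_option linter.style.haveILetI false
set_option linter.unusedVariables false
set_option linter.unusedSectionVars false

/-! Boxes of coordinate values and the unrestricted count of lattice vectors of given norm. -/

namespace Cfsg.Agent.Helper4.LC

open Cfsg Cfsg.Agent.Lib.Helper4

/-- the list of integers `-b, ..., b` -/
def boxL (b : ℕ) : List ℤ := (List.range (2 * b + 1)).map (fun (k : ℕ) => (k : ℤ) - (b : ℤ))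

theorem mem_boxL {b : ℕ} {v : ℤ} : v ∈ boxL b ↔ -(b : ℤ) ≤ v ∧ v ≤ b := by
  unfold boxL
  simp only [List.mem_map, List.mem_range]
  constructor
  · rintro ⟨k, hk, rfl⟩
    constructor <;> omega
  · rintro ⟨h1, h2⟩
    refine ⟨(v + b).toNat, ?_, ?_⟩ <;> omega

theorem nodup_boxL (b : ℕ) : (boxL b).Nodup := by
  unfold boxL
  refine (List.nodup_range).map ?_
  intro a c h
  simp only at h
  omega

theorem sq_le_sqNorm (x : GolayPt → ℤ) (i : GolayPt) : x i ^ 2 ≤ sqNorm x := by
  unfold sqNorm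
  exact Finset.single_le_sum (f := fun i => x i ^ 2) (fun j _ => sq_nonneg (x j)) (Finset.mem_univ i)

theorem mem_boxL_of_sqNorm {x : GolayPt → ℤ} {N b : ℕ} (hN : sqNorm x = (N : ℤ))
    (hb : N < (b + 1) ^ 2) (i : GolayPt) : x i ∈ boxL b := by
  rw [mem_boxL]
  have h1 := sq_le_sqNorm x i
  rw [hN] at h1
  have h2 : (N : ℤ) < ((b : ℤ) + 1) ^ 2 := by exact_mod_cast hb
  constructor <;> nlinarith

/-- the number of lattice vectors of sum of squares `N` -/
theorem ncard_norm (N b : ℕ) (hb : N < (b + 1) ^ 2) (m : ℕ) (hcount : count2 (boxL b) N = 2 * m) :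
    ({x : GolayPt → ℤ | x ∈ leechLattice ∧ sqNorm x = (N : ℤ)}).ncard = m := by
  have hset : {x : GolayPt → ℤ | x ∈ leechLattice ∧ sqNorm x = (N : ℤ)} =
      {x : GolayPt → ℤ | x ∈ leechLattice ∧ sqNorm x = (N : ℤ) ∧ ∀ i, x i ∈ boxL b} := by
    ext x
    simp only [Set.mem_ofPred_eq]
    constructor
    · rintro ⟨h1, h2⟩
      exact ⟨h1, h2, fun i => mem_boxL_of_sqNorm h2 hb i⟩
    · rintro ⟨h1, h2, _⟩
      exact ⟨h1, h2⟩
  have := two_mul_ncard (boxL b) (nodup_boxL b) N
  rw [← hset, hcount] at this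
  exact_mod_cast mul_left_cancel₀ (by norm_num : (2 : ℤ) ≠ 0) this

/-- the number of lattice vectors of sum of squares `N` with all coordinates in the list `L` -/
theorem ncard_norm_box (N : ℕ) (L : List ℤ) (hL : L.Nodup) (m : ℕ) (hcount : count2 L N = 2 * m) :
    ({x : GolayPt → ℤ | x ∈ leechLattice ∧ sqNorm x = (N : ℤ) ∧ ∀ i, x i ∈ L}).ncard = m := by
  have := two_mul_ncard L hL N
  rw [hcount] at this
  exact_mod_cast mul_left_cancel₀ (by norm_num : (2 : ℤ) ≠ 0) this

end Cfsg.Agent.Helper4.LC
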