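import Cfsg.Agent.Lib.Helper4.Leech

set_option autoImplicit false

namespace Cfsg.Agent.Lib.Helper4

open Cfsg

/-- the standard dot product of binary words -/
def dot₂ (u v : GolayPt → ZMod 2) : ZMod 2 := ∑ i, u i * v i

theorem dot₂_add_left (u u' v : GolayPt → ZMod 2) : dot₂ (u + u') v = dot₂ u v + dot₂ u' v := by
  simp only [dot₂, Pi.add_apply, add_mul, Finset.sum_add_distrib]

theorem dot₂_add_right (u v v' : GolayPt → ZMod 2) : dot₂ u (v + v') = dot₂ u v + dot₂ u v' := by
  simp only [dot₂, Pi.add_apply, mul_add, Finset.sum_add_distrib]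

theorem dot₂_smul_left (a : ZMod 2) (u v : GolayPt → ZMod 2) : dot₂ (a • u) v = a * dot₂ u v := by
  simp only [dot₂, Pi.smul_apply, smul_eq_mul, Finset.mul_sum, mul_assoc]

theorem dot₂_smul_right (a : ZMod 2) (u v : GolayPt → ZMod 2) : dot₂ u (a • v) = a * dot₂ u v := by
  simp only [dot₂, Pi.smul_apply, smul_eq_mul, Finset.mul_sum]
  apply Finset.sum_congr rfl
  intro i _; ring

theorem dot₂_zero_left (v : GolayPt → ZMod 2) : dot₂ 0 v = 0 := by
  simp [dot₂]

theorem dot₂_zero_right (v : GolayPt → ZMod 2) : dot₂ v 0 = 0 := by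
  simp [dot₂]

set_option maxRecDepth 100000 in
theorem qr_orth : ∀ s t : ZMod 23, dot₂ (qrWord s) (qrWord t) = 0 := by
  unfold dot₂; decide

set_option maxRecDepth 100000 in
theorem qr_wt : ∀ t : ZMod 23, (support₂ (qrWord t)).card = 12 := by
  decide

set_option maxRecDepth 100000 in
theorem qr_one : ∀ t : ZMod 23, dot₂ (qrWord t) 1 = 0 := by
  unfold dot₂; decide

set_option maxRecDepth 100000 in
theorem one_qr : ∀ t : ZMod 23, dot₂ 1 (qrWord t) = 0 := by
  unfold dot₂; decide

set_option maxRecDepth 100000 in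
theorem one_one : dot₂ (1 : GolayPt → ZMod 2) 1 = 0 := by
  unfold dot₂; decide

set_option maxRecDepth 100000 in
theorem one_wt : (support₂ (1 : GolayPt → ZMod 2)).card = 24 := by
  decide

theorem gen_gen {g h : GolayPt → ZMod 2} (hg : g ∈ Set.range qrWord ∪ {1})
    (hh : h ∈ Set.range qrWord ∪ {1}) : dot₂ g h = 0 := by
  rcases hg with ⟨s, rfl⟩ | hg
  · rcases hh with ⟨t, rfl⟩ | hh
    · exact qr_orth s t
    · rw [Set.mem_singleton_iff] at hh; subst hh; exact qr_one s
  · rw [Set.mem_singleton_iff] at hg; subst hg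
    rcases hh with ⟨t, rfl⟩ | hh
    · exact one_qr t
    · rw [Set.mem_singleton_iff] at hh; subst hh; exact one_one

/-- the code is self-orthogonal -/
theorem golay_self_orth {u v : GolayPt → ZMod 2} (hu : u ∈ golayCode) (hv : v ∈ golayCode) :
    dot₂ u v = 0 := by
  unfold golayCode at hu hv
  induction hu, hv using Submodule.span_induction₂ with
  | mem_mem x y hx hy => exact gen_gen hx hy
  | zero_left y hy => exact dot₂_zero_left y
  | zero_right x hx => exact dot₂_zero_right x
  | add_left x y z hx hy hz h1 h2 => rw [dot₂_add_left, h1, h2, add_zero]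
  | add_right x y z hx hy hz h1 h2 => rw [dot₂_add_right, h1, h2, add_zero]
  | smul_left r x y hx hy h => rw [dot₂_smul_left, h, mul_zero]
  | smul_right r x y hx hy h => rw [dot₂_smul_right, h, mul_zero]

theorem dot₂_eq_card (u v : GolayPt → ZMod 2) :
    dot₂ u v = ((support₂ u ∩ support₂ v).card : ZMod 2) := by
  unfold dot₂
  have : ∀ i, u i * v i = if i ∈ support₂ u ∩ support₂ v then 1 else 0 := by
    intro i
    simp only [support₂, Finset.mem_inter, Finset.mem_filter, Finset.mem_univ, true_and]
    rcases zmod2_eq_zero_or_one (u i) with hu | hu <;> rcases zmod2_eq_zero_or_one (v i) with hv | hv <;>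
      simp [hu, hv]
  simp only [this]
  rw [Finset.sum_boole]
  congr 2
  ext i
  simp

theorem support₂_add (u v : GolayPt → ZMod 2) :
    support₂ (u + v) = (support₂ u ∪ support₂ v) \ (support₂ u ∩ support₂ v) := by
  ext i
  simp only [support₂, Pi.add_apply, Finset.mem_filter, Finset.mem_univ, true_and, Finset.mem_sdiff,
    Finset.mem_union, Finset.mem_inter]
  have h11 : (1 : ZMod 2) + 1 = 0 := by decide
  rcases zmod2_eq_zero_or_one (u i) with hu | hu <;> rcases zmod2_eq_zero_or_one (v i) with hv | hv <;>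
    simp [hu, hv, h11]

theorem card_support₂_add (u v : GolayPt → ZMod 2) :
    (support₂ (u + v)).card + 2 * (support₂ u ∩ support₂ v).card =
      (support₂ u).card + (support₂ v).card := by
  rw [support₂_add]
  have h1 : (support₂ u ∩ support₂ v) ⊆ (support₂ u ∪ support₂ v) :=
    fun i hi => Finset.mem_union_left _ (Finset.mem_inter.mp hi).1
  rw [Finset.card_sdiff_of_subset h1]
  have h2 := Finset.card_union_add_card_inter (support₂ u) (support₂ v)
  have h3 : (support₂ u ∩ support₂ v).card ≤ (support₂ u ∪ support₂ v).card := Finset.card_le_card h1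
  omega

/-- the code is doubly even -/
theorem golay_doubly_even {u : GolayPt → ZMod 2} (hu : u ∈ golayCode) : 4 ∣ (support₂ u).card := by
  unfold golayCode at hu
  induction hu using Submodule.span_induction with
  | mem x hx =>
    rcases hx with ⟨t, rfl⟩ | hx
    · rw [qr_wt]; norm_num
    · rw [Set.mem_singleton_iff] at hx; subst hx; rw [one_wt]; norm_num
  | zero =>
    have : support₂ (0 : GolayPt → ZMod 2) = ∅ := by
      ext i; simp [support₂]
    rw [this]; simp
  | add x y hx hy h1 h2 =>
    have h3 := card_support₂_add x y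
    have h4 : dot₂ x y = 0 := golay_self_orth hx hy
    rw [dot₂_eq_card, ZMod.natCast_eq_zero_iff_even] at h4
    obtain ⟨k, hk⟩ := h4
    omega
  | smul a x hx h =>
    rcases zmod2_eq_zero_or_one a with ha | ha
    · rw [ha, zero_smul]
      have : support₂ (0 : GolayPt → ZMod 2) = ∅ := by
        ext i; simp [support₂]
      rw [this]; simp
    · rw [ha, one_smul]; exact h

end Cfsg.Agent.Lib.Helper4
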