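import Mathlib
import Cfsg.Agent.Lib.Helper9.ClassGraph8
import Cfsg.Agent.Lib.Helper9.PSingA
import Cfsg.Agent.Lib.Helper13.Sylow
import Cfsg.Agent.Lib.Helper22.Jordan

/-!
S4321 farm (architect helper24), piece [C12], part a: `core` (C1) and `key_claim` (C2) with the
Stage 2 theorem `stage2` ([B9]) taken as a hypothesis `hst`, so that this file does not wait for it.
-/

set_option autoImplicit false

namespace Cfsg.Agent.Lib.Helper24.PSing

open Subgroup
open Cfsg.Agent.Lib.Helper9.ClassGraph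

variable {G : Type*} [Group G]

namespace Helper4P

/-- a nontrivial `p`-element is not central when `p ∤ |Z(G)|` -/
theorem cs_ne_one_of_pElt [Finite G] (p : ℕ) [hp : Fact p.Prime]
    (hZ : ¬ p ∣ Nat.card (center G)) {a : G} (ha1 : a ≠ 1)
    (hap : ∃ k : ℕ, orderOf a = p ^ k) : cs a ≠ 1 := by
  intro h1
  have hac : a ∈ center G := (cs_eq_one_iff a).mp h1
  obtain ⟨k, hk⟩ := hap
  have hk0 : k ≠ 0 := by
    rintro rfl
    rw [pow_zero, orderOf_eq_one_iff] at hk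
    exact ha1 hk
  have h2 : orderOf (⟨a, hac⟩ : center G) ∣ Nat.card (center G) := orderOf_dvd_natCard _
  rw [Subgroup.orderOf_mk, hk] at h2
  exact hZ ((dvd_pow_self p hk0).trans h2)

theorem p_dvd_orderOf_of_pElt (p : ℕ) {a : G} (ha1 : a ≠ 1)
    (hap : ∃ k : ℕ, orderOf a = p ^ k) : p ∣ orderOf a := by
  obtain ⟨k, hk⟩ := hap
  have hk0 : k ≠ 0 := by
    rintro rfl
    rw [pow_zero, orderOf_eq_one_iff] at hk
    exact ha1 hk
  rw [hk]
  exact dvd_pow_self p hk0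

theorem orderOf_conj' (c b : G) : orderOf (c * b * c⁻¹) = orderOf b := by
  have := orderOf_injective (MulAut.conj c).toMonoidHom (MulAut.conj c).injective b
  simpa [MulAut.conj_apply] using this

/-- the core contradiction under the extra assumption `p ∤ cs a` -/
theorem core_aux_of [Finite G] (p : ℕ) [hp : Fact p.Prime]
    (hst : ∀ (a b : G) (P : Sylow p G), (P : Subgroup G) ≤ centralizer ({a} : Set G) →
      a ∈ (P : Subgroup G) → b ∈ (P : Subgroup G) → a ≠ 1 → cs a ≠ 1 → (cs a).Coprime (cs b) →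
      p ∣ cs b → (∀ x : G, p ∣ orderOf x → p ∣ cs x → (cs x).Coprime (cs a)) → False)
    (hZ : ¬ p ∣ Nat.card (center G)) {a b : G}
    (ha1 : a ≠ 1) (hap : ∃ k : ℕ, orderOf a = p ^ k) (hb1 : b ≠ 1)
    (hbp : ∃ k : ℕ, orderOf b = p ^ k)
    (hcop : (cs a).Coprime (cs b))
    (hno : ∀ x : G, p ∣ orderOf x → (cs x).Coprime (cs a) ∨ (cs x).Coprime (cs b))
    (hpa : ¬ p ∣ cs a) : False := by
  have ha : cs a ≠ 1 := cs_ne_one_of_pElt p hZ ha1 hap
  obtain ⟨k, hk⟩ := hap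
  obtain ⟨P, hPa, haP⟩ := Cfsg.Agent.Lib.Helper22.exists_sylow_le_mem_of_not_dvd_index
    (p := p) (centralizer ({a} : Set G)) hpa a (mem_cent.mpr rfl) k hk
  obtain ⟨j, hj⟩ := hbp
  obtain ⟨c, hc⟩ := Cfsg.Agent.Lib.Helper13.exists_conj_mem_sylow P b
    ⟨j, by rw [← hj]; exact pow_orderOf_eq_one b⟩
  set b' : G := c * b * c⁻¹ with hb'
  have hcs : cs b' = cs b := cs_conj b c
  have hord : orderOf b' = orderOf b := orderOf_conj' c b
  have hb'1 : b' ≠ 1 := by
    intro h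
    apply hb1
    have : orderOf b' = 1 := by rw [h, orderOf_one]
    rw [hord, orderOf_eq_one_iff] at this
    exact this
  have hb' : cs b' ≠ 1 := cs_ne_one_of_pElt p hZ hb'1 ⟨j, by rw [hord, hj]⟩
  have hcomm : Commute a b' := (mem_cent.mp (hPa hc)).symm
  have hcop' : (cs a).Coprime (cs b') := by rw [hcs]; exact hcop
  -- `a * b'` is a nontrivial `p`-element
  have hab1 : a * b' ≠ 1 := by
    intro h
    have h2 : b' = a⁻¹ := (eq_inv_of_mul_eq_one_right h)
    have h3 : cs b' = cs a := by rw [h2, cs_inv]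
    rw [h3] at hcop'
    exact ha ((Nat.coprime_self _).mp hcop')
  have habP : a * b' ∈ (P : Subgroup G) := mul_mem haP hc
  have habp : ∃ i : ℕ, orderOf (a * b') = p ^ i := by
    obtain ⟨i, hi⟩ := P.2 ⟨a * b', habP⟩
    have h1 : (a * b') ^ p ^ i = 1 := by
      have := congrArg Subtype.val hi
      simpa using this
    obtain ⟨m, _, hm⟩ := (Nat.dvd_prime_pow hp.out).mp (orderOf_dvd_of_pow_eq_one h1)
    exact ⟨m, hm⟩
  have hpab : p ∣ orderOf (a * b') := p_dvd_orderOf_of_pElt p hab1 habp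
  have hmix : (cs (a * b')).Coprime (cs a) ∨ (cs (a * b')).Coprime (cs b') := by
    rw [hcs]; exact hno _ hpab
  have hpb : p ∣ cs b' :=
    p_dvd_cs_of_noMix p hcomm ⟨k, hk⟩ ⟨j, by rw [hord, hj]⟩ hcop' ha hb' hpa hmix
  have hnm : ∀ x : G, p ∣ orderOf x → p ∣ cs x → (cs x).Coprime (cs a) := by
    intro x hx hpx
    rcases hno x hx with h | h
    · exact h
    · exfalso
      rw [← hcs] at h
      have : p ∣ Nat.gcd (cs x) (cs b') := Nat.dvd_gcd hpx hpb
      rw [h] at this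
      exact hp.out.one_lt.ne' (Nat.dvd_one.mp this)
  exact hst a b' P hPa haP hc ha1 ha hcop' hpb hnm

/-- [C1] with `stage2` as a hypothesis -/
theorem core_of [Finite G] (p : ℕ) [Fact p.Prime]
    (hst : ∀ (a b : G) (P : Sylow p G), (P : Subgroup G) ≤ centralizer ({a} : Set G) →
      a ∈ (P : Subgroup G) → b ∈ (P : Subgroup G) → a ≠ 1 → cs a ≠ 1 → (cs a).Coprime (cs b) →
      p ∣ cs b → (∀ x : G, p ∣ orderOf x → p ∣ cs x → (cs x).Coprime (cs a)) → False)
    (hZ : ¬ p ∣ Nat.card (center G)) {a b : G}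
    (ha1 : a ≠ 1) (hap : ∃ k : ℕ, orderOf a = p ^ k) (hb1 : b ≠ 1) (hbp : ∃ k : ℕ, orderOf b = p ^ k)
    (hcop : (cs a).Coprime (cs b))
    (hno : ∀ x : G, p ∣ orderOf x → (cs x).Coprime (cs a) ∨ (cs x).Coprime (cs b)) : False := by
  have hp : p.Prime := Fact.out
  by_cases hpa : p ∣ cs a
  · have hpb : ¬ p ∣ cs b := by
      intro hpb
      have : p ∣ Nat.gcd (cs a) (cs b) := Nat.dvd_gcd hpa hpb
      rw [hcop] at this
      exact hp.one_lt.ne' (Nat.dvd_one.mp this)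
    exact core_aux_of p hst hZ hb1 hbp ha1 hap hcop.symm (fun x hx => (hno x hx).symm) hpb
  · exact core_aux_of p hst hZ ha1 hap hb1 hbp hcop hno hpa

/-- [C2] from [C1] (given as a hypothesis for the pair `a`, `b`) -/
theorem key_claim_of_core (p : ℕ) {a b : G}
    (hcore : (cs a).Coprime (cs b) →
      (∀ x : G, p ∣ orderOf x → (cs x).Coprime (cs a) ∨ (cs x).Coprime (cs b)) → False) :
    ∃ r₀ s₀ : ℕ, r₀.Prime ∧ s₀.Prime ∧ r₀ ∣ cs a ∧ s₀ ∣ cs b ∧
      (r₀ = s₀ ∨ ∃ x : G, p ∣ orderOf x ∧ r₀ * s₀ ∣ cs x) := by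
  by_contra hcon
  apply hcore
  · by_contra hnc
    obtain ⟨r, hr, hra, hrb⟩ := Nat.Prime.not_coprime_iff_dvd.mp hnc
    exact hcon ⟨r, r, hr, hr, hra, hrb, Or.inl rfl⟩
  · intro x hx
    by_contra hnn
    rw [not_or] at hnn
    obtain ⟨r, hr, hrx, hra⟩ := Nat.Prime.not_coprime_iff_dvd.mp hnn.1
    obtain ⟨s, hs, hsx, hsb⟩ := Nat.Prime.not_coprime_iff_dvd.mp hnn.2
    by_cases hrs : r = s
    · exact hcon ⟨r, s, hr, hs, hra, hsb, Or.inl hrs⟩
    · exact hcon ⟨r, s, hr, hs, hra, hsb, Or.inr ⟨x, hx,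
        Nat.Coprime.mul_dvd_of_dvd_of_dvd ((Nat.coprime_primes hr hs).mpr hrs) hrx hsx⟩⟩

end Helper4P

end Cfsg.Agent.Lib.Helper24.PSing
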