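import Mathlib
import Cfsg.Agent.Lib.Helper24.PSing.Stage2
import Cfsg.Agent.Lib.Helper4.PSingC12a

/-!
S4321 farm (architect helper24), piece [C12]: `core` (C1) and `key_claim` (C2), exact skeleton
statements, from `PSingC12a` and `stage2`.
-/

set_option autoImplicit false

namespace Cfsg.Agent.Lib.Helper24.PSing

open Subgroup
open Cfsg.Agent.Lib.Helper9.ClassGraph

variable {G : Type*} [Group G]

/-- [C1] core contradiction -/
theorem core [Finite G] (p : ℕ) [Fact p.Prime] (hZ : ¬ p ∣ Nat.card (center G)) {a b : G}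
    (ha1 : a ≠ 1) (hap : ∃ k : ℕ, orderOf a = p ^ k) (hb1 : b ≠ 1) (hbp : ∃ k : ℕ, orderOf b = p ^ k)
    (hcop : (cs a).Coprime (cs b))
    (hno : ∀ x : G, p ∣ orderOf x → (cs x).Coprime (cs a) ∨ (cs x).Coprime (cs b)) : False :=
  Helper4P.core_of p (fun _ _ P h1 h2 h3 h4 h5 h6 h7 h8 => stage2 p P h1 h2 h3 h4 h5 h6 h7 h8)
    hZ ha1 hap hb1 hbp hcop hno

/-- [C2] key claim -/
theorem key_claim [Finite G] (p : ℕ) [Fact p.Prime] (hZ : ¬ p ∣ Nat.card (center G)) {a b : G}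
    (ha1 : a ≠ 1) (hap : ∃ k : ℕ, orderOf a = p ^ k) (hb1 : b ≠ 1) (hbp : ∃ k : ℕ, orderOf b = p ^ k) :
    ∃ r₀ s₀ : ℕ, r₀.Prime ∧ s₀.Prime ∧ r₀ ∣ cs a ∧ s₀ ∣ cs b ∧
      (r₀ = s₀ ∨ ∃ x : G, p ∣ orderOf x ∧ r₀ * s₀ ∣ cs x) :=
  Helper4P.key_claim_of_core p (core p hZ ha1 hap hb1 hbp)

end Cfsg.Agent.Lib.Helper24.PSing
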