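import Mathlib

/-!
S4538 farm (architect helper24): flag lemmas shared by the pieces [L] and [P1] (helper4):
a matrix moving each member of a flag into the previous one is nilpotent, and in characteristic `p`
a matrix `A` with `A - 1` nilpotent has `p`-power order.
-/

set_option autoImplicit false

namespace Cfsg.Agent.Lib.Helper24.SLB

open Matrix

variable {n : ℕ} {F : Type*} [Field F]

namespace Helper4B

/-- a matrix moving each member of a flag into the previous one kills `V j` by its `j`-th power -/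
theorem pow_mulVec_eq_zero_of_flag {m : ℕ} (V : Fin (m + 1) → Submodule F (Fin n → F))
    (hV0 : V 0 = ⊥) (N : Matrix (Fin n) (Fin n) F)
    (hN : ∀ i : Fin m, ∀ v ∈ V i.succ, N *ᵥ v ∈ V i.castSucc) :
    ∀ (j : ℕ) (hj : j < m + 1), ∀ v ∈ V ⟨j, hj⟩, (N ^ j) *ᵥ v = 0 := by
  intro j
  induction j with
  | zero =>
    intro hj v hv
    have h0 : (⟨0, hj⟩ : Fin (m + 1)) = 0 := rfl
    rw [h0, hV0, Submodule.mem_bot] at hv
    rw [hv, Matrix.mulVec_zero]
  | succ j ih =>
    intro hj v hv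
    have hjm : j < m := Nat.lt_of_succ_lt_succ hj
    have h1 : (⟨j + 1, hj⟩ : Fin (m + 1)) = (⟨j, hjm⟩ : Fin m).succ := rfl
    rw [h1] at hv
    have h2 := hN ⟨j, hjm⟩ v hv
    have h3 : ((⟨j, hjm⟩ : Fin m).castSucc : Fin (m + 1)) = ⟨j, Nat.lt_succ_of_lt hjm⟩ := rfl
    rw [h3] at h2
    have h4 := ih (Nat.lt_succ_of_lt hjm) _ h2
    rw [pow_succ, ← Matrix.mulVec_mulVec]
    exact h4

theorem eq_zero_of_forall_mulVec (N : Matrix (Fin n) (Fin n) F) (h : ∀ v : Fin n → F, N *ᵥ v = 0) :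
    N = 0 := by
  ext i j
  have := congrFun (h (Pi.single j 1)) i
  simpa using this

/-- a matrix moving each member of a complete flag of length `m` into the previous one has
vanishing `m`-th power -/
theorem pow_eq_zero_of_flag {m : ℕ} (V : Fin (m + 1) → Submodule F (Fin n → F))
    (hV0 : V 0 = ⊥) (hVt : V (Fin.last m) = ⊤) (N : Matrix (Fin n) (Fin n) F)
    (hN : ∀ i : Fin m, ∀ v ∈ V i.succ, N *ᵥ v ∈ V i.castSucc) : N ^ m = 0 := by
  apply eq_zero_of_forall_mulVec
  intro v
  have hv : v ∈ V (⟨m, Nat.lt_succ_self m⟩ : Fin (m + 1)) := by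
    have : (⟨m, Nat.lt_succ_self m⟩ : Fin (m + 1)) = Fin.last m := rfl
    rw [this, hVt]; exact Submodule.mem_top
  exact pow_mulVec_eq_zero_of_flag V hV0 N hN m (Nat.lt_succ_self m) v hv

/-- in characteristic `p`, a matrix `A` with `(A - 1) ^ m = 0` has `A ^ p ^ m = 1` -/
theorem pow_p_pow_eq_one (p : ℕ) [Fact p.Prime] [CharP F p] (A : Matrix (Fin n) (Fin n) F) (m : ℕ)
    (h : (A - 1) ^ m = 0) : A ^ p ^ m = 1 := by
  rcases isEmpty_or_nonempty (Fin n) with hn | hn
  · exact Subsingleton.elim _ _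
  · have hA : A = (A - 1) + 1 := by abel
    have hcomm : Commute (A - 1) (1 : Matrix (Fin n) (Fin n) F) := Commute.one_right _
    have hle : m ≤ p ^ m := (Nat.lt_pow_self (Fact.out : p.Prime).one_lt).le
    rw [hA, add_pow_char_pow_of_commute _ _ hcomm, one_pow, pow_eq_zero_of_le hle h, zero_add]

end Helper4B

end Cfsg.Agent.Lib.Helper24.SLB
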