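import Mathlib
import Cfsg.Prelude.Def_Solvable
import Cfsg.Agent.S2391
import Cfsg.Agent.Lib.Helper4.SLBFlag

/-!
S4538 farm (architect helper24), piece [P1]: a nontrivial radical `p`-subgroup `D` of `SL_n(F)`
(`O_p(N(D)) = D`) has all `p`-regular elements of its centralizer central.
-/

set_option autoImplicit false

namespace Cfsg.Agent.Lib.Helper24.SLB

open Matrix

variable {n : ℕ} {F : Type*} [Field F]

namespace Helper4B

/-- the elements of `SL_n(F)` stabilizing a flag and acting trivially on its quotients, as a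
submonoid -/
def flagUM {m : ℕ} (V : Fin (m + 1) → Submodule F (Fin n → F)) :
    Submonoid (SpecialLinearGroup (Fin n) F) where
  carrier := {g | (∀ j : Fin (m + 1), ∀ w ∈ V j, (g : Matrix (Fin n) (Fin n) F) *ᵥ w ∈ V j) ∧
    ∀ i : Fin m, ∀ v ∈ V i.succ, (g : Matrix (Fin n) (Fin n) F) *ᵥ v - v ∈ V i.castSucc}
  one_mem' := by
    refine ⟨fun j w hw => ?_, fun i v _ => ?_⟩
    · rw [Matrix.SpecialLinearGroup.coe_one, Matrix.one_mulVec]; exact hw
    · rw [Matrix.SpecialLinearGroup.coe_one, Matrix.one_mulVec, sub_self]; exact Submodule.zero_mem _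
  mul_mem' := by
    rintro a b ⟨ha1, ha2⟩ ⟨hb1, hb2⟩
    refine ⟨fun j w hw => ?_, fun i v hv => ?_⟩
    · rw [Matrix.SpecialLinearGroup.coe_mul, ← Matrix.mulVec_mulVec]
      exact ha1 j _ (hb1 j w hw)
    · have h : ((a : Matrix (Fin n) (Fin n) F) * (b : Matrix (Fin n) (Fin n) F)) *ᵥ v - v =
          (a : Matrix (Fin n) (Fin n) F) *ᵥ ((b : Matrix (Fin n) (Fin n) F) *ᵥ v - v) +
            ((a : Matrix (Fin n) (Fin n) F) *ᵥ v - v) := by
        rw [Matrix.mulVec_sub, ← Matrix.mulVec_mulVec]; abel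
      rw [Matrix.SpecialLinearGroup.coe_mul, h]
      exact Submodule.add_mem _ (ha1 _ _ (hb2 i v hv)) (ha2 i v hv)

theorem mem_flagUM {m : ℕ} {V : Fin (m + 1) → Submodule F (Fin n → F)}
    {g : SpecialLinearGroup (Fin n) F} : g ∈ flagUM V ↔
      (∀ j : Fin (m + 1), ∀ w ∈ V j, (g : Matrix (Fin n) (Fin n) F) *ᵥ w ∈ V j) ∧
      ∀ i : Fin m, ∀ v ∈ V i.succ, (g : Matrix (Fin n) (Fin n) F) *ᵥ v - v ∈ V i.castSucc :=
  Iff.rfl

theorem pow_eq_one_of_mem_flagUM (p : ℕ) [Fact p.Prime] [CharP F p] {m : ℕ}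
    (V : Fin (m + 1) → Submodule F (Fin n → F)) (hV0 : V 0 = ⊥) (hVt : V (Fin.last m) = ⊤)
    {g : SpecialLinearGroup (Fin n) F} (hg : g ∈ flagUM V) : g ^ p ^ m = 1 := by
  have hnil : ((g : Matrix (Fin n) (Fin n) F) - 1) ^ m = 0 := by
    apply pow_eq_zero_of_flag V hV0 hVt
    intro i v hv
    rw [Matrix.sub_mulVec, Matrix.one_mulVec]
    exact hg.2 i v hv
  have h1 := pow_p_pow_eq_one p (g : Matrix (Fin n) (Fin n) F) m hnil
  apply Subtype.ext
  rw [Matrix.SpecialLinearGroup.coe_pow]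
  exact h1

/-- the same as a subgroup (in characteristic `p`, for a complete flag) -/
def flagU (p : ℕ) [Fact p.Prime] [CharP F p] {m : ℕ}
    (V : Fin (m + 1) → Submodule F (Fin n → F)) (hV0 : V 0 = ⊥) (hVt : V (Fin.last m) = ⊤) :
    Subgroup (SpecialLinearGroup (Fin n) F) :=
  { flagUM V with
    inv_mem' := by
      intro g hg
      have h1 : g ^ p ^ m = 1 := pow_eq_one_of_mem_flagUM p V hV0 hVt hg
      have hpos : 1 ≤ p ^ m := Nat.one_le_pow _ _ (Fact.out : p.Prime).pos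
      have h2 : g⁻¹ = g ^ (p ^ m - 1) := by
        apply inv_eq_of_mul_eq_one_right
        rw [← pow_succ', Nat.sub_add_cancel hpos, h1]
      rw [h2]
      exact (flagUM V).pow_mem hg _ }

theorem mem_flagU (p : ℕ) [Fact p.Prime] [CharP F p] {m : ℕ}
    {V : Fin (m + 1) → Submodule F (Fin n → F)} {hV0 : V 0 = ⊥} {hVt : V (Fin.last m) = ⊤}
    {g : SpecialLinearGroup (Fin n) F} : g ∈ flagU p V hV0 hVt ↔ g ∈ flagUM V := Iff.rfl

theorem flagU_isPGroup (p : ℕ) [Fact p.Prime] [CharP F p] {m : ℕ}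
    (V : Fin (m + 1) → Submodule F (Fin n → F)) (hV0 : V 0 = ⊥) (hVt : V (Fin.last m) = ⊤) :
    IsPGroup p (flagU p V hV0 hVt) := by
  rintro ⟨g, hg⟩
  refine ⟨m, Subtype.ext ?_⟩
  rw [Subgroup.coe_pow]
  exact pow_eq_one_of_mem_flagUM p V hV0 hVt hg

/-! ### linear forms as vectors -/

theorem exists_dotProduct_of_dual (f : Module.Dual F (Fin n → F)) :
    ∃ φ : Fin n → F, ∀ x : Fin n → F, f x = φ ⬝ᵥ x := by
  refine ⟨fun i => f (fun j => if i = j then 1 else 0), fun x => ?_⟩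
  rw [LinearMap.pi_apply_eq_sum_univ f x, dotProduct]
  apply Finset.sum_congr rfl
  intro i _
  rw [smul_eq_mul, mul_comm]

theorem exists_form_of_lt_top {W : Submodule F (Fin n → F)} (hW : W < ⊤) :
    ∃ (φ x₀ : Fin n → F), (∀ w ∈ W, φ ⬝ᵥ w = 0) ∧ φ ⬝ᵥ x₀ = 1 := by
  obtain ⟨f, hf, hfW⟩ := Submodule.exists_dual_map_eq_bot_of_lt_top hW inferInstance
  obtain ⟨φ, hφ⟩ := exists_dotProduct_of_dual f
  have hx : ∃ x, f x ≠ 0 := by
    by_contra hcon
    push_neg at hcon
    exact hf (LinearMap.ext hcon)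
  obtain ⟨x, hx⟩ := hx
  refine ⟨φ, (f x)⁻¹ • x, fun w hw => ?_, ?_⟩
  · rw [← hφ]
    have : f w ∈ W.map f := Submodule.mem_map_of_mem hw
    rw [hfW, Submodule.mem_bot] at this
    exact this
  · rw [← hφ, map_smul, smul_eq_mul, inv_mul_cancel₀ hx]

theorem exists_form_of_notMem {W : Submodule F (Fin n → F)} {y : Fin n → F} (hy : y ∉ W) :
    ∃ φ : Fin n → F, (∀ w ∈ W, φ ⬝ᵥ w = 0) ∧ φ ⬝ᵥ y ≠ 0 := by
  obtain ⟨f, hf, hfW⟩ := Submodule.exists_dual_map_eq_bot_of_notMem hy inferInstance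
  obtain ⟨φ, hφ⟩ := exists_dotProduct_of_dual f
  refine ⟨φ, fun w hw => ?_, ?_⟩
  · rw [← hφ]
    have : f w ∈ W.map f := Submodule.mem_map_of_mem hw
    rw [hfW, Submodule.mem_bot] at this
    exact this
  · rw [← hφ]; exact hf

/-! ### transvections -/

theorem det_one_add_vecMulVec (v φ : Fin n → F) :
    (1 + vecMulVec v φ : Matrix (Fin n) (Fin n) F).det = 1 + φ ⬝ᵥ v := by
  rw [Matrix.vecMulVec_eq (ι := Unit), Matrix.det_one_add_replicateCol_mul_replicateRow]

/-- the transvection `1 + v φᵀ` for `φ(v) = 0` -/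
noncomputable def transv (v φ : Fin n → F) (h : φ ⬝ᵥ v = 0) : SpecialLinearGroup (Fin n) F :=
  ⟨1 + vecMulVec v φ, by rw [det_one_add_vecMulVec, h, add_zero]⟩

theorem transv_coe (v φ : Fin n → F) (h : φ ⬝ᵥ v = 0) :
    ((transv v φ h : SpecialLinearGroup (Fin n) F) : Matrix (Fin n) (Fin n) F) =
      1 + vecMulVec v φ := rfl

theorem one_add_vecMulVec_mulVec (v φ x : Fin n → F) :
    (1 + vecMulVec v φ : Matrix (Fin n) (Fin n) F) *ᵥ x = x + (φ ⬝ᵥ x) • v := by
  rw [Matrix.add_mulVec, Matrix.one_mulVec, Matrix.vecMulVec_mulVec, op_smul_eq_smul]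

/-- commuting with a transvection -/
theorem smul_eq_of_commute_transv (M : Matrix (Fin n) (Fin n) F) (v φ : Fin n → F)
    (hc : (1 + vecMulVec v φ) * M = M * (1 + vecMulVec v φ)) (x : Fin n → F) :
    (φ ⬝ᵥ (M *ᵥ x)) • v = (φ ⬝ᵥ x) • (M *ᵥ v) := by
  have h1 := congrArg (fun A : Matrix (Fin n) (Fin n) F => A *ᵥ x) hc
  simp only [← Matrix.mulVec_mulVec, one_add_vecMulVec_mulVec, Matrix.mulVec_add,
    Matrix.mulVec_smul] at h1
  exact add_left_cancel h1

theorem mem_center_of_coe_eq_smul_one (g : SpecialLinearGroup (Fin n) F) (r : F)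
    (h : (g : Matrix (Fin n) (Fin n) F) = r • (1 : Matrix (Fin n) (Fin n) F)) :
    g ∈ Subgroup.center (SpecialLinearGroup (Fin n) F) := by
  rw [Subgroup.mem_center_iff]
  intro x
  apply Subtype.ext
  rw [Matrix.SpecialLinearGroup.coe_mul, Matrix.SpecialLinearGroup.coe_mul, h, Matrix.mul_smul,
    Matrix.smul_mul, Matrix.mul_one, Matrix.one_mul]

end Helper4B

variable [Fintype F]

/-- **[P1]** a nontrivial radical `p`-subgroup `D` of `SL_n(F)` (`O_p(N(D)) = D`) has all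
`p`-regular elements of its centralizer central (Borel–Tits flag S2391 + transvections). -/
theorem pregular_centralizer_central (p : ℕ) [Fact p.Prime] [CharP F p]
    (D : Subgroup (SpecialLinearGroup (Fin n) F)) (hD : IsPGroup p D) (hne : D ≠ ⊥)
    (hcore : (Cfsg.pCore p (Subgroup.normalizer (D : Set (SpecialLinearGroup (Fin n) F)))).map
      (Subgroup.normalizer (D : Set (SpecialLinearGroup (Fin n) F))).subtype = D) :
    ∀ g ∈ Subgroup.centralizer (D : Set (SpecialLinearGroup (Fin n) F)), ¬ p ∣ orderOf g →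
      g ∈ Subgroup.center (SpecialLinearGroup (Fin n) F) := by
  classical
  haveI : Finite (SpecialLinearGroup (Fin n) F) :=
    Finite.of_injective (fun g : SpecialLinearGroup (Fin n) F => (g : Matrix (Fin n) (Fin n) F))
      Subtype.val_injective
  obtain ⟨k, V, hk, hmono, hV0, hVt, hstab, htriv⟩ := Cfsg.Agent.S2391.result p n D hD hne
  -- `N(D)` preserves the flag
  have hpres : ∀ g ∈ Subgroup.normalizer (D : Set (SpecialLinearGroup (Fin n) F)),
      ∀ j : Fin (k + 2), ∀ w ∈ V j, (g : Matrix (Fin n) (Fin n) F) *ᵥ w ∈ V j := by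
    intro g hg j w hw
    have h1 : Matrix.mulVecLin (g : Matrix (Fin n) (Fin n) F) w ∈
        (V j).map (Matrix.mulVecLin (g : Matrix (Fin n) (Fin n) F)) := Submodule.mem_map_of_mem hw
    rw [hstab g hg j, Matrix.mulVecLin_apply] at h1
    exact h1
  have hUmem : ∀ x : SpecialLinearGroup (Fin n) F, x ∈ Helper4B.flagU p V hV0 hVt ↔
      (∀ j : Fin (k + 2), ∀ w ∈ V j, (x : Matrix (Fin n) (Fin n) F) *ᵥ w ∈ V j) ∧
      ∀ i : Fin (k + 1), ∀ v ∈ V i.succ,
        (x : Matrix (Fin n) (Fin n) F) *ᵥ v - v ∈ V i.castSucc := fun x => Iff.rfl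
  have hDU : D ≤ Helper4B.flagU p V hV0 hVt := by
    intro u hu
    exact (hUmem u).mpr ⟨hpres u (Subgroup.le_normalizer hu), htriv u hu⟩
  -- `N(D)` normalizes the flag subgroup
  have hconj : ∀ g ∈ Subgroup.normalizer (D : Set (SpecialLinearGroup (Fin n) F)),
      ∀ u ∈ Helper4B.flagU p V hV0 hVt, g * u * g⁻¹ ∈ Helper4B.flagU p V hV0 hVt := by
    intro g hg u hu
    have hgi : g⁻¹ ∈ Subgroup.normalizer (D : Set (SpecialLinearGroup (Fin n) F)) :=
      Subgroup.inv_mem _ hg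
    have hu' := (hUmem u).mp hu
    have hcancel : ∀ v : Fin n → F, (g : Matrix (Fin n) (Fin n) F) *ᵥ
        (((g⁻¹ : SpecialLinearGroup (Fin n) F) : Matrix (Fin n) (Fin n) F) *ᵥ v) = v := by
      intro v
      rw [Matrix.mulVec_mulVec, ← Matrix.SpecialLinearGroup.coe_mul, mul_inv_cancel,
        Matrix.SpecialLinearGroup.coe_one, Matrix.one_mulVec]
    refine (hUmem _).mpr ⟨fun j w hw => ?_, fun i v hv => ?_⟩
    · rw [Matrix.SpecialLinearGroup.coe_mul, Matrix.SpecialLinearGroup.coe_mul,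
        ← Matrix.mulVec_mulVec, ← Matrix.mulVec_mulVec]
      exact hpres g hg j _ (hu'.1 j _ (hpres g⁻¹ hgi j w hw))
    · have h1 := hu'.2 i _ (hpres g⁻¹ hgi i.succ v hv)
      have h2 := hpres g hg i.castSucc _ h1
      rw [Matrix.mulVec_sub, hcancel] at h2
      rw [Matrix.SpecialLinearGroup.coe_mul, Matrix.SpecialLinearGroup.coe_mul,
        ← Matrix.mulVec_mulVec, ← Matrix.mulVec_mulVec]
      exact h2
  -- `Ũ ∩ N(D) ≤ D`
  have hQD : ∀ x ∈ Helper4B.flagU p V hV0 hVt,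
      x ∈ Subgroup.normalizer (D : Set (SpecialLinearGroup (Fin n) F)) → x ∈ D := by
    intro x hxU hxN
    have hnormal : ((Helper4B.flagU p V hV0 hVt).subgroupOf
        (Subgroup.normalizer (D : Set (SpecialLinearGroup (Fin n) F)))).Normal := by
      constructor
      intro a ha b
      rw [Subgroup.mem_subgroupOf] at ha ⊢
      have := hconj b.1 b.2 a.1 ha
      simpa using this
    have hp : IsPGroup p ((Helper4B.flagU p V hV0 hVt).subgroupOf
        (Subgroup.normalizer (D : Set (SpecialLinearGroup (Fin n) F)))) :=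
      (Helper4B.flagU_isPGroup p V hV0 hVt).comap_subtype
    have hle : (Helper4B.flagU p V hV0 hVt).subgroupOf
        (Subgroup.normalizer (D : Set (SpecialLinearGroup (Fin n) F))) ≤
        Cfsg.pCore p (Subgroup.normalizer (D : Set (SpecialLinearGroup (Fin n) F))) :=
      le_sSup ⟨hnormal, hp⟩
    have hmem : (⟨x, hxN⟩ : Subgroup.normalizer (D : Set (SpecialLinearGroup (Fin n) F))) ∈
        Cfsg.pCore p (Subgroup.normalizer (D : Set (SpecialLinearGroup (Fin n) F))) :=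
      hle (Subgroup.mem_subgroupOf.mpr hxU)
    rw [← hcore]
    exact ⟨⟨x, hxN⟩, hmem, rfl⟩
  -- normalizer condition in the `p`-group `Ũ`
  have hUD : Helper4B.flagU p V hV0 hVt ≤ D := by
    haveI : Group.IsNilpotent (Helper4B.flagU p V hV0 hVt) :=
      (Helper4B.flagU_isPGroup p V hV0 hVt).isNilpotent
    by_contra hcon
    have hlt : D.subgroupOf (Helper4B.flagU p V hV0 hVt) < ⊤ := by
      rw [lt_top_iff_ne_top]
      intro htop
      apply hcon
      intro x hx
      have : (⟨x, hx⟩ : Helper4B.flagU p V hV0 hVt) ∈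
          D.subgroupOf (Helper4B.flagU p V hV0 hVt) := by rw [htop]; exact Subgroup.mem_top _
      exact Subgroup.mem_subgroupOf.mp this
    have hnc := normalizerCondition_of_isNilpotent (G := Helper4B.flagU p V hV0 hVt)
      (D.subgroupOf (Helper4B.flagU p V hV0 hVt)) hlt
    obtain ⟨x, hxN, hxD⟩ := SetLike.exists_of_lt hnc
    apply hxD
    rw [Subgroup.mem_subgroupOf]
    apply hQD x.1 x.2
    rw [Subgroup.mem_set_normalizer_iff]
    intro h
    rw [Subgroup.mem_normalizer_iff] at hxN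
    constructor
    · intro hh
      have := (hxN ⟨h, hDU hh⟩).mp (Subgroup.mem_subgroupOf.mpr hh)
      rw [Subgroup.mem_subgroupOf] at this
      simpa using this
    · intro hh
      have hhU : h ∈ Helper4B.flagU p V hV0 hVt := by
        have h1 : x.1 * h * x.1⁻¹ ∈ Helper4B.flagU p V hV0 hVt := hDU hh
        have h2 : h = x.1⁻¹ * (x.1 * h * x.1⁻¹) * x.1 := by group
        rw [h2]
        exact Subgroup.mul_mem _ (Subgroup.mul_mem _ (Subgroup.inv_mem _ x.2) h1) x.2
      have := (hxN ⟨h, hhU⟩).mpr (by rw [Subgroup.mem_subgroupOf]; simpa using hh)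
      exact Subgroup.mem_subgroupOf.mp this
  -- the first member of the flag
  have hW0 : V (0 : Fin (k + 1)).succ ≠ ⊥ := by
    have h1 : V (Fin.castSucc (0 : Fin (k + 1))) < V (0 : Fin (k + 1)).succ :=
      hmono (Fin.castSucc_lt_succ_iff.mpr le_rfl)
    rw [Fin.castSucc_zero', hV0] at h1
    exact ne_of_gt h1
  have hWt : V (0 : Fin (k + 1)).succ < ⊤ := by
    rw [← hVt]
    apply hmono
    rw [Fin.lt_def, Fin.val_succ, Fin.val_last]
    simp only [Fin.val_zero]
    omega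
  have hWle : ∀ j : Fin (k + 2), j ≠ 0 → V (0 : Fin (k + 1)).succ ≤ V j := by
    intro j hj
    apply hmono.monotone
    rw [Fin.le_def, Fin.val_succ]
    have : j.val ≠ 0 := fun h => hj (Fin.ext h)
    simp only [Fin.val_zero]
    omega
  -- transvections lie in `D`
  have htrans : ∀ (v φ : Fin n → F) (hv : v ∈ V (0 : Fin (k + 1)).succ)
      (hφ : ∀ w ∈ V (0 : Fin (k + 1)).succ, φ ⬝ᵥ w = 0),
      Helper4B.transv v φ (hφ v hv) ∈ D := by
    intro v φ hv hφ
    apply hUD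
    refine (hUmem _).mpr ⟨fun j w hw => ?_, fun i x hx => ?_⟩
    · rw [Helper4B.transv_coe, Helper4B.one_add_vecMulVec_mulVec]
      by_cases hj : j = 0
      · rw [hj, hV0, Submodule.mem_bot] at hw
        rw [hw, dotProduct_zero, zero_smul, add_zero]
        exact Submodule.zero_mem _
      · exact Submodule.add_mem _ hw (Submodule.smul_mem _ _ (hWle j hj hv))
    · rw [Helper4B.transv_coe, Helper4B.one_add_vecMulVec_mulVec, add_sub_cancel_left]
      by_cases hi : i = 0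
      · rw [hi] at hx
        rw [hφ x hx, zero_smul]
        exact Submodule.zero_mem _
      · apply Submodule.smul_mem
        apply hWle _ _ hv
        intro h0
        apply hi
        apply Fin.ext
        have := congrArg Fin.val h0
        simpa using this
  -- the final argument
  intro g hgC hgp
  rcases isEmpty_or_nonempty (Fin n) with hn | hn
  · have h1 : g = 1 := Subtype.ext (Subsingleton.elim _ _)
    rw [h1]
    exact Subgroup.one_mem _
  have hcomm : ∀ (v φ : Fin n → F) (_ : v ∈ V (0 : Fin (k + 1)).succ)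
      (_ : ∀ w ∈ V (0 : Fin (k + 1)).succ, φ ⬝ᵥ w = 0) (x : Fin n → F),
      (φ ⬝ᵥ ((g : Matrix (Fin n) (Fin n) F) *ᵥ x)) • v =
        (φ ⬝ᵥ x) • ((g : Matrix (Fin n) (Fin n) F) *ᵥ v) := by
    intro v φ hv hφ x
    apply Helper4B.smul_eq_of_commute_transv
    have h1 := (Subgroup.mem_centralizer_iff.mp hgC) _ (htrans v φ hv hφ)
    have h2 := congrArg
      (fun a : SpecialLinearGroup (Fin n) F => (a : Matrix (Fin n) (Fin n) F)) h1
    simp only [Matrix.SpecialLinearGroup.coe_mul, Helper4B.transv_coe] at h2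
    exact h2
  obtain ⟨φ₀, x₀, hφ₀, hφx⟩ := Helper4B.exists_form_of_lt_top hWt
  have hMW : ∀ v ∈ V (0 : Fin (k + 1)).succ, (g : Matrix (Fin n) (Fin n) F) *ᵥ v =
      (φ₀ ⬝ᵥ ((g : Matrix (Fin n) (Fin n) F) *ᵥ x₀)) • v := by
    intro v hv
    have := hcomm v φ₀ hv hφ₀ x₀
    rw [hφx, one_smul] at this
    exact this.symm
  generalize hc : φ₀ ⬝ᵥ ((g : Matrix (Fin n) (Fin n) F) *ᵥ x₀) = c at hMW
  obtain ⟨v₁, hv₁W, hv₁0⟩ := Submodule.exists_mem_ne_zero_of_ne_bot hW0
  have hNW : ∀ x : Fin n → F,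
      (g : Matrix (Fin n) (Fin n) F) *ᵥ x - c • x ∈ V (0 : Fin (k + 1)).succ := by
    intro x
    by_contra hx
    obtain ⟨φ, hφ, hφy⟩ := Helper4B.exists_form_of_notMem hx
    apply hφy
    have h1 := hcomm v₁ φ hv₁W hφ x
    rw [hMW v₁ hv₁W, smul_smul, ← sub_eq_zero, ← sub_smul] at h1
    have h2 : φ ⬝ᵥ ((g : Matrix (Fin n) (Fin n) F) *ᵥ x) - φ ⬝ᵥ x * c = 0 := by
      rcases smul_eq_zero.mp h1 with h | h
      · exact h
      · exact absurd h hv₁0
    rw [dotProduct_sub, dotProduct_smul, smul_eq_mul, mul_comm c]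
    exact h2
  have hsub : ∀ x : Fin n → F,
      ((g : Matrix (Fin n) (Fin n) F) - c • (1 : Matrix (Fin n) (Fin n) F)) *ᵥ x =
        (g : Matrix (Fin n) (Fin n) F) *ᵥ x - c • x := by
    intro x
    rw [Matrix.sub_mulVec, Matrix.smul_mulVec, Matrix.one_mulVec]
  have hNN : ((g : Matrix (Fin n) (Fin n) F) - c • (1 : Matrix (Fin n) (Fin n) F)) *
      ((g : Matrix (Fin n) (Fin n) F) - c • 1) = 0 := by
    apply Helper4B.eq_zero_of_forall_mulVec
    intro x
    rw [← Matrix.mulVec_mulVec, hsub x, hsub, hMW _ (hNW x), sub_self]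
  have hMp : (g : Matrix (Fin n) (Fin n) F) ^ p = (c ^ p) • (1 : Matrix (Fin n) (Fin n) F) := by
    have hp2 : 2 ≤ p := (Fact.out : p.Prime).two_le
    have hA : (g : Matrix (Fin n) (Fin n) F) =
        ((g : Matrix (Fin n) (Fin n) F) - c • 1) + c • (1 : Matrix (Fin n) (Fin n) F) := by abel
    have hcm : Commute ((g : Matrix (Fin n) (Fin n) F) - c • (1 : Matrix (Fin n) (Fin n) F))
        (c • 1) := (Commute.one_right _).smul_right c
    have hz : ((g : Matrix (Fin n) (Fin n) F) - c • (1 : Matrix (Fin n) (Fin n) F)) ^ p = 0 := by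
      apply pow_eq_zero_of_le hp2
      rw [pow_two]; exact hNN
    conv_lhs => rw [hA]
    rw [add_pow_char_of_commute p hcm, hz, zero_add, smul_pow, one_pow]
  have hcop : Nat.Coprime p (orderOf g) :=
    (Nat.Prime.coprime_iff_not_dvd (Fact.out : p.Prime)).mpr hgp
  obtain ⟨a, ha⟩ := exists_pow_eq_self_of_coprime hcop
  apply Helper4B.mem_center_of_coe_eq_smul_one g ((c ^ p) ^ a)
  have h1 : (g : Matrix (Fin n) (Fin n) F) = ((g : Matrix (Fin n) (Fin n) F) ^ p) ^ a := by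
    conv_lhs => rw [← ha]
    rw [Matrix.SpecialLinearGroup.coe_pow, Matrix.SpecialLinearGroup.coe_pow]
  rw [h1, hMp, smul_pow, one_pow]

end Cfsg.Agent.Lib.Helper24.SLB
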