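import Cfsg.Agent.Lib.Helper28.CG.Defs

/-!
# S3412 farm piece [C1]: the Levi graph of `PG(2,3)` has at most `11232 = 26 * 12 * 9 * 4` automorphisms

Stabiliser chain along a quadrangle `q1, q2, q3, q4` (orbit-stabiliser bound at each step, the candidate
sets are decidable finsets of sizes `26, 12, 9, 4`), and rigidity: an automorphism fixing the quadrangle
is the identity (two vertices with a unique common neighbour).
-/

set_option autoImplicit false

namespace Cfsg.Agent.Lib.Helper28.CG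

namespace Helper4

/-- orbit-stabiliser bound: if every element of `G` maps `x` into the finset `S`, then
`|G| ≤ |S| * |G_x|`. -/
theorem card_le_mul_card_inf_stabilizer {X : Type*} [Fintype X] [DecidableEq X]
    (G : Subgroup (Equiv.Perm X)) (x : X) (S : Finset X) (h : ∀ σ ∈ G, σ x ∈ S) :
    Nat.card G ≤ S.card * Nat.card ↥(G ⊓ MulAction.stabilizer (Equiv.Perm X) x) := by
  set K : Subgroup (Equiv.Perm X) := G ⊓ MulAction.stabilizer (Equiv.Perm X) x with hK
  have hKG : K ≤ G := inf_le_left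
  have h1 : Nat.card K * K.relIndex G = Nat.card G := by
    have := Subgroup.relIndex_mul_relIndex (⊥ : Subgroup (Equiv.Perm X)) K G bot_le hKG
    rwa [Subgroup.relIndex_bot_left, Subgroup.relIndex_bot_left] at this
  have h2 : K.relIndex G ≤ S.card := by
    have e : K.subgroupOf G = MulAction.stabilizer G x := by
      ext σ
      rw [Subgroup.mem_subgroupOf, MulAction.mem_stabilizer_iff, hK, Subgroup.mem_inf,
        MulAction.mem_stabilizer_iff]
      constructor
      · intro hh; exact hh.2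
      · intro hh; exact ⟨σ.2, hh⟩
    have e2 : K.relIndex G = (MulAction.orbit G x).ncard := by
      rw [Subgroup.relIndex, e, MulAction.index_stabilizer (↥G) x]
    rw [e2]
    have hsub : MulAction.orbit G x ⊆ (S : Set X) := by
      rintro y ⟨σ, rfl⟩
      exact h σ.1 σ.2
    calc (MulAction.orbit G x).ncard ≤ (S : Set X).ncard :=
          Set.ncard_le_ncard hsub (Finset.finite_toSet S)
      _ = S.card := Set.ncard_coe_finset S
  calc Nat.card G = Nat.card K * K.relIndex G := h1.symm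
    _ ≤ Nat.card K * S.card := Nat.mul_le_mul_left _ h2
    _ = S.card * Nat.card K := Nat.mul_comm _ _

/-- a common neighbour -/
def cn (a b : Om) : Prop := ∃ c, LeviAdj a c ∧ LeviAdj b c

/-- a common neighbour of three vertices -/
def cn3 (a b d : Om) : Prop := ∃ c, LeviAdj a c ∧ LeviAdj b c ∧ LeviAdj d c

instance : DecidableRel cn := fun a b => by unfold cn; infer_instance

instance (a b d : Om) : Decidable (cn3 a b d) := by unfold cn3; infer_instance

theorem adj_inv {σ : Equiv.Perm Om} (hσ : σ ∈ LeviAut) (a c : Om) (h : LeviAdj (σ a) c) :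
    LeviAdj a (σ⁻¹ c) := by
  have e : σ (σ⁻¹ c) = c := σ.apply_symm_apply c
  exact (hσ a (σ⁻¹ c)).1 (by rw [e]; exact h)

theorem cn_iff {σ : Equiv.Perm Om} (hσ : σ ∈ LeviAut) (a b : Om) : cn (σ a) (σ b) ↔ cn a b := by
  constructor
  · rintro ⟨c, h1, h2⟩
    exact ⟨σ⁻¹ c, adj_inv hσ a c h1, adj_inv hσ b c h2⟩
  · rintro ⟨c, h1, h2⟩
    exact ⟨σ c, (hσ a c).2 h1, (hσ b c).2 h2⟩

theorem cn3_iff {σ : Equiv.Perm Om} (hσ : σ ∈ LeviAut) (a b d : Om) :
    cn3 (σ a) (σ b) (σ d) ↔ cn3 a b d := by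
  constructor
  · rintro ⟨c, h1, h2, h3⟩
    exact ⟨σ⁻¹ c, adj_inv hσ a c h1, adj_inv hσ b c h2, adj_inv hσ d c h3⟩
  · rintro ⟨c, h1, h2, h3⟩
    exact ⟨σ c, (hσ a c).2 h1, (hσ b c).2 h2, (hσ d c).2 h3⟩

/-- the quadrangle -/
def q1 : Om := Sum.inl 0
/-- the quadrangle -/
def q2 : Om := Sum.inl 9
/-- the quadrangle -/
def q3 : Om := Sum.inl 12
/-- the quadrangle -/
def q4 : Om := Sum.inl 4

/-- candidates for the image of `q2` -/
def S2 : Finset Om := Finset.univ.filter fun b => b ≠ q1 ∧ cn q1 b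
/-- candidates for the image of `q3` -/
def S3 : Finset Om := Finset.univ.filter fun c => cn q1 c ∧ ¬ cn3 q1 q2 c
/-- candidates for the image of `q4` -/
def S4 : Finset Om :=
  Finset.univ.filter fun d => cn q1 d ∧ ¬ cn3 q1 q2 d ∧ ¬ cn3 q1 q3 d ∧ ¬ cn3 q2 q3 d

theorem card_univ_Om : (Finset.univ : Finset Om).card = 26 := by decide
theorem card_S2 : S2.card = 12 := by decide +kernel
theorem card_S3 : S3.card = 9 := by decide +kernel
theorem card_S4 : S4.card = 4 := by decide +kernel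

theorem fix_of_cn {ρ : Equiv.Perm Om} (hρ : ρ ∈ LeviAut) {a b c : Om} (ha : ρ a = a) (hb : ρ b = b)
    (hac : LeviAdj a c) (hbc : LeviAdj b c)
    (huniq : ∀ c', LeviAdj a c' → LeviAdj b c' → c' = c) : ρ c = c := by
  apply huniq
  · have := (hρ a c).2 hac
    rwa [ha] at this
  · have := (hρ b c).2 hbc
    rwa [hb] at this

/-- rigidity -/
theorem eq_one_of_fix {ρ : Equiv.Perm Om} (hρ : ρ ∈ LeviAut) (hl0 : ρ (Sum.inl 0) = Sum.inl 0)
    (hl9 : ρ (Sum.inl 9) = Sum.inl 9) (hl12 : ρ (Sum.inl 12) = Sum.inl 12)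
    (hl4 : ρ (Sum.inl 4) = Sum.inl 4) : ρ = 1 := by
  have hr12 : ρ (Sum.inr 12) = Sum.inr 12 := fix_of_cn hρ hl0 hl9 (by decide) (by decide) (by decide)
  have hr9 : ρ (Sum.inr 9) = Sum.inr 9 := fix_of_cn hρ hl0 hl12 (by decide) (by decide) (by decide)
  have hr11 : ρ (Sum.inr 11) = Sum.inr 11 := fix_of_cn hρ hl0 hl4 (by decide) (by decide) (by decide)
  have hr0 : ρ (Sum.inr 0) = Sum.inr 0 := fix_of_cn hρ hl9 hl12 (by decide) (by decide) (by decide)
  have hr2 : ρ (Sum.inr 2) = Sum.inr 2 := fix_of_cn hρ hl9 hl4 (by decide) (by decide) (by decide)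
  have hr6 : ρ (Sum.inr 6) = Sum.inr 6 := fix_of_cn hρ hl12 hl4 (by decide) (by decide) (by decide)
  have hl3 : ρ (Sum.inl 3) = Sum.inl 3 := fix_of_cn hρ hr12 hr6 (by decide) (by decide) (by decide)
  have hl1 : ρ (Sum.inl 1) = Sum.inl 1 := fix_of_cn hρ hr9 hr2 (by decide) (by decide) (by decide)
  have hl10 : ρ (Sum.inl 10) = Sum.inl 10 := fix_of_cn hρ hr11 hr0 (by decide) (by decide) (by decide)
  have hr8 : ρ (Sum.inr 8) = Sum.inr 8 := fix_of_cn hρ hl3 hl1 (by decide) (by decide) (by decide)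
  have hr7 : ρ (Sum.inr 7) = Sum.inr 7 := fix_of_cn hρ hl3 hl10 (by decide) (by decide) (by decide)
  have hr5 : ρ (Sum.inr 5) = Sum.inr 5 := fix_of_cn hρ hl1 hl10 (by decide) (by decide) (by decide)
  have hl6 : ρ (Sum.inl 6) = Sum.inl 6 := fix_of_cn hρ hr12 hr5 (by decide) (by decide) (by decide)
  have hl2 : ρ (Sum.inl 2) = Sum.inl 2 := fix_of_cn hρ hr9 hr7 (by decide) (by decide) (by decide)
  have hl8 : ρ (Sum.inl 8) = Sum.inl 8 := fix_of_cn hρ hr11 hr8 (by decide) (by decide) (by decide)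
  have hl11 : ρ (Sum.inl 11) = Sum.inl 11 := fix_of_cn hρ hr0 hr8 (by decide) (by decide) (by decide)
  have hl7 : ρ (Sum.inl 7) = Sum.inl 7 := fix_of_cn hρ hr2 hr7 (by decide) (by decide) (by decide)
  have hl5 : ρ (Sum.inl 5) = Sum.inl 5 := fix_of_cn hρ hr6 hr5 (by decide) (by decide) (by decide)
  have hr10 : ρ (Sum.inr 10) = Sum.inr 10 := fix_of_cn hρ hl0 hl11 (by decide) (by decide) (by decide)
  have hr1 : ρ (Sum.inr 1) = Sum.inr 1 := fix_of_cn hρ hl9 hl2 (by decide) (by decide) (by decide)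
  have hr3 : ρ (Sum.inr 3) = Sum.inr 3 := fix_of_cn hρ hl12 hl6 (by decide) (by decide) (by decide)
  have hr4 : ρ (Sum.inr 4) = Sum.inr 4 := fix_of_cn hρ hl4 hl6 (by decide) (by decide) (by decide)
  have hall : ∀ a : Om, ρ a = a := by
    intro a
    rcases a with i | i
    · fin_cases i
      · exact hl0
      · exact hl1
      · exact hl2
      · exact hl3
      · exact hl4
      · exact hl5
      · exact hl6
      · exact hl7
      · exact hl8
      · exact hl9
      · exact hl10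
      · exact hl11
      · exact hl12
    · fin_cases i
      · exact hr0
      · exact hr1
      · exact hr2
      · exact hr3
      · exact hr4
      · exact hr5
      · exact hr6
      · exact hr7
      · exact hr8
      · exact hr9
      · exact hr10
      · exact hr11
      · exact hr12
  exact Equiv.ext fun a => hall a

end Helper4

open Helper4 in
/-- [C1] the Levi graph of `PG(2,3)` has at most 11232 automorphisms -/
theorem card_LeviAut_le : Nat.card LeviAut ≤ 11232 := by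
  have mst : ∀ (σ : Equiv.Perm Om) (x : Om), σ ∈ MulAction.stabilizer (Equiv.Perm Om) x ↔ σ x = x := by
    intro σ x
    rw [MulAction.mem_stabilizer_iff, Equiv.Perm.smul_def]
  set H1 : Subgroup (Equiv.Perm Om) := LeviAut ⊓ MulAction.stabilizer (Equiv.Perm Om) q1 with hH1
  set H2 : Subgroup (Equiv.Perm Om) := H1 ⊓ MulAction.stabilizer (Equiv.Perm Om) q2 with hH2
  set H3 : Subgroup (Equiv.Perm Om) := H2 ⊓ MulAction.stabilizer (Equiv.Perm Om) q3 with hH3
  set H4 : Subgroup (Equiv.Perm Om) := H3 ⊓ MulAction.stabilizer (Equiv.Perm Om) q4 with hH4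
  have m1 : ∀ σ ∈ H1, σ ∈ LeviAut ∧ σ q1 = q1 := by
    intro σ hσ
    rw [hH1, Subgroup.mem_inf, mst] at hσ
    exact hσ
  have m2 : ∀ σ ∈ H2, σ ∈ LeviAut ∧ σ q1 = q1 ∧ σ q2 = q2 := by
    intro σ hσ
    rw [hH2, Subgroup.mem_inf, mst] at hσ
    exact ⟨(m1 σ hσ.1).1, (m1 σ hσ.1).2, hσ.2⟩
  have m3 : ∀ σ ∈ H3, σ ∈ LeviAut ∧ σ q1 = q1 ∧ σ q2 = q2 ∧ σ q3 = q3 := by
    intro σ hσ
    rw [hH3, Subgroup.mem_inf, mst] at hσ
    exact ⟨(m2 σ hσ.1).1, (m2 σ hσ.1).2.1, (m2 σ hσ.1).2.2, hσ.2⟩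
  have m4 : ∀ σ ∈ H4, σ ∈ LeviAut ∧ σ q1 = q1 ∧ σ q2 = q2 ∧ σ q3 = q3 ∧ σ q4 = q4 := by
    intro σ hσ
    rw [hH4, Subgroup.mem_inf, mst] at hσ
    exact ⟨(m3 σ hσ.1).1, (m3 σ hσ.1).2.1, (m3 σ hσ.1).2.2.1, (m3 σ hσ.1).2.2.2, hσ.2⟩
  have s0 : Nat.card LeviAut ≤ 26 * Nat.card H1 := by
    have := card_le_mul_card_inf_stabilizer LeviAut q1 Finset.univ (fun σ _ => Finset.mem_univ _)
    rwa [card_univ_Om] at this
  have s1 : Nat.card H1 ≤ 12 * Nat.card H2 := by
    have := card_le_mul_card_inf_stabilizer H1 q2 S2 (by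
      intro σ hσ
      obtain ⟨hL, h1⟩ := m1 σ hσ
      rw [S2, Finset.mem_filter]
      refine ⟨Finset.mem_univ _, ?_, ?_⟩
      · intro hcon
        have : σ q2 = σ q1 := by rw [hcon, h1]
        exact absurd (σ.injective this) (by decide)
      · have := (cn_iff hL q1 q2).2 (by decide)
        rwa [h1] at this)
    rwa [card_S2] at this
  have s2 : Nat.card H2 ≤ 9 * Nat.card H3 := by
    have := card_le_mul_card_inf_stabilizer H2 q3 S3 (by
      intro σ hσ
      obtain ⟨hL, h1, h2⟩ := m2 σ hσ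
      rw [S3, Finset.mem_filter]
      refine ⟨Finset.mem_univ _, ?_, ?_⟩
      · have := (cn_iff hL q1 q3).2 (by decide)
        rwa [h1] at this
      · intro hcon
        have h3 : cn3 (σ q1) (σ q2) (σ q3) := by rw [h1, h2]; exact hcon
        exact absurd ((cn3_iff hL q1 q2 q3).1 h3) (by decide))
    rwa [card_S3] at this
  have s3 : Nat.card H3 ≤ 4 * Nat.card H4 := by
    have := card_le_mul_card_inf_stabilizer H3 q4 S4 (by
      intro σ hσ
      obtain ⟨hL, h1, h2, h3⟩ := m3 σ hσ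
      rw [S4, Finset.mem_filter]
      refine ⟨Finset.mem_univ _, ?_, ?_, ?_, ?_⟩
      · have := (cn_iff hL q1 q4).2 (by decide)
        rwa [h1] at this
      · intro hcon
        have h : cn3 (σ q1) (σ q2) (σ q4) := by rw [h1, h2]; exact hcon
        exact absurd ((cn3_iff hL q1 q2 q4).1 h) (by decide)
      · intro hcon
        have h : cn3 (σ q1) (σ q3) (σ q4) := by rw [h1, h3]; exact hcon
        exact absurd ((cn3_iff hL q1 q3 q4).1 h) (by decide)
      · intro hcon
        have h : cn3 (σ q2) (σ q3) (σ q4) := by rw [h2, h3]; exact hcon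
        exact absurd ((cn3_iff hL q2 q3 q4).1 h) (by decide))
    rwa [card_S4] at this
  have s4 : Nat.card H4 = 1 := by
    have hbot : H4 = ⊥ := by
      rw [eq_bot_iff]
      intro σ hσ
      obtain ⟨hL, h1, h2, h3, h4⟩ := m4 σ hσ
      rw [Subgroup.mem_bot]
      exact eq_one_of_fix hL h1 h2 h3 h4
    rw [hbot]
    exact Subgroup.card_bot
  calc Nat.card LeviAut ≤ 26 * Nat.card H1 := s0
    _ ≤ 26 * (12 * Nat.card H2) := Nat.mul_le_mul_left _ s1
    _ ≤ 26 * (12 * (9 * Nat.card H3)) := Nat.mul_le_mul_left _ (Nat.mul_le_mul_left _ s2)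
    _ ≤ 26 * (12 * (9 * (4 * Nat.card H4))) :=
        Nat.mul_le_mul_left _ (Nat.mul_le_mul_left _ (Nat.mul_le_mul_left _ s3))
    _ = 11232 := by rw [s4]

end Cfsg.Agent.Lib.Helper28.CG
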