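import Mathlib
import Cfsg.Prelude.Def_Sporadic_a
import Cfsg.Agent.Lib.Helper3.Steiner

set_option autoImplicit false
set_option linter.style.haveILetI false
set_option linter.deprecated false

/-! Block intersection counting in a Steiner system `S(3,6,22)`. -/

namespace Cfsg.Agent.Helper4.S3622

open Finset Cfsg.Agent.Lib.Helper3.Steiner

variable {α : Type*} [Fintype α] [DecidableEq α]

/-- general double count of pairs `(I, c)` with `I ⊆ c ∩ S`, `|I| = i`. -/
theorem sum_choose_inter_gen (F : Finset (Finset α)) (S : Finset α) (i lam : ℕ)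
    (hlam : ∀ I : Finset α, I ⊆ S → I.card = i → (F.filter (I ⊆ ·)).card = lam) :
    ∑ c ∈ F, ((c ∩ S).card).choose i = S.card.choose i * lam := by
  have hdc := Finset.sum_card_bipartiteAbove_eq_sum_card_bipartiteBelow (s := S.powersetCard i)
    (t := F) (fun (I : Finset α) (c : Finset α) => I ⊆ c)
  have hL : ∀ I ∈ S.powersetCard i,
      (F.bipartiteAbove (fun (I : Finset α) (c : Finset α) => I ⊆ c) I).card = lam := by
    intro I hI
    rw [mem_powersetCard] at hI
    rw [← hlam I hI.1 hI.2]
    rfl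
  have hR : ∀ c ∈ F,
      ((S.powersetCard i).bipartiteBelow (fun (I : Finset α) (c : Finset α) => I ⊆ c) c).card =
        ((c ∩ S).card).choose i := by
    intro c _
    rw [← card_powersetCard]
    congr 1
    ext I
    simp only [bipartiteBelow, mem_filter, mem_powersetCard, subset_inter_iff]
    tauto
  rw [Finset.sum_congr rfl hL, Finset.sum_congr rfl hR] at hdc
  rw [← hdc]
  simp only [sum_const, smul_eq_mul, card_powersetCard]

/-- decomposition of a sum of a function of `|d ∩ S|` according to the value of `|d ∩ S|`. -/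
theorem sum_fiber (F : Finset (Finset α)) (S : Finset α) (g : ℕ → ℕ) (N : ℕ)
    (hN : ∀ d ∈ F, (d ∩ S).card < N) :
    ∑ d ∈ F, g (d ∩ S).card =
      ∑ j ∈ range N, (F.filter (fun d => (d ∩ S).card = j)).card * g j := by
  rw [← Finset.sum_fiberwise_of_maps_to (s := F) (t := range N) (g := fun d => (d ∩ S).card)
    (fun d hd => mem_range.2 (hN d hd))]
  refine Finset.sum_congr rfl (fun j _ => ?_)
  have h : ∀ d ∈ F.filter (fun d => (d ∩ S).card = j), g (d ∩ S).card = g j := by
    intro d hd
    rw [(mem_filter.1 hd).2]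
  rw [Finset.sum_congr rfl h, sum_const, smul_eq_mul]

/-- the number of blocks meeting `S` in exactly `j` points -/
noncomputable def cnt (B : Set (Finset α)) (S : Finset α) (j : ℕ) : ℕ :=
  ((blocksF B).filter (fun d => (d ∩ S).card = j)).card

variable {B : Set (Finset α)}

lemma cnt_eq_zero_iff (S : Finset α) (j : ℕ) :
    cnt B S j = 0 ↔ ∀ d ∈ B, (d ∩ S).card ≠ j := by
  unfold cnt
  rw [card_eq_zero, filter_eq_empty_iff]
  constructor
  · intro h d hd
    exact h (mem_blocksF.2 hd)
  · intro h d hd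
    exact h d (mem_blocksF.1 hd)

section S3622

variable (hα : Fintype.card α = 22) (hB : Cfsg.IsSteinerSystem 3 6 B)
include hα hB

lemma lam0 : (blocksF B).card = 77 := by
  have h := card_blocks_containing hB ∅ (by simp)
  rw [card_empty, hα] at h
  have h2 : (blocksF B).filter (∅ ⊆ ·) = blocksF B := by simp
  rw [h2] at h
  have e1 : Nat.choose (6 - 0) (3 - 0) = 20 := by decide
  have e2 : Nat.choose (22 - 0) (3 - 0) = 1540 := by simp [Nat.choose]
  rw [e1, e2] at h
  omega

lemma lam1 (I : Finset α) (hI : I.card = 1) : ((blocksF B).filter (I ⊆ ·)).card = 21 := by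
  have h := card_blocks_containing hB I (by omega)
  rw [hI, hα] at h
  have e1 : Nat.choose (6 - 1) (3 - 1) = 10 := by decide
  have e2 : Nat.choose (22 - 1) (3 - 1) = 210 := by simp [Nat.choose]
  rw [e1, e2] at h
  omega

lemma lam2 (I : Finset α) (hI : I.card = 2) : ((blocksF B).filter (I ⊆ ·)).card = 5 := by
  have h := card_blocks_containing hB I (by omega)
  rw [hI, hα] at h
  have e1 : Nat.choose (6 - 2) (3 - 2) = 4 := by decide
  have e2 : Nat.choose (22 - 2) (3 - 2) = 20 := by simp
  rw [e1, e2] at h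
  omega

lemma lam3 (I : Finset α) (hI : I.card = 3) : ((blocksF B).filter (I ⊆ ·)).card = 1 := by
  have h := card_blocks_containing hB I (by omega)
  rw [hI, hα] at h
  simpa using h

lemma lam1' (a : α) : ((blocksF B).filter (a ∈ ·)).card = 21 := by
  rw [← lam1 hα hB {a} (card_singleton a)]
  congr 1
  ext d
  simp

lemma lam2' {a a' : α} (h : a ≠ a') :
    ((blocksF B).filter (fun d => a ∈ d ∧ a' ∈ d)).card = 5 := by
  rw [← lam2 hα hB {a, a'} (card_pair h)]
  congr 1
  ext d
  simp [insert_subset_iff]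

omit hα in
lemma inter_lt_seven (S : Finset α) : ∀ d ∈ blocksF B, (d ∩ S).card < 7 := by
  intro d hd
  have h1 := hB.1 d (mem_blocksF.1 hd)
  have h2 := card_le_card (inter_subset_left : d ∩ S ⊆ d)
  omega

/-- the four intersection equations -/
theorem eqs (S : Finset α) :
    cnt B S 0 + cnt B S 1 + cnt B S 2 + cnt B S 3 + cnt B S 4 + cnt B S 5 + cnt B S 6 = 77 ∧
    cnt B S 1 + 2 * cnt B S 2 + 3 * cnt B S 3 + 4 * cnt B S 4 + 5 * cnt B S 5 + 6 * cnt B S 6
      = 21 * S.card ∧
    cnt B S 2 + 3 * cnt B S 3 + 6 * cnt B S 4 + 10 * cnt B S 5 + 15 * cnt B S 6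
      = 5 * S.card.choose 2 ∧
    cnt B S 3 + 4 * cnt B S 4 + 10 * cnt B S 5 + 20 * cnt B S 6 = S.card.choose 3 := by
  have hN := inter_lt_seven hB S
  have h0 := sum_choose_inter_gen (blocksF B) S 0 77 (fun I _ hI => by
    rw [card_eq_zero] at hI
    subst hI
    have h2 : (blocksF B).filter (∅ ⊆ ·) = blocksF B := by simp
    rw [h2]
    exact lam0 hα hB)
  have h1 := sum_choose_inter_gen (blocksF B) S 1 21 (fun I _ hI => lam1 hα hB I hI)
  have h2 := sum_choose_inter_gen (blocksF B) S 2 5 (fun I _ hI => lam2 hα hB I hI)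
  have h3 := sum_choose_inter_gen (blocksF B) S 3 1 (fun I _ hI => lam3 hα hB I hI)
  rw [sum_fiber (blocksF B) S (fun j => j.choose 0) 7 hN] at h0
  rw [sum_fiber (blocksF B) S (fun j => j.choose 1) 7 hN] at h1
  rw [sum_fiber (blocksF B) S (fun j => j.choose 2) 7 hN] at h2
  rw [sum_fiber (blocksF B) S (fun j => j.choose 3) 7 hN] at h3
  simp only [sum_range_succ, sum_range_zero, Nat.choose_zero_right, Nat.choose_one_right] at h0 h1
  have c22 : Nat.choose 2 2 = 1 := by decide
  have c32 : Nat.choose 3 2 = 3 := by decide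
  have c42 : Nat.choose 4 2 = 6 := by decide
  have c52 : Nat.choose 5 2 = 10 := by decide
  have c62 : Nat.choose 6 2 = 15 := by decide
  have c02 : Nat.choose 0 2 = 0 := by decide
  have c12 : Nat.choose 1 2 = 0 := by decide
  have c03 : Nat.choose 0 3 = 0 := by decide
  have c13 : Nat.choose 1 3 = 0 := by decide
  have c23 : Nat.choose 2 3 = 0 := by decide
  have c33 : Nat.choose 3 3 = 1 := by decide
  have c43 : Nat.choose 4 3 = 4 := by decide
  have c53 : Nat.choose 5 3 = 10 := by decide
  have c63 : Nat.choose 6 3 = 20 := by decide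
  simp only [sum_range_succ, sum_range_zero, c02, c12, c22, c32, c42, c52, c62] at h2
  simp only [sum_range_succ, sum_range_zero, c03, c13, c23, c33, c43, c53, c63] at h3
  unfold cnt
  refine ⟨?_, ?_, ?_, ?_⟩ <;> omega

omit hα [Fintype α] in
/-- intersection of a block with itself -/
lemma inter_self_card {b : Finset α} (hb : b ∈ B) : (b ∩ b).card = 6 := by
  rw [inter_self]; exact hB.1 b hb

/-- intersection sizes of a block `b` with the blocks -/
theorem block_facts {b : Finset α} (hb : b ∈ B) :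
    cnt B b 0 = 16 ∧ cnt B b 1 = 0 ∧ cnt B b 2 = 60 := by
  obtain ⟨e0, e1, e2, e3⟩ := eqs hα hB b
  have hk : ∀ d ∈ B, (d ∩ b).card < 3 ∨ (d ∩ b).card = 6 := by
    intro d hd
    by_cases hdb : d = b
    · right; subst hdb; exact inter_self_card hB hd
    · left; exact inter_card_lt hB hd hb hdb
  have m3 : cnt B b 3 = 0 := by
    rw [cnt_eq_zero_iff]; intro d hd; have := hk d hd; omega
  have m4 : cnt B b 4 = 0 := by
    rw [cnt_eq_zero_iff]; intro d hd; have := hk d hd; omega
  have m5 : cnt B b 5 = 0 := by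
    rw [cnt_eq_zero_iff]; intro d hd; have := hk d hd; omega
  have hb6 := hB.1 b hb
  rw [hb6] at e1 e2 e3
  have c62 : Nat.choose 6 2 = 15 := by decide
  have c63 : Nat.choose 6 3 = 20 := by decide
  rw [c62] at e2
  rw [c63] at e3
  omega

/-- two blocks meet in `0`, `2` or `6` points -/
theorem inter_cases {b d : Finset α} (hb : b ∈ B) (hd : d ∈ B) :
    ((d ∩ b).card = 0 ∨ (d ∩ b).card = 2) ∨ (d = b ∧ (d ∩ b).card = 6) := by
  by_cases hdb : d = b
  · right; subst hdb; exact ⟨rfl, inter_self_card hB hd⟩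
  · left
    have h1 := inter_card_lt hB hd hb hdb
    have h2 := (cnt_eq_zero_iff b 1).1 (block_facts hα hB hb).2.1 d hd
    omega

/-- the number of blocks disjoint from a given block -/
theorem deg16 {b : Finset α} (hb : b ∈ B) :
    ((blocksF B).filter (fun d => Disjoint b d)).card = 16 := by
  rw [← (block_facts hα hB hb).1]
  unfold cnt
  congr 1
  ext d
  simp only [mem_filter, card_eq_zero, ← disjoint_iff_inter_eq_empty, disjoint_comm]

omit hα hB [Fintype α] in
lemma disj_iff (b c d : Finset α) :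
    (d ∩ (b ∪ c)).card = 0 ↔ Disjoint b d ∧ Disjoint c d := by
  rw [card_eq_zero, ← disjoint_iff_inter_eq_empty, disjoint_union_right, disjoint_comm,
    disjoint_comm (a := d)]

/-- no block is disjoint from two disjoint blocks -/
theorem common0 {b c : Finset α} (hb : b ∈ B) (hc : c ∈ B) (hbc : Disjoint b c) :
    ∀ d ∈ B, ¬ (Disjoint b d ∧ Disjoint c d) := by
  obtain ⟨e0, e1, e2, e3⟩ := eqs hα hB (b ∪ c)
  have hcard : (b ∪ c).card = 12 := by
    rw [card_union_of_disjoint hbc, hB.1 b hb, hB.1 c hc]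
  have hk : ∀ d ∈ B, ∃ x y, (d ∩ (b ∪ c)).card = x + y ∧ (x = 0 ∨ x = 2 ∨ x = 6) ∧
      (y = 0 ∨ y = 2 ∨ y = 6) := by
    intro d hd
    refine ⟨(d ∩ b).card, (d ∩ c).card, ?_, ?_, ?_⟩
    · rw [inter_union_distrib_left, card_union_of_disjoint]
      exact Disjoint.mono inter_subset_right inter_subset_right hbc
    · have := inter_cases hα hB hb hd; omega
    · have := inter_cases hα hB hc hd; omega
  have m1 : cnt B (b ∪ c) 1 = 0 := by
    rw [cnt_eq_zero_iff]; intro d hd; obtain ⟨x, y, h1, h2, h3⟩ := hk d hd; omega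
  have m3 : cnt B (b ∪ c) 3 = 0 := by
    rw [cnt_eq_zero_iff]; intro d hd; obtain ⟨x, y, h1, h2, h3⟩ := hk d hd; omega
  have m5 : cnt B (b ∪ c) 5 = 0 := by
    rw [cnt_eq_zero_iff]; intro d hd; obtain ⟨x, y, h1, h2, h3⟩ := hk d hd; omega
  rw [hcard] at e1 e2 e3
  have c2 : Nat.choose 12 2 = 66 := by decide
  have c3 : Nat.choose 12 3 = 220 := by decide
  rw [c2] at e2
  rw [c3] at e3
  have m0 : cnt B (b ∪ c) 0 = 0 := by omega
  intro d hd hdd
  exact (cnt_eq_zero_iff _ 0).1 m0 d hd ((disj_iff b c d).2 hdd)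

/-- distinct non-disjoint blocks meet in two points -/
theorem inter_two {b c : Finset α} (hb : b ∈ B) (hc : c ∈ B) (hne : b ≠ c)
    (hbc : ¬ Disjoint b c) : (b ∩ c).card = 2 := by
  rcases inter_cases hα hB hc hb with (h | h) | h
  · exfalso; apply hbc; rwa [card_eq_zero, ← disjoint_iff_inter_eq_empty] at h
  · exact h
  · exact absurd h.1 hne

/-- exactly four blocks are disjoint from two given blocks meeting in two points -/
theorem common4 {b c : Finset α} (hb : b ∈ B) (hc : c ∈ B) (hne : b ≠ c)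
    (hbc : ¬ Disjoint b c) :
    ((blocksF B).filter (fun d => Disjoint b d ∧ Disjoint c d)).card = 4 := by
  have h2 := inter_two hα hB hb hc hne hbc
  obtain ⟨e0, e1, e2, e3⟩ := eqs hα hB (b ∪ c)
  have hcard : (b ∪ c).card = 10 := by
    have := card_union_add_card_inter b c
    rw [hB.1 b hb, hB.1 c hc, h2] at this
    omega
  have hbS : (b ∩ (b ∪ c)).card = 6 := by
    rw [inter_eq_left.2 subset_union_left]; exact hB.1 b hb
  have hcS : (c ∩ (b ∪ c)).card = 6 := by
    rw [inter_eq_left.2 subset_union_right]; exact hB.1 c hc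
  have hk : ∀ d ∈ B, d ≠ b → d ≠ c → (d ∩ (b ∪ c)).card ≤ 4 ∧ (d ∩ (b ∪ c)).card ≠ 1 := by
    intro d hd hdb hdc
    have h1 := inter_cases hα hB hb hd
    have h2 := inter_cases hα hB hc hd
    have h3 : (d ∩ (b ∪ c)).card ≤ (d ∩ b).card + (d ∩ c).card := by
      rw [inter_union_distrib_left]; exact card_union_le _ _
    have h4 : (d ∩ b).card ≤ (d ∩ (b ∪ c)).card :=
      card_le_card (inter_subset_inter_left subset_union_left)
    have h5 : (d ∩ c).card ≤ (d ∩ (b ∪ c)).card :=
      card_le_card (inter_subset_inter_left subset_union_right)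
    rcases h1 with h1 | h1
    · rcases h2 with h2 | h2
      · omega
      · exact absurd h2.1 hdc
    · exact absurd h1.1 hdb
  have m1 : cnt B (b ∪ c) 1 = 0 := by
    rw [cnt_eq_zero_iff]; intro d hd
    by_cases hdb : d = b
    · subst hdb; omega
    by_cases hdc : d = c
    · subst hdc; omega
    exact (hk d hd hdb hdc).2
  have m5 : cnt B (b ∪ c) 5 = 0 := by
    rw [cnt_eq_zero_iff]; intro d hd
    by_cases hdb : d = b
    · subst hdb; omega
    by_cases hdc : d = c
    · subst hdc; omega
    have := (hk d hd hdb hdc).1; omega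
  have m6 : cnt B (b ∪ c) 6 = 2 := by
    unfold cnt
    have : (blocksF B).filter (fun d => (d ∩ (b ∪ c)).card = 6) = {b, c} := by
      ext d
      simp only [mem_filter, mem_insert, mem_singleton, mem_blocksF]
      constructor
      · rintro ⟨hd, h6⟩
        by_contra hcon
        push Not at hcon
        have := (hk d hd hcon.1 hcon.2).1
        omega
      · rintro (rfl | rfl)
        · exact ⟨hb, hbS⟩
        · exact ⟨hc, hcS⟩
    rw [this, card_pair hne]
  rw [hcard] at e1 e2 e3
  have c2 : Nat.choose 10 2 = 45 := by decide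
  have c3 : Nat.choose 10 3 = 120 := by decide
  rw [c2] at e2
  rw [c3] at e3
  have m0 : cnt B (b ∪ c) 0 = 4 := by omega
  rw [← m0]
  unfold cnt
  congr 1
  ext d
  simp only [mem_filter, disj_iff]

/-- exactly six blocks through a point outside `b` are disjoint from `b` -/
theorem six_through {a : α} {b : Finset α} (hb : b ∈ B) (ha : a ∉ b) :
    ((blocksF B).filter (fun d => a ∈ d ∧ Disjoint b d)).card = 6 := by
  set Fa := (blocksF B).filter (a ∈ ·) with hFa
  have hN : ∀ d ∈ Fa, (d ∩ b).card < 7 := fun d hd =>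
    inter_lt_seven hB b d (mem_filter.1 hd).1
  have h0 := sum_choose_inter_gen Fa b 0 21 (fun I _ hI => by
    rw [card_eq_zero] at hI
    subst hI
    have h2 : Fa.filter (∅ ⊆ ·) = Fa := by simp
    rw [h2]
    exact lam1' hα hB a)
  have h1 := sum_choose_inter_gen Fa b 1 5 (fun I hIb hI => by
    have haI : a ∉ I := fun h => ha (hIb h)
    rw [← lam2 hα hB (insert a I) (by rw [card_insert_of_notMem haI, hI])]
    congr 1
    ext d
    simp only [hFa, mem_filter, insert_subset_iff]
    tauto)
  rw [sum_fiber Fa b (fun j => j.choose 0) 7 hN] at h0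
  rw [sum_fiber Fa b (fun j => j.choose 1) 7 hN] at h1
  simp only [sum_range_succ, sum_range_zero, Nat.choose_zero_right, Nat.choose_one_right] at h0 h1
  have hk : ∀ d ∈ Fa, (d ∩ b).card = 0 ∨ (d ∩ b).card = 2 := by
    intro d hd
    rw [hFa, mem_filter, mem_blocksF] at hd
    rcases inter_cases hα hB hb hd.1 with h | h
    · exact h
    · exfalso; apply ha; rw [← h.1]; exact hd.2
  have hz : ∀ j, j ≠ 0 → j ≠ 2 → (Fa.filter (fun d => (d ∩ b).card = j)).card = 0 := by
    intro j hj0 hj2
    rw [card_eq_zero, filter_eq_empty_iff]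
    intro d hd
    have := hk d hd
    omega
  rw [hz 1 (by omega) (by omega), hz 3 (by omega) (by omega), hz 4 (by omega) (by omega),
    hz 5 (by omega) (by omega), hz 6 (by omega) (by omega)] at h0 h1
  rw [hB.1 b hb] at h1
  have h6 : (Fa.filter (fun d => (d ∩ b).card = 0)).card = 6 := by omega
  rw [← h6]
  congr 1
  ext d
  simp only [hFa, mem_filter, card_eq_zero, ← disjoint_iff_inter_eq_empty, disjoint_comm]
  tauto

end S3622

/-- transfer of a count on the subtype of blocks to the finset of blocks -/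
lemma card_eq_filter (s : Finset B) (P : Finset α → Prop) [DecidablePred P]
    (hs : ∀ v : B, v ∈ s ↔ P v.1) : s.card = ((blocksF B).filter P).card := by
  apply Finset.card_bij (fun (v : B) _ => v.1)
  · intro v hv
    rw [mem_filter]
    exact ⟨mem_blocksF.2 v.2, (hs v).1 hv⟩
  · intro v _ w _ h
    exact Subtype.ext h
  · intro d hd
    rw [mem_filter] at hd
    exact ⟨⟨d, mem_blocksF.1 hd.1⟩, (hs _).2 hd.2, rfl⟩

/-- counting a finset of vertices of the point-block graph -/
lemma card_vertices [Fintype B] (s : Finset (Option (α ⊕ B))) (n0 : ℕ) (P1 : α → Prop)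
    (P2 : Finset α → Prop) [DecidablePred P1] [DecidablePred P2]
    (h0 : (none ∈ s ∧ n0 = 1) ∨ (none ∉ s ∧ n0 = 0))
    (h1 : ∀ x, some (Sum.inl x) ∈ s ↔ P1 x) (h2 : ∀ y : B, some (Sum.inr y) ∈ s ↔ P2 y.1) :
    s.card = n0 + (univ.filter P1).card + ((blocksF B).filter P2).card := by
  classical
  have hs : s.card = ∑ v : Option (α ⊕ B), if v ∈ s then 1 else 0 := by simp
  rw [hs, Fintype.sum_option, Fintype.sum_sum_type]
  have e1 : (∑ x : α, if some (Sum.inl x : α ⊕ B) ∈ s then 1 else 0) = (univ.filter P1).card := by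
    rw [Finset.sum_boole]
    simp only [Nat.cast_id]
    congr 1
    ext x
    simp [h1]
  have e2 : (∑ y : B, if some (Sum.inr y : α ⊕ B) ∈ s then 1 else 0) =
      ((blocksF B).filter P2).card := by
    rw [Finset.sum_boole]
    simp only [Nat.cast_id]
    exact card_eq_filter _ P2 (fun v => by simp [h2])
  rw [e1, e2]
  rcases h0 with ⟨h, rfl⟩ | ⟨h, rfl⟩
  · rw [if_pos h, add_assoc]
  · rw [if_neg h, add_assoc]

end Cfsg.Agent.Helper4.S3622
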