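import Cfsg.Agent.Lib.Helper4.LeechMod2a
import Cfsg.Agent.S0391
import Cfsg.Agent.S0392
import Cfsg.Agent.S0393
import Cfsg.Agent.S0394
import Cfsg.Agent.S0395
import Cfsg.Agent.S0396

set_option autoImplicit false
set_option linter.style.haveILetI false
set_option linter.unusedVariables false
set_option linter.unusedSectionVars false

/-! The rank-24 lattice modulo twice itself: every class contains a vector of sum of squares at
most 64, and the classes of vectors of sum of squares 64 have exactly 48 such vectors. -/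

namespace Cfsg.Agent.Helper4.LC

open Cfsg Cfsg.Agent.Lib.Helper4

/-- doubling, as an additive endomorphism -/
def dbl : (GolayPt → ℤ) →+ (GolayPt → ℤ) := zsmulAddGroupHom 2

theorem dbl_apply (x : GolayPt → ℤ) : dbl x = (2 : ℤ) • x := rfl

/-- twice the lattice -/
def twoL : AddSubgroup (GolayPt → ℤ) := leechLattice.map dbl

theorem mem_twoL {y : GolayPt → ℤ} : y ∈ twoL ↔ ∃ z ∈ leechLattice, y = (2 : ℤ) • z := by
  unfold twoL
  rw [AddSubgroup.mem_map]
  constructor
  · rintro ⟨z, hz, rfl⟩; exact ⟨z, hz, rfl⟩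
  · rintro ⟨z, hz, rfl⟩; exact ⟨z, hz, rfl⟩

theorem two_zsmul_eq (z : GolayPt → ℤ) : (2 : ℤ) • z = (2 : ℕ) • z := by
  rw [two_nsmul, two_smul]

theorem mem_twoL' {y : GolayPt → ℤ} : y ∈ twoL ↔ ∃ z ∈ leechLattice, y = (2 : ℕ) • z := by
  rw [mem_twoL]
  constructor
  · rintro ⟨z, hz, rfl⟩; exact ⟨z, hz, two_zsmul_eq z⟩
  · rintro ⟨z, hz, rfl⟩; exact ⟨z, hz, (two_zsmul_eq z).symm⟩

theorem twoL_le : twoL ≤ leechLattice := by
  intro y hy
  obtain ⟨z, hz, rfl⟩ := mem_twoL.mp hy
  exact leechLattice.zsmul_mem hz 2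

theorem dbl_injective : Function.Injective dbl := by
  intro a b h
  funext i
  have := congrFun h i
  simp only [dbl_apply, Pi.smul_apply, smul_eq_mul] at this
  omega

/-- reduction modulo 2 -/
def red : (GolayPt → ℤ) →+ (GolayPt → ZMod 2) := (Int.castAddHom (ZMod 2)).compLeft GolayPt

theorem red_apply (x : GolayPt → ℤ) (i : GolayPt) : red x i = ((x i : ℤ) : ZMod 2) := rfl

theorem red_surjective : Function.Surjective red := by
  intro w
  refine ⟨fun i => Classical.choose (ZMod.intCast_surjective (w i)), ?_⟩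
  funext i
  rw [red_apply]
  exact Classical.choose_spec (ZMod.intCast_surjective (w i))

theorem ker_red : red.ker = dbl.range := by
  ext x
  rw [AddMonoidHom.mem_ker, AddMonoidHom.mem_range]
  constructor
  · intro h
    refine ⟨fun i => x i / 2, ?_⟩
    funext i
    have := congrFun h i
    rw [red_apply, Pi.zero_apply, ZMod.intCast_zmod_eq_zero_iff_dvd] at this
    simp only [dbl_apply, Pi.smul_apply, smul_eq_mul]
    push_cast at this
    omega
  · rintro ⟨z, rfl⟩
    funext i
    rw [red_apply, Pi.zero_apply, ZMod.intCast_zmod_eq_zero_iff_dvd]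
    simp only [dbl_apply, Pi.smul_apply, smul_eq_mul]
    push_cast
    exact dvd_mul_right 2 (z i)

theorem index_range_dbl : dbl.range.index = 2 ^ 24 := by
  rw [← ker_red, AddSubgroup.index_ker, AddMonoidHom.range_eq_top.mpr red_surjective]
  rw [Nat.card_congr (AddSubgroup.topEquiv.toEquiv), Nat.card_eq_fintype_card, Fintype.card_fun,
    ZMod.card, card_golayPt]

theorem index_twoL : twoL.index = 2 ^ 36 * 2 ^ 24 := by
  unfold twoL
  rw [AddSubgroup.index_map, (AddMonoidHom.ker_eq_bot_iff dbl).mpr dbl_injective, sup_bot_eq,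
    Cfsg.Agent.S0393.result, index_range_dbl]

theorem relIndex_twoL : twoL.relIndex leechLattice = 2 ^ 24 := by
  have h := AddSubgroup.relIndex_mul_index twoL_le
  rw [index_twoL, Cfsg.Agent.S0393.result, mul_comm] at h
  exact Nat.eq_of_mul_eq_mul_left (by positivity) h

/-- the lattice modulo twice the lattice -/
abbrev Q : Type := ↥leechLattice ⧸ twoL.addSubgroupOf leechLattice

theorem card_Q : Nat.card Q = 2 ^ 24 := relIndex_twoL

instance finite_Q : Finite Q := Nat.finite_of_card_ne_zero (by rw [card_Q]; positivity)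

noncomputable instance fintype_Q : Fintype Q := Fintype.ofFinite Q

open Classical in
/-- the class modulo twice the lattice of a vector (zero outside the lattice) -/
noncomputable def proj (y : GolayPt → ℤ) : Q :=
  if h : y ∈ leechLattice then (QuotientAddGroup.mk ⟨y, h⟩ : Q) else 0

theorem proj_eq_iff {y y' : GolayPt → ℤ} (hy : y ∈ leechLattice) (hy' : y' ∈ leechLattice) :
    proj y = proj y' ↔ y - y' ∈ twoL := by
  unfold proj
  rw [dif_pos hy, dif_pos hy', QuotientAddGroup.eq, AddSubgroup.mem_addSubgroupOf]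
  rw [← twoL.neg_mem_iff]
  simp only [AddSubgroup.coe_add, AddSubgroup.coe_neg, neg_add_rev, neg_neg]
  rw [sub_eq_add_neg, add_comm]

theorem sqNorm_zsmul (k : ℤ) (x : GolayPt → ℤ) : sqNorm (k • x) = k ^ 2 * sqNorm x := by
  unfold sqNorm
  rw [Finset.mul_sum]
  exact Finset.sum_congr rfl fun i _ => by simp only [Pi.smul_apply, smul_eq_mul]; ring

theorem sqNorm_parallelogram (y y' : GolayPt → ℤ) :
    sqNorm (y - y') + sqNorm (y + y') = 2 * sqNorm y + 2 * sqNorm y' := by
  unfold sqNorm
  rw [Finset.mul_sum, Finset.mul_sum, ← Finset.sum_add_distrib, ← Finset.sum_add_distrib]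
  exact Finset.sum_congr rfl fun i _ => by simp only [Pi.sub_apply, Pi.add_apply]; ring

theorem sqNorm_polar (y y' : GolayPt → ℤ) :
    sqNorm (y + y') - sqNorm (y - y') = 4 * dotProduct y y' := by
  unfold sqNorm dotProduct
  rw [Finset.mul_sum, ← Finset.sum_sub_distrib]
  exact Finset.sum_congr rfl fun i _ => by simp only [Pi.sub_apply, Pi.add_apply]; ring

theorem sqNorm_eq_dot (y : GolayPt → ℤ) : sqNorm y = dotProduct y y := by
  unfold sqNorm dotProduct
  exact Finset.sum_congr rfl fun i _ => sq (y i)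

theorem sqNorm_neg (y : GolayPt → ℤ) : sqNorm (-y) = sqNorm y := by
  unfold sqNorm
  exact Finset.sum_congr rfl fun i _ => by simp only [Pi.neg_apply]; ring

theorem sqNorm_eq_zero {y : GolayPt → ℤ} (h : sqNorm y = 0) : y = 0 := by
  funext i
  have h1 := sq_le_sqNorm' y i
  rw [h] at h1
  have := sq_nonneg (y i)
  have : y i ^ 2 = 0 := le_antisymm h1 this
  simpa using this
where
  sq_le_sqNorm' (x : GolayPt → ℤ) (i : GolayPt) : x i ^ 2 ≤ sqNorm x := by
    unfold sqNorm
    exact Finset.single_le_sum (f := fun i => x i ^ 2) (fun j _ => sq_nonneg (x j))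
      (Finset.mem_univ i)

/-- two short vectors congruent modulo twice the lattice -/
theorem cong_short {y y' : GolayPt → ℤ} (hy : y ∈ leechLattice) (hy' : y' ∈ leechLattice)
    (h : sqNorm y ≤ 64) (h' : sqNorm y' ≤ 64) (hc : y - y' ∈ twoL) :
    y' = y ∨ y' = -y ∨ (sqNorm y = 64 ∧ sqNorm y' = 64 ∧ dotProduct y y' = 0) := by
  obtain ⟨z, hz, hz2⟩ := mem_twoL.mp hc
  have hz' : y + y' = (2 : ℤ) • (z + y') := by
    rw [smul_add, ← hz2, two_smul]; abel
  by_cases e1 : y' = y
  · left; exact e1
  by_cases e2 : y' = -y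
  · right; left; exact e2
  right; right
  have n1 : 32 ≤ sqNorm z := by
    apply Cfsg.Agent.S0391.result z hz
    rintro rfl
    rw [smul_zero] at hz2
    exact e1 (sub_eq_zero.mp hz2).symm
  have n2 : 32 ≤ sqNorm (z + y') := by
    apply Cfsg.Agent.S0391.result _ (leechLattice.add_mem hz hy')
    intro h0
    rw [h0, smul_zero] at hz'
    exact e2 (eq_neg_of_add_eq_zero_right hz')
  have s1 : sqNorm (y - y') = 4 * sqNorm z := by rw [hz2, sqNorm_zsmul]; norm_num
  have s2 : sqNorm (y + y') = 4 * sqNorm (z + y') := by rw [hz', sqNorm_zsmul]; norm_num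
  have par := sqNorm_parallelogram y y'
  have pol := sqNorm_polar y y'
  refine ⟨by omega, by omega, by omega⟩

theorem norm_cases {y : GolayPt → ℤ} (hy : y ∈ leechLattice) (h : sqNorm y ≤ 64) :
    y = 0 ∨ sqNorm y = 32 ∨ sqNorm y = 48 ∨ sqNorm y = 64 := by
  by_cases h0 : y = 0
  · left; exact h0
  · right
    have h1 := Cfsg.Agent.S0391.result y hy h0
    obtain ⟨k, hk⟩ := Cfsg.Agent.S0392.result y hy
    omega

/-- lattice vectors of sum of squares `N` -/
def nset (N : ℤ) : Set (GolayPt → ℤ) := {x | x ∈ leechLattice ∧ sqNorm x = N}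

theorem nset_zero : nset 0 = {0} := by
  ext x
  simp only [nset, Set.mem_ofPred_eq, Set.mem_singleton_iff]
  constructor
  · rintro ⟨_, h⟩; exact sqNorm_eq_zero h
  · rintro rfl; exact ⟨leechLattice.zero_mem, by simp [sqNorm]⟩

theorem ncard_nset_zero : (nset 0).ncard = 1 := by rw [nset_zero, Set.ncard_singleton]
theorem ncard_nset_32 : (nset 32).ncard = 196560 := Cfsg.Agent.S0394.result
theorem ncard_nset_48 : (nset 48).ncard = 16773120 := Cfsg.Agent.S0395.result
theorem ncard_nset_64 : (nset 64).ncard = 398034000 := Cfsg.Agent.S0396.result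

section counting

open Classical

/-- lattice vectors of sum of squares `N`, as a finset (empty if infinitely many) -/
noncomputable def A (N : ℤ) : Finset (GolayPt → ℤ) :=
  if h : (nset N).Finite then h.toFinset else ∅

theorem card_A (N : ℤ) : (A N).card = (nset N).ncard := by
  unfold A
  by_cases h : (nset N).Finite
  · rw [dif_pos h, Set.ncard_eq_toFinset_card _ h]
  · rw [dif_neg h, Finset.card_empty, Set.Infinite.ncard h]

theorem mem_A {N : ℤ} (hpos : 0 < (nset N).ncard) {x : GolayPt → ℤ} :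
    x ∈ A N ↔ x ∈ leechLattice ∧ sqNorm x = N := by
  unfold A
  rw [dif_pos (Set.finite_of_ncard_pos hpos), Set.Finite.mem_toFinset]
  rfl

/-- the four relevant norms -/
def IsN (N : ℤ) : Prop := N = 0 ∨ N = 32 ∨ N = 48 ∨ N = 64

theorem IsN.pos {N : ℤ} (h : IsN N) : 0 < (nset N).ncard := by
  rcases h with rfl | rfl | rfl | rfl
  · rw [ncard_nset_zero]; norm_num
  · rw [ncard_nset_32]; norm_num
  · rw [ncard_nset_48]; norm_num
  · rw [ncard_nset_64]; norm_num

theorem IsN.le {N : ℤ} (h : IsN N) : N ≤ 64 := by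
  rcases h with rfl | rfl | rfl | rfl <;> norm_num

theorem fiber_le_two {N : ℤ} (hN : IsN N) (h64 : N ≠ 64) (q : Q) :
    ((A N).filter (fun y => proj y = q)).card ≤ 2 := by
  by_cases hne : ((A N).filter (fun y => proj y = q)) = ∅
  · rw [hne]; simp
  · obtain ⟨y, hy⟩ := Finset.nonempty_iff_ne_empty.mpr hne
    rw [Finset.mem_filter, mem_A hN.pos] at hy
    have hsub : ((A N).filter (fun y => proj y = q)) ⊆ {y, -y} := by
      intro y' hy'
      rw [Finset.mem_filter, mem_A hN.pos] at hy'
      have hc : y - y' ∈ twoL := (proj_eq_iff hy.1.1 hy'.1.1).mp (by rw [hy.2, hy'.2])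
      have := cong_short hy.1.1 hy'.1.1 (by rw [hy.1.2]; exact hN.le)
        (by rw [hy'.1.2]; exact hN.le) hc
      simp only [Finset.mem_insert, Finset.mem_singleton]
      rcases this with h | h | ⟨h, _, _⟩
      · left; exact h
      · right; exact h
      · exfalso; rw [hy.1.2] at h; exact h64 h
    exact (Finset.card_le_card hsub).trans Finset.card_le_two

theorem fiber_le_48 (q : Q) : ((A 64).filter (fun y => proj y = q)).card ≤ 48 := by
  have hpos : 0 < (nset 64).ncard := by rw [ncard_nset_64]; norm_num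
  have := card_le_of_orth ((A 64).filter (fun y => proj y = q)) 64 (by norm_num)
    (fun y hy => by
      rw [Finset.mem_filter, mem_A hpos] at hy
      rw [← sqNorm_eq_dot]; exact hy.1.2)
    (fun y hy => by
      rw [Finset.mem_filter, mem_A hpos] at hy ⊢
      have hneg : -y ∈ leechLattice := leechLattice.neg_mem hy.1.1
      refine ⟨⟨hneg, by rw [sqNorm_neg]; exact hy.1.2⟩, ?_⟩
      rw [← hy.2]
      apply (proj_eq_iff hneg hy.1.1).mpr
      apply mem_twoL.mpr
      refine ⟨-y, hneg, ?_⟩
      rw [two_smul]; abel)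
    (fun y hy y' hy' => by
      rw [Finset.mem_filter, mem_A hpos] at hy hy'
      have hc : y - y' ∈ twoL := (proj_eq_iff hy.1.1 hy'.1.1).mp (by rw [hy.2, hy'.2])
      have := cong_short hy.1.1 hy'.1.1 (by rw [hy.1.2]) (by rw [hy'.1.2]) hc
      rcases this with h | h | ⟨_, _, h⟩
      · left; exact h
      · right; left; exact h
      · right; right; exact h)
  rw [card_golayPt] at this
  exact this

/-- classes represented by vectors of norm `N` -/
noncomputable def I (N : ℤ) : Finset Q := (A N).image proj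

theorem disjoint_I {N N' : ℤ} (hN : IsN N) (hN' : IsN N') (hne : N ≠ N') :
    Disjoint (I N) (I N') := by
  rw [Finset.disjoint_left]
  intro q hq hq'
  unfold I at hq hq'
  rw [Finset.mem_image] at hq hq'
  obtain ⟨y, hy, rfl⟩ := hq
  obtain ⟨y', hy', he⟩ := hq'
  rw [mem_A hN.pos] at hy
  rw [mem_A hN'.pos] at hy'
  have hc : y - y' ∈ twoL := (proj_eq_iff hy.1 hy'.1).mp he.symm
  have := cong_short hy.1 hy'.1 (by rw [hy.2]; exact hN.le) (by rw [hy'.2]; exact hN'.le) hc
  rcases this with h | h | ⟨h1, h2, _⟩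
  · apply hne; rw [← hy.2, ← hy'.2, h]
  · apply hne; rw [← hy.2, ← hy'.2, h, sqNorm_neg]
  · apply hne; rw [← hy.2, ← hy'.2, h1, h2]

theorem card_bounds :
    (I 0).card = 1 ∧ (I 32).card = 98280 ∧ (I 48).card = 8386560 ∧ (I 64).card = 8292375 ∧
      ((I 0 ∪ I 32) ∪ (I 48 ∪ I 64)) = Finset.univ := by
  have i0 : IsN 0 := Or.inl rfl
  have i32 : IsN 32 := Or.inr (Or.inl rfl)
  have i48 : IsN 48 := Or.inr (Or.inr (Or.inl rfl))
  have i64 : IsN 64 := Or.inr (Or.inr (Or.inr rfl))
  have b0 : (A 0).card ≤ 2 * (I 0).card :=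
    Finset.card_le_mul_card_image _ 2 (fun q _ => fiber_le_two i0 (by norm_num) q)
  have b32 : (A 32).card ≤ 2 * (I 32).card :=
    Finset.card_le_mul_card_image _ 2 (fun q _ => fiber_le_two i32 (by norm_num) q)
  have b48 : (A 48).card ≤ 2 * (I 48).card :=
    Finset.card_le_mul_card_image _ 2 (fun q _ => fiber_le_two i48 (by norm_num) q)
  have b64 : (A 64).card ≤ 48 * (I 64).card :=
    Finset.card_le_mul_card_image _ 48 (fun q _ => fiber_le_48 q)
  have u0 : (I 0).card ≤ (A 0).card := Finset.card_image_le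
  rw [card_A, ncard_nset_zero] at b0 u0
  rw [card_A, ncard_nset_32] at b32
  rw [card_A, ncard_nset_48] at b48
  rw [card_A, ncard_nset_64] at b64
  have d1 : Disjoint (I 0) (I 32) := disjoint_I i0 i32 (by norm_num)
  have d2 : Disjoint (I 48) (I 64) := disjoint_I i48 i64 (by norm_num)
  have d3 : Disjoint (I 0 ∪ I 32) (I 48 ∪ I 64) := by
    rw [Finset.disjoint_union_left, Finset.disjoint_union_right, Finset.disjoint_union_right]
    exact ⟨⟨disjoint_I i0 i48 (by norm_num), disjoint_I i0 i64 (by norm_num)⟩,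
      ⟨disjoint_I i32 i48 (by norm_num), disjoint_I i32 i64 (by norm_num)⟩⟩
  have hcard : ((I 0 ∪ I 32) ∪ (I 48 ∪ I 64)).card =
      (I 0).card + (I 32).card + ((I 48).card + (I 64).card) := by
    rw [Finset.card_union_of_disjoint d3, Finset.card_union_of_disjoint d1,
      Finset.card_union_of_disjoint d2]
  have hle : ((I 0 ∪ I 32) ∪ (I 48 ∪ I 64)).card ≤ Fintype.card Q := Finset.card_le_univ _
  have hQ : Fintype.card Q = 2 ^ 24 := by rw [← Nat.card_eq_fintype_card, card_Q]
  rw [hQ, hcard] at hle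
  norm_num at hle
  refine ⟨by omega, by omega, by omega, by omega, ?_⟩
  apply Finset.eq_univ_of_card
  rw [hcard, hQ]
  norm_num
  omega

/-- every class has a short representative -/
theorem exists_short {x : GolayPt → ℤ} (hx : x ∈ leechLattice) :
    ∃ y ∈ leechLattice, sqNorm y ≤ 64 ∧ x - y ∈ twoL := by
  obtain ⟨_, _, _, _, huniv⟩ := card_bounds
  have hq : proj x ∈ ((I 0 ∪ I 32) ∪ (I 48 ∪ I 64)) := by rw [huniv]; exact Finset.mem_univ _
  have key : ∀ N, IsN N → proj x ∈ I N → ∃ y ∈ leechLattice, sqNorm y ≤ 64 ∧ x - y ∈ twoL := by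
    intro N hN hm
    unfold I at hm
    rw [Finset.mem_image] at hm
    obtain ⟨y, hy, he⟩ := hm
    rw [mem_A hN.pos] at hy
    exact ⟨y, hy.1, by rw [hy.2]; exact hN.le, (proj_eq_iff hx hy.1).mp he.symm⟩
  simp only [Finset.mem_union] at hq
  rcases hq with (h | h) | (h | h)
  · exact key 0 (Or.inl rfl) h
  · exact key 32 (Or.inr (Or.inl rfl)) h
  · exact key 48 (Or.inr (Or.inr (Or.inl rfl))) h
  · exact key 64 (Or.inr (Or.inr (Or.inr rfl))) h

/-- the class of a vector of norm 64 contains exactly 48 vectors of norm 64 -/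
theorem fiber_eq_48 {x : GolayPt → ℤ} (hx : x ∈ leechLattice) (hn : sqNorm x = 64) :
    ((A 64).filter (fun y => proj y = proj x)).card = 48 := by
  obtain ⟨_, _, _, h64, _⟩ := card_bounds
  have hpos : 0 < (nset 64).ncard := by rw [ncard_nset_64]; norm_num
  have hxA : x ∈ A 64 := (mem_A hpos).mpr ⟨hx, hn⟩
  have hxI : proj x ∈ I 64 := Finset.mem_image_of_mem _ hxA
  have hsum := Finset.card_eq_sum_card_image proj (A 64)
  rw [card_A, ncard_nset_64] at hsum
  by_contra hcon
  have hlt : ((A 64).filter (fun y => proj y = proj x)).card < 48 :=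
    lt_of_le_of_ne (fiber_le_48 _) hcon
  have : ∑ q ∈ (A 64).image proj, ((A 64).filter (fun y => proj y = q)).card <
      ∑ q ∈ (A 64).image proj, 48 :=
    Finset.sum_lt_sum (fun q _ => fiber_le_48 q) ⟨proj x, hxI, hlt⟩
  rw [Finset.sum_const, smul_eq_mul] at this
  unfold I at h64
  rw [h64] at this
  omega

end counting

end Cfsg.Agent.Helper4.LC
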