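import Cfsg.Agent.Lib.Helper4.LeechStdCross
import Cfsg.Agent.S1569
import Cfsg.Agent.S0378
import Cfsg.Agent.S0379

set_option autoImplicit false
set_option linter.style.haveILetI false
set_option linter.unusedVariables false
set_option linter.unusedSectionVars false

/-! The joint stabiliser, in the automorphism group of the rank-24 lattice, of the vectors
`(5,1,…,1)`, `(4,4,0,…,0)` and `(4,-4,0,…,0)` is the group of coordinate permutations from the
two-point stabiliser of the group of the code. -/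

namespace Cfsg.Agent.Helper4.CO

open Cfsg Cfsg.Agent.Lib.Helper4 Cfsg.Agent.Lib.Helper28 Cfsg.Agent.S0398 Cfsg.Agent.Helper4.LC

theorem single_neg_eight (i : GolayPt) : (Pi.single i (-8) : GolayPt → ℤ) = -(Pi.single i 8) := by
  rw [← Pi.single_neg]

theorem single_mem (i : GolayPt) (s : ℤ) (hs : s = 8 ∨ s = -8) :
    (Pi.single i s : GolayPt → ℤ) ∈ leechLattice := by
  rcases hs with rfl | rfl
  · exact (e8 i).2
  · rw [single_neg_eight]; exact leechLattice.neg_mem (e8 i).2

theorem sqNorm_single (i : GolayPt) (s : ℤ) (hs : s = 8 ∨ s = -8) :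
    sqNorm (Pi.single i s : GolayPt → ℤ) = 64 := by
  unfold sqNorm
  rw [Finset.sum_eq_single i]
  · rw [Pi.single_eq_same]; rcases hs with rfl | rfl <;> norm_num
  · intro j _ hji
    rw [Pi.single_eq_of_ne hji]; norm_num
  · intro h; exact absurd (Finset.mem_univ i) h

theorem stdCross_subset_cross (p : GolayPt) : stdCross ⊆ cross (Pi.single p 8) := by
  rintro y ⟨i, s, hs, rfl⟩
  refine ⟨single_mem i s hs, ?_, ?_⟩
  · rw [sqNorm_single i s hs, sqNorm_single p 8 (Or.inl rfl)]
  · rcases hs with rfl | rfl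
    · refine ⟨E p - E i, ?_, ?_⟩
      · rw [← closure_minVecs]; exact E_sub_mem p i
      · funext j
        simp only [E, Pi.sub_apply, Pi.smul_apply, Pi.single_apply, smul_eq_mul, nsmul_eq_mul]
        split_ifs <;> norm_num
    · refine ⟨E p + E i, ?_, ?_⟩
      · by_cases h : p = i
        · subst h
          have : E p + E p = (e8 p : GolayPt → ℤ) := by
            funext j
            simp only [E, Pi.add_apply, Pi.single_apply, e8_apply]
            split_ifs <;> norm_num
          rw [this]; exact (e8 p).2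
        · rw [← closure_minVecs]; exact E_add_mem h
      · funext j
        simp only [E, Pi.sub_apply, Pi.add_apply, Pi.smul_apply, Pi.single_apply, smul_eq_mul,
          nsmul_eq_mul]
        split_ifs <;> norm_num

theorem ncard_stdCross : stdCross.ncard = 48 := by
  let f : GolayPt × Bool → (GolayPt → ℤ) := fun a => Pi.single a.1 (if a.2 then 8 else -8)
  have hf : Function.Injective f := by
    rintro ⟨i, b⟩ ⟨j, c⟩ h
    have hij : i = j := by
      by_contra hne
      have h1 := congrFun h i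
      simp only [f, Pi.single_eq_same, Pi.single_eq_of_ne hne] at h1
      split_ifs at h1 <;> norm_num at h1
    subst hij
    have h1 := congrFun h i
    simp only [f, Pi.single_eq_same] at h1
    have : b = c := by
      cases b <;> cases c <;> simp at h1 <;> first | rfl | (norm_num at h1)
    rw [this]
  have hr : stdCross = Set.range f := by
    ext y
    constructor
    · rintro ⟨i, s, hs, rfl⟩
      rcases hs with rfl | rfl
      · exact ⟨(i, true), by simp [f]⟩
      · exact ⟨(i, false), by simp [f]⟩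
    · rintro ⟨⟨i, b⟩, rfl⟩
      refine ⟨i, if b then 8 else -8, ?_, rfl⟩
      cases b <;> simp
  rw [hr, Set.ncard_range_of_injective hf, Nat.card_prod, Nat.card_eq_fintype_card,
    Nat.card_eq_fintype_card]
  rfl

theorem cross_single (p : GolayPt) : cross (Pi.single p 8) = stdCross := by
  have h48 := Cfsg.Agent.S1569.result (Pi.single p 8) (e8 p).2 (sqNorm_single p 8 (Or.inl rfl))
  symm
  exact Set.eq_of_subset_of_ncard_le (stdCross_subset_cross p) (by rw [h48, ncard_stdCross])
    (Set.finite_of_ncard_ne_zero (by rw [h48]; norm_num))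

theorem smul_mem_cross (g : Co0) (x y : leechLattice)
    (h : (y : GolayPt → ℤ) ∈ cross (x : GolayPt → ℤ)) :
    ((co0Hom g y : leechLattice) : GolayPt → ℤ) ∈ cross ((co0Hom g x : leechLattice) : GolayPt → ℤ) := by
  obtain ⟨hy, hn, z, hz, he⟩ := h
  refine ⟨(co0Hom g y).2, ?_, ((co0Hom g ⟨z, hz⟩ : leechLattice) : GolayPt → ℤ), (co0Hom g ⟨z, hz⟩).2, ?_⟩
  · rw [co0_sqNorm, co0_sqNorm, hn]
  · have h1 : x - y = 2 • (⟨z, hz⟩ : leechLattice) := Subtype.ext he
    have h2 := congrArg (co0Hom g) h1
    rw [map_sub, map_nsmul] at h2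
    exact congrArg (fun v : leechLattice => (v : GolayPt → ℤ)) h2

theorem stdCross_of_fix (g : Co0) (p : GolayPt) (hg : co0Hom g (e8 p) = e8 p) :
    ∀ v : leechLattice, (v : GolayPt → ℤ) ∈ stdCross →
      (((g : Equiv.Perm leechLattice) v : leechLattice) : GolayPt → ℤ) ∈ stdCross := by
  intro v hv
  rw [← cross_single p] at hv ⊢
  have := smul_mem_cross g (e8 p) v hv
  rw [hg] at this
  exact this

theorem signedPerm_empty (σ : Equiv.Perm GolayPt) (w : GolayPt → ℤ) :
    signedPerm σ ∅ w = permFun σ⁻¹ w := by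
  funext i
  simp only [signedPerm, Finset.notMem_empty, if_false, permFun]
  rfl

section

variable (p q : GolayPt) (hpq : p ≠ q) (u v x : leechLattice)
  (hu : ∀ i, (u : GolayPt → ℤ) i = if i = p then 5 else 1)
  (hv : ∀ i, (v : GolayPt → ℤ) i = if i = p then 4 else if i = q then 4 else 0)
  (hx : ∀ i, (x : GolayPt → ℤ) i = if i = p then 4 else if i = q then -4 else 0)

include hpq hv hx in
theorem e8_eq_add : e8 p = v + x := by
  apply Subtype.ext
  funext i
  rw [AddSubgroup.coe_add, Pi.add_apply, hv, hx, e8_apply]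
  split_ifs <;> norm_num

include hpq hv hx in
theorem e8_eq_sub : e8 q = v - x := by
  apply Subtype.ext
  funext i
  rw [AddSubgroup.coe_sub, Pi.sub_apply, hv, hx, e8_apply]
  by_cases h1 : i = p
  · have h2 : i ≠ q := by rw [h1]; exact hpq
    rw [if_pos h1, if_pos h1, if_neg h2]; norm_num
  · rw [if_neg h1, if_neg h1]
    split_ifs <;> norm_num

include hpq hu hv hx in
/-- an automorphism fixing the three vectors is a coordinate permutation fixing two points -/
theorem k3_monomial (g : Co0) (h1 : co0Hom g u = u) (h2 : co0Hom g v = v) (h3 : co0Hom g x = x) :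
    ∃ σ ∈ M24, σ p = p ∧ σ q = q ∧ ∀ w : leechLattice,
      ((co0Hom g w : leechLattice) : GolayPt → ℤ) = permFun σ⁻¹ (w : GolayPt → ℤ) := by
  have hep : co0Hom g (e8 p) = e8 p := by
    rw [e8_eq_add p q hpq v x hv hx, map_add, h2, h3]
  have heq : co0Hom g (e8 q) = e8 q := by
    rw [e8_eq_sub p q hpq v x hv hx, map_sub, h2, h3]
  obtain ⟨σ, hσ, w, hw, hgw⟩ := stab_monomial g (stdCross_of_fix g p hep)
  have hfix : ∀ r : GolayPt, co0Hom g (e8 r) = e8 r → σ r = r ∧ σ r ∉ support₂ w := by
    intro r hr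
    have h4 := hgw (e8 r)
    rw [e8_coe, signedPerm_single] at h4
    have h5 : (((g : Equiv.Perm leechLattice) (e8 r) : leechLattice) : GolayPt → ℤ) =
        Pi.single r 8 := by
      have := congrArg (fun v : leechLattice => (v : GolayPt → ℤ)) hr
      exact this
    rw [h5] at h4
    have h6 := congrFun h4 (σ r)
    rw [Pi.single_eq_same, Pi.single_apply] at h6
    by_cases hr' : σ r = r
    · refine ⟨hr', ?_⟩
      intro hc
      rw [if_pos hr', if_pos hc] at h6
      norm_num at h6
    · rw [if_neg hr'] at h6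
      split_ifs at h6 <;> norm_num at h6
  obtain ⟨hσp, hcp⟩ := hfix p hep
  obtain ⟨hσq, _⟩ := hfix q heq
  have hc : ∀ i, i ∉ support₂ w := by
    intro i hi
    have h4 := congrFun (hgw u) i
    have h5 : (((g : Equiv.Perm leechLattice) u : leechLattice) : GolayPt → ℤ) = u :=
      congrArg (fun v : leechLattice => (v : GolayPt → ℤ)) h1
    rw [h5] at h4
    unfold signedPerm at h4
    rw [if_pos hi, hu, hu] at h4
    split_ifs at h4 <;> norm_num at h4
  have hempty : support₂ w = ∅ := Finset.eq_empty_of_forall_notMem hc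
  refine ⟨σ, hσ, hσp, hσq, fun z => ?_⟩
  have := hgw z
  rw [hempty, signedPerm_empty] at this
  exact this

end

theorem permFun_eq_of_fix (σ : Equiv.Perm GolayPt) (u : GolayPt → ℤ) (f : GolayPt → ℤ)
    (hf : ∀ i, f (σ⁻¹ i) = f i) (hu : ∀ i, u i = f i) : permFun σ⁻¹ u = u := by
  funext i
  show u (σ⁻¹ i) = u i
  rw [hu, hu, hf]

section

variable (p q : GolayPt) (hpq : p ≠ q) (u v x : leechLattice)
  (hu : ∀ i, (u : GolayPt → ℤ) i = if i = p then 5 else 1)
  (hv : ∀ i, (v : GolayPt → ℤ) i = if i = p then 4 else if i = q then 4 else 0)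
  (hx : ∀ i, (x : GolayPt → ℤ) i = if i = p then 4 else if i = q then -4 else 0)

include hpq hu hv hx in
/-- the joint stabiliser of the three vectors is isomorphic to the two-point stabiliser -/
theorem exists_k3_equiv :
    Nonempty (↥(MulAction.stabilizer M24 p ⊓ MulAction.stabilizer M24 q) ≃*
      ↥(MulAction.stabilizer Co0 u ⊓ MulAction.stabilizer Co0 v ⊓ MulAction.stabilizer Co0 x)) := by
  classical
  have hfixp : ∀ τ : ↥(MulAction.stabilizer M24 p ⊓ MulAction.stabilizer M24 q),
      (τ.1.1 : Equiv.Perm GolayPt) p = p := fun τ => (Subgroup.mem_inf.mp τ.2).1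
  have hfixq : ∀ τ : ↥(MulAction.stabilizer M24 p ⊓ MulAction.stabilizer M24 q),
      (τ.1.1 : Equiv.Perm GolayPt) q = q := fun τ => (Subgroup.mem_inf.mp τ.2).2
  have hmem : ∀ τ : ↥(MulAction.stabilizer M24 p ⊓ MulAction.stabilizer M24 q),
      (⟨permPerm (τ.1.1)⁻¹ (M24.inv_mem τ.1.2), permPerm_mem _ _⟩ : Co0) ∈
        MulAction.stabilizer Co0 u ⊓ MulAction.stabilizer Co0 v ⊓ MulAction.stabilizer Co0 x := by
    intro τ
    have hp : ∀ i, (τ.1.1 : Equiv.Perm GolayPt)⁻¹ i = p ↔ i = p := by
      intro i; rw [Equiv.Perm.inv_eq_iff_eq, hfixp τ]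
    have hq : ∀ i, (τ.1.1 : Equiv.Perm GolayPt)⁻¹ i = q ↔ i = q := by
      intro i; rw [Equiv.Perm.inv_eq_iff_eq, hfixq τ]
    refine Subgroup.mem_inf.mpr ⟨Subgroup.mem_inf.mpr ⟨?_, ?_⟩, ?_⟩
    · rw [MulAction.mem_stabilizer_iff]
      apply Subtype.ext
      exact permFun_eq_of_fix _ _ (fun i => if i = p then 5 else 1)
        (fun i => by simp only [hp]) hu
    · rw [MulAction.mem_stabilizer_iff]
      apply Subtype.ext
      exact permFun_eq_of_fix _ _ (fun i => if i = p then 4 else if i = q then 4 else 0)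
        (fun i => by simp only [hp, hq]) hv
    · rw [MulAction.mem_stabilizer_iff]
      apply Subtype.ext
      exact permFun_eq_of_fix _ _ (fun i => if i = p then 4 else if i = q then -4 else 0)
        (fun i => by simp only [hp, hq]) hx
  let f : ↥(MulAction.stabilizer M24 p ⊓ MulAction.stabilizer M24 q) →*
      ↥(MulAction.stabilizer Co0 u ⊓ MulAction.stabilizer Co0 v ⊓ MulAction.stabilizer Co0 x) :=
    { toFun := fun τ => ⟨⟨permPerm (τ.1.1)⁻¹ (M24.inv_mem τ.1.2), permPerm_mem _ _⟩, hmem τ⟩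
      map_one' := by
        apply Subtype.ext
        apply Subtype.ext
        apply Equiv.ext
        intro w
        apply Subtype.ext
        funext i
        rfl
      map_mul' := by
        intro τ τ'
        apply Subtype.ext
        apply Subtype.ext
        apply Equiv.ext
        intro w
        apply Subtype.ext
        funext i
        show (w : GolayPt → ℤ) ((τ.1.1 * τ'.1.1 : Equiv.Perm GolayPt)⁻¹ i) =
          (w : GolayPt → ℤ) ((τ'.1.1 : Equiv.Perm GolayPt)⁻¹ ((τ.1.1 : Equiv.Perm GolayPt)⁻¹ i))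
        rw [mul_inv_rev]
        rfl }
  have hfw : ∀ (τ : ↥(MulAction.stabilizer M24 p ⊓ MulAction.stabilizer M24 q)) (w : leechLattice),
      ((co0Hom (f τ).1 w : leechLattice) : GolayPt → ℤ) =
        signedPerm (τ.1.1 : Equiv.Perm GolayPt) ∅ (w : GolayPt → ℤ) := by
    intro τ w
    rw [signedPerm_empty]
    rfl
  have hinj : Function.Injective f := by
    intro τ τ' h
    have h1 : ∀ w : leechLattice, signedPerm (τ.1.1 : Equiv.Perm GolayPt) ∅ (w : GolayPt → ℤ) =
        signedPerm (τ'.1.1 : Equiv.Perm GolayPt) ∅ (w : GolayPt → ℤ) := by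
      intro w
      rw [← hfw τ w, ← hfw τ' w, h]
    exact Subtype.ext (Subtype.ext (signedPerm_unique h1).1)
  have hsurj : Function.Surjective f := by
    rintro ⟨g, hg⟩
    obtain ⟨hg12, hg3⟩ := Subgroup.mem_inf.mp hg
    obtain ⟨hg1, hg2⟩ := Subgroup.mem_inf.mp hg12
    obtain ⟨σ, hσ, hσp, hσq, hσw⟩ := k3_monomial p q hpq u v x hu hv hx g hg1 hg2 hg3
    refine ⟨⟨⟨σ, hσ⟩, Subgroup.mem_inf.mpr ⟨hσp, hσq⟩⟩, ?_⟩
    apply Subtype.ext
    apply Subtype.ext
    apply Equiv.ext
    intro w
    apply Subtype.ext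
    exact (hσw w).symm
  exact ⟨MulEquiv.ofBijective f ⟨hinj, hsurj⟩⟩

include hpq hu hv hx in
theorem card_k3 : Nat.card ↥(MulAction.stabilizer Co0 u ⊓ MulAction.stabilizer Co0 v ⊓
    MulAction.stabilizer Co0 x) = 443520 := by
  obtain ⟨e⟩ := exists_k3_equiv p q hpq u v x hu hv hx
  rw [← Nat.card_congr e.toEquiv]
  exact Cfsg.Agent.S0378.result p q hpq

include hpq hu hv hx in
theorem simple_k3 : IsSimpleGroup ↥(MulAction.stabilizer Co0 u ⊓ MulAction.stabilizer Co0 v ⊓
    MulAction.stabilizer Co0 x) := by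
  obtain ⟨e⟩ := exists_k3_equiv p q hpq u v x hu hv hx
  haveI := Cfsg.Agent.S0379.result p q hpq
  exact e.symm.isSimpleGroup

end

end Cfsg.Agent.Helper4.CO
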