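import Cfsg.Agent.Lib.Helper4.CoOrbit

set_option autoImplicit false
set_option linter.style.haveILetI false
set_option linter.unusedVariables false
set_option linter.unusedSectionVars false

/-! Involutions of the automorphism group of the rank-24 lattice conjugate to a symmetric good
matrix, fixing given vectors and moving each of a list of vectors. -/

namespace Cfsg.Agent.Helper4.CO

open Cfsg Cfsg.Agent.Lib.Helper4 Cfsg.Agent.Lib.Helper28 Cfsg.Agent.Helper4.LC

theorem matCo0_mul_self (A : List (List ℤ)) (h : GoodMat A) (hs : transp A = A) :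
    matCo0 A h * matCo0 A h = 1 := by
  have hBA : toM A * toM A = (4 : ℤ) • (1 : Matrix GolayPt GolayPt ℤ) := by
    have h1 := orthoRows_spec h.1 h.2.1
    have h2 := toM_transp A h.1.1
    rw [hs] at h2
    rw [← h2] at h1
    exact h1
  apply Subtype.ext
  apply Equiv.ext
  intro v
  show matPerm A h (matPerm A h v) = v
  apply Subtype.ext
  show actV A (actV A (v : GolayPt → ℤ)) = v
  exact actV_actV h.1 h.2.2.2.1 h.1 h.2.2.2.1 hBA v.2

/-- the vectors coded by a list of numbers are moved by the conjugate of (half) the matrix `A`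
by the product of the matrices `Hs` -/
def noFixW (Hs : List (List (List ℤ))) (A : List (List ℤ)) : List ℕ → Bool
  | [] => true
  | X :: Xs =>
    if actL A (wordAct Hs (unpack X)) = wordAct Hs (unpack X) then false else noFixW Hs A Xs

theorem noFixW_sound (Hs : List (List (List ℤ))) (A : List (List ℤ)) : ∀ Xs : List ℕ,
    noFixW Hs A Xs = true →
      ∀ X ∈ Xs, actL A (wordAct Hs (unpack X)) ≠ wordAct Hs (unpack X) := by
  intro Xs
  induction Xs with
  | nil => intro _ X hX; simp at hX
  | cons Y Ys ih =>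
    intro h X hX
    rw [noFixW] at h
    split_ifs at h with hY
    rcases List.mem_cons.mp hX with rfl | hX
    · exact hY
    · exact ih h X hX

theorem unpack_length (X : ℕ) : (unpack X).length = 24 := by simp [unpack]

theorem exists_invol (as : List (List ℤ)) (hlen : ∀ a ∈ as, a.length = 24)
    (Hs : List (List (List ℤ))) (hHs : ∀ B ∈ Hs, GoodMat B) (A : List (List ℤ)) (hA : GoodMat A)
    (hsym : transp A = A) (hfix : ∀ a ∈ as, actL A (wordAct Hs a) = wordAct Hs a)
    (keys : List ℕ) (hno : noFixW Hs A keys = true) :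
    ∃ t : Co0, (∀ a ∈ as, FixL t a) ∧ t * t = 1 ∧
      ∀ X ∈ keys, ∀ x : leechLattice, (x : GolayPt → ℤ) = toV (unpack X) → t • x ≠ x := by
  obtain ⟨H, hH⟩ := word_elt Hs hHs
  have hN : ∀ l : List ℤ, l.length = 24 → ∀ v : leechLattice, (v : GolayPt → ℤ) = toV l →
      ((matCo0 A hA • v : leechLattice) : GolayPt → ℤ) = toV (actL A l) := by
    intro l hl v hv
    rw [matCo0_smul, hv, ← toV_actL hA.1 l hl]
  refine ⟨H⁻¹ * matCo0 A hA * H, ?_, ?_, ?_⟩
  · intro a ha v hv
    obtain ⟨hl, hact⟩ := hH a (hlen a ha)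
    have h1 := hact v hv
    have h2 := hN _ hl (H • v) h1
    rw [hfix a ha] at h2
    have h3 : matCo0 A hA • (H • v) = H • v := Subtype.ext (by rw [h2, h1])
    rw [mul_smul, mul_smul, h3, inv_smul_smul]
  · have := matCo0_mul_self A hA hsym
    calc H⁻¹ * matCo0 A hA * H * (H⁻¹ * matCo0 A hA * H)
        = H⁻¹ * (matCo0 A hA * matCo0 A hA) * H := by group
      _ = 1 := by rw [this]; group
  · intro X hX x hx hfixx
    obtain ⟨hl, hact⟩ := hH (unpack X) (unpack_length X)
    have h1 := hact x hx
    have h2 := hN _ hl (H • x) h1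
    rw [mul_smul, mul_smul, inv_smul_eq_iff] at hfixx
    rw [hfixx, h1] at h2
    have h3 := toV_inj (by rw [actL_length]; exact hA.1.1) hl h2.symm
    exact noFixW_sound Hs A keys hno X hX h3

end Cfsg.Agent.Helper4.CO
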