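import Mathlib

set_option autoImplicit false
set_option linter.style.haveILetI false
set_option linter.unusedVariables false

/-! S2399 piece [U2] (helper4): Schur — a projective image of a finite perfect group is covered by a finite
subgroup (the commutator subgroup of the full preimage, which has finitely many commutators). -/

namespace Cfsg.Agent.Lib.Helper29.PLift

open scoped commutatorElement

namespace Helper4U

/-- commutators do not see central factors -/
theorem commutatorElement_mul_central {Γ : Type*} [Group Γ] (a b z w : Γ)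
    (hz : z ∈ Subgroup.center Γ) (hw : w ∈ Subgroup.center Γ) : ⁅a * z, b * w⁆ = ⁅a, b⁆ := by
  have hz' : ∀ g : Γ, g * z = z * g := Subgroup.mem_center_iff.mp hz
  have hw' : ∀ g : Γ, g * w = w * g := Subgroup.mem_center_iff.mp hw
  have hzi : ∀ g : Γ, g * z⁻¹ = z⁻¹ * g :=
    Subgroup.mem_center_iff.mp ((Subgroup.center Γ).inv_mem hz)
  have hwi : ∀ g : Γ, g * w⁻¹ = w⁻¹ * g :=
    Subgroup.mem_center_iff.mp ((Subgroup.center Γ).inv_mem hw)
  rw [commutatorElement_def, commutatorElement_def, mul_inv_rev, mul_inv_rev]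
  calc a * z * (b * w) * (z⁻¹ * a⁻¹) * (w⁻¹ * b⁻¹)
      = a * (z * (b * w) * z⁻¹) * a⁻¹ * (w⁻¹ * b⁻¹) := by group
    _ = a * (b * w) * a⁻¹ * (w⁻¹ * b⁻¹) := by
        rw [← hz' (b * w), mul_inv_cancel_right]
    _ = a * b * (w * a⁻¹ * w⁻¹) * b⁻¹ := by group
    _ = a * b * a⁻¹ * b⁻¹ := by
        rw [← hw' a⁻¹, mul_inv_cancel_right]

end Helper4U

open Helper4U

/-- [U2] Schur: a projective image of a finite perfect group is covered by a finite subgroup -/
theorem exists_finite_cover {G Γ : Type*} [Group G] [Finite G] [Group Γ]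
    (hperf : commutator G = ⊤) (Z : Subgroup Γ) [Z.Normal] (hZ : Z ≤ Subgroup.center Γ)
    (φ : G →* Γ ⧸ Z) :
    ∃ H : Subgroup Γ, Finite H ∧ ∀ g : G, ∃ y ∈ H, (QuotientGroup.mk' Z) y = φ g := by
  classical
  -- chosen lifts
  have hsurj := QuotientGroup.mk'_surjective Z
  let l : G → Γ := fun g => Function.surjInv hsurj (φ g)
  have hl : ∀ g, (QuotientGroup.mk' Z) (l g) = φ g := fun g => Function.surjInv_eq hsurj (φ g)
  -- the full preimage of the image
  let E : Subgroup Γ := φ.range.comap (QuotientGroup.mk' Z)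
  have hlE : ∀ g, l g ∈ E := fun g => by
    show (QuotientGroup.mk' Z) (l g) ∈ φ.range
    rw [hl]
    exact ⟨g, rfl⟩
  let lE : G → ↥E := fun g => ⟨l g, hlE g⟩
  -- every element of `E` is a chosen lift times a central element
  have hdec : ∀ a : ↥E, ∃ g : G, ∃ z : Γ, z ∈ Subgroup.center Γ ∧ (a : Γ) = l g * z := by
    intro a
    obtain ⟨g, hg⟩ : (QuotientGroup.mk' Z) a.1 ∈ φ.range := a.2
    refine ⟨g, (l g)⁻¹ * a.1, hZ ?_, by rw [mul_inv_cancel_left]⟩
    rw [← QuotientGroup.ker_mk' Z, MonoidHom.mem_ker, map_mul, map_inv, hl, hg, inv_mul_cancel]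
  -- finitely many commutators
  have hfin : (commutatorSet ↥E).Finite := by
    refine Set.Finite.subset (Set.finite_range (fun gh : G × G => ⁅lE gh.1, lE gh.2⁆)) ?_
    rintro _ ⟨a, b, rfl⟩
    obtain ⟨g, z, hz, ha⟩ := hdec a
    obtain ⟨h, w, hw, hb⟩ := hdec b
    refine ⟨(g, h), ?_⟩
    apply Subtype.ext
    show ⁅l g, l h⁆ = (⁅a, b⁆ : ↥E).1
    have e : ((⁅a, b⁆ : ↥E) : Γ) = ⁅(a : Γ), (b : Γ)⁆ := by
      rw [commutatorElement_def, commutatorElement_def]
      rfl
    rw [e, ha, hb, commutatorElement_mul_central _ _ _ _ hz hw]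
  haveI : Finite (commutatorSet ↥E) := hfin.to_subtype
  haveI : Finite ↥(commutator ↥E) := inferInstance
  refine ⟨(commutator ↥E).map E.subtype, ?_, ?_⟩
  · exact Finite.of_surjective
      (fun x : ↥(commutator ↥E) =>
        (⟨E.subtype x.1, Subgroup.mem_map_of_mem _ x.2⟩ : ↥((commutator ↥E).map E.subtype)))
      (by
        rintro ⟨_, x, hx, rfl⟩
        exact ⟨⟨x, hx⟩, rfl⟩)
  · -- the covered elements form a subgroup containing all commutators
    let T : Subgroup G :=
      { carrier := {g | ∃ y ∈ (commutator ↥E).map E.subtype, (QuotientGroup.mk' Z) y = φ g}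
        mul_mem' := by
          rintro a b ⟨y, hy, hya⟩ ⟨y', hy', hyb⟩
          exact ⟨y * y', Subgroup.mul_mem _ hy hy', by rw [map_mul, map_mul, hya, hyb]⟩
        one_mem' := ⟨1, Subgroup.one_mem _, by rw [map_one, map_one]⟩
        inv_mem' := by
          rintro a ⟨y, hy, hya⟩
          exact ⟨y⁻¹, Subgroup.inv_mem _ hy, by rw [map_inv, map_inv, hya]⟩ }
    have hT : T = ⊤ := by
      rw [eq_top_iff, ← hperf, commutator_eq_closure, Subgroup.closure_le]
      rintro _ ⟨a, b, rfl⟩
      refine ⟨⁅l a, l b⁆, ⟨⁅lE a, lE b⁆, ?_, ?_⟩, ?_⟩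
      · rw [commutator_def]
        exact Subgroup.commutator_mem_commutator (Subgroup.mem_top _) (Subgroup.mem_top _)
      · rw [commutatorElement_def, commutatorElement_def]
        rfl
      · rw [map_commutatorElement, map_commutatorElement, hl, hl]
    intro g
    have hg : g ∈ T := hT ▸ Subgroup.mem_top g
    exact hg

end Cfsg.Agent.Lib.Helper29.PLift
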