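import Mathlib
import Cfsg.Prelude.Def_RootSubgroups
import Cfsg.Agent.H26.RootInv1
import Cfsg.Agent.Lib.Helper1.BaerSuzuki

/-!
# S5046 reduction farm piece [TC1]: a set of involutions, closed under conjugation by its members,
with all products of order dividing 4, generates a 2-group (Baer–Suzuki inside `closure T`).
-/

set_option autoImplicit false

namespace Cfsg.Agent.Lib.Helper3.Red
open Cfsg

variable {G : Type*} [Group G] {D : Set G}

/-- [TC1] a set of involutions, closed under conjugation by its members, with all products of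
order dividing 4, generates a 2-group (Baer–Suzuki inside `closure T`). -/
theorem isPGroup_closure_of_pairwise [Finite G] (T : Set G) (hinv : ∀ t ∈ T, t * t = 1)
    (hconj : ∀ s ∈ T, ∀ t ∈ T, s * t * s⁻¹ ∈ T) (hpair : ∀ s ∈ T, ∀ t ∈ T, (s * t) ^ 4 = 1) :
    IsPGroup 2 (Subgroup.closure T) := by
  haveI : Fact (Nat.Prime 2) := ⟨Nat.prime_two⟩
  set H : Subgroup G := Subgroup.closure T with hH
  -- conjugation by elements of `H` preserves `T`
  have hnorm : ∀ g ∈ H, ∀ t ∈ T, g * t * g⁻¹ ∈ T := by
    intro g hg
    induction hg using Subgroup.closure_induction with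
    | mem s hs => exact fun t ht => hconj s hs t ht
    | one => intro t ht; simpa using ht
    | mul a b _ _ iha ihb =>
      intro t ht
      have := iha _ (ihb t ht)
      have e : a * b * t * (a * b)⁻¹ = a * (b * t * b⁻¹) * a⁻¹ := by group
      rw [e]
      exact this
    | inv a _ iha =>
      intro t ht
      -- conjugation by `a` is an injective self-map of the finite set `T`, hence surjective
      have hfin : T.Finite := Set.toFinite T
      have hmaps : Set.MapsTo (fun x : G => a * x * a⁻¹) T T := fun x hx => iha x hx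
      have hinj : Set.InjOn (fun x : G => a * x * a⁻¹) T := by
        intro x _ y _ hxy
        exact mul_left_cancel (mul_right_cancel hxy)
      have hsurj : Set.SurjOn (fun x : G => a * x * a⁻¹) T T :=
        ((Set.Finite.injOn_iff_bijOn_of_mapsTo hfin hmaps).1 hinj).surjOn
      obtain ⟨x, hx, hxt⟩ := hsurj ht
      have : a⁻¹ * t * a⁻¹⁻¹ = x := by
        rw [← hxt]
        group
      rw [this]
      exact hx
  -- the set `K` of elements of `H` lying in `T`
  set K : Set H := {x | (x : G) ∈ T} with hK
  have hKinv : ∀ g : H, ∀ x ∈ K, g * x * g⁻¹ ∈ K := by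
    intro g x hx
    exact hnorm g.1 g.2 x.1 hx
  have hKpair : ∀ x ∈ K, ∀ y ∈ K, IsPGroup 2 (Subgroup.closure ({x, y} : Set H)) := by
    intro x hx y hy
    apply Cfsg.Agent.H26.isPGroup_two_closure_pair
    · exact Subtype.ext (hinv x.1 hx)
    · exact Subtype.ext (hinv y.1 hy)
    · exact Subtype.ext (hpair x.1 hx y.1 hy)
  have hcore : ∀ x ∈ K, x ∈ pCore 2 H := Cfsg.Agent.Lib.Helper1.baer_suzuki K hKinv hKpair
  have htop : pCore 2 H = ⊤ := by
    rw [eq_top_iff]
    intro g _
    have hg : (g : G) ∈ Subgroup.closure T := g.2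
    have key : ∀ y (hy : y ∈ Subgroup.closure T), (⟨y, hy⟩ : H) ∈ pCore 2 H := by
      intro y hy
      induction hy using Subgroup.closure_induction with
      | mem s hs => exact hcore ⟨s, Subgroup.subset_closure hs⟩ hs
      | one => exact Subgroup.one_mem _
      | mul a b ha hb iha ihb => exact Subgroup.mul_mem _ iha ihb
      | inv a ha iha => exact Subgroup.inv_mem _ iha
    exact key g.1 hg
  have hp : IsPGroup 2 (pCore 2 H) := Cfsg.Agent.Lib.Helper1.pCore_isPGroup 2
  rw [htop] at hp
  exact IsPGroup.of_equiv hp Subgroup.topEquiv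

end Cfsg.Agent.Lib.Helper3.Red
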