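import Mathlib
import Cfsg.Prelude.Def_CaseTheorems
import Cfsg.Agent.Lib.Helper1.Cores
import Cfsg.Agent.Lib.Helper1.Fitting
import Cfsg.Agent.Lib.Helper1.ThompsonPQ

set_option autoImplicit false
set_option linter.style.haveILetI false
set_option linter.deprecated false

/-! Solvable core-free involution centralizers give characteristic 2 type. -/

namespace Cfsg.Agent.Helper4.CharTwo

open Cfsg Cfsg.Agent.Lib.Helper1

/-- Balance-type lemma: in a finite solvable group `X` with `O(X) = 1`, an odd order subgroup `D`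
centralized by a 2-subgroup `T` and normalized by `O_2(X) ∩ C_X(T)` is trivial. -/
theorem eq_bot_of_balance {X : Type*} [Group X] [Finite X] [Group.IsSolvable X]
    (h : pPrimeCore 2 X = ⊥) (T D : Subgroup X) (hT : IsPGroup 2 T)
    (hD : (Nat.card D).Coprime 2) (hTD : T ≤ Subgroup.centralizer (D : Set X))
    (hN : ∀ y ∈ pCore 2 X, y ∈ Subgroup.centralizer (T : Set X) → ∀ d ∈ D, y * d * y⁻¹ ∈ D) :
    D = ⊥ := by
  haveI : Fact (Nat.Prime 2) := ⟨Nat.prime_two⟩
  have hY := centralizer_pCore_le (G := X) 2 h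
  have hYp : IsPGroup 2 (pCore 2 X) := pCore_isPGroup 2
  have hYn : (pCore 2 X).Normal := inferInstance
  have hcop : (Nat.card D).Coprime (Nat.card (pCore 2 X)) := by
    obtain ⟨k, hk⟩ := IsPGroup.iff_card.mp hYp
    rw [hk]
    exact Nat.Coprime.pow_right k hD
  have hinf : D ⊓ pCore 2 X = ⊥ := Subgroup.inf_eq_bot_of_coprime hcop
  have hnorm : Subgroup.normalizer ((pCore 2 X : Subgroup X) : Set X) = ⊤ :=
    Subgroup.normalizer_eq_top_iff.2 hYn
  have key : D ≤ Subgroup.centralizer (pCore 2 X : Set X) := by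
    refine thompson_PxQ 2 T D hT hD hTD _ (pCore 2 X) rfl hYp ?_ ?_ ?_
    · rw [hnorm]; exact le_top
    · rw [hnorm]; exact le_top
    · rintro y ⟨hyY, hyT⟩
      rw [Subgroup.mem_centralizer_iff]
      intro d hd
      have h1 : y * d * y⁻¹ * d⁻¹ ∈ D := D.mul_mem (hN y hyY hyT d hd) (D.inv_mem hd)
      have h2 : y * d * y⁻¹ * d⁻¹ ∈ pCore 2 X := by
        have : y * (d * y⁻¹ * d⁻¹) ∈ pCore 2 X :=
          (pCore 2 X).mul_mem hyY (hYn.conj_mem _ (inv_mem hyY) d)
        simpa [mul_assoc] using this
      have h3 : y * d * y⁻¹ * d⁻¹ ∈ D ⊓ pCore 2 X := ⟨h1, h2⟩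
      rw [hinf, Subgroup.mem_bot] at h3
      have h4 : y * d = d * y := by
        have := congrArg (fun w => w * d * y) h3
        simpa [mul_assoc] using this
      exact h4.symm
  have hDY : D ≤ pCore 2 X := key.trans hY
  rw [eq_bot_iff, ← hinf]
  exact le_inf le_rfl hDY

/-- If `C_M(O_2(M))` is solvable and contains no nontrivial normal subgroup of `M` of odd order
then `C_M(O_2(M)) ≤ O_2(M)`. -/
theorem centralizer_pCore_le_of_odd_normal_trivial {M : Type*} [Group M] [Finite M]
    (hsol : Group.IsSolvable (Subgroup.centralizer (pCore 2 M : Set M)))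
    (hodd : ∀ D : Subgroup M, D.Normal → (Nat.card D).Coprime 2 →
      D ≤ Subgroup.centralizer (pCore 2 M : Set M) → D = ⊥) :
    Subgroup.centralizer (pCore 2 M : Set M) ≤ pCore 2 M := by
  haveI : Fact (Nat.Prime 2) := ⟨Nat.prime_two⟩
  haveI hRn : (pCore 2 M).Normal := inferInstance
  set C := Subgroup.centralizer (pCore 2 M : Set M) with hC
  haveI hCn : C.Normal := Subgroup.normal_centralizer
  haveI hch1 : (pPrimeCore 2 ↥C).Characteristic := pPrimeCore_characteristic 2
  haveI hch2 : (pCore 2 ↥C).Characteristic := pCore_characteristic 2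
  have hK : pPrimeCore 2 ↥C = ⊥ := by
    have h1 : ((pPrimeCore 2 ↥C).map C.subtype).Normal := inferInstance
    have h2 : (Nat.card ((pPrimeCore 2 ↥C).map C.subtype)).Coprime 2 := by
      rw [Subgroup.card_map_of_injective C.subtype_injective]
      exact pPrimeCore_coprime 2
    have h3 : (pPrimeCore 2 ↥C).map C.subtype ≤ C := Subgroup.map_subtype_le _
    have h4 := hodd _ h1 h2 h3
    exact (Subgroup.map_eq_bot_iff_of_injective _ C.subtype_injective).1 h4
  have hcent := centralizer_pCore_le (G := ↥C) 2 hK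
  have hE : (pCore 2 ↥C).map C.subtype ≤ pCore 2 M := by
    apply le_pCore
    · infer_instance
    · exact (pCore_isPGroup 2).map _
  intro c hc
  have hc' : (⟨c, hc⟩ : ↥C) ∈ Subgroup.centralizer (pCore 2 ↥C : Set ↥C) := by
    rw [Subgroup.mem_centralizer_iff]
    intro e he
    have heR : (e : M) ∈ pCore 2 M := hE (Subgroup.mem_map_of_mem C.subtype he)
    have := (Subgroup.mem_centralizer_iff.1 hc) (e : M) heR
    exact Subtype.ext this
  have := hcent hc'
  exact hE (Subgroup.mem_map_of_mem C.subtype this)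

/-- the main theorem: normalizers of nontrivial 2-subgroups have characteristic 2. -/
theorem main {G : Type*} [Group G] [Finite G]
    (hs : ∀ t : G, orderOf t = 2 → Group.IsSolvable (Subgroup.centralizer ({t} : Set G)))
    (hc : ∀ t : G, orderOf t = 2 → Cfsg.oddCore (Subgroup.centralizer ({t} : Set G)) = ⊥)
    (T : Subgroup G) (hT : IsPGroup 2 T) (hTne : T ≠ ⊥) :
    Subgroup.centralizer (pCore 2 ↥(Subgroup.normalizer (T : Set G)) :
      Set ↥(Subgroup.normalizer (T : Set G))) ≤ pCore 2 ↥(Subgroup.normalizer (T : Set G)) := by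
  haveI : Fact (Nat.Prime 2) := ⟨Nat.prime_two⟩
  set N := Subgroup.normalizer (T : Set G) with hN
  set R := pCore 2 ↥N with hR
  have hRp : IsPGroup 2 R := pCore_isPGroup 2
  haveI hRn : R.Normal := inferInstance
  have hTN : T ≤ N := Subgroup.le_normalizer
  have hT' : T.subgroupOf N ≤ R := by
    apply le_pCore
    · exact Subgroup.normal_in_normalizer
    · exact hT.comap_subtype
  have hTR : ∀ s (hs : s ∈ T), (⟨s, hTN hs⟩ : ↥N) ∈ R := fun s hs =>
    hT' (Subgroup.mem_subgroupOf.2 hs)
  -- R is nontrivial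
  haveI hRnt : Nontrivial R := by
    obtain ⟨x, hxT, hx1⟩ := (Subgroup.bot_or_exists_ne_one T).resolve_left hTne
    refine ⟨⟨⟨⟨x, hTN hxT⟩, hTR x hxT⟩, 1, ?_⟩⟩
    intro h
    apply hx1
    have := congrArg (fun w : ↥R => ((w : ↥N) : G)) h
    simpa using this
  have hZp : IsPGroup 2 (Subgroup.center R) := hRp.to_subgroup _
  haveI hZnt : Nontrivial (Subgroup.center R) := hRp.center_nontrivial
  have h2Z : 2 ∣ Nat.card (Subgroup.center R) := by
    obtain ⟨k, hk⟩ := IsPGroup.iff_card.mp hZp
    rw [hk]
    have hk0 : k ≠ 0 := by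
      rintro rfl
      rw [pow_zero] at hk
      have := Finite.one_lt_card (α := Subgroup.center R)
      omega
    exact dvd_pow_self 2 hk0
  obtain ⟨z, hz⟩ := exists_prime_orderOf_dvd_card' 2 h2Z
  set zN : ↥N := ((z : ↥R) : ↥N) with hzN
  have hzNR : zN ∈ R := (z : ↥R).2
  set t : G := (zN : G) with ht
  have hto : orderOf t = 2 := by
    rw [ht, hzN, Subgroup.orderOf_coe, Subgroup.orderOf_coe, Subgroup.orderOf_coe]
    exact hz
  -- `zN` commutes with every element of `R`
  have hzR : ∀ r : ↥N, r ∈ R → r * zN = zN * r := by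
    intro r hr
    have h1 := (Subgroup.mem_center_iff.1 z.2) ⟨r, hr⟩
    have h2 := congrArg (fun w : ↥R => (w : ↥N)) h1
    simp only [Subgroup.coe_mul] at h2
    exact h2
  set X := Subgroup.centralizer ({t} : Set G) with hX
  haveI hXs : Group.IsSolvable ↥X := hs t hto
  have hcX : pPrimeCore 2 ↥X = ⊥ := hc t hto
  -- elements of `C_N(R)` lie in `X`
  have hCX : ∀ c : ↥N, c ∈ Subgroup.centralizer (R : Set ↥N) → (c : G) ∈ X := by
    intro c hc
    rw [hX, Subgroup.mem_centralizer_singleton_iff]
    have := (Subgroup.mem_centralizer_iff.1 hc) zN hzNR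
    have h2 := congrArg (fun w : ↥N => (w : G)) this
    simpa using h2.symm
  have hTX : T ≤ X := by
    intro s hs
    rw [hX, Subgroup.mem_centralizer_singleton_iff]
    have := hzR ⟨s, hTN hs⟩ (hTR s hs)
    have h2 := congrArg (fun w : ↥N => (w : G)) this
    simpa using h2
  apply centralizer_pCore_le_of_odd_normal_trivial
  · -- solvability
    let f : ↥(Subgroup.centralizer (R : Set ↥N)) →* ↥X :=
      { toFun := fun c => ⟨((c : ↥N) : G), hCX c.1 c.2⟩
        map_one' := by ext; simp
        map_mul' := by intro a b; ext; simp }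
    have hf : Function.Injective f := by
      intro a b hab
      have := congrArg (fun w : ↥X => (w : G)) hab
      exact Subtype.ext (Subtype.ext this)
    exact solvable_of_solvable_injective hf
  · intro D hDn hDodd hDC
    -- transfer to `X`
    set DX : Subgroup ↥X := (D.map N.subtype).subgroupOf X with hDX
    set TX : Subgroup ↥X := T.subgroupOf X with hTX'
    have hDle : D.map N.subtype ≤ X := by
      rintro _ ⟨d, hd, rfl⟩
      exact hCX d (hDC hd)
    have hcardDX : Nat.card DX = Nat.card D := by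
      rw [hDX, Nat.card_congr (Subgroup.subgroupOfEquivOfLe hDle).toEquiv,
        Subgroup.card_map_of_injective N.subtype_injective]
    have hcomm : ∀ d : ↥N, d ∈ D → ∀ s (hs : s ∈ T), s * (d : G) = (d : G) * s := by
      intro d hd s hs
      have := (Subgroup.mem_centralizer_iff.1 (hDC hd)) ⟨s, hTN hs⟩ (hTR s hs)
      have h2 := congrArg (fun w : ↥N => (w : G)) this
      simpa using h2
    have hDXbot : DX = ⊥ := by
      apply eq_bot_of_balance hcX TX DX hT.comap_subtype (by rw [hcardDX]; exact hDodd)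
      · -- TX centralizes DX
        intro x hx
        rw [Subgroup.mem_centralizer_iff]
        intro d hd
        rw [SetLike.mem_coe, hDX, Subgroup.mem_subgroupOf] at hd
        obtain ⟨d', hd', hdd⟩ := hd
        rw [hTX', Subgroup.mem_subgroupOf] at hx
        have := hcomm d' hd' x.1 hx
        apply Subtype.ext
        simp only [Subgroup.coe_mul]
        rw [← hdd]
        exact this.symm
      · -- normalizing
        intro y _ hyT d hd
        rw [hDX, Subgroup.mem_subgroupOf] at hd ⊢
        obtain ⟨d', hd', hdd⟩ := hd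
        -- `y` centralizes `T`, hence lies in `N`
        have hyN : (y : G) ∈ N := by
          apply Subgroup.centralizer_le_normalizer
          rw [Subgroup.mem_centralizer_iff]
          intro s hs
          have := (Subgroup.mem_centralizer_iff.1 hyT) ⟨s, hTX hs⟩
            (by rw [SetLike.mem_coe, hTX', Subgroup.mem_subgroupOf]; exact hs)
          have h2 := congrArg (fun w : ↥X => (w : G)) this
          simpa using h2
        refine ⟨⟨(y : G), hyN⟩ * d' * ⟨(y : G), hyN⟩⁻¹, hDn.conj_mem d' hd' _, ?_⟩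
        simp only [Subgroup.coe_mul, Subgroup.coe_inv, Subgroup.subtype_apply] at hdd ⊢
        rw [hdd]
    -- conclude
    rw [eq_bot_iff]
    intro d hd
    rw [Subgroup.mem_bot]
    have hdX : (d : G) ∈ X := hCX d (hDC hd)
    have : (⟨(d : G), hdX⟩ : ↥X) ∈ DX := by
      rw [hDX, Subgroup.mem_subgroupOf]
      exact ⟨d, hd, rfl⟩
    rw [hDXbot, Subgroup.mem_bot] at this
    have h2 := congrArg (fun w : ↥X => (w : G)) this
    exact Subtype.ext (by simpa using h2)

end Cfsg.Agent.Helper4.CharTwo
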