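import Cfsg.Agent.Lib.Helper4.CoTrans32
import Cfsg.Agent.S0394
import Cfsg.Agent.Lib.Helper28.M24Mem

set_option autoImplicit false
set_option linter.style.haveILetI false
set_option linter.unusedVariables false
set_option linter.unusedSectionVars false

/-! An explicit enumeration of the vectors of sum of squares 32 of the rank-24 lattice by lists,
and a kernel-friendly count of those with prescribed inner products with three fixed lists. -/

namespace Cfsg.Agent.Helper4.CO

open Cfsg Cfsg.Agent.Lib.Helper4 Cfsg.Agent.Lib.Helper28 Cfsg.Agent.Helper4.LC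

/-! ### list operations -/

/-- the list with `v` at position `p` -/
def sgl (p : ℕ) (v : ℤ) : List ℤ := (List.range 24).map fun i => if i = p then v else 0

/-- pointwise sum -/
def addL (x y : List ℤ) : List ℤ := List.zipWith (· + ·) x y

/-- the zero list -/
def zeroL : List ℤ := List.replicate 24 0

theorem sgl_length (p : ℕ) (v : ℤ) : (sgl p v).length = 24 := by simp [sgl]

theorem addL_length {x y : List ℤ} (hx : x.length = 24) (hy : y.length = 24) :
    (addL x y).length = 24 := by simp [addL, hx, hy]

theorem zeroL_length : zeroL.length = 24 := by simp [zeroL]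

theorem getD_sgl (p : ℕ) (v : ℤ) (i : ℕ) (hi : i < 24) :
    (sgl p v).getD i 0 = if i = p then v else 0 := by
  have h : i < (sgl p v).length := by rw [sgl_length]; exact hi
  rw [List.getD_eq_getElem _ _ h]
  simp [sgl]

theorem getD_addL (x y : List ℤ) (hx : x.length = 24) (hy : y.length = 24) (i : ℕ)
    (hi : i < 24) : (addL x y).getD i 0 = x.getD i 0 + y.getD i 0 := by
  have h : i < (addL x y).length := by rw [addL_length hx hy]; exact hi
  rw [List.getD_eq_getElem _ _ h, List.getD_eq_getElem _ _ (by omega : i < x.length),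
    List.getD_eq_getElem _ _ (by omega : i < y.length)]
  simp [addL]

theorem getD_zeroL (i : ℕ) : zeroL.getD i 0 = 0 := by
  unfold zeroL
  by_cases h : i < 24
  · rw [List.getD_eq_getElem _ _ (by simpa using h), List.getElem_replicate]
  · rw [List.getD_eq_default _ _ (by simpa using h)]

theorem toV_inj {l l' : List ℤ} (hl : l.length = 24) (hl' : l'.length = 24)
    (h : toV l = toV l') : l = l' := by
  apply List.ext_getElem (by rw [hl, hl'])
  intro i h1 h2
  have hi : i < 24 := by omega
  have := congrFun h (pt ⟨i, hi⟩)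
  rw [toV_pt, toV_pt, List.getD_eq_getElem _ _ h1, List.getD_eq_getElem _ _ h2] at this
  exact this

theorem dotL_addL : ∀ (a x y : List ℤ), x.length = y.length →
    dotL a (addL x y) = dotL a x + dotL a y := by
  intro a
  induction a with
  | nil => intro x y _; simp [dotL]
  | cons a as ih =>
    intro x y h
    cases x with
    | nil =>
      cases y with
      | nil => simp [dotL, addL]
      | cons c cs => simp at h
    | cons b bs =>
      cases y with
      | nil => simp at h
      | cons c cs =>
        have h' : bs.length = cs.length := by simpa using h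
        have := ih bs cs h'
        simp only [addL, List.zipWith_cons_cons, dotL] at this ⊢
        rw [this]; ring

theorem dotL_sgl (a : List ℤ) (ha : a.length = 24) (p : ℕ) (hp : p < 24) (v : ℤ) :
    dotL a (sgl p v) = v * a.getD p 0 := by
  rw [dotL_eq_sum 24 a _ ha (sgl_length p v), Finset.sum_eq_single (⟨p, hp⟩ : Fin 24)]
  · rw [getD_sgl p v p hp, if_pos rfl, mul_comm]
  · intro b _ hb
    rw [getD_sgl p v b.val b.isLt, if_neg (fun h => hb (Fin.ext h)), mul_zero]
  · intro h; exact absurd (Finset.mem_univ _) h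

theorem dotL_replicate_zero : ∀ (a : List ℤ) (n : ℕ), dotL a (List.replicate n 0) = 0 := by
  intro a
  induction a with
  | nil => intro n; simp [dotL]
  | cons a as ih =>
    intro n
    cases n with
    | zero => simp [dotL]
    | succ n =>
      simp only [List.replicate_succ, dotL, mul_zero, zero_add]
      exact ih n

theorem dotL_replicate_zero_left : ∀ (n : ℕ) (l : List ℤ), dotL (List.replicate n 0) l = 0 := by
  intro n
  induction n with
  | zero => intro l; simp [dotL]
  | succ n ih =>
    intro l
    cases l with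
    | nil => simp [List.replicate_succ, dotL]
    | cons b bs =>
      simp only [List.replicate_succ, dotL, zero_mul, zero_add]
      exact ih bs

theorem dotL_neg : ∀ (a x : List ℤ), dotL a (x.map fun z => -z) = -dotL a x := by
  intro a
  induction a with
  | nil => intro x; simp [dotL]
  | cons a as ih =>
    intro x
    cases x with
    | nil => simp [dotL]
    | cons b bs =>
      simp only [List.map_cons, dotL, ih bs]; ring

theorem sum_addL : ∀ (x y : List ℤ), x.length = y.length → (addL x y).sum = x.sum + y.sum := by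
  intro x
  induction x with
  | nil => intro y h; cases y with
    | nil => simp [addL]
    | cons c cs => simp at h
  | cons b bs ih =>
    intro y h
    cases y with
    | nil => simp at h
    | cons c cs =>
      have h' : bs.length = cs.length := by simpa using h
      have := ih cs h'
      simp only [addL, List.zipWith_cons_cons, List.sum_cons] at this ⊢
      rw [this]; ring

theorem sum_sgl (p : ℕ) (hp : p < 24) (v : ℤ) : (sgl p v).sum = v := by
  rw [sumL_eq_sum 24 _ (sgl_length p v), Finset.sum_eq_single (⟨p, hp⟩ : Fin 24)]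
  · rw [getD_sgl p v p hp, if_pos rfl]
  · intro b _ hb
    rw [getD_sgl p v b.val b.isLt, if_neg (fun h => hb (Fin.ext h))]
  · intro h; exact absurd (Finset.mem_univ _) h

theorem sum_zeroL : zeroL.sum = 0 := by simp [zeroL]

/-! ### triples of integers -/

/-- sum of triples -/
def addT (c d : ℤ × ℤ × ℤ) : ℤ × ℤ × ℤ := (c.1 + d.1, c.2.1 + d.2.1, c.2.2 + d.2.2)

/-- difference of triples -/
def subT (c d : ℤ × ℤ × ℤ) : ℤ × ℤ × ℤ := (c.1 - d.1, c.2.1 - d.2.1, c.2.2 - d.2.2)

/-- multiple of a triple -/
def smulT (v : ℤ) (c : ℤ × ℤ × ℤ) : ℤ × ℤ × ℤ := (v * c.1, v * c.2.1, v * c.2.2)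

theorem addT_eq_iff (d s c : ℤ × ℤ × ℤ) : addT d s = c ↔ s = subT c d := by
  obtain ⟨d1, d2, d3⟩ := d
  obtain ⟨s1, s2, s3⟩ := s
  obtain ⟨c1, c2, c3⟩ := c
  simp only [addT, subT, Prod.mk.injEq]
  constructor <;> rintro ⟨h1, h2, h3⟩ <;> refine ⟨?_, ?_, ?_⟩ <;> omega

theorem addT_neg_eq_iff (v : ℤ) (d s c : ℤ × ℤ × ℤ) :
    addT (smulT (-v) d) s = c ↔ s = addT c (smulT v d) := by
  obtain ⟨d1, d2, d3⟩ := d
  obtain ⟨s1, s2, s3⟩ := s
  obtain ⟨c1, c2, c3⟩ := c
  simp only [addT, smulT, Prod.mk.injEq, neg_mul]
  constructor <;> rintro ⟨h1, h2, h3⟩ <;> refine ⟨?_, ?_, ?_⟩ <;> linarith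

section stat

variable (a1 a2 a3 : List ℤ)

/-- the three inner products with the fixed lists -/
def stat3 (l : List ℤ) : ℤ × ℤ × ℤ := (dotL a1 l, dotL a2 l, dotL a3 l)

/-- the entries of the fixed lists at a position -/
def colT (p : ℕ) : ℤ × ℤ × ℤ := (a1.getD p 0, a2.getD p 0, a3.getD p 0)

theorem stat3_add_sgl (h1 : a1.length = 24) (h2 : a2.length = 24) (h3 : a3.length = 24)
    (p : ℕ) (hp : p < 24) (v : ℤ) (l : List ℤ) (hl : l.length = 24) :
    stat3 a1 a2 a3 (addL (sgl p v) l) = addT (smulT v (colT a1 a2 a3 p)) (stat3 a1 a2 a3 l) := by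
  have hh : (sgl p v).length = l.length := by rw [sgl_length, hl]
  unfold stat3 addT smulT colT
  simp only
  rw [dotL_addL a1 _ _ hh, dotL_addL a2 _ _ hh, dotL_addL a3 _ _ hh, dotL_sgl a1 h1 p hp v,
    dotL_sgl a2 h2 p hp v, dotL_sgl a3 h3 p hp v]

theorem stat3_zeroL : stat3 a1 a2 a3 zeroL = (0, 0, 0) := by
  unfold stat3 zeroL
  rw [dotL_replicate_zero, dotL_replicate_zero, dotL_replicate_zero]

end stat

/-! ### sign patterns on a list of positions -/

/-- the lists with entries `± v` at the positions `ps`, zero elsewhere, and entry sum congruent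
to `r` modulo 8 -/
def svG (v : ℤ) : List ℕ → ℤ → List (List ℤ)
  | [], r => if r % 8 = 0 then [zeroL] else []
  | p :: ps, r =>
    (svG v ps (r - v)).map (addL (sgl p v)) ++ (svG v ps (r + v)).map (addL (sgl p (-v)))

theorem svG_length (v : ℤ) : ∀ (ps : List ℕ) (r : ℤ), ∀ l ∈ svG v ps r, l.length = 24 := by
  intro ps
  induction ps with
  | nil =>
    intro r l hl
    rw [svG] at hl
    split_ifs at hl with h
    · rw [List.mem_singleton] at hl
      rw [hl]; exact zeroL_length
    · simp at hl
  | cons p ps ih =>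
    intro r l hl
    rw [svG, List.mem_append, List.mem_map, List.mem_map] at hl
    rcases hl with ⟨l', hl', rfl⟩ | ⟨l', hl', rfl⟩
    · exact addL_length (sgl_length _ _) (ih _ _ hl')
    · exact addL_length (sgl_length _ _) (ih _ _ hl')

/-- the number of such lists with prescribed statistics -/
def cntG (v : ℤ) (col : ℕ → ℤ × ℤ × ℤ) : List ℕ → ℤ → ℤ × ℤ × ℤ → ℕ
  | [], r, c => if r % 8 = 0 ∧ c = (0, 0, 0) then 1 else 0
  | p :: ps, r, c =>
    cntG v col ps (r - v) (subT c (smulT v (col p))) +
      cntG v col ps (r + v) (addT c (smulT v (col p)))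

theorem countP_svG (a1 a2 a3 : List ℤ) (h1 : a1.length = 24) (h2 : a2.length = 24)
    (h3 : a3.length = 24) (v : ℤ) :
    ∀ (ps : List ℕ) (r : ℤ) (c : ℤ × ℤ × ℤ), (∀ p ∈ ps, p < 24) →
      (svG v ps r).countP (fun l => decide (stat3 a1 a2 a3 l = c)) =
        cntG v (colT a1 a2 a3) ps r c := by
  intro ps
  induction ps with
  | nil =>
    intro r c _
    rw [svG, cntG]
    by_cases hr : r % 8 = 0
    · rw [if_pos hr]
      by_cases hc : c = (0, 0, 0)
      · rw [if_pos ⟨hr, hc⟩, List.countP_singleton, stat3_zeroL, hc]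
        simp
      · rw [if_neg (fun h => hc h.2), List.countP_singleton, stat3_zeroL]
        have : ¬ ((0 : ℤ), (0 : ℤ), (0 : ℤ)) = c := fun h => hc h.symm
        simp [this]
    · rw [if_neg hr, if_neg (fun h => hr h.1)]
      rfl
  | cons p ps ih =>
    intro r c hps
    have hp : p < 24 := hps p List.mem_cons_self
    have hps' : ∀ q ∈ ps, q < 24 := fun q hq => hps q (List.mem_cons_of_mem _ hq)
    rw [svG, cntG, List.countP_append, List.countP_map, List.countP_map]
    congr 1
    · rw [← ih (r - v) (subT c (smulT v (colT a1 a2 a3 p))) hps']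
      apply List.countP_congr
      intro l hl
      have hl24 := svG_length v ps _ l hl
      simp only [Function.comp, decide_eq_true_eq]
      rw [stat3_add_sgl a1 a2 a3 h1 h2 h3 p hp v l hl24]
      exact addT_eq_iff _ _ _
    · rw [← ih (r + v) (addT c (smulT v (colT a1 a2 a3 p))) hps']
      apply List.countP_congr
      intro l hl
      have hl24 := svG_length v ps _ l hl
      simp only [Function.comp, decide_eq_true_eq]
      rw [stat3_add_sgl a1 a2 a3 h1 h2 h3 p hp (-v) l hl24]
      exact addT_neg_eq_iff _ _ _ _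

/-- the same count, with the columns computed beforehand -/
def cntC (v : ℤ) : List (ℤ × ℤ × ℤ) → ℤ → ℤ × ℤ × ℤ → ℕ
  | [], r, c => if r % 8 = 0 ∧ c = (0, 0, 0) then 1 else 0
  | d :: ds, r, c => cntC v ds (r - v) (subT c d) + cntC v ds (r + v) (addT c d)

theorem cntG_eq_cntC (v : ℤ) (col : ℕ → ℤ × ℤ × ℤ) : ∀ (ps : List ℕ) (r : ℤ) (c : ℤ × ℤ × ℤ),
    cntG v col ps r c = cntC v (ps.map fun p => smulT v (col p)) r c := by
  intro ps
  induction ps with
  | nil => intro r c; rfl
  | cons p ps ih =>
    intro r c
    rw [cntG, List.map_cons, cntC, ih, ih]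

/-! ### building a list from its values on a list of positions -/

/-- the list with value `f p` at the positions `p ∈ ps` -/
def bld (f : ℕ → ℤ) : List ℕ → List ℤ
  | [] => zeroL
  | p :: ps => addL (sgl p (f p)) (bld f ps)

theorem bld_length (f : ℕ → ℤ) : ∀ ps : List ℕ, (bld f ps).length = 24 := by
  intro ps
  induction ps with
  | nil => exact zeroL_length
  | cons p ps ih => exact addL_length (sgl_length _ _) ih

theorem bld_mem (v : ℤ) (f : ℕ → ℤ) : ∀ (ps : List ℕ) (r : ℤ),
    (∀ p ∈ ps, f p = v ∨ f p = -v) → ((ps.map f).sum - r) % 8 = 0 → bld f ps ∈ svG v ps r := by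
  intro ps
  induction ps with
  | nil =>
    intro r _ hr
    simp only [List.map_nil, List.sum_nil, zero_sub] at hr
    have : r % 8 = 0 := by omega
    rw [svG, if_pos this, bld]
    exact List.mem_singleton.mpr rfl
  | cons p ps ih =>
    intro r hf hr
    have hf' : ∀ q ∈ ps, f q = v ∨ f q = -v := fun q hq => hf q (List.mem_cons_of_mem _ hq)
    simp only [List.map_cons, List.sum_cons] at hr
    rw [svG, bld, List.mem_append]
    rcases hf p List.mem_cons_self with hv | hv
    · left
      rw [hv] at hr ⊢
      refine List.mem_map.mpr ⟨bld f ps, ih (r - v) hf' ?_, rfl⟩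
      have : (ps.map f).sum - (r - v) = v + (ps.map f).sum - r := by ring
      rw [this]; exact hr
    · right
      rw [hv] at hr ⊢
      refine List.mem_map.mpr ⟨bld f ps, ih (r + v) hf' ?_, rfl⟩
      have : (ps.map f).sum - (r + v) = -v + (ps.map f).sum - r := by ring
      rw [this]; exact hr

theorem getD_bld (f : ℕ → ℤ) : ∀ ps : List ℕ, ps.Nodup → ∀ i, i < 24 →
    (bld f ps).getD i 0 = if i ∈ ps then f i else 0 := by
  intro ps
  induction ps with
  | nil =>
    intro _ i _
    rw [bld, getD_zeroL]
    simp
  | cons p ps ih =>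
    intro hnd i hi
    rw [List.nodup_cons] at hnd
    rw [bld, getD_addL _ _ (sgl_length _ _) (bld_length f ps) i hi, getD_sgl _ _ _ hi,
      ih hnd.2 i hi]
    by_cases hip : i = p
    · subst hip
      rw [if_pos rfl, if_neg hnd.1, if_pos List.mem_cons_self, add_zero]
    · rw [if_neg hip, zero_add]
      by_cases him : i ∈ ps
      · rw [if_pos him, if_pos (List.mem_cons_of_mem _ him)]
      · rw [if_neg him, if_neg (fun h => by
          rcases List.mem_cons.mp h with h | h
          · exact hip h
          · exact him h)]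

theorem sum_bld (f : ℕ → ℤ) : ∀ ps : List ℕ, (∀ p ∈ ps, p < 24) →
    (bld f ps).sum = (ps.map f).sum := by
  intro ps
  induction ps with
  | nil => intro _; rw [bld, sum_zeroL]; rfl
  | cons p ps ih =>
    intro h
    rw [bld, sum_addL _ _ (by rw [sgl_length, bld_length]), sum_sgl p (h p List.mem_cons_self),
      ih (fun q hq => h q (List.mem_cons_of_mem _ hq)), List.map_cons, List.sum_cons]

/-- the values of a vector, by position -/
def coordF (x : GolayPt → ℤ) : ℕ → ℤ := fun i => if h : i < 24 then x (pt ⟨i, h⟩) else 0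

theorem coordF_val (x : GolayPt → ℤ) (a : Fin 24) : coordF x a.val = x (pt a) := by
  unfold coordF
  rw [dif_pos a.isLt]

theorem toV_bld (x : GolayPt → ℤ) (ps : List ℕ) (hnd : ps.Nodup)
    (hsupp : ∀ a : Fin 24, a.val ∉ ps → x (pt a) = 0) : toV (bld (coordF x) ps) = x := by
  apply ext_pt
  intro a
  rw [toV_pt, getD_bld _ ps hnd a.val a.isLt]
  by_cases h : a.val ∈ ps
  · rw [if_pos h, coordF_val]
  · rw [if_neg h, hsupp a h]

/-! ### the code words as lists of signs -/

/-- pointwise product -/
def mulL (x y : List ℤ) : List ℤ := List.zipWith (· * ·) x y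

/-- the list of ones -/
def onesL : List ℤ := List.replicate 24 1

/-- all products of sublists of a list of lists -/
def spanS : List (List ℤ) → List (List ℤ)
  | [] => [onesL]
  | b :: bs => spanS bs ++ (spanS bs).map (mulL b)

/-- the list of signs of a binary word: `-1` where the word is `1` -/
def sg (c : GolayPt → ZMod 2) : List ℤ :=
  (List.range 24).map fun i => if h : i < 24 then (if c (pt ⟨i, h⟩) = 1 then -1 else 1) else 1

/-- the list of signs of a mask -/
def sgm (m : ℕ) : List ℤ := (List.range 24).map fun i => if m.testBit i then -1 else 1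

/-- the masks of the echelon basis -/
def hmL : List ℕ := [13062145, 4845570, 13938692, 7221256, 10170384, 11952160, 15515712, 2019456,
  4038912, 8077824, 11654144, 14919680]

/-- the 4096 code words as lists of signs -/
def codeT : List (List ℤ) := spanS (hmL.map sgm)

theorem sg_length (c : GolayPt → ZMod 2) : (sg c).length = 24 := by simp [sg]

theorem getD_sg (c : GolayPt → ZMod 2) (a : Fin 24) :
    (sg c).getD a.val 0 = if c (pt a) = 1 then -1 else 1 := by
  have h : a.val < (sg c).length := by rw [sg_length]; exact a.isLt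
  rw [List.getD_eq_getElem _ _ h]
  simp only [sg, List.getElem_map, List.getElem_range]
  rw [dif_pos a.isLt]

theorem zmod2_sign_mul : ∀ u w : ZMod 2,
    (if u + w = 1 then (-1 : ℤ) else 1) = (if u = 1 then -1 else 1) * (if w = 1 then -1 else 1) := by
  decide

theorem sg_add (h c : GolayPt → ZMod 2) : sg (h + c) = mulL (sg h) (sg c) := by
  unfold sg mulL
  rw [List.zipWith_map, List.zipWith_self]
  apply List.map_congr_left
  intro i hi
  have hi' : i < 24 := List.mem_range.mp hi
  rw [dif_pos hi', dif_pos hi', dif_pos hi', Pi.add_apply]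
  exact zmod2_sign_mul _ _

theorem sg_zero : sg 0 = onesL := by
  unfold sg onesL
  have : ∀ i ∈ List.range 24, (if h : i < 24 then
      (if (0 : GolayPt → ZMod 2) (pt ⟨i, h⟩) = 1 then (-1 : ℤ) else 1) else 1) = 1 := by
    intro i hi
    rw [dif_pos (List.mem_range.mp hi), Pi.zero_apply, if_neg (by decide)]
  rw [List.map_congr_left this, List.map_const', List.length_range]

theorem sg_sum_mem : ∀ (n : ℕ) (h : Fin n → GolayPt → ZMod 2) (coef : Fin n → ZMod 2),
    sg (∑ i, coef i • h i) ∈ spanS (List.ofFn fun i => sg (h i)) := by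
  intro n
  induction n with
  | zero =>
    intro h coef
    rw [Finset.univ_eq_empty, Finset.sum_empty, List.ofFn_zero, spanS, sg_zero]
    exact List.mem_singleton.mpr rfl
  | succ n ih =>
    intro h coef
    rw [Fin.sum_univ_succ, List.ofFn_succ, spanS, List.mem_append]
    have hrest := ih (fun i => h i.succ) (fun i => coef i.succ)
    rcases zmod2_eq_zero_or_one (coef 0) with h0 | h0
    · left
      rw [h0, zero_smul, zero_add]
      exact hrest
    · right
      rw [h0, one_smul, sg_add]
      exact List.mem_map.mpr ⟨_, hrest, rfl⟩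

theorem sg_hvec (j : Fin 12) : sg (hvec j) = sgm (hm j) := by
  unfold sg sgm
  apply List.map_congr_left
  intro i hi
  have hi' : i < 24 := List.mem_range.mp hi
  rw [dif_pos hi', hvec_apply]
  by_cases hb : (hm j).testBit i = true
  · have : (hm j).testBit (⟨i, hi'⟩ : Fin 24).val = true := hb
    rw [if_pos this, if_pos rfl, if_pos hb]
  · have : ¬ (hm j).testBit (⟨i, hi'⟩ : Fin 24).val = true := hb
    rw [if_neg this, if_neg (by decide), if_neg hb]

theorem hmL_eq : (List.finRange 12).map hm = hmL := by decide

theorem sg_mem_codeT (c : GolayPt → ZMod 2) (hc : c ∈ golayCode) : sg c ∈ codeT := by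
  have h := sg_sum_mem 12 hvec (fun j => c (pt (pv j)))
  rw [← (mem_golayCode_iff c).mp hc] at h
  have : (List.ofFn fun i => sg (hvec i)) = hmL.map sgm := by
    rw [List.ofFn_eq_map, ← hmL_eq, List.map_map]
    apply List.map_congr_left
    intro j _
    exact sg_hvec j
  rw [this] at h
  exact h

theorem mulL_length {x y : List ℤ} (hx : x.length = 24) (hy : y.length = 24) :
    (mulL x y).length = 24 := by simp [mulL, hx, hy]

theorem spanS_length : ∀ bs : List (List ℤ), (∀ b ∈ bs, b.length = 24) →
    ∀ t ∈ spanS bs, t.length = 24 := by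
  intro bs
  induction bs with
  | nil =>
    intro _ t ht
    rw [spanS, List.mem_singleton] at ht
    rw [ht]; simp [onesL]
  | cons b bs ih =>
    intro hb t ht
    have hb' : ∀ b' ∈ bs, b'.length = 24 := fun b' h' => hb b' (List.mem_cons_of_mem _ h')
    rw [spanS, List.mem_append, List.mem_map] at ht
    rcases ht with ht | ⟨t', ht', rfl⟩
    · exact ih hb' t ht
    · exact mulL_length (hb b List.mem_cons_self) (ih hb' t' ht')

theorem codeT_length : ∀ t ∈ codeT, t.length = 24 := by
  apply spanS_length
  intro b hb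
  rw [List.mem_map] at hb
  obtain ⟨m, _, rfl⟩ := hb
  simp [sgm]

/-! ### the enumeration -/

/-- the positions of the entries `-1` -/
def posL (t : List ℤ) : List ℕ := (List.range 24).filter fun i => t.getD i 0 = -1

theorem posL_nodup (t : List ℤ) : (posL t).Nodup := List.Nodup.filter _ List.nodup_range

theorem mem_posL (t : List ℤ) (i : ℕ) : i ∈ posL t ↔ i < 24 ∧ t.getD i 0 = -1 := by
  simp [posL]

/-- the pairs `a < b < 24` -/
def pairsL : List (ℕ × ℕ) :=
  (List.range 24).flatMap fun a => ((List.range 24).filter fun b => a < b).map fun b => (a, b)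

theorem mem_pairsL (a b : ℕ) : (a, b) ∈ pairsL ↔ a < b ∧ b < 24 := by
  unfold pairsL
  rw [List.mem_flatMap]
  constructor
  · rintro ⟨a', _, h⟩
    rw [List.mem_map] at h
    obtain ⟨b', hb', he⟩ := h
    rw [List.mem_filter, List.mem_range] at hb'
    rw [Prod.mk.injEq] at he
    obtain ⟨rfl, rfl⟩ := he
    exact ⟨by simpa using hb'.2, hb'.1⟩
  · rintro ⟨hab, hb⟩
    refine ⟨a, List.mem_range.mpr (by omega), List.mem_map.mpr ⟨b, ?_, rfl⟩⟩
    rw [List.mem_filter, List.mem_range]
    exact ⟨hb, by simpa using hab⟩

/-- shape `(±4, ±4, 0^22)` -/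
def enumS1 : List (List ℤ) := pairsL.flatMap fun ab => svG 4 [ab.1, ab.2] 0

/-- shape `(±2^8, 0^16)` -/
def enumS2 : List (List ℤ) := codeT.flatMap fun t => if t.sum = 8 then svG 2 (posL t) 0 else []

/-- the vector of shape `(∓3, ±1^23)` attached to a code word and a position -/
def S3vec (t : List ℤ) (k : ℕ) : List ℤ := addL (sgl k (4 * t.getD k 0)) (t.map fun z => -z)

/-- shape `(∓3, ±1^23)` -/
def enumS3 : List (List ℤ) := codeT.flatMap fun t => (List.range 24).map fun k => S3vec t k

/-- all vectors of sum of squares 32 -/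
def enum32 : List (List ℤ) := enumS1 ++ (enumS2 ++ enumS3)

theorem enum32_length24 : ∀ l ∈ enum32, l.length = 24 := by
  intro l hl
  unfold enum32 at hl
  rw [List.mem_append, List.mem_append] at hl
  rcases hl with hl | hl | hl
  · unfold enumS1 at hl
    rw [List.mem_flatMap] at hl
    obtain ⟨ab, _, h⟩ := hl
    exact svG_length _ _ _ l h
  · unfold enumS2 at hl
    rw [List.mem_flatMap] at hl
    obtain ⟨t, _, h⟩ := hl
    split_ifs at h with hs
    · exact svG_length _ _ _ l h
    · simp at h
  · unfold enumS3 at hl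
    rw [List.mem_flatMap] at hl
    obtain ⟨t, ht, h⟩ := hl
    rw [List.mem_map] at h
    obtain ⟨k, _, rfl⟩ := h
    exact addL_length (sgl_length _ _) (by rw [List.length_map]; exact codeT_length t ht)

theorem S1_aux (x : GolayPt → ℤ) (p q : ℕ) (hq : q < 24) (hpq : p < q)
    (hxp : coordF x p = 4 ∨ coordF x p = -4) (hxq : coordF x q = 4 ∨ coordF x q = -4)
    (h0 : ∀ c : Fin 24, c.val ≠ p → c.val ≠ q → x (pt c) = 0) : ∃ l ∈ enumS1, toV l = x := by
  refine ⟨bld (coordF x) [p, q], ?_, ?_⟩
  · unfold enumS1
    rw [List.mem_flatMap]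
    refine ⟨(p, q), (mem_pairsL p q).mpr ⟨hpq, hq⟩, ?_⟩
    apply bld_mem 4 (coordF x) [p, q] 0
    · intro r hr
      rcases List.mem_cons.mp hr with rfl | hr
      · exact hxp
      · rw [List.mem_singleton] at hr
        rw [hr]; exact hxq
    · simp only [List.map_cons, List.map_nil, List.sum_cons, List.sum_nil]
      rcases hxp with h | h <;> rcases hxq with h' | h' <;> rw [h, h'] <;> norm_num
  · apply toV_bld
    · simp only [List.nodup_cons, List.mem_cons, List.not_mem_nil, or_false, not_false_eq_true,
        List.nodup_nil, and_true]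
      omega
    · intro c hc
      simp only [List.mem_cons, List.not_mem_nil, or_false, not_or] at hc
      exact h0 c hc.1 hc.2

theorem enum32_complete (x : GolayPt → ℤ) (hx : x ∈ leechLattice) (hn : sqNorm x = 32) :
    ∃ l ∈ enum32, toV l = x := by
  rcases shape32 x hx hn with h1 | h2 | h3
  · -- two entries `±4`
    obtain ⟨i, j, hij, hi, hj, h0⟩ := h1
    have hab : (ptInv i).val ≠ (ptInv j).val := by
      intro h
      apply hij
      have : ptInv i = ptInv j := Fin.ext h
      rw [← pt_ptInv i, ← pt_ptInv j, this]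
    have hci : coordF x (ptInv i).val = x i := by rw [coordF_val, pt_ptInv]
    have hcj : coordF x (ptInv j).val = x j := by rw [coordF_val, pt_ptInv]
    have hz : ∀ c : Fin 24, c.val ≠ (ptInv i).val → c.val ≠ (ptInv j).val → x (pt c) = 0 := by
      intro c h1 h2
      apply h0
      · intro h; apply h1; rw [← h, ptInv_pt]
      · intro h; apply h2; rw [← h, ptInv_pt]
    rcases lt_or_gt_of_ne hab with hlt | hgt
    · obtain ⟨l, hl, hlx⟩ := S1_aux x _ _ (ptInv j).isLt hlt (by rw [hci]; exact hi)
        (by rw [hcj]; exact hj) hz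
      exact ⟨l, List.mem_append_left _ hl, hlx⟩
    · obtain ⟨l, hl, hlx⟩ := S1_aux x _ _ (ptInv i).isLt hgt (by rw [hcj]; exact hj)
        (by rw [hci]; exact hi) (fun c h1 h2 => hz c h2 h1)
      exact ⟨l, List.mem_append_left _ hl, hlx⟩
  · -- an octad of entries `±2`
    obtain ⟨O, hO, hval, h0⟩ := h2
    have hx' := (mem_leech_iff x).mp hx
    rcases hx' with ⟨hev, hs8, hc⟩ | ⟨hodd, _, _⟩
    swap
    · exfalso
      have := hodd none
      by_cases hm : (none : GolayPt) ∈ O
      · rcases hval none hm with h | h <;> rw [h] at this <;> norm_num at this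
      · rw [h0 none hm] at this; norm_num at this
    have hci : ∀ i, wd x 2 i = 1 ↔ i ∈ O := by
      intro i
      simp only [wd]
      by_cases hi : i ∈ O
      · have h2 : x i ≡ 2 [ZMOD 4] := by
          rcases hval i hi with h | h <;> rw [h] <;> decide
        rw [if_pos h2]; exact iff_of_true rfl hi
      · have h2 : ¬ x i ≡ 2 [ZMOD 4] := by rw [h0 i hi]; decide
        rw [if_neg h2]; exact iff_of_false (by decide) hi
    have htm : sg (wd x 2) ∈ codeT := sg_mem_codeT _ hc
    have hta : ∀ a : Fin 24, (sg (wd x 2)).getD a.val 0 = -1 ↔ pt a ∈ O := by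
      intro a
      rw [getD_sg, ← hci]
      by_cases h : wd x 2 (pt a) = 1
      · rw [if_pos h]; exact iff_of_true rfl h
      · rw [if_neg h]; exact iff_of_false (by norm_num) h
    have hsum : (sg (wd x 2)).sum = 8 := by
      have hcard : O.card = 8 := hO.2
      rw [← sum_toV _ (sg_length _)]
      have hp : ∀ p, toV (sg (wd x 2)) p = 1 - 2 * (if p ∈ O then 1 else 0) := by
        intro p
        obtain ⟨a, rfl⟩ := pt_bijective.2 p
        rw [toV_pt, getD_sg]
        by_cases h : pt a ∈ O
        · rw [if_pos ((hci _).mpr h), if_pos h]; norm_num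
        · rw [if_neg (fun h' => h ((hci _).mp h')), if_neg h]; norm_num
      simp only [hp]
      rw [Finset.sum_sub_distrib, ← Finset.mul_sum, Finset.sum_boole,
        Finset.filter_mem_eq_inter, Finset.univ_inter, hcard]
      simp
    have hsupp : ∀ a : Fin 24, a.val ∉ posL (sg (wd x 2)) → x (pt a) = 0 := by
      intro a ha
      apply h0
      intro hmem
      exact ha ((mem_posL _ _).mpr ⟨a.isLt, (hta a).mpr hmem⟩)
    have htv := toV_bld x (posL (sg (wd x 2))) (posL_nodup _) hsupp
    refine ⟨bld (coordF x) (posL (sg (wd x 2))), ?_, htv⟩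
    refine List.mem_append_right _ (List.mem_append_left _ ?_)
    unfold enumS2
    rw [List.mem_flatMap]
    refine ⟨_, htm, ?_⟩
    rw [if_pos hsum]
    apply bld_mem 2
    · intro p hp
      rw [mem_posL] at hp
      have := (hta ⟨p, hp.1⟩).mp hp.2
      have h2 := coordF_val x ⟨p, hp.1⟩
      simp only at h2
      rw [h2]
      exact hval _ this
    · rw [← sum_bld _ _ (fun p hp => ((mem_posL _ p).mp hp).1), ← sum_toV _ (bld_length _ _), htv,
        sub_zero]
      exact hs8
  · -- odd vectors
    obtain ⟨k, hk, hrest⟩ := h3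
    have hx' := (mem_leech_iff x).mp hx
    rcases hx' with ⟨hev, _, _⟩ | ⟨hodd, hs8, hc⟩
    · exfalso
      have := hev k
      rcases hk with h | h <;> rw [h] at this <;> norm_num at this
    have hcp : ∀ p, wd x 1 p = 1 ↔ x p ≡ 1 [ZMOD 4] := by
      intro p
      simp only [wd]
      by_cases h : x p ≡ 1 [ZMOD 4]
      · rw [if_pos h]; exact iff_of_true rfl h
      · rw [if_neg h]; exact iff_of_false (by decide) h
    have htm : sg (wd x 1) ∈ codeT := sg_mem_codeT _ hc
    have hlen : (sg (wd x 1)).length = 24 := sg_length _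
    have htk : (sg (wd x 1)).getD (ptInv k).val 0 = if wd x 1 k = 1 then -1 else 1 := by
      have := getD_sg (wd x 1) (ptInv k)
      rw [pt_ptInv] at this
      exact this
    refine ⟨S3vec (sg (wd x 1)) (ptInv k).val, ?_, ?_⟩
    · refine List.mem_append_right _ (List.mem_append_right _ ?_)
      unfold enumS3
      rw [List.mem_flatMap]
      exact ⟨_, htm, List.mem_map.mpr ⟨_, List.mem_range.mpr (ptInv k).isLt, rfl⟩⟩
    · apply ext_pt
      intro a
      have hneg : ((sg (wd x 1)).map fun z => -z).getD a.val 0 = -((sg (wd x 1)).getD a.val 0) := by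
        rw [List.getD_eq_getElem _ _ (by rw [List.length_map, hlen]; exact a.isLt),
          List.getD_eq_getElem _ _ (by rw [hlen]; exact a.isLt), List.getElem_map]
      unfold S3vec
      rw [toV_pt, getD_addL _ _ (sgl_length _ _) (by rw [List.length_map, hlen]) a.val a.isLt,
        getD_sgl _ _ _ a.isLt, hneg, htk, getD_sg]
      by_cases hak : pt a = k
      · have hav : a.val = (ptInv k).val := by rw [← hak, ptInv_pt]
        rw [if_pos hav, hak]
        rcases hk with h | h
        · have : ¬ wd x 1 k = 1 := by rw [hcp, h]; decide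
          rw [if_neg this, h]; norm_num
        · have : wd x 1 k = 1 := by rw [hcp, h]; decide
          rw [if_pos this, h]; norm_num
      · have hav : a.val ≠ (ptInv k).val := by
          intro h
          apply hak
          have : a = ptInv k := Fin.ext h
          rw [this, pt_ptInv]
        rw [if_neg hav, zero_add]
        rcases hrest (pt a) hak with h | h
        · have : wd x 1 (pt a) = 1 := by rw [hcp, h]
          rw [if_pos this, h]; norm_num
        · have : ¬ wd x 1 (pt a) = 1 := by rw [hcp, h]; decide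
          rw [if_neg this, h]

/-! ### the count -/

/-- a sum with a forced accumulator -/
def sumF {α : Type} (f : α → ℕ) : List α → ℕ → ℕ
  | [], acc => acc
  | x :: xs, acc => if acc + f x = 0 then sumF f xs 0 else sumF f xs (acc + f x)

theorem sumF_eq {α : Type} (f : α → ℕ) : ∀ (l : List α) (acc : ℕ),
    sumF f l acc = acc + (l.map f).sum := by
  intro l
  induction l with
  | nil => intro acc; simp [sumF]
  | cons x xs ih =>
    intro acc
    simp only [sumF, List.map_cons, List.sum_cons]
    split_ifs with h
    · rw [ih]; omega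
    · rw [ih]; omega

/-- the count over the 24 positions, walking along the lists -/
def walk3 (b c : ℤ × ℤ × ℤ) : List ℤ → List ℤ → List ℤ → List ℤ → ℕ → ℕ
  | tk :: t, x1 :: r1, x2 :: r2, x3 :: r3, acc =>
    walk3 b c t r1 r2 r3 (if addT (smulT (4 * tk) (x1, x2, x3)) b = c then acc + 1 else acc)
  | _, _, _, _, acc => acc

theorem walk3_eq (b c : ℤ × ℤ × ℤ) : ∀ (n : ℕ) (t r1 r2 r3 : List ℤ) (acc : ℕ),
    t.length = n → r1.length = n → r2.length = n → r3.length = n →
    walk3 b c t r1 r2 r3 acc = acc + (List.range n).countP fun k =>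
      decide (addT (smulT (4 * t.getD k 0) (colT r1 r2 r3 k)) b = c) := by
  intro n
  induction n with
  | zero =>
    intro t r1 r2 r3 acc ht _ _ _
    rw [List.length_eq_zero_iff] at ht
    subst ht
    simp [walk3]
  | succ n ih =>
    intro t r1 r2 r3 acc ht h1 h2 h3
    cases t with
    | nil => simp at ht
    | cons tk t =>
    cases r1 with
    | nil => simp at h1
    | cons x1 r1 =>
    cases r2 with
    | nil => simp at h2
    | cons x2 r2 =>
    cases r3 with
    | nil => simp at h3
    | cons x3 r3 =>
      rw [walk3, ih t r1 r2 r3 _ (by simpa using ht) (by simpa using h1) (by simpa using h2)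
        (by simpa using h3), List.range_succ_eq_map, List.countP_cons, List.countP_map]
      have hc : (List.range n).countP ((fun k => decide (addT (smulT (4 * (tk :: t).getD k 0)
          (colT (x1 :: r1) (x2 :: r2) (x3 :: r3) k)) b = c)) ∘ Nat.succ) =
          (List.range n).countP fun k => decide (addT (smulT (4 * t.getD k 0)
            (colT r1 r2 r3 k)) b = c) := by
        apply List.countP_congr
        intro k _
        constructor
        · intro h
          have h' := of_decide_eq_true h
          apply decide_eq_true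
          simpa only [colT, List.getD_cons_succ, Nat.succ_eq_add_one] using h'
        · intro h
          have h' := of_decide_eq_true h
          apply decide_eq_true
          simpa only [colT, List.getD_cons_succ, Nat.succ_eq_add_one] using h'
      rw [hc]
      simp only [colT, List.getD_cons_zero]
      by_cases hcond : addT (smulT (4 * tk) (x1, x2, x3)) b = c
      · rw [if_pos hcond]; simp only [hcond, decide_true, if_true]; omega
      · rw [if_neg hcond]; simp only [hcond, decide_false]; simp

/-- the count -/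
def fast32 (a1 a2 a3 : List ℤ) (c : ℤ × ℤ × ℤ) : ℕ :=
  sumF (fun ab : ℕ × ℕ => cntG 4 (colT a1 a2 a3) [ab.1, ab.2] 0 c) pairsL 0 +
    (sumF (fun t : List ℤ => if t.sum = 8 then
        cntC 2 ((posL t).map fun p => smulT 2 (colT a1 a2 a3 p)) 0 c else 0) codeT 0 +
      sumF (fun t : List ℤ => walk3 (stat3 a1 a2 a3 (t.map fun z => -z)) c t a1 a2 a3 0) codeT 0)

theorem countP_enumS1 (a1 a2 a3 : List ℤ) (h1 : a1.length = 24) (h2 : a2.length = 24)
    (h3 : a3.length = 24) (c : ℤ × ℤ × ℤ) :
    enumS1.countP (fun l => decide (stat3 a1 a2 a3 l = c)) =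
      (pairsL.map fun ab : ℕ × ℕ => cntG 4 (colT a1 a2 a3) [ab.1, ab.2] 0 c).sum := by
  unfold enumS1
  rw [List.countP_flatMap]
  congr 1
  apply List.map_congr_left
  intro ab hab
  have hm := (mem_pairsL ab.1 ab.2).mp hab
  simp only [Function.comp]
  apply countP_svG a1 a2 a3 h1 h2 h3
  intro p hp
  rcases List.mem_cons.mp hp with rfl | hp
  · omega
  · rw [List.mem_singleton] at hp
    rw [hp]; exact hm.2

theorem countP_enumS2 (a1 a2 a3 : List ℤ) (h1 : a1.length = 24) (h2 : a2.length = 24)
    (h3 : a3.length = 24) (c : ℤ × ℤ × ℤ) :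
    enumS2.countP (fun l => decide (stat3 a1 a2 a3 l = c)) =
      (codeT.map fun t : List ℤ => if t.sum = 8 then
        cntC 2 ((posL t).map fun p => smulT 2 (colT a1 a2 a3 p)) 0 c else 0).sum := by
  unfold enumS2
  rw [List.countP_flatMap]
  congr 1
  apply List.map_congr_left
  intro t _
  simp only [Function.comp]
  by_cases hs : t.sum = 8
  · rw [if_pos hs, if_pos hs, ← cntG_eq_cntC]
    apply countP_svG a1 a2 a3 h1 h2 h3
    intro p hp
    exact ((mem_posL t p).mp hp).1
  · rw [if_neg hs, if_neg hs]
    rfl

theorem countP_enumS3 (a1 a2 a3 : List ℤ) (h1 : a1.length = 24) (h2 : a2.length = 24)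
    (h3 : a3.length = 24) (c : ℤ × ℤ × ℤ) :
    enumS3.countP (fun l => decide (stat3 a1 a2 a3 l = c)) =
      (codeT.map fun t : List ℤ =>
        walk3 (stat3 a1 a2 a3 (t.map fun z => -z)) c t a1 a2 a3 0).sum := by
  unfold enumS3
  rw [List.countP_flatMap]
  congr 1
  apply List.map_congr_left
  intro t ht
  have ht24 := codeT_length t ht
  simp only [Function.comp]
  rw [List.countP_map, walk3_eq _ _ 24 t a1 a2 a3 0 ht24 h1 h2 h3, zero_add]
  apply List.countP_congr
  intro k hk
  have hk' : k < 24 := List.mem_range.mp hk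
  simp only [Function.comp, decide_eq_true_eq]
  unfold S3vec
  rw [stat3_add_sgl a1 a2 a3 h1 h2 h3 k hk' _ _ (by rw [List.length_map]; exact ht24)]

theorem countP_enum32 (a1 a2 a3 : List ℤ) (h1 : a1.length = 24) (h2 : a2.length = 24)
    (h3 : a3.length = 24) (c : ℤ × ℤ × ℤ) :
    enum32.countP (fun l => decide (stat3 a1 a2 a3 l = c)) = fast32 a1 a2 a3 c := by
  rw [enum32, fast32, List.countP_append, List.countP_append, sumF_eq, sumF_eq, sumF_eq, zero_add,
    zero_add, zero_add, countP_enumS1 a1 a2 a3 h1 h2 h3, countP_enumS2 a1 a2 a3 h1 h2 h3,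
    countP_enumS3 a1 a2 a3 h1 h2 h3]

end Cfsg.Agent.Helper4.CO
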