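import Cfsg.Agent.Lib.Helper4.CoEnumLen

set_option autoImplicit false
set_option linter.style.haveILetI false
set_option linter.unusedVariables false
set_option linter.unusedSectionVars false

namespace Cfsg.Agent.Helper4.CO

open Cfsg Cfsg.Agent.Lib.Helper4 Cfsg.Agent.Lib.Helper28 Cfsg.Agent.Helper4.LC

/-! Counting vectors of sum of squares 32 through the enumeration. -/

theorem stat3_zero_left (l : List ℤ) : stat3 zeroL zeroL zeroL l = (0, 0, 0) := by
  have h : ∀ l : List ℤ, dotL zeroL l = 0 := fun l => dotL_replicate_zero_left 24 l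
  unfold stat3
  rw [h]

theorem enum32_length : enum32.length = 196560 := by
  rw [← fast32_zero, ← countP_enum32 zeroL zeroL zeroL zeroL_length zeroL_length zeroL_length]
  symm
  rw [List.countP_eq_length]
  intro l _
  rw [decide_eq_true_eq]
  exact stat3_zero_left l

/-- counting the vectors of sum of squares 32 with a property, through the enumeration -/
theorem count32 (P : (GolayPt → ℤ) → Prop) (p : List ℤ → Bool)
    (hp : ∀ l ∈ enum32, (p l = true ↔ P (toV l))) :
    {x : GolayPt → ℤ | x ∈ leechLattice ∧ sqNorm x = 32 ∧ P x}.ncard = enum32.countP p := by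
  classical
  have hlen : (enum32.map toV).length = 196560 := by rw [List.length_map, enum32_length]
  have hsub : {x : GolayPt → ℤ | x ∈ leechLattice ∧ sqNorm x = 32} ⊆
      ↑(enum32.map toV).toFinset := by
    intro x hx
    obtain ⟨l, hl, rfl⟩ := enum32_complete x hx.1 hx.2
    rw [Finset.mem_coe, List.mem_toFinset, List.mem_map]
    exact ⟨l, hl, rfl⟩
  have h1 : (196560 : ℕ) ≤ (enum32.map toV).toFinset.card := by
    have := Set.ncard_le_ncard hsub (Finset.finite_toSet _)
    rw [Cfsg.Agent.S0394.result, Set.ncard_coe_finset] at this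
    exact this
  have h2 : (enum32.map toV).toFinset.card ≤ 196560 := by
    have := List.toFinset_card_le (enum32.map toV)
    omega
  have hnd : (enum32.map toV).Nodup := by
    have h3 : (enum32.map toV).toFinset.card = (enum32.map toV).length := by omega
    have := (Multiset.toFinset_card_eq_card_iff_nodup
      (m := ((enum32.map toV : List (GolayPt → ℤ)) : Multiset (GolayPt → ℤ)))).mp (by simpa using h3)
    exact Multiset.coe_nodup.mp this
  have heq : {x : GolayPt → ℤ | x ∈ leechLattice ∧ sqNorm x = 32} =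
      ↑(enum32.map toV).toFinset := by
    apply Set.eq_of_subset_of_ncard_le hsub _ (Finset.finite_toSet _)
    rw [Cfsg.Agent.S0394.result, Set.ncard_coe_finset]; omega
  have hmem : ∀ x : GolayPt → ℤ, (x ∈ leechLattice ∧ sqNorm x = 32) ↔ ∃ l ∈ enum32, toV l = x := by
    intro x
    have := Set.ext_iff.mp heq x
    rw [Finset.mem_coe, List.mem_toFinset, List.mem_map] at this
    exact this
  have htar : {x : GolayPt → ℤ | x ∈ leechLattice ∧ sqNorm x = 32 ∧ P x} =
      ↑((enum32.filter p).map toV).toFinset := by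
    ext x
    rw [Finset.mem_coe, List.mem_toFinset, List.mem_map]
    constructor
    · rintro ⟨hx1, hx2, hx3⟩
      obtain ⟨l, hl, rfl⟩ := (hmem x).mp ⟨hx1, hx2⟩
      exact ⟨l, List.mem_filter.mpr ⟨hl, (hp l hl).mpr hx3⟩, rfl⟩
    · rintro ⟨l, hl, rfl⟩
      rw [List.mem_filter] at hl
      have := (hmem (toV l)).mpr ⟨l, hl.1, rfl⟩
      exact ⟨this.1, this.2, (hp l hl.1).mp hl.2⟩
  rw [htar, Set.ncard_coe_finset, List.toFinset_card_of_nodup, List.length_map,
    ← List.countP_eq_length_filter]
  exact List.Nodup.sublist (List.Sublist.map toV List.filter_sublist) hnd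

/-- the count of the vectors of sum of squares 32 with prescribed inner products with three
fixed vectors -/
theorem ncard_stat (a1 a2 a3 : List ℤ) (h1 : a1.length = 24) (h2 : a2.length = 24)
    (h3 : a3.length = 24) (c : ℤ × ℤ × ℤ) :
    {x : GolayPt → ℤ | x ∈ leechLattice ∧ sqNorm x = 32 ∧ (dotInt (toV a1) x = c.1 ∧
      dotInt (toV a2) x = c.2.1 ∧ dotInt (toV a3) x = c.2.2)}.ncard = fast32 a1 a2 a3 c := by
  rw [← countP_enum32 a1 a2 a3 h1 h2 h3 c]
  apply count32
  intro l hl
  have hl24 := enum32_length24 l hl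
  rw [decide_eq_true_eq, dotInt_toV a1 l h1 hl24, dotInt_toV a2 l h2 hl24, dotInt_toV a3 l h3 hl24]
  obtain ⟨c1, c2, c3⟩ := c
  simp only [stat3, Prod.mk.injEq]

/-- sets of lattice vectors as sets of vectors -/
theorem ncard_sub (Q : (GolayPt → ℤ) → Prop) :
    {x : leechLattice | Q (x : GolayPt → ℤ)}.ncard =
      {x : GolayPt → ℤ | x ∈ leechLattice ∧ Q x}.ncard := by
  rw [← Set.ncard_image_of_injective _ Subtype.val_injective]
  congr 1
  ext x
  simp only [Set.mem_image, Set.mem_setOf_eq]
  constructor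
  · rintro ⟨y, hy, rfl⟩
    exact ⟨y.2, hy⟩
  · rintro ⟨hx, hq⟩
    exact ⟨⟨x, hx⟩, hq, rfl⟩

end Cfsg.Agent.Helper4.CO
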