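import Cfsg.Agent.Lib.Helper4.CoEnumParts

set_option autoImplicit false
set_option linter.style.haveILetI false
set_option linter.unusedVariables false
set_option linter.unusedSectionVars false
set_option Elab.async false

namespace Cfsg.Agent.Helper4.CO

open Cfsg Cfsg.Agent.Lib.Helper4 Cfsg.Agent.Lib.Helper28 Cfsg.Agent.Helper4.LC

/-! The enumeration has 196560 entries (kernel computation, in 17 pieces). -/

set_option maxRecDepth 1000000 in
theorem fast32_zero_p : part1 zeroL zeroL zeroL (0, 0, 0) = 1104 := by decide +kernel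

set_option maxRecDepth 1000000 in
theorem fast32_zero_b0 : partB zeroL zeroL zeroL (0, 0, 0) 0 = 22784 := by decide +kernel

set_option maxRecDepth 1000000 in
theorem fast32_zero_b1 : partB zeroL zeroL zeroL (0, 0, 0) 1 = 16384 := by decide +kernel

set_option maxRecDepth 1000000 in
theorem fast32_zero_b2 : partB zeroL zeroL zeroL (0, 0, 0) 2 = 16384 := by decide +kernel

set_option maxRecDepth 1000000 in
theorem fast32_zero_b3 : partB zeroL zeroL zeroL (0, 0, 0) 3 = 11264 := by decide +kernel

set_option maxRecDepth 1000000 in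
theorem fast32_zero_b4 : partB zeroL zeroL zeroL (0, 0, 0) 4 = 16384 := by decide +kernel

set_option maxRecDepth 1000000 in
theorem fast32_zero_b5 : partB zeroL zeroL zeroL (0, 0, 0) 5 = 11264 := by decide +kernel

set_option maxRecDepth 1000000 in
theorem fast32_zero_b6 : partB zeroL zeroL zeroL (0, 0, 0) 6 = 11264 := by decide +kernel

set_option maxRecDepth 1000000 in
theorem fast32_zero_b7 : partB zeroL zeroL zeroL (0, 0, 0) 7 = 8192 := by decide +kernel

set_option maxRecDepth 1000000 in
theorem fast32_zero_b8 : partB zeroL zeroL zeroL (0, 0, 0) 8 = 16384 := by decide +kernel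

set_option maxRecDepth 1000000 in
theorem fast32_zero_b9 : partB zeroL zeroL zeroL (0, 0, 0) 9 = 11264 := by decide +kernel

set_option maxRecDepth 1000000 in
theorem fast32_zero_b10 : partB zeroL zeroL zeroL (0, 0, 0) 10 = 11264 := by decide +kernel

set_option maxRecDepth 1000000 in
theorem fast32_zero_b11 : partB zeroL zeroL zeroL (0, 0, 0) 11 = 8192 := by decide +kernel

set_option maxRecDepth 1000000 in
theorem fast32_zero_b12 : partB zeroL zeroL zeroL (0, 0, 0) 12 = 11264 := by decide +kernel

set_option maxRecDepth 1000000 in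
theorem fast32_zero_b13 : partB zeroL zeroL zeroL (0, 0, 0) 13 = 8192 := by decide +kernel

set_option maxRecDepth 1000000 in
theorem fast32_zero_b14 : partB zeroL zeroL zeroL (0, 0, 0) 14 = 8192 := by decide +kernel

set_option maxRecDepth 1000000 in
theorem fast32_zero_b15 : partB zeroL zeroL zeroL (0, 0, 0) 15 = 6784 := by decide +kernel

theorem fast32_zero : fast32 zeroL zeroL zeroL (0, 0, 0) = 196560 := by
  rw [fast32_parts, fast32_zero_p, fast32_zero_b0, fast32_zero_b1, fast32_zero_b2, fast32_zero_b3, fast32_zero_b4, fast32_zero_b5, fast32_zero_b6, fast32_zero_b7, fast32_zero_b8, fast32_zero_b9, fast32_zero_b10, fast32_zero_b11, fast32_zero_b12, fast32_zero_b13, fast32_zero_b14, fast32_zero_b15]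

end Cfsg.Agent.Helper4.CO
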