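import Cfsg.Agent.Lib.Helper4.CoEnum

set_option autoImplicit false
set_option linter.style.haveILetI false
set_option linter.unusedVariables false
set_option linter.unusedSectionVars false

/-! The count of vectors with prescribed inner products, cut into 17 pieces that the kernel can
evaluate separately in little memory. -/

namespace Cfsg.Agent.Helper4.CO

/-- the contribution of the vectors of shape `(±4, ±4, 0, …)` -/
def part1 (a1 a2 a3 : List ℤ) (c : ℤ × ℤ × ℤ) : ℕ :=
  sumF (fun ab : ℕ × ℕ => cntG 4 (colT a1 a2 a3) [ab.1, ab.2] 0 c) pairsL 0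

/-- the contribution of one code word to the two other shapes -/
def termB (a1 a2 a3 : List ℤ) (c : ℤ × ℤ × ℤ) (t : List ℤ) : ℕ :=
  (if t.sum = 8 then cntC 2 ((posL t).map fun p => smulT 2 (colT a1 a2 a3 p)) 0 c else 0) +
    walk3 (stat3 a1 a2 a3 (t.map fun z => -z)) c t a1 a2 a3 0

/-- the contribution of the `i`-th block of 256 code words -/
def partB (a1 a2 a3 : List ℤ) (c : ℤ × ℤ × ℤ) (i : ℕ) : ℕ :=
  sumF (termB a1 a2 a3 c) ((codeT.drop (256 * i)).take 256) 0

theorem length_spanS : ∀ bs : List (List ℤ), (spanS bs).length = 2 ^ bs.length := by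
  intro bs
  induction bs with
  | nil => simp [spanS]
  | cons b bs ih =>
    rw [spanS, List.length_append, List.length_map, ih, List.length_cons, pow_succ]
    ring

theorem codeT_length_eq : codeT.length = 4096 := by
  unfold codeT
  rw [length_spanS]
  simp [hmL]

theorem sum_blocks {α : Type} (f : α → ℕ) (B : ℕ) : ∀ (k : ℕ) (l : List α), l.length = k * B →
    (l.map f).sum = ((List.range k).map fun i => (((l.drop (B * i)).take B).map f).sum).sum := by
  intro k
  induction k with
  | zero =>
    intro l hl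
    rw [Nat.zero_mul, List.length_eq_zero_iff] at hl
    subst hl
    simp
  | succ k ih =>
    intro l hl
    have hl' : (l.drop B).length = k * B := by
      rw [List.length_drop, hl, Nat.succ_mul]; omega
    rw [List.range_succ_eq_map, List.map_cons, List.sum_cons, List.map_map]
    have h1 : (l.map f).sum = ((l.take B).map f).sum + ((l.drop B).map f).sum := by
      conv_lhs => rw [← List.take_append_drop B l]
      rw [List.map_append, List.sum_append]
    rw [h1, ih (l.drop B) hl', Nat.mul_zero, List.drop_zero]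
    congr 2
    apply List.map_congr_left
    intro i _
    simp only [Function.comp, Nat.succ_eq_add_one]
    rw [List.drop_drop, Nat.mul_add, Nat.mul_one, Nat.add_comm]

theorem sum_range16 (g : ℕ → ℕ) : ((List.range 16).map g).sum =
    g 0 + g 1 + g 2 + g 3 + g 4 + g 5 + g 6 + g 7 + g 8 + g 9 + g 10 + g 11 + g 12 + g 13 +
      g 14 + g 15 := by
  have h : List.range 16 = [0, 1, 2, 3, 4, 5, 6, 7, 8, 9, 10, 11, 12, 13, 14, 15] := by decide
  rw [h]
  simp only [List.map_cons, List.map_nil, List.sum_cons, List.sum_nil]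
  omega

theorem fast32_parts (a1 a2 a3 : List ℤ) (c : ℤ × ℤ × ℤ) :
    fast32 a1 a2 a3 c = part1 a1 a2 a3 c +
      (partB a1 a2 a3 c 0 + partB a1 a2 a3 c 1 + partB a1 a2 a3 c 2 + partB a1 a2 a3 c 3 +
       partB a1 a2 a3 c 4 + partB a1 a2 a3 c 5 + partB a1 a2 a3 c 6 + partB a1 a2 a3 c 7 +
       partB a1 a2 a3 c 8 + partB a1 a2 a3 c 9 + partB a1 a2 a3 c 10 + partB a1 a2 a3 c 11 +
       partB a1 a2 a3 c 12 + partB a1 a2 a3 c 13 + partB a1 a2 a3 c 14 +
       partB a1 a2 a3 c 15) := by
  rw [← sum_range16 (partB a1 a2 a3 c)]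
  have key : (sumF (fun t : List ℤ => if t.sum = 8 then
        cntC 2 ((posL t).map fun p => smulT 2 (colT a1 a2 a3 p)) 0 c else 0) codeT 0 +
      sumF (fun t : List ℤ => walk3 (stat3 a1 a2 a3 (t.map fun z => -z)) c t a1 a2 a3 0) codeT 0) =
      ((List.range 16).map (partB a1 a2 a3 c)).sum := by
    rw [sumF_eq, sumF_eq, zero_add, zero_add, ← List.sum_map_add]
    have h := sum_blocks (termB a1 a2 a3 c) 256 16 codeT (by rw [codeT_length_eq])
    have e : (codeT.map (termB a1 a2 a3 c)) = codeT.map (fun t : List ℤ =>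
        (if t.sum = 8 then cntC 2 ((posL t).map fun p => smulT 2 (colT a1 a2 a3 p)) 0 c else 0) +
          walk3 (stat3 a1 a2 a3 (t.map fun z => -z)) c t a1 a2 a3 0) := rfl
    rw [← e, h]
    apply congrArg
    apply List.map_congr_left
    intro i _
    unfold partB
    rw [sumF_eq, zero_add]
  unfold fast32 part1
  rw [key]

end Cfsg.Agent.Helper4.CO
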