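import Cfsg.Agent.Lib.Helper4.CoOrbitCount

set_option autoImplicit false
set_option linter.style.haveILetI false
set_option linter.unusedVariables false
set_option linter.unusedSectionVars false

/-! Glue for stabilisers of up to three vectors of the rank-24 lattice: moving a configuration to
explicit anchors, transporting counts and transitivity statements, orbits of joint stabilisers. -/

namespace Cfsg.Agent.Helper4.CO

open Cfsg Cfsg.Agent.Lib.Helper4 Cfsg.Agent.Lib.Helper28 Cfsg.Agent.Helper4.LC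

/-- `h` moves the three vectors to the anchors -/
def Based (h : Co0) (v1 v2 v3 : leechLattice) (a1 a2 a3 : List ℤ) : Prop :=
  ((h • v1 : leechLattice) : GolayPt → ℤ) = toV a1 ∧
  ((h • v2 : leechLattice) : GolayPt → ℤ) = toV a2 ∧
  ((h • v3 : leechLattice) : GolayPt → ℤ) = toV a3

/-- the vectors with prescribed sum of squares and inner products with three vectors -/
def dotSet (N : ℤ) (v1 v2 v3 : leechLattice) (c : ℤ × ℤ × ℤ) : Set leechLattice :=
  {x | sqNorm (x : GolayPt → ℤ) = N ∧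
    (dotInt (v1 : GolayPt → ℤ) (x : GolayPt → ℤ) = c.1 ∧
     dotInt (v2 : GolayPt → ℤ) (x : GolayPt → ℤ) = c.2.1 ∧
     dotInt (v3 : GolayPt → ℤ) (x : GolayPt → ℤ) = c.2.2)}

theorem mem_dotSet_zero3 {N : ℤ} {v1 v2 x : leechLattice} {c1 c2 : ℤ} :
    x ∈ dotSet N v1 v2 0 (c1, c2, 0) ↔ sqNorm (x : GolayPt → ℤ) = N ∧
      dotInt (v1 : GolayPt → ℤ) (x : GolayPt → ℤ) = c1 ∧
      dotInt (v2 : GolayPt → ℤ) (x : GolayPt → ℤ) = c2 := by
  unfold dotSet
  simp only [Set.mem_setOf_eq, AddSubgroup.coe_zero, dotInt_zero_left, and_true]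

theorem mem_dotSet_zero23 {N : ℤ} {v1 x : leechLattice} {c1 : ℤ} :
    x ∈ dotSet N v1 0 0 (c1, 0, 0) ↔ sqNorm (x : GolayPt → ℤ) = N ∧
      dotInt (v1 : GolayPt → ℤ) (x : GolayPt → ℤ) = c1 := by
  unfold dotSet
  simp only [Set.mem_setOf_eq, AddSubgroup.coe_zero, dotInt_zero_left, and_true]

variable {h : Co0} {v1 v2 v3 : leechLattice} {a1 a2 a3 : List ℤ}

theorem Based.mem (hb : Based h v1 v2 v3 a1 a2 a3) {N : ℤ} {c : ℤ × ℤ × ℤ} {x : leechLattice}
    (hx : x ∈ dotSet N v1 v2 v3 c) : h • x ∈ statSet N a1 a2 a3 c :=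
  smul_mem_statSet h N a1 a2 a3 c v1 v2 v3 x hb.1 hb.2.1 hb.2.2 hx.1 hx.2.1 hx.2.2.1 hx.2.2.2

theorem Based.ncard (hb : Based h v1 v2 v3 a1 a2 a3) (h1 : a1.length = 24) (h2 : a2.length = 24)
    (h3 : a3.length = 24) (c : ℤ × ℤ × ℤ) :
    (dotSet 32 v1 v2 v3 c).ncard = fast32 a1 a2 a3 c := by
  rw [← ncard_statSet a1 a2 a3 h1 h2 h3 c]
  exact ncard_transport h 32 a1 a2 a3 c v1 v2 v3 hb.1 hb.2.1 hb.2.2

theorem Based.fix (hb : Based h v1 v2 v3 a1 a2 a3) {g : Co0}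
    (hg : ∀ a ∈ [a1, a2, a3], FixL g a) :
    (h⁻¹ * g * h) • v1 = v1 ∧ (h⁻¹ * g * h) • v2 = v2 ∧ (h⁻¹ * g * h) • v3 = v3 := by
  refine ⟨?_, ?_, ?_⟩
  · rw [mul_smul, mul_smul, hg a1 (by simp) (h • v1) hb.1, inv_smul_smul]
  · rw [mul_smul, mul_smul, hg a2 (by simp) (h • v2) hb.2.1, inv_smul_smul]
  · rw [mul_smul, mul_smul, hg a3 (by simp) (h • v3) hb.2.2, inv_smul_smul]

/-- transitivity of the joint stabiliser, transported from the anchors -/
theorem Based.trans (hb : Based h v1 v2 v3 a1 a2 a3) {N : ℤ} {c : ℤ × ℤ × ℤ}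
    (htr : ∀ x ∈ statSet N a1 a2 a3 c, ∀ y ∈ statSet N a1 a2 a3 c,
      ∃ g : Co0, (∀ a ∈ [a1, a2, a3], FixL g a) ∧ g • x = y)
    {x x' : leechLattice} (hx : x ∈ dotSet N v1 v2 v3 c) (hx' : x' ∈ dotSet N v1 v2 v3 c) :
    ∃ g : Co0, g • v1 = v1 ∧ g • v2 = v2 ∧ g • v3 = v3 ∧ g • x = x' := by
  obtain ⟨g, hg, hgx⟩ := htr (h • x) (hb.mem hx) (h • x') (hb.mem hx')
  obtain ⟨f1, f2, f3⟩ := hb.fix hg
  refine ⟨h⁻¹ * g * h, f1, f2, f3, ?_⟩
  rw [mul_smul, mul_smul, hgx, inv_smul_smul]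

/-- a third vector is moved to a third anchor -/
theorem Based.extend3 {z : List ℤ} (hb : Based h v1 v2 0 a1 a2 z) {N : ℤ} {c : ℤ × ℤ × ℤ}
    (htr : ∀ x ∈ statSet N a1 a2 z c, ∀ y ∈ statSet N a1 a2 z c,
      ∃ g : Co0, (∀ a ∈ [a1, a2, z], FixL g a) ∧ g • x = y)
    (a3 : List ℤ) (ha3 : InLP a3) (hmem : mkL a3 ha3 ∈ statSet N a1 a2 z c)
    {x : leechLattice} (hx : x ∈ dotSet N v1 v2 0 c) :
    ∃ h' : Co0, Based h' v1 v2 x a1 a2 a3 := by
  obtain ⟨g, hg, hgx⟩ := htr (h • x) (hb.mem hx) _ hmem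
  refine ⟨g * h, ?_, ?_, ?_⟩
  · rw [mul_smul, hg a1 (by simp) (h • v1) hb.1]; exact hb.1
  · rw [mul_smul, hg a2 (by simp) (h • v2) hb.2.1]; exact hb.2.1
  · rw [mul_smul, hgx]; rfl

/-- a second vector is moved to a second anchor -/
theorem Based.extend2 {z2 z3 z3' : List ℤ} (hb : Based h v1 0 0 a1 z2 z3) {N : ℤ} {c : ℤ × ℤ × ℤ}
    (htr : ∀ x ∈ statSet N a1 z2 z3 c, ∀ y ∈ statSet N a1 z2 z3 c,
      ∃ g : Co0, (∀ a ∈ [a1, z2, z3], FixL g a) ∧ g • x = y)
    (a2 : List ℤ) (ha2 : InLP a2) (hmem : mkL a2 ha2 ∈ statSet N a1 z2 z3 c)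
    (hz : toV z3' = 0)
    {x : leechLattice} (hx : x ∈ dotSet N v1 0 0 c) :
    ∃ h' : Co0, Based h' v1 x 0 a1 a2 z3' := by
  obtain ⟨g, hg, hgx⟩ := htr (h • x) (hb.mem hx) _ hmem
  refine ⟨g * h, ?_, ?_, ?_⟩
  · rw [mul_smul, hg a1 (by simp) (h • v1) hb.1]; exact hb.1
  · rw [mul_smul, hgx]; rfl
  · rw [co0_smul_zero, hz]; rfl

theorem based_one (v1 : leechLattice) (a1 z2 z3 : List ℤ) (h : Co0)
    (h1 : ((h • v1 : leechLattice) : GolayPt → ℤ) = toV a1) (hz2 : toV z2 = 0)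
    (hz3 : toV z3 = 0) : Based h v1 0 0 a1 z2 z3 :=
  ⟨h1, by rw [co0_smul_zero, hz2]; rfl, by rw [co0_smul_zero, hz3]; rfl⟩

theorem toV_zero_of_eq {z : List ℤ} (hz : z = zeroL) : toV z = 0 := by
  rw [hz]; exact toV_zeroL

/-- the base changes with the anchor lists -/
theorem Based.congr {b1 b2 b3 : List ℤ} (hb : Based h v1 v2 v3 a1 a2 a3) (e1 : a1 = b1)
    (e2 : a2 = b2) (e3 : a3 = b3) : Based h v1 v2 v3 b1 b2 b3 := by
  subst e1; subst e2; subst e3; exact hb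

/-- a sum is moved to the sum -/
theorem coe_smul_add (h : Co0) (x y : leechLattice) :
    ((h • (x + y) : leechLattice) : GolayPt → ℤ) =
      ((h • x : leechLattice) : GolayPt → ℤ) + ((h • y : leechLattice) : GolayPt → ℤ) := by
  rw [co0_smul_add]; rfl

theorem coe_smul_neg (h : Co0) (x : leechLattice) :
    ((h • (-x) : leechLattice) : GolayPt → ℤ) = -((h • x : leechLattice) : GolayPt → ℤ) := by
  rw [co0_smul_neg]; rfl

/-! ### the inner product -/

theorem dotInt_comm' (x y : GolayPt → ℤ) : dotInt x y = dotInt y x := by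
  unfold dotInt
  exact Finset.sum_congr rfl fun i _ => mul_comm _ _

theorem dotInt_add_right (x y z : GolayPt → ℤ) : dotInt x (y + z) = dotInt x y + dotInt x z := by
  unfold dotInt
  rw [← Finset.sum_add_distrib]
  exact Finset.sum_congr rfl fun i _ => by rw [Pi.add_apply, mul_add]

theorem dotInt_neg_right (x y : GolayPt → ℤ) : dotInt x (-y) = -dotInt x y := by
  unfold dotInt
  rw [← Finset.sum_neg_distrib]
  exact Finset.sum_congr rfl fun i _ => by rw [Pi.neg_apply, mul_neg]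

theorem dotInt_self' (x : GolayPt → ℤ) : dotInt x x = sqNorm x := by
  unfold dotInt sqNorm
  exact Finset.sum_congr rfl fun i _ => (sq (x i)).symm

theorem sqNorm_neg' (x : GolayPt → ℤ) : sqNorm (-x) = sqNorm x := by
  unfold sqNorm
  exact Finset.sum_congr rfl fun i _ => by rw [Pi.neg_apply, neg_sq]

/-! ### orbits of joint stabilisers -/

theorem orbit_eq_dotSet (K : Subgroup Co0) {N : ℤ} {c : ℤ × ℤ × ℤ}
    (hK : ∀ g : Co0, g ∈ K ↔ (g • v1 = v1 ∧ g • v2 = v2 ∧ g • v3 = v3))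
    (htr : ∀ x ∈ dotSet N v1 v2 v3 c, ∀ x' ∈ dotSet N v1 v2 v3 c,
      ∃ g : Co0, g • v1 = v1 ∧ g • v2 = v2 ∧ g • v3 = v3 ∧ g • x = x')
    {y : leechLattice} (hy : y ∈ dotSet N v1 v2 v3 c) :
    MulAction.orbit ↥K y = dotSet N v1 v2 v3 c := by
  ext z
  constructor
  · rintro ⟨⟨g, hg⟩, rfl⟩
    obtain ⟨f1, f2, f3⟩ := (hK g).mp hg
    show g • y ∈ dotSet N v1 v2 v3 c
    refine ⟨by rw [co0_sqNorm']; exact hy.1, ?_, ?_, ?_⟩
    · have := co0_dot' g v1 y
      rw [f1] at this; rw [this]; exact hy.2.1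
    · have := co0_dot' g v2 y
      rw [f2] at this; rw [this]; exact hy.2.2.1
    · have := co0_dot' g v3 y
      rw [f3] at this; rw [this]; exact hy.2.2.2
  · intro hz
    obtain ⟨g, f1, f2, f3, hgy⟩ := htr y hy z hz
    exact ⟨⟨g, (hK g).mpr ⟨f1, f2, f3⟩⟩, hgy⟩

theorem mem_stab3 (u v x : leechLattice) (g : Co0) :
    g ∈ MulAction.stabilizer ↥Co0 u ⊓ MulAction.stabilizer ↥Co0 v ⊓ MulAction.stabilizer ↥Co0 x ↔
      (g • u = u ∧ g • v = v ∧ g • x = x) := by
  simp only [Subgroup.mem_inf, MulAction.mem_stabilizer_iff, and_assoc]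

theorem mem_stab2 (u x : leechLattice) (g : Co0) :
    g ∈ MulAction.stabilizer ↥Co0 u ⊓ MulAction.stabilizer ↥Co0 x ↔
      (g • u = u ∧ g • x = x ∧ g • (0 : leechLattice) = 0) := by
  simp only [Subgroup.mem_inf, MulAction.mem_stabilizer_iff, co0_smul_zero, and_true]

/-! ### exhaustion by counting -/

/-- if the fibres of `f` over the values in `cs` already have the right total size, `f` takes
no other value on `S` -/
theorem values_of_ncard {α : Type*} (S : Set α) (hS : S.Finite) (f : α → ℤ) (cs : List ℤ)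
    (hnd : cs.Nodup)
    (hsum : (cs.map fun c => {y | y ∈ S ∧ f y = c}.ncard).sum = S.ncard) :
    ∀ y ∈ S, f y ∈ cs := by
  classical
  set Sf := hS.toFinset with hSf
  have hfib : ∀ c, {y | y ∈ S ∧ f y = c}.ncard = (Sf.filter fun y => f y = c).card := by
    intro c
    rw [← Set.ncard_coe_finset]
    congr 1
    ext y
    simp [hSf]
  set T := Sf.filter fun y => f y ∈ cs with hT
  have hTcard : T.card = ∑ b ∈ cs.toFinset, (T.filter fun y => f y = b).card :=
    Finset.card_eq_sum_card_fiberwise (fun y hy => by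
      rw [Finset.mem_coe, hT, Finset.mem_filter] at hy
      rw [Finset.mem_coe, List.mem_toFinset]; exact hy.2)
  have hTfib : ∀ b ∈ cs.toFinset, (T.filter fun y => f y = b).card =
      (Sf.filter fun y => f y = b).card := by
    intro b hb
    rw [List.mem_toFinset] at hb
    congr 1
    ext y
    simp only [hT, Finset.mem_filter]
    constructor
    · rintro ⟨⟨h1, _⟩, h2⟩; exact ⟨h1, h2⟩
    · rintro ⟨h1, h2⟩; exact ⟨⟨h1, by rw [h2]; exact hb⟩, h2⟩
  rw [Finset.sum_congr rfl hTfib, List.sum_toFinset _ hnd] at hTcard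
  have hsum' : (cs.map fun c => (Sf.filter fun y => f y = c).card).sum = S.ncard := by
    rw [← hsum]
    congr 1
    apply List.map_congr_left
    intro c _
    exact (hfib c).symm
  have hSn : S.ncard = Sf.card := by
    rw [← Set.ncard_coe_finset]; congr 1; ext y; simp [hSf]
  have hTS : T = Sf := by
    apply Finset.eq_of_subset_of_card_le (Finset.filter_subset _ _)
    rw [hTcard, hsum', hSn]
  intro y hy
  have : y ∈ T := by rw [hTS, hSf]; simpa using hy
  rw [hT, Finset.mem_filter] at this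
  exact this.2

/-- a lattice vector with the same sum of squares as `x` and inner product with `x` equal to
it is `x` -/
theorem eq_of_dot_eq_sqNorm {x y : leechLattice} {N : ℤ} (hx : sqNorm (x : GolayPt → ℤ) = N)
    (hy : sqNorm (y : GolayPt → ℤ) = N)
    (hd : dotInt (x : GolayPt → ℤ) (y : GolayPt → ℤ) = N) : y = x := by
  have h0 : sqNorm ((x : GolayPt → ℤ) - (y : GolayPt → ℤ)) = 0 := by
    rw [sqNorm_sub, hx, hy, hd]; ring
  have h1 : ∀ p, ((x : GolayPt → ℤ) - (y : GolayPt → ℤ)) p = 0 := by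
    intro p
    unfold sqNorm at h0
    have := (Finset.sum_eq_zero_iff_of_nonneg (fun i _ => sq_nonneg _)).mp h0 p (Finset.mem_univ _)
    exact pow_eq_zero_iff (by norm_num) |>.mp this
  apply Subtype.ext
  funext p
  have := h1 p
  simp only [Pi.sub_apply] at this
  omega

end Cfsg.Agent.Helper4.CO
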