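import Cfsg.Agent.Lib.Helper4.SimpleCrit
import Cfsg.Agent.Lib.Helper4.CoStab

set_option autoImplicit false
set_option linter.style.haveILetI false
set_option linter.unusedVariables false
set_option linter.unusedSectionVars false

/-! Glue between joint stabilisers inside a group and point stabilisers of subgroups:
orbit–stabiliser counting and conjugation. -/

namespace Cfsg.Agent.Helper4.CO

open MulAction

/-- simple of a given order -/
def SimpCard (G : Type*) [Group G] (n : ℕ) : Prop := IsSimpleGroup G ∧ Nat.card G = n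

theorem SimpCard.congr {G H : Type*} [Group G] [Group H] {n : ℕ} (h : SimpCard G n)
    (e : G ≃* H) : SimpCard H n := by
  refine ⟨?_, ?_⟩
  · haveI := h.1
    exact e.symm.isSimpleGroup
  · rw [← Nat.card_congr e.toEquiv]; exact h.2

theorem SimpCard.finite {G : Type*} [Group G] {n : ℕ} (h : SimpCard G n) (hn : n ≠ 0) :
    Finite G := Nat.finite_of_card_ne_zero (by rw [h.2]; exact hn)

section

variable {Γ : Type*} [Group Γ] {X : Type*} [MulAction Γ X]

/-- the point stabiliser in a subgroup, as a subgroup of the big group -/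
def stabEquiv (S : Subgroup Γ) (α : X) : ↥(stabilizer ↥S α) ≃* ↥(S ⊓ stabilizer Γ α) where
  toFun h := ⟨h.1.1, ⟨h.1.2, h.2⟩⟩
  invFun k := ⟨⟨k.1, k.2.1⟩, k.2.2⟩
  left_inv h := rfl
  right_inv k := rfl
  map_mul' h h' := rfl

theorem card_eq_orbit_mul (S : Subgroup Γ) (α : X) :
    Nat.card ↥S = (orbit ↥S α).ncard * Nat.card ↥(S ⊓ stabilizer Γ α) := by
  rw [← Nat.card_congr (stabEquiv S α).toEquiv, ← index_stabilizer, mul_comm]
  exact ((stabilizer ↥S α).card_mul_index).symm

theorem stabilizer_smul' (g : Γ) (a : X) :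
    stabilizer Γ (g • a) = (stabilizer Γ a).map (MulAut.conj g).toMonoidHom :=
  stabilizer_smul_eq_stabilizer_map_conj g a

/-- conjugation of a subgroup -/
noncomputable def conjSub (g : Γ) (S T : Subgroup Γ)
    (h : T = S.map (MulAut.conj g).toMonoidHom) : ↥S ≃* ↥T :=
  (S.equivMapOfInjective _ (MulAut.conj g).injective).trans (MulEquiv.subgroupCongr h.symm)

noncomputable def conjStab1 (g : Γ) (a : X) : ↥(stabilizer Γ a) ≃* ↥(stabilizer Γ (g • a)) :=
  conjSub g _ _ (stabilizer_smul' g a)

noncomputable def conjStab2 (g : Γ) (a b : X) :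
    ↥(stabilizer Γ a ⊓ stabilizer Γ b) ≃* ↥(stabilizer Γ (g • a) ⊓ stabilizer Γ (g • b)) :=
  conjSub g _ _ (by
    rw [stabilizer_smul', stabilizer_smul', Subgroup.map_inf_eq _ _ _ (MulAut.conj g).injective])

noncomputable def conjStab3 (g : Γ) (a b c : X) :
    ↥(stabilizer Γ a ⊓ stabilizer Γ b ⊓ stabilizer Γ c) ≃*
      ↥(stabilizer Γ (g • a) ⊓ stabilizer Γ (g • b) ⊓ stabilizer Γ (g • c)) :=
  conjSub g _ _ (by
    rw [stabilizer_smul', stabilizer_smul', stabilizer_smul',
      Subgroup.map_inf_eq _ _ _ (MulAut.conj g).injective,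
      Subgroup.map_inf_eq _ _ _ (MulAut.conj g).injective])

end

end Cfsg.Agent.Helper4.CO
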