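import Cfsg.Agent.Lib.Helper4.LeechStdCross
import Cfsg.Agent.Lib.Helper4.LeechMod2b
import Cfsg.Agent.Lib.Helper28.M24Mask

set_option autoImplicit false
set_option linter.style.haveILetI false
set_option linter.unusedVariables false
set_option linter.unusedSectionVars false

/-! Automorphisms of the rank-24 lattice from explicit `24 × 24` integer matrices (a matrix codes
twice the automorphism), with a kernel-checkable criterion `GoodMat`, and the action on vectors
coded by lists. -/

namespace Cfsg.Agent.Helper4.CO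

open Cfsg Cfsg.Agent.Lib.Helper4 Cfsg.Agent.Lib.Helper28 Cfsg.Agent.Helper4.LC

/-! ### lists and vectors -/

/-- the vector coded by a list: coordinate `pt a` is the `a`-th entry -/
def toV (l : List ℤ) : GolayPt → ℤ := fun p => l.getD (ptInv p).val 0

theorem toV_pt (l : List ℤ) (a : Fin 24) : toV l (pt a) = l.getD a.val 0 := by
  unfold toV; rw [ptInv_pt]

theorem sum_pt {M : Type*} [AddCommMonoid M] (f : GolayPt → M) :
    ∑ p, f p = ∑ a : Fin 24, f (pt a) :=
  (Fintype.sum_bijective pt pt_bijective _ _ (fun _ => rfl)).symm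

theorem ext_pt {f g : GolayPt → ℤ} (h : ∀ a : Fin 24, f (pt a) = g (pt a)) : f = g := by
  funext p
  obtain ⟨a, rfl⟩ := pt_bijective.2 p
  exact h a

/-- dot product of two lists -/
def dotL : List ℤ → List ℤ → ℤ
  | [], _ => 0
  | _ :: _, [] => 0
  | a :: as, b :: bs => a * b + dotL as bs

theorem dotL_eq_sum : ∀ (n : ℕ) (r l : List ℤ), r.length = n → l.length = n →
    dotL r l = ∑ a : Fin n, r.getD a.val 0 * l.getD a.val 0 := by
  intro n
  induction n with
  | zero =>
    intro r l hr hl
    rw [List.length_eq_zero_iff] at hr hl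
    subst hr; subst hl
    simp [dotL]
  | succ n ih =>
    intro r l hr hl
    cases r with
    | nil => simp at hr
    | cons a as =>
      cases l with
      | nil => simp at hl
      | cons b bs =>
        rw [Fin.sum_univ_succ]
        simp only [dotL, Fin.val_zero, List.getD_cons_zero, Fin.val_succ, List.getD_cons_succ]
        rw [ih as bs (by simpa using hr) (by simpa using hl)]

theorem sumL_eq_sum : ∀ (n : ℕ) (l : List ℤ), l.length = n →
    l.sum = ∑ a : Fin n, l.getD a.val 0 := by
  intro n
  induction n with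
  | zero =>
    intro l hl
    rw [List.length_eq_zero_iff] at hl
    subst hl
    simp
  | succ n ih =>
    intro l hl
    cases l with
    | nil => simp at hl
    | cons b bs =>
      rw [Fin.sum_univ_succ]
      simp only [List.sum_cons, Fin.val_zero, List.getD_cons_zero, Fin.val_succ,
        List.getD_cons_succ]
      rw [ih bs (by simpa using hl)]

theorem dotInt_toV (r l : List ℤ) (hr : r.length = 24) (hl : l.length = 24) :
    dotInt (toV r) (toV l) = dotL r l := by
  unfold dotInt
  rw [sum_pt, dotL_eq_sum 24 r l hr hl]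
  exact Finset.sum_congr rfl fun a _ => by rw [toV_pt, toV_pt]

theorem sqNorm_toV (l : List ℤ) (hl : l.length = 24) : sqNorm (toV l) = dotL l l := by
  unfold sqNorm
  rw [sum_pt, dotL_eq_sum 24 l l hl hl]
  exact Finset.sum_congr rfl fun a _ => by rw [toV_pt, sq]

theorem sum_toV (l : List ℤ) (hl : l.length = 24) : ∑ p, toV l p = l.sum := by
  rw [sum_pt, sumL_eq_sum 24 l hl]
  exact Finset.sum_congr rfl fun a _ => by rw [toV_pt]

theorem getD_mem_or {l : List ℤ} {P : ℤ → Prop} (h0 : P 0) (h : ∀ v ∈ l, P v) (a : ℕ) :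
    P (l.getD a 0) := by
  by_cases ha : a < l.length
  · rw [List.getD_eq_getElem _ _ ha]
    exact h _ (List.getElem_mem ha)
  · rw [List.getD_eq_default _ _ (by omega)]
    exact h0

/-! ### matrices coded by lists of rows -/

/-- entry of a list-of-rows matrix -/
def ent (A : List (List ℤ)) (a b : ℕ) : ℤ := (A.getD a []).getD b 0

/-- the matrix on the 24 points coded by a list of rows -/
def toM (A : List (List ℤ)) : Matrix GolayPt GolayPt ℤ :=
  fun p q => ent A (ptInv p).val (ptInv q).val

/-- matrix times vector, on lists -/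
def mulVecL (A : List (List ℤ)) (l : List ℤ) : List ℤ := A.map fun r => dotL r l

/-- well-formed: 24 rows of length 24 -/
def WF (A : List (List ℤ)) : Prop := A.length = 24 ∧ ∀ r ∈ A, r.length = 24

instance (A : List (List ℤ)) : Decidable (WF A) := by unfold WF; infer_instance

theorem row_length {A : List (List ℤ)} (h : WF A) (a : Fin 24) :
    (A.getD a.val []).length = 24 := by
  have ha : a.val < A.length := by rw [h.1]; exact a.2
  rw [List.getD_eq_getElem _ _ ha]
  exact h.2 _ (List.getElem_mem ha)

theorem mulVecL_length (A : List (List ℤ)) (l : List ℤ) : (mulVecL A l).length = A.length := by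
  simp [mulVecL]

theorem mulVecL_getD {A : List (List ℤ)} (hA : WF A) (l : List ℤ) (a : Fin 24) :
    (mulVecL A l).getD a.val 0 = dotL (A.getD a.val []) l := by
  have ha : a.val < A.length := by rw [hA.1]; exact a.2
  unfold mulVecL
  rw [List.getD_eq_getElem _ _ (by simpa using ha), List.getElem_map, List.getD_eq_getElem _ _ ha]

theorem toM_mulVec {A : List (List ℤ)} (hA : WF A) (l : List ℤ) (hl : l.length = 24) :
    (toM A).mulVec (toV l) = toV (mulVecL A l) := by
  apply ext_pt
  intro a
  rw [toV_pt, mulVecL_getD hA, dotL_eq_sum 24 _ l (row_length hA a) hl]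
  simp only [Matrix.mulVec, dotProduct]
  rw [sum_pt]
  refine Finset.sum_congr rfl fun b _ => ?_
  rw [toV_pt]
  unfold toM ent
  rw [ptInv_pt, ptInv_pt]

/-- transpose -/
def transp (A : List (List ℤ)) : List (List ℤ) :=
  (List.range 24).map fun j => A.map fun r => r.getD j 0

theorem transp_wf (A : List (List ℤ)) (hA : A.length = 24) : WF (transp A) := by
  constructor
  · simp [transp]
  · intro r hr
    simp only [transp, List.mem_map, List.mem_range] at hr
    obtain ⟨j, _, rfl⟩ := hr
    simp [hA]

theorem ent_transp (A : List (List ℤ)) (hA : A.length = 24) (a b : Fin 24) :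
    ent (transp A) a.val b.val = ent A b.val a.val := by
  unfold ent transp
  have h1 : a.val < ((List.range 24).map fun j => A.map fun r => r.getD j 0).length := by simp
  rw [List.getD_eq_getElem _ _ h1, List.getElem_map, List.getElem_range]
  have h2 : b.val < (A.map fun r => r.getD a.val 0).length := by simp [hA]
  rw [List.getD_eq_getElem _ _ h2, List.getElem_map]
  have h3 : b.val < A.length := by rw [hA]; exact b.2
  rw [List.getD_eq_getElem _ _ h3]

theorem toM_transp (A : List (List ℤ)) (hA : A.length = 24) :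
    toM (transp A) = (toM A).transpose := by
  apply Matrix.ext
  intro p q
  show ent (transp A) _ _ = ent A _ _
  exact ent_transp A hA _ _

/-- the rows are pairwise orthogonal of squared length 4 -/
def OrthoRows (A : List (List ℤ)) : Prop :=
  ∀ i j : Fin 24, dotL (A.getD i.val []) (A.getD j.val []) = if i = j then 4 else 0

instance (A : List (List ℤ)) : Decidable (OrthoRows A) := by unfold OrthoRows; infer_instance

theorem orthoRows_spec {A : List (List ℤ)} (hA : WF A) (h : OrthoRows A) :
    toM A * (toM A).transpose = (4 : ℤ) • (1 : Matrix GolayPt GolayPt ℤ) := by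
  apply Matrix.ext
  intro p q
  obtain ⟨a, rfl⟩ := pt_bijective.2 p
  obtain ⟨b, rfl⟩ := pt_bijective.2 q
  have hab := h a b
  rw [dotL_eq_sum 24 _ _ (row_length hA a) (row_length hA b)] at hab
  rw [Matrix.mul_apply, sum_pt]
  have e : (∑ c : Fin 24, toM A (pt a) (pt c) * (toM A).transpose (pt c) (pt b)) =
      ∑ c : Fin 24, (A.getD a.val []).getD c.val 0 * (A.getD b.val []).getD c.val 0 := by
    refine Finset.sum_congr rfl fun c _ => ?_
    rw [Matrix.transpose_apply]
    unfold toM ent
    rw [ptInv_pt, ptInv_pt, ptInv_pt]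
  rw [e, hab, Matrix.smul_apply, Matrix.one_apply, smul_eq_mul]
  by_cases hab' : a = b
  · subst hab'; simp
  · rw [if_neg hab', if_neg (fun hh => hab' (pt_bijective.1 hh))]; simp

/-! ### generators of the lattice, as lists -/

/-- `4 e_a - 4 e_∞` -/
def dGen (a : ℕ) : List ℤ :=
  (List.range 24).map fun b => if b = a then 4 else if b = 23 then -4 else 0

/-- `4 e_∞ + 4 e_0` -/
def dGenLast : List ℤ :=
  (List.range 24).map fun b => if b = 23 then 4 else if b = 0 then 4 else 0

/-- twice the `t`-th translate of the squares -/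
def qGen (t : ℕ) : List ℤ :=
  (List.finRange 24).map fun b => if (masks b).testBit t then 2 else 0

/-- the all-twos vector -/
def oneGen : List ℤ := List.replicate 24 2

/-- the vector `(-1, …, -1, 3)` -/
def oddGen : List ℤ := List.replicate 23 (-1) ++ [3]

/-- a generating set of the lattice -/
def gensL : List (List ℤ) :=
  (List.range 23).map dGen ++ [dGenLast] ++ (List.range 23).map qGen ++ [oneGen, oddGen]

set_option maxRecDepth 1000000 in
theorem gensL_length : ∀ g ∈ gensL, g.length = 24 := by decide +kernel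

set_option maxRecDepth 1000000 in
theorem dGen_eq : ∀ t : ZMod 23, toV (dGen t.val) = E (some t) - E none := by decide +kernel

set_option maxRecDepth 1000000 in
theorem dGenLast_eq : toV dGenLast = E none + E (some 0) := by decide +kernel

set_option maxRecDepth 1000000 in
theorem qGen_eq : ∀ t : ZMod 23, toV (qGen t.val) = twoVec (qrWord t) := by decide +kernel

set_option maxRecDepth 1000000 in
theorem oneGen_eq : toV oneGen = twoVec 1 := by decide +kernel

set_option maxRecDepth 1000000 in
theorem oddGen_eq : toV oddGen = oddMin 0 := by decide +kernel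

theorem dGen_mem (t : ZMod 23) : dGen t.val ∈ gensL := by
  unfold gensL
  simp only [List.mem_append, List.mem_map, List.mem_range]
  left; left; left
  exact ⟨t.val, ZMod.val_lt t, rfl⟩

theorem dGenLast_mem : dGenLast ∈ gensL := by
  unfold gensL
  simp only [List.mem_append, List.mem_map, List.mem_range, List.mem_singleton]
  left; left; right; trivial

theorem qGen_mem (t : ZMod 23) : qGen t.val ∈ gensL := by
  unfold gensL
  simp only [List.mem_append, List.mem_map, List.mem_range]
  left; right
  exact ⟨t.val, ZMod.val_lt t, rfl⟩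

theorem oneGen_mem : oneGen ∈ gensL := by
  unfold gensL
  simp

theorem oddGen_mem : oddGen ∈ gensL := by
  unfold gensL
  simp

theorem mem_of_four_K (K : AddSubgroup (GolayPt → ℤ)) (h1 : ∀ k, E k - E none ∈ K)
    (h2 : E none + E (some 0) ∈ K) {x : GolayPt → ℤ} (h4 : ∀ k, x k % 4 = 0)
    (h8 : (∑ k, x k) % 8 = 0) : x ∈ K := by
  have hs : ∑ k, x k = 4 * ∑ k, x k / 4 := by
    rw [Finset.mul_sum]
    exact Finset.sum_congr rfl fun k _ => by have := h4 k; omega
  obtain ⟨t, ht⟩ : ∃ t, ∑ k, x k / 4 = 2 * t := ⟨(∑ k, x k / 4) / 2, by omega⟩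
  have hdec : x = ∑ k, (x k / 4) • (E k - E none) +
      t • ((E none + E (some 0)) + (E none - E (some 0))) := by
    have h1 : (E none + E (some 0)) + (E none - E (some 0)) = (2 : ℤ) • E none := by
      rw [two_smul]; abel
    rw [h1, smul_smul, mul_comm, ← ht]
    simp only [smul_sub, Finset.sum_sub_distrib, ← Finset.sum_smul]
    rw [sub_add_cancel]
    exact eq_sum_E h4
  rw [hdec]
  refine K.add_mem (K.sum_mem fun k _ => K.zsmul_mem (h1 k) _)
    (K.zsmul_mem (K.add_mem h2 ?_) _)
  have e : E none - E (some 0) = -(E (some 0) - E none) := by abel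
  rw [e]; exact K.neg_mem (h1 _)

theorem twoVec_add (c c' : GolayPt → ZMod 2) :
    twoVec (c + c') = twoVec c + twoVec c' -
      fun i => if i ∈ support₂ c ∩ support₂ c' then (4 : ℤ) else 0 := by
  funext i
  have h01 : (0 : ZMod 2) ≠ 1 := by decide
  have h11 : (1 : ZMod 2) + 1 = 0 := by decide
  simp only [twoVec, Pi.add_apply, Pi.sub_apply, Finset.mem_inter, support₂, Finset.mem_filter,
    Finset.mem_univ, true_and]
  rcases zmod2_eq_zero_or_one (c i) with h | h <;>
    rcases zmod2_eq_zero_or_one (c' i) with h' | h' <;>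
    simp [h, h', h01, h11]

theorem sum_ite_mem_four (S : Finset GolayPt) :
    ∑ i, (if i ∈ S then (4 : ℤ) else 0) = 4 * S.card := by
  rw [Finset.sum_ite_mem, Finset.univ_inter, Finset.sum_const, nsmul_eq_mul, mul_comm]

/-- a subgroup containing the generators contains the lattice -/
theorem leech_le_of_gens (K : AddSubgroup (GolayPt → ℤ)) (h : ∀ g ∈ gensL, toV g ∈ K) :
    leechLattice ≤ K := by
  have h1 : ∀ k, E k - E none ∈ K := by
    intro k
    cases k with
    | none => rw [sub_self]; exact K.zero_mem
    | some t => rw [← dGen_eq t]; exact h _ (dGen_mem t)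
  have h2 : E none + E (some 0) ∈ K := by rw [← dGenLast_eq]; exact h _ dGenLast_mem
  have hfour : ∀ {x : GolayPt → ℤ}, (∀ k, x k % 4 = 0) → (∑ k, x k) % 8 = 0 → x ∈ K :=
    fun h4 h8 => mem_of_four_K K h1 h2 h4 h8
  have htwo : ∀ c ∈ golayCode, twoVec c ∈ K := by
    intro c hc
    unfold golayCode at hc
    induction hc using Submodule.span_induction with
    | mem x hx =>
      rcases hx with ⟨t, rfl⟩ | hx
      · rw [← qGen_eq t]; exact h _ (qGen_mem t)
      · rw [Set.mem_singleton_iff.mp hx, ← oneGen_eq]; exact h _ oneGen_mem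
    | zero =>
      have : twoVec 0 = 0 := by
        funext i; simp [twoVec]
      rw [this]; exact K.zero_mem
    | add x y hx hy ihx ihy =>
      rw [twoVec_add]
      refine K.sub_mem (K.add_mem ihx ihy) (hfour (fun k => ?_) ?_)
      · split_ifs <;> norm_num
      · rw [sum_ite_mem_four]
        have hxy : dot₂ x y = 0 := golay_self_orth hx hy
        rw [dot₂_eq_card, ZMod.natCast_eq_zero_iff] at hxy
        obtain ⟨m, hm⟩ := hxy
        rw [hm]; push_cast; omega
    | smul a x hx ih =>
      rcases zmod2_eq_zero_or_one a with ha | ha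
      · have : twoVec (a • x) = 0 := by
          funext i; simp [twoVec, ha]
        rw [this]; exact K.zero_mem
      · rw [ha, one_smul]; exact ih
  have hodd : oddMin 0 ∈ K := by rw [← oddGen_eq]; exact h _ oddGen_mem
  have heven : ∀ x ∈ leechLattice, (∀ k, x k % 2 = 0) → x ∈ K := by
    intro x hx hev
    have hc : wd x 2 ∈ golayCode := by
      rw [mem_leech_iff] at hx
      rcases hx with ⟨_, _, h⟩ | ⟨ho, _, _⟩
      · exact h
      · exfalso; have := ho none; have := hev none; omega
    have h8 : (∑ k, x k) % 8 = 0 := by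
      rw [mem_leech_iff] at hx
      rcases hx with ⟨_, h, _⟩ | ⟨ho, _, _⟩
      · exact h
      · exfalso; have := ho none; have := hev none; omega
    have hr : ∀ i, x i % 4 = if wd x 2 i = 1 then 2 else 0 :=
      res_of_wd_eq (by norm_num) rfl (fun i => by have := hev i; omega)
    have hd : x - twoVec (wd x 2) ∈ K := by
      apply hfour
      · intro k
        have := hr k
        simp only [Pi.sub_apply, twoVec]
        split_ifs at this ⊢ <;> omega
      · obtain ⟨t, ht⟩ := golay_doubly_even hc
        have e : ∑ i, twoVec (wd x 2) i =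
            2 * ((support₂ (wd x 2)).card : ℤ) + 0 * (24 - ((support₂ (wd x 2)).card : ℤ)) :=
          sum_ite_c (wd x 2) 2 0
        simp only [Pi.sub_apply, Finset.sum_sub_distrib]
        rw [e, ht]; push_cast; omega
    have := K.add_mem hd (htwo _ hc)
    rwa [sub_add_cancel] at this
  intro x hx
  have hx' := hx
  rw [mem_leech_iff] at hx'
  rcases hx' with ⟨he, _, _⟩ | ⟨ho, _, _⟩
  · exact heven x hx he
  · have h0 : (0 : GolayPt → ZMod 2) ∈ golayCode := golayCode.zero_mem
    have hd : x - oddMin 0 ∈ K := by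
      apply heven _ (leechLattice.sub_mem hx (oddMin_mem h0))
      intro k
      have h1 := ho k
      have h3 := oddMin_res 0 k
      simp only [Pi.zero_apply, zero_ne_one, if_false] at h3
      simp only [Pi.sub_apply]
      omega
    have := K.add_mem hd hodd
    rwa [sub_add_cancel] at this

/-! ### a membership test -/

/-- the mask of the positions of a list with a given residue modulo 4 -/
def mkMask : List ℤ → ℤ → ℕ
  | [], _ => 0
  | v :: vs, k => (if v % 4 = k then 1 else 0) + 2 * mkMask vs k

/-- the mask `m` describes the positions of residue `k` -/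
def ResOK (l : List ℤ) (m : ℕ) (k : ℤ) : Prop :=
  ∀ a : Fin 24, m.testBit a.val = decide (l.getD a.val 0 % 4 = k)

instance (l : List ℤ) (m : ℕ) (k : ℤ) : Decidable (ResOK l m k) := by
  unfold ResOK; infer_instance

/-- a sufficient test for a list to code a lattice vector -/
def InLP (l : List ℤ) : Prop :=
  l.length = 24 ∧
  (((∀ v ∈ l, v % 2 = 0) ∧ l.sum % 8 = 0 ∧ ResOK l (mkMask l 2) 2 ∧ IsCodeMask (mkMask l 2)) ∨
   ((∀ v ∈ l, v % 2 = 1) ∧ l.sum % 8 = 4 ∧ ResOK l (mkMask l 1) 1 ∧ IsCodeMask (mkMask l 1)))

instance (l : List ℤ) : Decidable (InLP l) := by unfold InLP; infer_instance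

theorem wd_eq_bind {l : List ℤ} {m : ℕ} {k : ℤ} (hk : k % 4 = k) (h : ResOK l m k) :
    wd (toV l) k = bind (maskSet m) := by
  funext p
  obtain ⟨a, rfl⟩ := pt_bijective.2 p
  rw [bind_maskSet_apply, h a]
  have hiff : (l.getD a.val 0 ≡ k [ZMOD 4]) ↔ l.getD a.val 0 % 4 = k := by
    unfold Int.ModEq; rw [hk]
  simp only [wd, toV_pt]
  by_cases hh : l.getD a.val 0 % 4 = k
  · rw [if_pos (hiff.mpr hh), decide_eq_true hh]; rfl
  · rw [if_neg (fun h' => hh (hiff.mp h')), decide_eq_false hh]; rfl

theorem inLP_sound {l : List ℤ} (h : InLP l) : toV l ∈ leechLattice := by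
  obtain ⟨hlen, h⟩ := h
  rw [mem_leech_iff]
  rcases h with ⟨hev, hs, hres, hcode⟩ | ⟨hodd, hs, hres, hcode⟩
  · left
    refine ⟨fun p => ?_, ?_, ?_⟩
    · exact getD_mem_or (P := fun v => v % 2 = 0) (by norm_num) hev _
    · rw [sum_toV l hlen]; exact hs
    · rw [wd_eq_bind (by norm_num) hres]; exact bind_maskSet_mem _ hcode
  · right
    refine ⟨fun p => ?_, ?_, ?_⟩
    · obtain ⟨a, rfl⟩ := pt_bijective.2 p
      rw [toV_pt]
      have ha : a.val < l.length := by rw [hlen]; exact a.2
      rw [List.getD_eq_getElem _ _ ha]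
      exact hodd _ (List.getElem_mem ha)
    · rw [sum_toV l hlen]; exact hs
    · rw [wd_eq_bind (by norm_num) hres]; exact bind_maskSet_mem _ hcode

/-- a sufficient test for a list to code a vector of twice the lattice -/
def InTwoLP (l : List ℤ) : Prop := (∀ v ∈ l, v % 2 = 0) ∧ InLP (l.map (· / 2))

instance (l : List ℤ) : Decidable (InTwoLP l) := by unfold InTwoLP; infer_instance

theorem inTwoLP_sound {l : List ℤ} (h : InTwoLP l) : toV l ∈ twoL := by
  rw [mem_twoL]
  refine ⟨toV (l.map (· / 2)), inLP_sound h.2, ?_⟩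
  funext p
  simp only [toV, Pi.smul_apply, smul_eq_mul]
  have e : (l.map (· / 2)).getD (ptInv p).val 0 = l.getD (ptInv p).val 0 / 2 := by
    have := List.getD_map l (0 : ℤ) (n := (ptInv p).val) (· / 2)
    simpa using this
  rw [e]
  have := getD_mem_or (P := fun v => v % 2 = 0) (by norm_num) h.1 (ptInv p).val
  omega

/-- the matrix maps the generators of the lattice into twice the lattice -/
def PresL (A : List (List ℤ)) : Prop := ∀ g ∈ gensL, InTwoLP (mulVecL A g)

instance (A : List (List ℤ)) : Decidable (PresL A) := by unfold PresL; infer_instance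

theorem mulVec_mem_twoL {A : List (List ℤ)} (hA : WF A) (hp : PresL A) {x : GolayPt → ℤ}
    (hx : x ∈ leechLattice) : (toM A).mulVec x ∈ twoL := by
  have hle : leechLattice ≤ twoL.comap (Matrix.mulVecLin (toM A)).toAddMonoidHom := by
    apply leech_le_of_gens
    intro g hg
    rw [AddSubgroup.mem_comap]
    show (toM A).mulVec (toV g) ∈ twoL
    rw [toM_mulVec hA g (gensL_length g hg)]
    exact inTwoLP_sound (hp g hg)
  exact hle hx

/-! ### the automorphism attached to a good matrix -/

/-- the criterion: the matrix codes twice an automorphism of the lattice -/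
def GoodMat (A : List (List ℤ)) : Prop :=
  WF A ∧ OrthoRows A ∧ OrthoRows (transp A) ∧ PresL A ∧ PresL (transp A)

instance (A : List (List ℤ)) : Decidable (GoodMat A) := by unfold GoodMat; infer_instance

/-- halving -/
def half (y : GolayPt → ℤ) : GolayPt → ℤ := fun p => y p / 2

theorem half_two_smul (z : GolayPt → ℤ) : half ((2 : ℤ) • z) = z := by
  funext p
  simp only [half, Pi.smul_apply, smul_eq_mul]
  omega

/-- the action of (half) the matrix on vectors -/
def actV (A : List (List ℤ)) (x : GolayPt → ℤ) : GolayPt → ℤ := half ((toM A).mulVec x)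

theorem actV_spec {A : List (List ℤ)} (hA : WF A) (hp : PresL A) {x : GolayPt → ℤ}
    (hx : x ∈ leechLattice) :
    actV A x ∈ leechLattice ∧ (toM A).mulVec x = (2 : ℤ) • actV A x := by
  obtain ⟨z, hz, hxz⟩ := mem_twoL.mp (mulVec_mem_twoL hA hp hx)
  have : actV A x = z := by unfold actV; rw [hxz, half_two_smul]
  rw [this]
  exact ⟨hz, hxz⟩

theorem two_smul_cancel {y z : GolayPt → ℤ} (h : (2 : ℤ) • y = (4 : ℤ) • z) : y = (2 : ℤ) • z := by
  funext p
  have := congrFun h p
  simp only [Pi.smul_apply, smul_eq_mul] at this ⊢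
  omega

theorem actV_actV {A B : List (List ℤ)} (hA : WF A) (hpA : PresL A) (hB : WF B) (hpB : PresL B)
    (hBA : toM B * toM A = (4 : ℤ) • (1 : Matrix GolayPt GolayPt ℤ)) {x : GolayPt → ℤ}
    (hx : x ∈ leechLattice) : actV B (actV A x) = x := by
  obtain ⟨hz, hxz⟩ := actV_spec hA hpA hx
  obtain ⟨hw, hzw⟩ := actV_spec hB hpB hz
  have h4 : (toM B).mulVec ((toM A).mulVec x) = (4 : ℤ) • x := by
    rw [Matrix.mulVec_mulVec, hBA, Matrix.smul_mulVec, Matrix.one_mulVec]
  rw [hxz, Matrix.mulVec_smul, hzw, smul_smul] at h4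
  have h5 : (2 : ℤ) • actV B (actV A x) = (2 : ℤ) • x := by
    apply two_smul_cancel
    rw [smul_smul]
    norm_num
    exact h4
  funext p
  have := congrFun h5 p
  simp only [Pi.smul_apply, smul_eq_mul] at this
  omega

theorem sqNorm_eq_dot (x : GolayPt → ℤ) : sqNorm x = x ⬝ᵥ x := by
  unfold sqNorm dotProduct
  exact Finset.sum_congr rfl fun i _ => sq (x i)

theorem sqNorm_two_smul (z : GolayPt → ℤ) : sqNorm ((2 : ℤ) • z) = 4 * sqNorm z := by
  unfold sqNorm
  rw [Finset.mul_sum]
  refine Finset.sum_congr rfl fun i _ => ?_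
  simp only [Pi.smul_apply, smul_eq_mul]
  ring

theorem sqNorm_mulVec {M : Matrix GolayPt GolayPt ℤ}
    (hM : M.transpose * M = (4 : ℤ) • (1 : Matrix GolayPt GolayPt ℤ)) (x : GolayPt → ℤ) :
    sqNorm (M.mulVec x) = 4 * sqNorm x := by
  rw [sqNorm_eq_dot, sqNorm_eq_dot]
  have e : x ⬝ᵥ (M.transpose * M).mulVec x = M.mulVec x ⬝ᵥ M.mulVec x := by
    rw [← Matrix.mulVec_mulVec, Matrix.dotProduct_mulVec, Matrix.vecMul_transpose]
  rw [← e, hM, Matrix.smul_mulVec, Matrix.one_mulVec, dotProduct_smul, smul_eq_mul]

/-- the permutation of the lattice attached to a good matrix -/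
noncomputable def matPerm (A : List (List ℤ)) (h : GoodMat A) : Equiv.Perm leechLattice where
  toFun v := ⟨actV A v, (actV_spec h.1 h.2.2.2.1 v.2).1⟩
  invFun v := ⟨actV (transp A) v, (actV_spec (transp_wf A h.1.1) h.2.2.2.2 v.2).1⟩
  left_inv v := by
    apply Subtype.ext
    show actV (transp A) (actV A v) = v
    apply actV_actV h.1 h.2.2.2.1 (transp_wf A h.1.1) h.2.2.2.2 _ v.2
    have := orthoRows_spec (transp_wf A h.1.1) h.2.2.1
    rw [toM_transp A h.1.1, Matrix.transpose_transpose] at this
    rw [toM_transp A h.1.1]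
    exact this
  right_inv v := by
    apply Subtype.ext
    show actV A (actV (transp A) v) = v
    apply actV_actV (transp_wf A h.1.1) h.2.2.2.2 h.1 h.2.2.2.1 _ v.2
    rw [toM_transp A h.1.1]
    exact orthoRows_spec h.1 h.2.1

theorem matPerm_mem (A : List (List ℤ)) (h : GoodMat A) : matPerm A h ∈ Co0 := by
  have hM : (toM A).transpose * toM A = (4 : ℤ) • (1 : Matrix GolayPt GolayPt ℤ) := by
    have := orthoRows_spec (transp_wf A h.1.1) h.2.2.1
    rwa [toM_transp A h.1.1, Matrix.transpose_transpose] at this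
  refine ⟨fun v w => ?_, fun v => ?_⟩
  · apply Subtype.ext
    show actV A ((v : GolayPt → ℤ) + w) = actV A v + actV A w
    obtain ⟨_, h1⟩ := actV_spec h.1 h.2.2.2.1 v.2
    obtain ⟨_, h2⟩ := actV_spec h.1 h.2.2.2.1 w.2
    show half ((toM A).mulVec ((v : GolayPt → ℤ) + w)) = actV A v + actV A w
    rw [Matrix.mulVec_add, h1, h2, ← smul_add, half_two_smul]
  · show sqNorm (actV A (v : GolayPt → ℤ)) = sqNorm (v : GolayPt → ℤ)
    obtain ⟨_, h1⟩ := actV_spec h.1 h.2.2.2.1 v.2
    have h2 := sqNorm_mulVec hM (v : GolayPt → ℤ)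
    rw [h1, sqNorm_two_smul] at h2
    omega

/-- the automorphism attached to a good matrix -/
noncomputable def matCo0 (A : List (List ℤ)) (h : GoodMat A) : Co0 := ⟨matPerm A h, matPerm_mem A h⟩

theorem matCo0_smul (A : List (List ℤ)) (h : GoodMat A) (v : leechLattice) :
    ((matCo0 A h • v : leechLattice) : GolayPt → ℤ) = actV A v := rfl

/-- the action on lists -/
def actL (A : List (List ℤ)) (l : List ℤ) : List ℤ := (mulVecL A l).map (· / 2)

theorem actL_length (A : List (List ℤ)) (l : List ℤ) : (actL A l).length = A.length := by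
  simp [actL, mulVecL]

theorem toV_actL {A : List (List ℤ)} (hA : WF A) (l : List ℤ) (hl : l.length = 24) :
    toV (actL A l) = actV A (toV l) := by
  unfold actV
  rw [toM_mulVec hA l hl]
  funext p
  simp only [toV, half, actL]
  have := List.getD_map (mulVecL A l) (0 : ℤ) (n := (ptInv p).val) (· / 2)
  simpa using this

end Cfsg.Agent.Helper4.CO
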