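import Cfsg.Agent.Lib.Helper4.CoOrbitDefs

set_option autoImplicit false
set_option linter.style.haveILetI false
set_option linter.unusedVariables false
set_option linter.unusedSectionVars false

/-! A cheap certificate that the numbers packed in a list of big numbers are pairwise distinct:
an enumeration of the positions along which the numbers increase. -/

namespace Cfsg.Agent.Helper4.CO

/-- the `j`-th `w`-bit word of `N` -/
def slot (w N j : ℕ) : ℕ := (N >>> (w * j)) % 2 ^ w

/-- the words packed in a list of numbers, `B` per number, and `c` in a last number -/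
def flatW (w B : ℕ) (full : List ℕ) (c Nl : ℕ) : List ℕ :=
  full.flatMap (splitN w B) ++ splitN w c Nl

/-- random access to the words -/
def getK (w B : ℕ) (nums : List ℕ) (i : ℕ) : ℕ := slot w (nums.getD (i / B) 0) (i % B)

/-- the values of `get` along the list of positions (all below `n`) increase, from `lo` on -/
def incChk (get : ℕ → ℕ) (n : ℕ) : List ℕ → ℕ → Bool
  | [], _ => true
  | i :: is, lo =>
    if i < n then (if lo ≤ get i then incChk get n is (get i + 1) else false) else false

/-- the certificate -/
def certOK (B : ℕ) (full : List ℕ) (c Nl : ℕ) (σ : List ℕ) : Bool :=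
  decide (0 < B) && decide (c ≤ B) && decide (σ.length = full.length * B + c) &&
    incChk (getK 96 B (full ++ [Nl])) (full.length * B + c) σ 0

/-- the chunks of an orbit certificate: tapes with packed keys -/
def mkChunks (B : ℕ) (tn : List (List ℕ × ℕ)) (tl : List ℕ) (c Nl : ℕ) :
    List (List ℕ × List ℕ) :=
  tn.map (fun p => (p.1, splitN 96 B p.2)) ++ [(tl, splitN 96 c Nl)]

theorem length_splitN (w : ℕ) : ∀ (f n : ℕ), (splitN w f n).length = f := by
  intro f
  induction f with
  | zero => intro n; rfl
  | succ f ih => intro n; simp [splitN, ih]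

theorem getD_splitN (w : ℕ) : ∀ (f n j : ℕ), j < f → (splitN w f n).getD j 0 = slot w n j := by
  intro f
  induction f with
  | zero => intro n j hj; omega
  | succ f ih =>
    intro n j hj
    cases j with
    | zero => simp [splitN, slot]
    | succ j =>
      rw [splitN, List.getD_cons_succ, ih (n / 2 ^ w) j (by omega)]
      unfold slot
      rw [Nat.shiftRight_eq_div_pow, Nat.shiftRight_eq_div_pow, Nat.div_div_eq_div_mul,
        ← pow_add, Nat.mul_succ, Nat.add_comm]

theorem length_flatMap_splitN (w B : ℕ) : ∀ full : List ℕ,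
    (full.flatMap (splitN w B)).length = full.length * B := by
  intro full
  induction full with
  | nil => simp
  | cons N full ih =>
    rw [List.flatMap_cons, List.length_append, ih, length_splitN, List.length_cons]
    ring

theorem length_flatW (w B : ℕ) (full : List ℕ) (c Nl : ℕ) :
    (flatW w B full c Nl).length = full.length * B + c := by
  unfold flatW
  rw [List.length_append, length_flatMap_splitN, length_splitN]

theorem getD_flatW (w B : ℕ) (hB : 0 < B) (c Nl : ℕ) (hc : c ≤ B) : ∀ (full : List ℕ) (i : ℕ),
    i < full.length * B + c → (flatW w B full c Nl).getD i 0 = getK w B (full ++ [Nl]) i := by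
  intro full
  induction full with
  | nil =>
    intro i hi
    have hi' : i < c := by simpa using hi
    have h1 : i / B = 0 := Nat.div_eq_of_lt (by omega)
    have h2 : i % B = i := Nat.mod_eq_of_lt (by omega)
    unfold flatW getK
    rw [List.flatMap_nil, List.nil_append, List.nil_append, h1, h2, getD_splitN w c Nl i hi']
    rfl
  | cons N full ih =>
    intro i hi
    unfold flatW getK
    rw [List.flatMap_cons, List.append_assoc]
    by_cases hiB : i < B
    · have h1 : i / B = 0 := Nat.div_eq_of_lt hiB
      have h2 : i % B = i := Nat.mod_eq_of_lt hiB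
      rw [List.getD_append _ _ _ _ (by rw [length_splitN]; exact hiB), getD_splitN w B N i hiB,
        h1, h2]
      rfl
    · have hge : B ≤ i := by omega
      rw [List.getD_append_right _ _ _ _ (by rw [length_splitN]; exact hge), length_splitN]
      have hi2 : i - B < full.length * B + c := by
        rw [List.length_cons, Nat.succ_mul] at hi; omega
      have := ih (i - B) hi2
      unfold flatW getK at this
      rw [this]
      have h1 : i / B = (i - B) / B + 1 := by
        rw [← Nat.add_div_right _ hB, Nat.sub_add_cancel hge]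
      have h2 : (i - B) % B = i % B := by
        rw [← Nat.add_mod_right (i - B) B, Nat.sub_add_cancel hge]
      rw [h1, h2, List.cons_append, List.getD_cons_succ]

theorem incChk_spec (get : ℕ → ℕ) (n : ℕ) : ∀ (σ : List ℕ) (lo : ℕ), incChk get n σ lo = true →
    (∀ i ∈ σ, i < n) ∧ (σ.map get).Pairwise (· < ·) ∧ ∀ i ∈ σ, lo ≤ get i := by
  intro σ
  induction σ with
  | nil => intro lo _; simp
  | cons i is ih =>
    intro lo h
    rw [incChk] at h
    split_ifs at h with h1 h2
    obtain ⟨hb, hp, hlo⟩ := ih (get i + 1) h
    refine ⟨?_, ?_, ?_⟩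
    · intro j hj
      rcases List.mem_cons.mp hj with rfl | hj
      · exact h1
      · exact hb j hj
    · rw [List.map_cons, List.pairwise_cons]
      refine ⟨?_, hp⟩
      intro y hy
      rw [List.mem_map] at hy
      obtain ⟨j, hj, rfl⟩ := hy
      have := hlo j hj
      omega
    · intro j hj
      rcases List.mem_cons.mp hj with rfl | hj
      · exact h2
      · have := hlo j hj
        omega

/-- the generic principle -/
theorem nodup_of_incr (K : List ℕ) (get : ℕ → ℕ) (hget : ∀ i < K.length, K.getD i 0 = get i)
    (σ : List ℕ) (hlen : σ.length = K.length) (hinc : incChk get K.length σ 0 = true) :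
    K.Nodup := by
  obtain ⟨hb, hp, _⟩ := incChk_spec get K.length σ 0 hinc
  have hnd : (σ.map get).Nodup := hp.imp (fun h => ne_of_lt h)
  have hσnd : σ.Nodup := List.Nodup.of_map get hnd
  have hall : ∀ i < K.length, i ∈ σ := by
    intro i hi
    have hsub : σ.toFinset ⊆ Finset.range K.length := by
      intro j hj
      rw [List.mem_toFinset] at hj
      exact Finset.mem_range.mpr (hb j hj)
    have hcard : (Finset.range K.length).card ≤ σ.toFinset.card := by
      rw [List.toFinset_card_of_nodup hσnd, Finset.card_range, hlen]
    have heq := Finset.eq_of_subset_of_card_le hsub hcard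
    have : i ∈ σ.toFinset := by rw [heq]; exact Finset.mem_range.mpr hi
    exact List.mem_toFinset.mp this
  rw [List.nodup_iff_injective_getElem]
  intro a b hab
  have ha := hget a.1 a.2
  have hb' := hget b.1 b.2
  rw [List.getD_eq_getElem _ _ a.2] at ha
  rw [List.getD_eq_getElem _ _ b.2] at hb'
  have h1 : get a.1 = get b.1 := by rw [← ha, ← hb']; exact hab
  exact Fin.ext (List.inj_on_of_nodup_map hnd (hall a.1 a.2) (hall b.1 b.2) h1)

theorem nodup_of_cert (B : ℕ) (full : List ℕ) (c Nl : ℕ) (σ : List ℕ)
    (h : certOK B full c Nl σ = true) : (flatW 96 B full c Nl).Nodup := by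
  unfold certOK at h
  simp only [Bool.and_eq_true, decide_eq_true_eq] at h
  obtain ⟨⟨⟨hB, hc⟩, hlen⟩, hinc⟩ := h
  apply nodup_of_incr _ (getK 96 B (full ++ [Nl])) _ σ
  · rw [length_flatW]; exact hlen
  · rw [length_flatW]; exact hinc
  · intro i hi
    rw [length_flatW] at hi
    exact getD_flatW 96 B hB c Nl hc full i hi

theorem flat_mkChunks (B : ℕ) (tn : List (List ℕ × ℕ)) (tl : List ℕ) (c Nl : ℕ) :
    ((mkChunks B tn tl c Nl).flatMap fun ch => ch.2) = flatW 96 B (tn.map fun p => p.2) c Nl := by
  unfold mkChunks flatW
  rw [List.flatMap_append, List.flatMap_map, List.flatMap_map]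
  simp

theorem nodup_mkChunks (B : ℕ) (tn : List (List ℕ × ℕ)) (tl : List ℕ) (c Nl : ℕ) (σ : List ℕ)
    (h : certOK B (tn.map fun p => p.2) c Nl σ = true) :
    ((mkChunks B tn tl c Nl).flatMap fun ch => ch.2).Nodup := by
  rw [flat_mkChunks]; exact nodup_of_cert B _ c Nl σ h

theorem length_mkChunks (B : ℕ) (tn : List (List ℕ × ℕ)) (tl : List ℕ) (c Nl : ℕ) :
    ((mkChunks B tn tl c Nl).flatMap fun ch => ch.2).length = tn.length * B + c := by
  rw [flat_mkChunks, length_flatW, List.length_map]

theorem mem_mkChunks {B : ℕ} {tn : List (List ℕ × ℕ)} {tl : List ℕ} {c Nl : ℕ}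
    {P : List ℕ × List ℕ → Prop} (h1 : ∀ p ∈ tn, P (p.1, splitN 96 B p.2))
    (h2 : P (tl, splitN 96 c Nl)) : ∀ ch ∈ mkChunks B tn tl c Nl, P ch := by
  intro ch hch
  unfold mkChunks at hch
  rw [List.mem_append, List.mem_map, List.mem_singleton] at hch
  rcases hch with ⟨p, hp, rfl⟩ | rfl
  · exact h1 p hp
  · exact h2

end Cfsg.Agent.Helper4.CO
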