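import Cfsg.Agent.Lib.Helper4.CoOrbitDefs
import Cfsg.Agent.Lib.Helper28.LeechMod

set_option autoImplicit false
set_option linter.style.haveILetI false
set_option linter.unusedVariables false
set_option linter.unusedSectionVars false

/-! Orbit certificates: a stack machine applying explicit automorphisms (given by good matrices
fixing some anchor vectors) to a start vector, a check that the visited vectors are pairwise
distinct, and the resulting transitivity statement. -/

namespace Cfsg.Agent.Helper4.CO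

open Cfsg Cfsg.Agent.Lib.Helper4 Cfsg.Agent.Lib.Helper28 Cfsg.Agent.Helper4.LC

/-! ### the relation -/

/-- `g` fixes the lattice vector coded by `a` -/
def FixL (g : Co0) (a : List ℤ) : Prop :=
  ∀ v : leechLattice, (v : GolayPt → ℤ) = toV a → g • v = v

/-- the vector coded by `y` is the image of the one coded by `x` under an automorphism fixing the
vectors coded by the lists in `as` -/
def Reach (as : List (List ℤ)) (x y : List ℤ) : Prop :=
  ∃ g : Co0, (∀ a ∈ as, FixL g a) ∧
    ∀ v : leechLattice, (v : GolayPt → ℤ) = toV x →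
      ((g • v : leechLattice) : GolayPt → ℤ) = toV y

theorem Reach.refl (as : List (List ℤ)) (x : List ℤ) : Reach as x x :=
  ⟨1, fun a _ v _ => one_smul _ v, fun v hv => by rw [one_smul]; exact hv⟩

theorem Reach.trans {as : List (List ℤ)} {x y z : List ℤ} (h : Reach as x y) (h' : Reach as y z) :
    Reach as x z := by
  obtain ⟨g, hg, hgx⟩ := h
  obtain ⟨g', hg', hgy⟩ := h'
  refine ⟨g' * g, fun a ha v hv => ?_, fun v hv => ?_⟩
  · rw [mul_smul, hg a ha v hv, hg' a ha v hv]
  · rw [mul_smul]; exact hgy _ (hgx v hv)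

theorem FixL.inv {g : Co0} {a : List ℤ} (h : FixL g a) : FixL g⁻¹ a := by
  intro v hv
  rw [inv_smul_eq_iff, h v hv]

theorem FixL.mul {g g' : Co0} {a : List ℤ} (h : FixL g a) (h' : FixL g' a) : FixL (g * g') a := by
  intro v hv
  rw [mul_smul, h' v hv, h v hv]

theorem co0_sqNorm_aux (g : Co0) (x : leechLattice) :
    sqNorm ((g • x : leechLattice) : GolayPt → ℤ) = sqNorm (x : GolayPt → ℤ) := g.2.2 x

/-! ### generators -/

theorem dotL_sgl_left (p : ℕ) (v : ℤ) (x : List ℤ) (hx : x.length = 24) :
    dotL (sgl p v) x = v * x.getD p 0 := by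
  rw [dotL_eq_sum 24 _ x (sgl_length p v) hx]
  by_cases hp : p < 24
  · rw [Finset.sum_eq_single (⟨p, hp⟩ : Fin 24)]
    · rw [getD_sgl p v p hp, if_pos rfl]
    · intro b _ hb
      rw [getD_sgl p v b.val b.isLt, if_neg (fun h => hb (Fin.ext h)), zero_mul]
    · intro h; exact absurd (Finset.mem_univ _) h
  · rw [List.getD_eq_default x 0 (by omega), mul_zero]
    apply Finset.sum_eq_zero
    intro b _
    rw [getD_sgl p v b.val b.isLt, if_neg (by have := b.isLt; omega), zero_mul]

theorem monoAct_eq (pinv : List ℕ) (sgn : List ℤ) (x : List ℤ) (hx : x.length = 24) :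
    monoAct pinv sgn x = actL (monoMat pinv sgn) x := by
  unfold monoAct actL mulVecL monoMat
  rw [List.map_zipWith, List.map_zipWith]
  congr 1
  funext p s
  rw [dotL_sgl_left p (2 * s) x hx, mul_assoc, Int.mul_ediv_cancel_left _ (by norm_num)]

/-! ### packed vectors -/

theorem dig_packD : ∀ D : List ℕ, (∀ d ∈ D, d < 16) → ∀ (p : ℕ) (hp : p < D.length),
    dig (packD D) p = D[p] := by
  intro D
  induction D with
  | nil => intro _ p hp; simp at hp
  | cons d ds ih =>
    intro hD p hp
    have hd : d < 16 := hD d List.mem_cons_self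
    have hds : ∀ x ∈ ds, x < 16 := fun x hx => hD x (List.mem_cons_of_mem _ hx)
    cases p with
    | zero =>
      simp only [dig, packD, pow_zero, Nat.div_one, List.getElem_cons_zero]
      omega
    | succ p =>
      have hp' : p < ds.length := by simpa using hp
      have h1 := ih hds p hp'
      simp only [dig, packD, List.getElem_cons_succ] at h1 ⊢
      rw [pow_succ', ← Nat.div_div_eq_div_mul]
      have h2 : (d + 16 * packD ds) / 16 = packD ds := by omega
      rw [h2]; exact h1

theorem enc_cast {v : ℤ} (h : -8 ≤ v) : ((enc v : ℕ) : ℤ) = v + 8 := by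
  unfold enc
  rw [Int.toNat_of_nonneg (by omega)]

theorem enc_lt {v : ℤ} (h : v ≤ 7) : enc v < 16 := by
  unfold enc
  omega

theorem dig_pack (l : List ℤ) (hb : Bd l) (p : ℕ) (hp : p < l.length) :
    dig (pack l) p = enc (l.getD p 0) := by
  unfold pack
  have h1 : ∀ d ∈ l.map enc, d < 16 := by
    intro d hd
    rw [List.mem_map] at hd
    obtain ⟨v, hv, rfl⟩ := hd
    exact enc_lt (hb v hv).2
  rw [dig_packD _ h1 p (by rw [List.length_map]; exact hp), List.getElem_map,
    List.getD_eq_getElem _ _ hp]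

theorem unpack_pack (l : List ℤ) (hl : l.length = 24) (hb : Bd l) : unpack (pack l) = l := by
  apply List.ext_getElem
  · simp [unpack, hl]
  · intro i h1 h2
    have hi : i < l.length := h2
    simp only [unpack, List.getElem_map, List.getElem_range]
    rw [dig_pack l hb i hi, List.getD_eq_getElem _ _ hi, enc_cast (by
      have := (hb l[i] (List.getElem_mem hi)).1; omega)]
    ring

theorem adj_enc {s v : ℤ} (hs : s = 1 ∨ s = -1) (hv : -7 ≤ v ∧ v ≤ 7) :
    adj s (enc v) = enc (s * v) := by
  unfold adj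
  rcases hs with rfl | rfl
  · rw [if_pos rfl, one_mul]
  · rw [if_neg (by norm_num)]
    unfold enc
    omega

theorem zipWith_congr_mem {α β γ : Type} (f f' : α → β → γ) : ∀ (l : List α) (l' : List β),
    (∀ a ∈ l, ∀ b ∈ l', f a b = f' a b) → List.zipWith f l l' = List.zipWith f' l l' := by
  intro l
  induction l with
  | nil => intro l' _; rfl
  | cons a as ih =>
    intro l' h
    cases l' with
    | nil => rfl
    | cons b bs =>
      rw [List.zipWith_cons_cons, List.zipWith_cons_cons, h a List.mem_cons_self b List.mem_cons_self,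
        ih bs (fun a' ha' b' hb' => h a' (List.mem_cons_of_mem _ ha') b' (List.mem_cons_of_mem _ hb'))]

theorem Gen.actN_pack (g : Gen) (hw : g.Wf) (e : List ℤ) (he : e.length = 24) (hb : Bd e) :
    g.actN (pack e) = pack (g.act e) := by
  cases g with
  | word As =>
    show pack (wordAct As (unpack (pack e))) = pack (wordAct As e)
    rw [unpack_pack e he hb]
  | mono p s =>
    show packD (List.zipWith (fun a b => adj b (dig (pack e) a)) p s) =
      packD ((monoAct p s e).map enc)
    unfold monoAct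
    rw [List.map_zipWith]
    congr 1
    apply zipWith_congr_mem
    intro a ha b hb'
    have ha24 : a < e.length := by rw [he]; exact hw.1 a ha
    rw [dig_pack e hb a ha24]
    apply adj_enc (hw.2 b hb')
    rw [List.getD_eq_getElem _ _ ha24]
    exact hb _ (List.getElem_mem ha24)

/-- the automorphism attached to a good matrix, acting on lists -/
theorem mat_elt (A : List (List ℤ)) (hA : GoodMat A) :
    ∃ g : Co0, ∀ l : List ℤ, l.length = 24 → (actL A l).length = 24 ∧
      ∀ v : leechLattice, (v : GolayPt → ℤ) = toV l →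
        ((g • v : leechLattice) : GolayPt → ℤ) = toV (actL A l) := by
  refine ⟨matCo0 A hA, fun l hl => ⟨by rw [actL_length]; exact hA.1.1, fun v hv => ?_⟩⟩
  rw [matCo0_smul, hv, ← toV_actL hA.1 l hl]

/-- the automorphism attached to a product of good matrices -/
theorem word_elt : ∀ As : List (List (List ℤ)), (∀ A ∈ As, GoodMat A) →
    ∃ g : Co0, ∀ l : List ℤ, l.length = 24 → (wordAct As l).length = 24 ∧
      ∀ v : leechLattice, (v : GolayPt → ℤ) = toV l →
        ((g • v : leechLattice) : GolayPt → ℤ) = toV (wordAct As l) := by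
  intro As
  induction As with
  | nil =>
    intro _
    exact ⟨1, fun l hl => ⟨hl, fun v hv => by rw [one_smul]; exact hv⟩⟩
  | cons A As ih =>
    intro h
    obtain ⟨g', hg'⟩ := ih (fun B hB => h B (List.mem_cons_of_mem _ hB))
    obtain ⟨gA, hgA⟩ := mat_elt A (h A List.mem_cons_self)
    refine ⟨gA * g', fun l hl => ?_⟩
    obtain ⟨hlen, hact⟩ := hg' l hl
    obtain ⟨hlen', hact'⟩ := hgA (wordAct As l) hlen
    refine ⟨hlen', fun v hv => ?_⟩
    rw [mul_smul]
    exact hact' (g' • v) (hact v hv)

/-- the automorphism attached to a generator -/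
theorem Gen.elt (g : Gen) (hgood : g.Good) :
    ∃ g' : Co0, ∀ l : List ℤ, l.length = 24 → (g.act l).length = 24 ∧
      ∀ v : leechLattice, (v : GolayPt → ℤ) = toV l →
        ((g' • v : leechLattice) : GolayPt → ℤ) = toV (g.act l) := by
  cases g with
  | word As => exact word_elt As hgood
  | mono p s =>
    obtain ⟨g', hg'⟩ := mat_elt (monoMat p s) hgood
    refine ⟨g', fun l hl => ?_⟩
    have e : (Gen.mono p s).act l = actL (monoMat p s) l := monoAct_eq p s l hl
    rw [e]
    exact hg' l hl

theorem reach_step {as : List (List ℤ)} {gens : List Gen} (hok : GensOK as gens)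
    {g : Gen} (hg : g ∈ gens) (x : List ℤ) (hx : x.length = 24) :
    Reach as x (g.act x) := by
  obtain ⟨hgood, _, hfix⟩ := hok.2 g hg
  obtain ⟨g', hg'⟩ := Gen.elt g hgood
  refine ⟨g', fun a ha v hv => ?_, fun v hv => ?_⟩
  · apply Subtype.ext
    rw [(hg' a (hok.1 a ha)).2 v hv, hfix a ha, hv]
  · exact (hg' x hx).2 v hv

theorem Gen.act_length {as : List (List ℤ)} {gens : List Gen} (hok : GensOK as gens)
    {g : Gen} (hg : g ∈ gens) (x : List ℤ) (hx : x.length = 24) : (g.act x).length = 24 := by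
  obtain ⟨hgood, _, _⟩ := hok.2 g hg
  obtain ⟨g', hg'⟩ := Gen.elt g hgood
  exact (hg' x hx).1

/-! ### bounds -/

theorem dotL_self_nonneg : ∀ l : List ℤ, 0 ≤ dotL l l := by
  intro l
  induction l with
  | nil => simp [dotL]
  | cons a as ih => simp only [dotL]; nlinarith [mul_self_nonneg a]

theorem sq_le_dotL_self : ∀ (l : List ℤ) (v : ℤ), v ∈ l → v * v ≤ dotL l l := by
  intro l
  induction l with
  | nil => intro v hv; simp at hv
  | cons a as ih =>
    intro v hv
    simp only [dotL]
    rcases List.mem_cons.mp hv with rfl | hv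
    · have := dotL_self_nonneg as; linarith
    · have := ih v hv
      nlinarith [mul_self_nonneg a]

theorem reach_bd {as : List (List ℤ)} {s0 : List ℤ} (hs0 : InLP s0) (hn : dotL s0 s0 ≤ 49)
    (e : List ℤ) (he : e.length = 24) (hr : Reach as s0 e) : Bd e := by
  obtain ⟨g, _, hge⟩ := hr
  have h1 := hge (mkL s0 hs0) rfl
  have h2 : sqNorm (toV e) = dotL s0 s0 := by
    rw [← h1, co0_sqNorm_aux g, mkL_coe, sqNorm_toV s0 hs0.1]
  rw [sqNorm_toV e he] at h2
  intro v hv
  have h3 := sq_le_dotL_self e v hv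
  constructor <;> nlinarith

/-! ### the machine -/

theorem runN_inv (gens : List Gen) (P : ℕ → Prop)
    (hstep : ∀ i x, P x → P (stepN gens i x)) :
    ∀ (cs : List ℕ) (st acc : List ℕ), (∀ x ∈ st, P x) → (∀ x ∈ acc, P x) →
      ∀ e ∈ runN gens cs st acc, P e := by
  intro cs
  induction cs with
  | nil => intro st acc _ hacc e he; rw [runN] at he; exact hacc e he
  | cons c cs ih =>
    intro st acc hst hacc e he
    cases st with
    | nil => rw [runN] at he; exact hacc e he
    | cons x st =>
      have hx : P x := hst x List.mem_cons_self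
      have hst' : ∀ y ∈ st, P y := fun y hy => hst y (List.mem_cons_of_mem _ hy)
      rw [runN] at he
      split_ifs at he
      · exact ih st acc hst' hacc e he
      · refine ih _ _ ?_ ?_ e he
        · intro y hy
          rcases List.mem_cons.mp hy with rfl | hy
          · exact hstep _ _ hx
          · exact hst y hy
        · intro y hy
          rcases List.mem_cons.mp hy with rfl | hy
          · exact hstep _ _ hx
          · exact hacc y hy
      · refine ih _ _ ?_ hacc e he
        intro y hy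
        rcases List.mem_cons.mp hy with rfl | hy
        · exact hstep _ _ hx
        · exact hst y hy
      · refine ih _ _ hst ?_ e he
        intro y hy
        rcases List.mem_cons.mp hy with rfl | hy
        · exact hx
        · exact hacc y hy
      · exact ih _ _ hst hacc e he

theorem eqChk_sound : ∀ l l' : List ℕ, eqChk l l' = true → l = l' := by
  intro l
  induction l with
  | nil =>
    intro l' h
    cases l' with
    | nil => rfl
    | cons b bs => simp [eqChk] at h
  | cons a as ih =>
    intro l' h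
    cases l' with
    | nil => simp [eqChk] at h
    | cons b bs =>
      rw [eqChk] at h
      split_ifs at h with hab
      rw [hab, ih bs h]

/-- a number packs a list reachable from the start -/
def Good (as : List (List ℤ)) (s0 : List ℤ) (X : ℕ) : Prop :=
  ∃ e : List ℤ, e.length = 24 ∧ pack e = X ∧ Reach as s0 e

theorem chunkE_spec {as : List (List ℤ)} {gens : List Gen} (hok : GensOK as gens)
    (s0 : List ℤ) (hs0 : InLP s0) (hn : dotL s0 s0 ≤ 49) (tape : List ℕ) :
    ∀ X ∈ chunkE gens s0 tape, Good as s0 X := by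
  apply runN_inv gens (Good as s0)
  · intro i X hX
    obtain ⟨e, he, hpe, hr⟩ := hX
    unfold stepN
    split
    · next g h =>
      have hg : g ∈ gens := List.mem_of_getElem? h
      refine ⟨g.act e, Gen.act_length hok hg e he, ?_, hr.trans (reach_step hok hg e he)⟩
      rw [← hpe, Gen.actN_pack g (hok.2 g hg).2.1 e he (reach_bd hs0 hn e he hr)]
    · exact ⟨e, he, hpe, hr⟩
  · intro X hX
    rw [List.mem_singleton] at hX
    rw [hX]; exact ⟨s0, hs0.1, rfl, Reach.refl _ _⟩
  · intro X hX; simp at hX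

/-! ### pairwise distinct keys -/

/-- membership -/
def KT.Mem (x : ℕ) : KT → Prop
  | .leaf => False
  | .node l k r => x = k ∨ KT.Mem x l ∨ KT.Mem x r

/-- the search tree property -/
def KT.Ok : KT → Prop
  | .leaf => True
  | .node l k r => (∀ y, KT.Mem y l → y < k) ∧ (∀ y, KT.Mem y r → k < y) ∧ KT.Ok l ∧ KT.Ok r

theorem KT.ins_spec (x : ℕ) : ∀ (t t' : KT), KT.ins x t = some t' → KT.Ok t →
    KT.Ok t' ∧ (∀ y, KT.Mem y t' ↔ y = x ∨ KT.Mem y t) ∧ ¬ KT.Mem x t := by
  intro t
  induction t with
  | leaf =>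
    intro t' h _
    rw [KT.ins, Option.some.injEq] at h
    subst h
    refine ⟨⟨fun y hy => hy.elim, fun y hy => hy.elim, trivial, trivial⟩, fun y => ?_, fun h => h⟩
    simp only [KT.Mem, or_false]
  | node l k r ihl ihr =>
    intro t' h hok
    obtain ⟨hl, hr, okl, okr⟩ := hok
    rw [KT.ins] at h
    split_ifs at h with h1 h2
    · cases hins : KT.ins x l with
      | none => rw [hins] at h; simp at h
      | some l' =>
        rw [hins] at h
        simp only [Option.some.injEq] at h
        subst h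
        obtain ⟨okl', hmem, hnot⟩ := ihl l' hins okl
        refine ⟨⟨?_, hr, okl', okr⟩, fun y => ?_, ?_⟩
        · intro y hy
          rcases (hmem y).mp hy with rfl | hy
          · exact h1
          · exact hl y hy
        · simp only [KT.Mem, hmem y]
          tauto
        · intro hm
          rcases hm with rfl | hm | hm
          · exact lt_irrefl _ h1
          · exact hnot hm
          · have := hr x hm; omega
    · cases hins : KT.ins x r with
      | none => rw [hins] at h; simp at h
      | some r' =>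
        rw [hins] at h
        simp only [Option.some.injEq] at h
        subst h
        obtain ⟨okr', hmem, hnot⟩ := ihr r' hins okr
        refine ⟨⟨hl, ?_, okl, okr'⟩, fun y => ?_, ?_⟩
        · intro y hy
          rcases (hmem y).mp hy with rfl | hy
          · exact h2
          · exact hr y hy
        · simp only [KT.Mem, hmem y]
          tauto
        · intro hm
          rcases hm with rfl | hm | hm
          · exact lt_irrefl _ h2
          · have := hl x hm; omega
          · exact hnot hm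

theorem insAll_sound : ∀ (xs : List ℕ) (t : KT), KT.Ok t → insAll xs t = true →
    xs.Nodup ∧ ∀ x ∈ xs, ¬ KT.Mem x t := by
  intro xs
  induction xs with
  | nil => intro t _ _; exact ⟨List.nodup_nil, fun x hx => by simp at hx⟩
  | cons x xs ih =>
    intro t hok h
    rw [insAll] at h
    cases hins : KT.ins x t with
    | none => rw [hins] at h; simp at h
    | some t' =>
      rw [hins] at h
      simp only at h
      obtain ⟨okt', hmem, hnot⟩ := KT.ins_spec x t t' hins hok
      obtain ⟨hnd, hno⟩ := ih t' okt' h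
      refine ⟨List.nodup_cons.mpr ⟨?_, hnd⟩, ?_⟩
      · intro hx
        exact hno x hx ((hmem x).mpr (Or.inl rfl))
      · intro y hy hm
        rcases List.mem_cons.mp hy with rfl | hy
        · exact hnot hm
        · exact hno y hy ((hmem y).mpr (Or.inr hm))

theorem nodup_of_insAll (xs : List ℕ) (h : insAll xs KT.leaf = true) : xs.Nodup :=
  (insAll_sound xs KT.leaf trivial h).1

/-! ### the covering theorem -/

theorem chunks_flat (gens : List Gen) (s0 : List ℤ) :
    ∀ chunks : List (List ℕ × List ℕ), (∀ ch ∈ chunks, chunkOK gens s0 ch.1 ch.2 = true) →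
      (chunks.flatMap fun ch => chunkE gens s0 ch.1) = chunks.flatMap fun ch => ch.2 := by
  intro chunks
  induction chunks with
  | nil => intro _; rfl
  | cons ch chunks ih =>
    intro h
    rw [List.flatMap_cons, List.flatMap_cons,
      ih (fun c hc => h c (List.mem_cons_of_mem _ hc)),
      eqChk_sound _ _ (h ch List.mem_cons_self)]

/-- keys are distinct if those with each given last digit are -/
theorem nodup_of_residues (xs : List ℕ) (h : ∀ r < 16, insAll (resF r xs) KT.leaf = true) :
    xs.Nodup := by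
  rw [List.nodup_iff_count_le_one]
  intro a
  have hr : a % 16 < 16 := Nat.mod_lt _ (by norm_num)
  have hnd := nodup_of_insAll _ (h (a % 16) hr)
  rw [List.nodup_iff_count_le_one] at hnd
  have h1 := hnd a
  unfold resF at h1
  rw [List.count_filter (by simp)] at h1
  exact h1

theorem orbit_cover' (as : List (List ℤ)) (gens : List Gen) (hok : GensOK as gens)
    (s0 : List ℤ) (hs0 : InLP s0) (hn : dotL s0 s0 ≤ 49) (S : Set leechLattice)
    (hv0S : mkL s0 hs0 ∈ S)
    (hinv : ∀ g : Co0, (∀ a ∈ as, FixL g a) → ∀ x ∈ S, g • x ∈ S)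
    (chunks : List (List ℕ × List ℕ))
    (hchk : ∀ ch ∈ chunks, chunkOK gens s0 ch.1 ch.2 = true)
    (hXnd : (chunks.flatMap fun ch => ch.2).Nodup)
    (hcard : S.ncard = (chunks.flatMap fun ch => ch.2).length) (hfin : S.Finite) :
    ∀ x ∈ S, ∃ X ∈ (chunks.flatMap fun ch => ch.2), (x : GolayPt → ℤ) = toV (unpack X) ∧
      ∃ g : Co0, (∀ a ∈ as, FixL g a) ∧ g • mkL s0 hs0 = x := by
  classical
  have hflat := chunks_flat gens s0 chunks hchk
  set Xs := chunks.flatMap fun ch => ch.2 with hXs
  have hXgood : ∀ X ∈ Xs, Good as s0 X := by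
    intro X hX
    rw [← hflat, List.mem_flatMap] at hX
    obtain ⟨ch, _, hX⟩ := hX
    exact chunkE_spec hok s0 hs0 hn ch.1 X hX
  have hXspec : ∀ X ∈ Xs, (unpack X).length = 24 ∧ Reach as s0 (unpack X) ∧
      pack (unpack X) = X := by
    intro X hX
    obtain ⟨e', he', hpe, hr⟩ := hXgood X hX
    have : unpack X = e' := by rw [← hpe, unpack_pack e' he' (reach_bd hs0 hn e' he' hr)]
    rw [this]
    exact ⟨he', hr, hpe⟩
  have hXS : ∀ X ∈ Xs, ∃ g : Co0, (∀ a ∈ as, FixL g a) ∧
      ((g • mkL s0 hs0 : leechLattice) : GolayPt → ℤ) = toV (unpack X) := by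
    intro X hX
    obtain ⟨g, hg, hge⟩ := (hXspec X hX).2.1
    exact ⟨g, hg, hge (mkL s0 hs0) rfl⟩
  set F : ℕ → (GolayPt → ℤ) := fun X => toV (unpack X) with hF
  have hsub : (↑(Xs.toFinset.image F) : Set (GolayPt → ℤ)) ⊆ Subtype.val '' S := by
    intro y hy
    rw [Finset.mem_coe, Finset.mem_image] at hy
    obtain ⟨X, hX, rfl⟩ := hy
    rw [List.mem_toFinset] at hX
    obtain ⟨g, hg, hge⟩ := hXS X hX
    exact ⟨g • mkL s0 hs0, hinv g hg _ hv0S, hge⟩
  have hcardF : (Xs.toFinset.image F).card = Xs.length := by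
    rw [Finset.card_image_of_injOn, List.toFinset_card_of_nodup hXnd]
    intro X hX X' hX' hee
    rw [Finset.mem_coe, List.mem_toFinset] at hX hX'
    have h1 := toV_inj (hXspec X hX).1 (hXspec X' hX').1 hee
    rw [← (hXspec X hX).2.2, ← (hXspec X' hX').2.2, h1]
  have himg : (Subtype.val '' S).ncard = S.ncard :=
    Set.ncard_image_of_injective S Subtype.val_injective
  have heq : (↑(Xs.toFinset.image F) : Set (GolayPt → ℤ)) = Subtype.val '' S := by
    apply Set.eq_of_subset_of_ncard_le hsub _ (hfin.image _)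
    rw [himg, Set.ncard_coe_finset, hcardF, hcard]
  intro x hx
  have hxm : (x : GolayPt → ℤ) ∈ (↑(Xs.toFinset.image F) : Set (GolayPt → ℤ)) := by
    rw [heq]; exact ⟨x, hx, rfl⟩
  rw [Finset.mem_coe, Finset.mem_image] at hxm
  obtain ⟨X, hX, hex⟩ := hxm
  rw [List.mem_toFinset] at hX
  obtain ⟨g, hg, hge⟩ := hXS X hX
  exact ⟨X, hX, hex.symm, g, hg, Subtype.ext (by rw [hge]; exact hex)⟩

theorem orbit_trans' (as : List (List ℤ)) (gens : List Gen) (hok : GensOK as gens)
    (s0 : List ℤ) (hs0 : InLP s0) (hn : dotL s0 s0 ≤ 49) (S : Set leechLattice)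
    (hv0S : mkL s0 hs0 ∈ S)
    (hinv : ∀ g : Co0, (∀ a ∈ as, FixL g a) → ∀ x ∈ S, g • x ∈ S)
    (chunks : List (List ℕ × List ℕ))
    (hchk : ∀ ch ∈ chunks, chunkOK gens s0 ch.1 ch.2 = true)
    (hnd : (chunks.flatMap fun ch => ch.2).Nodup)
    (hcard : S.ncard = (chunks.flatMap fun ch => ch.2).length) (hfin : S.Finite) :
    ∀ x ∈ S, ∀ y ∈ S, ∃ g : Co0, (∀ a ∈ as, FixL g a) ∧ g • x = y := by
  intro x hx y hy
  obtain ⟨_, _, _, g, hg, hgx⟩ := orbit_cover' as gens hok s0 hs0 hn S hv0S hinv chunks hchk hnd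
    hcard hfin x hx
  obtain ⟨_, _, _, g', hg', hgy⟩ := orbit_cover' as gens hok s0 hs0 hn S hv0S hinv chunks hchk hnd
    hcard hfin y hy
  refine ⟨g' * g⁻¹, fun a ha => (hg' a ha).mul (hg a ha).inv, ?_⟩
  rw [mul_smul, ← hgx, inv_smul_smul, hgy]

theorem orbit_trans (as : List (List ℤ)) (gens : List Gen) (hok : GensOK as gens)
    (s0 : List ℤ) (hs0 : InLP s0) (hn : dotL s0 s0 ≤ 49) (S : Set leechLattice)
    (hv0S : mkL s0 hs0 ∈ S)
    (hinv : ∀ g : Co0, (∀ a ∈ as, FixL g a) → ∀ x ∈ S, g • x ∈ S)
    (chunks : List (List ℕ × List ℕ))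
    (hchk : ∀ ch ∈ chunks, chunkOK gens s0 ch.1 ch.2 = true)
    (hnd : insAll (chunks.flatMap fun ch => ch.2) KT.leaf = true)
    (hcard : S.ncard = (chunks.flatMap fun ch => ch.2).length) (hfin : S.Finite) :
    ∀ x ∈ S, ∀ y ∈ S, ∃ g : Co0, (∀ a ∈ as, FixL g a) ∧ g • x = y :=
  orbit_trans' as gens hok s0 hs0 hn S hv0S hinv chunks hchk (nodup_of_insAll _ hnd) hcard hfin

/-- every vector of the set is coded by one of the keys -/
theorem orbit_list (as : List (List ℤ)) (gens : List Gen) (hok : GensOK as gens)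
    (s0 : List ℤ) (hs0 : InLP s0) (hn : dotL s0 s0 ≤ 49) (S : Set leechLattice)
    (hv0S : mkL s0 hs0 ∈ S)
    (hinv : ∀ g : Co0, (∀ a ∈ as, FixL g a) → ∀ x ∈ S, g • x ∈ S)
    (chunks : List (List ℕ × List ℕ))
    (hchk : ∀ ch ∈ chunks, chunkOK gens s0 ch.1 ch.2 = true)
    (hnd : (chunks.flatMap fun ch => ch.2).Nodup)
    (hcard : S.ncard = (chunks.flatMap fun ch => ch.2).length) (hfin : S.Finite) :
    ∀ x ∈ S, ∃ X ∈ (chunks.flatMap fun ch => ch.2), (x : GolayPt → ℤ) = toV (unpack X) := by
  intro x hx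
  obtain ⟨X, hX, hxX, _⟩ := orbit_cover' as gens hok s0 hs0 hn S hv0S hinv chunks hchk hnd
    hcard hfin x hx
  exact ⟨X, hX, hxX⟩

theorem noFix_sound (A : List (List ℤ)) : ∀ Xs : List ℕ, noFix A Xs = true →
    ∀ X ∈ Xs, actL A (unpack X) ≠ unpack X := by
  intro Xs
  induction Xs with
  | nil => intro _ X hX; simp at hX
  | cons Y Ys ih =>
    intro h X hX
    rw [noFix] at h
    split_ifs at h with hY
    rcases List.mem_cons.mp hX with rfl | hX
    · exact hY
    · exact ih h X hX

/-! ### sets cut out by inner products -/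

/-- the lattice vectors with given sum of squares and inner products with three anchors -/
def statSet (N : ℤ) (a1 a2 a3 : List ℤ) (c : ℤ × ℤ × ℤ) : Set leechLattice :=
  {x | sqNorm (x : GolayPt → ℤ) = N ∧ (dotInt (toV a1) (x : GolayPt → ℤ) = c.1 ∧
    dotInt (toV a2) (x : GolayPt → ℤ) = c.2.1 ∧ dotInt (toV a3) (x : GolayPt → ℤ) = c.2.2)}

theorem co0_sqNorm' (g : Co0) (x : leechLattice) :
    sqNorm ((g • x : leechLattice) : GolayPt → ℤ) = sqNorm (x : GolayPt → ℤ) := g.2.2 x

theorem co0_dot' (g : Co0) (x y : leechLattice) :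
    dotInt ((g • x : leechLattice) : GolayPt → ℤ) ((g • y : leechLattice) : GolayPt → ℤ) =
      dotInt (x : GolayPt → ℤ) (y : GolayPt → ℤ) := co0_dot g x y

theorem dot_fix (g : Co0) (a : List ℤ) (ha : InLP a) (hg : FixL g a) (x : leechLattice) :
    dotInt (toV a) ((g • x : leechLattice) : GolayPt → ℤ) = dotInt (toV a) (x : GolayPt → ℤ) := by
  have h := co0_dot' g (mkL a ha) x
  rw [hg (mkL a ha) rfl] at h
  exact h

theorem statSet_inv (N : ℤ) (a1 a2 a3 : List ℤ) (c : ℤ × ℤ × ℤ) (h1 : InLP a1) (h2 : InLP a2)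
    (h3 : InLP a3) (g : Co0) (hg : ∀ a ∈ [a1, a2, a3], FixL g a) :
    ∀ x ∈ statSet N a1 a2 a3 c, g • x ∈ statSet N a1 a2 a3 c := by
  intro x hx
  obtain ⟨hn, hd1, hd2, hd3⟩ := hx
  refine ⟨by rw [co0_sqNorm']; exact hn, ?_, ?_, ?_⟩
  · rw [dot_fix g a1 h1 (hg a1 (by simp))]; exact hd1
  · rw [dot_fix g a2 h2 (hg a2 (by simp))]; exact hd2
  · rw [dot_fix g a3 h3 (hg a3 (by simp))]; exact hd3

theorem mem_statSet_mkL (N : ℤ) (a1 a2 a3 : List ℤ) (c : ℤ × ℤ × ℤ) (h1 : a1.length = 24)
    (h2 : a2.length = 24) (h3 : a3.length = 24) (l : List ℤ) (hl : InLP l)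
    (hN : dotL l l = N) (hc : stat3 a1 a2 a3 l = c) : mkL l hl ∈ statSet N a1 a2 a3 c := by
  have hl24 : l.length = 24 := hl.1
  obtain ⟨c1, c2, c3⟩ := c
  simp only [stat3, Prod.mk.injEq] at hc
  refine ⟨?_, ?_, ?_, ?_⟩
  · rw [mkL_coe, sqNorm_toV l hl24]; exact hN
  · rw [mkL_coe, dotInt_toV a1 l h1 hl24]; exact hc.1
  · rw [mkL_coe, dotInt_toV a2 l h2 hl24]; exact hc.2.1
  · rw [mkL_coe, dotInt_toV a3 l h3 hl24]; exact hc.2.2

/-- conjugating a stabilising element back -/
theorem transport1 {v v0 w w' : leechLattice} (h : Co0) (hv : h • v = v0) (g : Co0)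
    (hg : g • v0 = v0) (hgw : g • (h • w) = h • w') :
    (h⁻¹ * g * h) • v = v ∧ (h⁻¹ * g * h) • w = w' := by
  constructor
  · rw [mul_smul, mul_smul, hv, hg, ← hv, inv_smul_smul]
  · rw [mul_smul, mul_smul, hgw, inv_smul_smul]

end Cfsg.Agent.Helper4.CO
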