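import Cfsg.Agent.Lib.Helper4.CoOrbit
import Cfsg.Agent.Lib.Helper4.CoEnumCount

set_option autoImplicit false
set_option linter.style.haveILetI false
set_option linter.unusedVariables false
set_option linter.unusedSectionVars false

/-! Glue between the orbit certificates, the counts and statements about arbitrary vectors:
transport of the sets cut out by inner products along an automorphism. -/

namespace Cfsg.Agent.Helper4.CO

open Cfsg Cfsg.Agent.Lib.Helper4 Cfsg.Agent.Lib.Helper28 Cfsg.Agent.Helper4.LC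

theorem ncard_statSet (a1 a2 a3 : List ℤ) (h1 : a1.length = 24) (h2 : a2.length = 24)
    (h3 : a3.length = 24) (c : ℤ × ℤ × ℤ) :
    (statSet 32 a1 a2 a3 c).ncard = fast32 a1 a2 a3 c := by
  rw [← ncard_stat a1 a2 a3 h1 h2 h3 c]
  exact ncard_sub (fun x => sqNorm x = 32 ∧ (dotInt (toV a1) x = c.1 ∧
      dotInt (toV a2) x = c.2.1 ∧ dotInt (toV a3) x = c.2.2))

theorem toV_zeroL : toV zeroL = 0 := by
  funext p
  exact getD_zeroL _

theorem zeroL_in : InLP zeroL := by decide +kernel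

theorem dotInt_zero_left (x : GolayPt → ℤ) : dotInt (0 : GolayPt → ℤ) x = 0 := by
  unfold dotInt
  apply Finset.sum_eq_zero
  intro p _
  rw [Pi.zero_apply, zero_mul]

theorem co0_smul_zero (g : Co0) : g • (0 : leechLattice) = 0 := by
  have h := g.2.1 0 0
  rw [add_zero] at h
  have h' : (g • (0 : leechLattice)) = g • (0 : leechLattice) + g • (0 : leechLattice) := h
  exact (add_eq_left.mp h'.symm)

theorem co0_smul_zero_coe (g : Co0) :
    ((g • (0 : leechLattice) : leechLattice) : GolayPt → ℤ) = toV zeroL := by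
  rw [co0_smul_zero, toV_zeroL]; rfl

theorem co0_smul_add (g : Co0) (x y : leechLattice) : g • (x + y) = g • x + g • y := g.2.1 x y

theorem co0_smul_neg (g : Co0) (x : leechLattice) : g • (-x) = -(g • x) := by
  have h := co0_smul_add g x (-x)
  rw [add_neg_cancel, co0_smul_zero] at h
  exact (neg_eq_of_add_eq_zero_right h.symm).symm

theorem co0_smul_sub (g : Co0) (x y : leechLattice) : g • (x - y) = g • x - g • y := by
  rw [sub_eq_add_neg, co0_smul_add, co0_smul_neg, sub_eq_add_neg]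

/-- images of vectors with prescribed inner products -/
theorem smul_mem_statSet (h : Co0) (N : ℤ) (a1 a2 a3 : List ℤ) (c : ℤ × ℤ × ℤ)
    (v1 v2 v3 x : leechLattice)
    (h1 : ((h • v1 : leechLattice) : GolayPt → ℤ) = toV a1)
    (h2 : ((h • v2 : leechLattice) : GolayPt → ℤ) = toV a2)
    (h3 : ((h • v3 : leechLattice) : GolayPt → ℤ) = toV a3)
    (hx : sqNorm (x : GolayPt → ℤ) = N)
    (hd1 : dotInt (v1 : GolayPt → ℤ) (x : GolayPt → ℤ) = c.1)
    (hd2 : dotInt (v2 : GolayPt → ℤ) (x : GolayPt → ℤ) = c.2.1)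
    (hd3 : dotInt (v3 : GolayPt → ℤ) (x : GolayPt → ℤ) = c.2.2) :
    h • x ∈ statSet N a1 a2 a3 c := by
  refine ⟨by rw [co0_sqNorm']; exact hx, ?_, ?_, ?_⟩
  · rw [← h1, co0_dot']; exact hd1
  · rw [← h2, co0_dot']; exact hd2
  · rw [← h3, co0_dot']; exact hd3

/-- the number of vectors with prescribed inner products, transported -/
theorem ncard_transport (h : Co0) (N : ℤ) (a1 a2 a3 : List ℤ) (c : ℤ × ℤ × ℤ)
    (v1 v2 v3 : leechLattice)
    (h1 : ((h • v1 : leechLattice) : GolayPt → ℤ) = toV a1)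
    (h2 : ((h • v2 : leechLattice) : GolayPt → ℤ) = toV a2)
    (h3 : ((h • v3 : leechLattice) : GolayPt → ℤ) = toV a3) :
    {x : leechLattice | sqNorm (x : GolayPt → ℤ) = N ∧
      (dotInt (v1 : GolayPt → ℤ) (x : GolayPt → ℤ) = c.1 ∧
       dotInt (v2 : GolayPt → ℤ) (x : GolayPt → ℤ) = c.2.1 ∧
       dotInt (v3 : GolayPt → ℤ) (x : GolayPt → ℤ) = c.2.2)}.ncard = (statSet N a1 a2 a3 c).ncard := by
  rw [← Set.ncard_image_of_injective _ (MulAction.injective h)]
  congr 1
  ext y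
  constructor
  · rintro ⟨x, ⟨hx, hd1, hd2, hd3⟩, rfl⟩
    exact smul_mem_statSet h N a1 a2 a3 c v1 v2 v3 x h1 h2 h3 hx hd1 hd2 hd3
  · rintro ⟨hn, hd1, hd2, hd3⟩
    refine ⟨h⁻¹ • y, ⟨?_, ?_, ?_, ?_⟩, smul_inv_smul h y⟩
    · rw [co0_sqNorm']; exact hn
    · rw [← co0_dot' h, smul_inv_smul, h1]; exact hd1
    · rw [← co0_dot' h, smul_inv_smul, h2]; exact hd2
    · rw [← co0_dot' h, smul_inv_smul, h3]; exact hd3

end Cfsg.Agent.Helper4.CO
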