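import Cfsg.Agent.Lib.Helper4.CoEnum

set_option autoImplicit false
set_option linter.style.haveILetI false
set_option linter.unusedVariables false
set_option linter.unusedSectionVars false

/-! Orbit certificates, the definitions: a stack machine applying explicit automorphisms (signed
permutations, or products of good matrices, fixing some anchor vectors) to a start vector, vectors
being packed into numbers, and a search tree to check that the visited vectors are distinct. -/

namespace Cfsg.Agent.Helper4.CO

open Cfsg Cfsg.Agent.Lib.Helper4 Cfsg.Agent.Lib.Helper28 Cfsg.Agent.Helper4.LC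

/-- the matrix (twice the signed permutation matrix) with entry `2 s_j` at `(j, p_j)` -/
def monoMat (pinv : List ℕ) (sgn : List ℤ) : List (List ℤ) :=
  List.zipWith (fun p s => sgl p (2 * s)) pinv sgn

/-- the fast action of a signed permutation -/
def monoAct (pinv : List ℕ) (sgn : List ℤ) (x : List ℤ) : List ℤ :=
  List.zipWith (fun p s => s * x.getD p 0) pinv sgn

/-- the action of a product of matrices (each coding twice an automorphism) -/
def wordAct (As : List (List (List ℤ))) (x : List ℤ) : List ℤ := As.foldr actL x

/-! ### packed vectors -/

/-- the digit coding an entry -/
def enc (v : ℤ) : ℕ := (v + 8).toNat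

/-- the number with the given base-16 digits, little endian -/
def packD : List ℕ → ℕ
  | [] => 0
  | d :: ds => d + 16 * packD ds

/-- a list of small integers packed into a number -/
def pack (l : List ℤ) : ℕ := packD (l.map enc)

/-- the `p`-th base-16 digit -/
def dig (X p : ℕ) : ℕ := X / 16 ^ p % 16

/-- the list packed in a number -/
def unpack (X : ℕ) : List ℤ := (List.range 24).map fun p => (dig X p : ℤ) - 8

/-- entries between `-7` and `7` -/
def Bd (l : List ℤ) : Prop := ∀ v ∈ l, -7 ≤ v ∧ v ≤ 7

/-- the digit of `s * v` from the digit of `v`, for a sign `s` -/
def adj (s : ℤ) (d : ℕ) : ℕ := if s = 1 then d else 16 - d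

/-! ### generators -/

/-- a generator: a product of matrices, or a signed permutation (with a fast action) -/
inductive Gen : Type
  | word : List (List (List ℤ)) → Gen
  | mono : List ℕ → List ℤ → Gen

/-- the action of a generator on lists -/
def Gen.act : Gen → List ℤ → List ℤ
  | .word As, x => wordAct As x
  | .mono p s, x => monoAct p s x

/-- the action of a generator on packed lists -/
def Gen.actN : Gen → ℕ → ℕ
  | .word As, X => pack (wordAct As (unpack X))
  | .mono p s, X => packD (List.zipWith (fun a b => adj b (dig X a)) p s)

/-- the matrices of a generator are good -/
def Gen.Good : Gen → Prop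
  | .word As => ∀ A ∈ As, GoodMat A
  | .mono p s => GoodMat (monoMat p s)

instance (g : Gen) : Decidable g.Good := by
  cases g <;> unfold Gen.Good <;> infer_instance

/-- the data of a signed permutation are in range -/
def Gen.Wf : Gen → Prop
  | .word _ => True
  | .mono p s => (∀ a ∈ p, a < 24) ∧ ∀ b ∈ s, b = 1 ∨ b = -1

instance (g : Gen) : Decidable g.Wf := by
  cases g <;> unfold Gen.Wf <;> infer_instance

/-- the generators are automorphisms fixing the anchors -/
def GensOK (as : List (List ℤ)) (gens : List Gen) : Prop :=
  (∀ a ∈ as, a.length = 24) ∧
    ∀ g ∈ gens, g.Good ∧ g.Wf ∧ ∀ a ∈ as, g.act a = a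

/-! ### the machine -/

/-- apply the `i`-th generator -/
def stepN (gens : List Gen) (i : ℕ) (X : ℕ) : ℕ :=
  match gens[i]? with
  | some g => g.actN X
  | none => X

/-- the stack machine: instruction `0` pops, `1..7` apply a generator to the top of the stack,
push and record the result, `8..14` apply and push without recording, `15` records the top -/
def runN (gens : List Gen) : List ℕ → List ℕ → List ℕ → List ℕ
  | [], _, acc => acc
  | _ :: _, [], acc => acc
  | c :: cs, x :: st, acc =>
    if c = 0 then runN gens cs st acc
    else if c < 8 then
      runN gens cs (stepN gens (c - 1) x :: x :: st) (stepN gens (c - 1) x :: acc)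
    else if c < 15 then runN gens cs (stepN gens (c - 8) x :: x :: st) acc
    else if c = 15 then runN gens cs (x :: st) (x :: acc)
    else runN gens cs (x :: st) acc

/-- split a number into `w`-bit words, little endian -/
def splitN (w : ℕ) : ℕ → ℕ → List ℕ
  | 0, _ => []
  | f + 1, n => (n % 2 ^ w) :: splitN w f (n / 2 ^ w)

/-- base-16 digits, little endian -/
def decodeN : ℕ → ℕ → List ℕ
  | 0, _ => []
  | f + 1, n => (n % 16) :: decodeN f (n / 16)

/-- the instructions packed in a list of numbers, 24 per number -/
def decodeTape (tape : List ℕ) : List ℕ := tape.flatMap (decodeN 24)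

/-- equality test -/
def eqChk : List ℕ → List ℕ → Bool
  | [], [] => true
  | a :: as, b :: bs => if a = b then eqChk as bs else false
  | [], _ :: _ => false
  | _ :: _, [] => false

/-- the packed vectors recorded by a tape -/
def chunkE (gens : List Gen) (s0 : List ℤ) (tape : List ℕ) : List ℕ :=
  runN gens (decodeTape tape) [pack s0] []

/-- the check of a chunk: the recorded packed vectors are the given ones -/
def chunkOK (gens : List Gen) (s0 : List ℤ) (tape keys : List ℕ) : Bool :=
  eqChk (chunkE gens s0 tape) keys

/-! ### search trees -/

/-- binary search trees of numbers -/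
inductive KT : Type
  | leaf : KT
  | node : KT → ℕ → KT → KT

/-- insertion of a new number; `none` if it is present -/
def KT.ins (x : ℕ) : KT → Option KT
  | .leaf => some (.node .leaf x .leaf)
  | .node l k r =>
    if x < k then
      (match KT.ins x l with
        | some l' => some (.node l' k r)
        | none => none)
    else if k < x then
      (match KT.ins x r with
        | some r' => some (.node l k r')
        | none => none)
    else none

/-- insert all numbers of a list, failing on a repetition -/
def insAll : List ℕ → KT → Bool
  | [], _ => true
  | x :: xs, t =>
    match KT.ins x t with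
    | some t' => insAll xs t'
    | none => false

/-- the numbers of a list with a given last digit -/
def resF (r : ℕ) (xs : List ℕ) : List ℕ := xs.filter fun x => x % 16 = r

/-- the vectors coded by a list of numbers are not fixed by (half) a matrix -/
def noFix (A : List (List ℤ)) : List ℕ → Bool
  | [] => true
  | X :: Xs => if actL A (unpack X) = unpack X then false else noFix A Xs

end Cfsg.Agent.Helper4.CO
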