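import Cfsg.Agent.Lib.Helper4.CoSign
import Cfsg.Agent.Lib.Helper28.M24Five
import Cfsg.Agent.Lib.Helper28.OctadFlags
import Cfsg.Agent.Lib.Helper28.M24Stab

set_option autoImplicit false
set_option linter.style.haveILetI false
set_option linter.unusedVariables false
set_option linter.unusedSectionVars false

/-! The automorphism group of the rank-24 lattice is transitive on the vectors of sum of
squares 32. -/

namespace Cfsg.Agent.Helper4.CO

open Cfsg Cfsg.Agent.Lib.Helper4 Cfsg.Agent.Lib.Helper28 Cfsg.Agent.Helper4.LC Cfsg.Agent.S0398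
open scoped Pointwise

/-- lattice vector from a list passing the test -/
def mkL (l : List ℤ) (h : InLP l) : leechLattice := ⟨toV l, inLP_sound h⟩

theorem mkL_coe (l : List ℤ) (h : InLP l) : ((mkL l h : leechLattice) : GolayPt → ℤ) = toV l := rfl

theorem supports_card {d : Finset GolayPt}
    (hd : d ∈ supports (golayCode : Set (GolayPt → ZMod 2))) :
    d.card = 0 ∨ d.card = 8 ∨ d.card = 12 ∨ d.card = 16 ∨ d.card = 24 := by
  obtain ⟨c, hc, rfl⟩ := hd
  have := Cfsg.Agent.S0359.result c hc
  rwa [hammingNorm_eq_card_support₂] at this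

theorem M24_two_trans {a b c d : GolayPt} (hab : a ≠ b) (hcd : c ≠ d) :
    ∃ σ ∈ M24, σ a = c ∧ σ b = d := by
  haveI := M24_isMultiplyPretransitive
  have h2 : MulAction.IsMultiplyPretransitive M24 GolayPt 2 :=
    MulAction.isMultiplyPretransitive_of_le (n := 5) (by norm_num)
      (by rw [natCard_golayPt]; norm_num)
  obtain ⟨g, h1, h2⟩ := MulAction.is_two_pretransitive_iff.mp h2 hab hcd
  exact ⟨g.1, g.2, h1, h2⟩

/-! ### the three shapes -/

/-- shape `(±4, ±4, 0^22)` -/
def IsS1 (x : GolayPt → ℤ) : Prop :=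
  ∃ i j, i ≠ j ∧ (x i = 4 ∨ x i = -4) ∧ (x j = 4 ∨ x j = -4) ∧ ∀ k, k ≠ i → k ≠ j → x k = 0

/-- shape `(±2^8, 0^16)` on an octad -/
def IsS2 (x : GolayPt → ℤ) : Prop :=
  ∃ O ∈ octads, (∀ i ∈ O, x i = 2 ∨ x i = -2) ∧ ∀ i, i ∉ O → x i = 0

/-- shape `(∓3, ±1^23)` -/
def IsS3 (x : GolayPt → ℤ) : Prop :=
  ∃ k, (x k = 3 ∨ x k = -3) ∧ ∀ i, i ≠ k → x i = 1 ∨ x i = -1

def v0L : List ℤ := [4, 0, 0, 0, 0, 4, 0, 0, 0, 0, 0, 0, 0, 0, 0, 0, 0, 0, 0, 0, 0, 0, 0, 0]
def w0L : List ℤ := [2, 2, 2, 2, 0, 2, 0, 0, 0, 0, 0, 0, 0, 0, 2, 0, 0, 2, 0, 0, 0, 0, 0, 2]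
def xv0L : List ℤ := [-2, 2, 2, 2, 0, 2, 0, 0, 0, 0, 0, 0, 0, 0, -2, 0, 0, -2, 0, 0, 0, 0, 0, -2]
def y0L : List ℤ :=
  [-1, 1, 1, 1, 1, 1, -1, -1, 1, -1, -1, 1, -1, 1, -1, -1, -1, -1, -1, -1, -1, -1, -1, 3]
def xy0L : List ℤ := [2, 0, 0, 0, 2, 0, 0, 0, 2, 0, 0, 2, 0, 2, -2, 0, 0, -2, 0, 0, 0, 0, 0, 2]

set_option maxRecDepth 1000000 in
theorem v0L_in : InLP v0L := by decide +kernel
set_option maxRecDepth 1000000 in
theorem w0L_in : InLP w0L := by decide +kernel
set_option maxRecDepth 1000000 in
theorem xv0L_in : InLP xv0L := by decide +kernel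
set_option maxRecDepth 1000000 in
theorem y0L_in : InLP y0L := by decide +kernel
set_option maxRecDepth 1000000 in
theorem xy0L_in : InLP xy0L := by decide +kernel
set_option maxRecDepth 1000000 in
theorem oddGen_in : InLP oddGen := by decide +kernel

set_option maxRecDepth 1000000 in
theorem xi_v0 : actL xiMat v0L = xv0L := by decide +kernel
set_option maxRecDepth 1000000 in
theorem xi_y0 : actL xiMat y0L = xy0L := by decide +kernel

set_option maxRecDepth 1000000 in
theorem v0L_eq : toV v0L = E (some 0) + E (some 5) := by decide +kernel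

set_option maxRecDepth 1000000 in
theorem w0L_eq : toV w0L = twoVec (Cfsg.Agent.Lib.Helper28.bind baseOctad) := by decide +kernel

set_option maxRecDepth 1000000 in
theorem mask2_facts : IsCodeMask 8546577 ∧
    (Finset.univ.filter fun a : Fin 24 => (8546577 : ℕ).testBit a.val = true).card = 8 := by
  decide +kernel

set_option maxRecDepth 1000000 in
theorem xv0L_S2 : (∀ i ∈ baseOctad, toV xv0L i = 2 ∨ toV xv0L i = -2) ∧
    ∀ i, i ∉ baseOctad → toV xv0L i = 0 := by decide +kernel

set_option maxRecDepth 1000000 in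
theorem xy0L_S2 : (∀ i ∈ maskSet 8546577, toV xy0L i = 2 ∨ toV xy0L i = -2) ∧
    ∀ i, i ∉ maskSet 8546577 → toV xy0L i = 0 := by decide +kernel

set_option maxRecDepth 1000000 in
theorem y0L_S3 : (toV y0L none = 3 ∨ toV y0L none = -3) ∧
    ∀ i, i ≠ none → toV y0L i = 1 ∨ toV y0L i = -1 := by decide +kernel

/-! ### normal forms -/

theorem E_add_apply (i j k : GolayPt) :
    (E i + E j) k = (if k = i then 4 else 0) + (if k = j then 4 else 0) := by
  simp only [E, Pi.add_apply, Pi.single_apply]

theorem conj_S1 (x : leechLattice) (h : IsS1 x) : Conj x (mkL v0L v0L_in) := by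
  obtain ⟨i, j, hij, hi, hj, h0⟩ := h
  have hyΛ : E i + E j ∈ leechLattice := by
    obtain ⟨⟨h4, h8, _⟩, _⟩ := E_facts i j hij
    exact mem_of_four h4 h8
  have step1 : Conj x ⟨E i + E j, hyΛ⟩ := by
    apply conj_of_sign
    · intro k
      show (E i + E j) k = _ ∨ (E i + E j) k = _
      rw [E_add_apply]
      by_cases hk1 : k = i
      · subst hk1
        rw [if_pos rfl, if_neg hij]
        rcases hi with h | h <;> rw [h] <;> simp
      · by_cases hk2 : k = j
        · subst hk2
          rw [if_neg hk1, if_pos rfl]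
          rcases hj with h | h <;> rw [h] <;> simp
        · rw [if_neg hk1, if_neg hk2, h0 k hk1 hk2]; simp
    · intro d hd hne
      have hsub : d ⊆ {i, j} := by
        intro k hk
        by_contra hkn
        simp only [Finset.mem_insert, Finset.mem_singleton, not_or] at hkn
        exact hne k hk (h0 k hkn.1 hkn.2)
      have hcard : d.card ≤ 2 := (Finset.card_le_card hsub).trans Finset.card_le_two
      have hd0 : d = ∅ := by
        rcases supports_card hd with h | h | h | h | h
        · exact Finset.card_eq_zero.mp h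
        all_goals omega
      rw [hd0, Finset.inter_empty]; exact ⟨0, rfl⟩
  refine step1.trans ?_
  obtain ⟨σ, hσ, h1, h2⟩ := M24_two_trans (a := some 0) (b := some 5) (by decide) hij
  apply conj_perm σ hσ
  rw [mkL_coe, v0L_eq]
  funext k
  show (E (some 0) + E (some 5)) k = (E i + E j) (σ k)
  rw [E_add_apply, E_add_apply, ← h1, ← h2]
  simp only [σ.injective.eq_iff]

theorem octad_bind_mem {O : Finset GolayPt} (hO : O ∈ octads) :
    Cfsg.Agent.Lib.Helper28.bind O ∈ golayCode ∧ O.card = 8 := (mem_octads_iff O).mp hO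

theorem twoVec_bind_apply (O : Finset GolayPt) (i : GolayPt) :
    twoVec (Cfsg.Agent.Lib.Helper28.bind O) i = if i ∈ O then 2 else 0 := by
  unfold twoVec Cfsg.Agent.Lib.Helper28.bind
  by_cases h : i ∈ O
  · simp [h]
  · simp [h]

theorem conj_S2 (x : leechLattice) (h : IsS2 x) : Conj x (mkL w0L w0L_in) := by
  classical
  obtain ⟨O, hO, hon, hoff⟩ := h
  obtain ⟨hOc, hO8⟩ := octad_bind_mem hO
  have step1 : Conj x ⟨twoVec (Cfsg.Agent.Lib.Helper28.bind O), twoVec_mem hOc⟩ := by
    apply conj_of_sign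
    · intro k
      show twoVec _ k = _ ∨ twoVec _ k = _
      rw [twoVec_bind_apply]
      by_cases hk : k ∈ O
      · rw [if_pos hk]
        rcases hon k hk with h | h <;> rw [h] <;> simp
      · rw [if_neg hk, hoff k hk]; simp
    · intro d hd hne
      have hsub : d ⊆ O := by
        intro k hk
        by_contra hkn
        exact hne k hk (hoff k hkn)
      have hcard : d.card ≤ 8 := hO8 ▸ Finset.card_le_card hsub
      rcases supports_card hd with h | h | h | h | h
      · rw [Finset.card_eq_zero.mp h, Finset.inter_empty]; exact ⟨0, rfl⟩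
      · have hdO : d = O := Finset.eq_of_subset_of_card_le hsub (by omega)
        have hE : (Finset.univ.filter fun i =>
            twoVec (Cfsg.Agent.Lib.Helper28.bind O) i ≠ (x : GolayPt → ℤ) i) ∩ d =
            Finset.univ.filter fun i => (x : GolayPt → ℤ) i = -2 := by
          ext k
          simp only [Finset.mem_inter, Finset.mem_filter, Finset.mem_univ, true_and, hdO,
            twoVec_bind_apply]
          constructor
          · rintro ⟨hne', hk⟩
            rw [if_pos hk] at hne'
            rcases hon k hk with h | h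
            · exact absurd h.symm hne'
            · exact h
          · intro hk
            have hkO : k ∈ O := by
              by_contra hkn
              rw [hoff k hkn] at hk
              norm_num at hk
            exact ⟨by rw [if_pos hkO, hk]; norm_num, hkO⟩
        rw [hE]
        apply even_card_of_diff (twoVec_mem hOc) x.2
        intro k
        rw [twoVec_bind_apply]
        simp only [Finset.mem_filter, Finset.mem_univ, true_and]
        by_cases hk : k ∈ O
        · rw [if_pos hk]
          rcases hon k hk with h | h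
          · rw [h, if_neg (by norm_num)]; norm_num
          · rw [h, if_pos rfl]; norm_num
        · rw [if_neg hk, hoff k hk, if_neg (by norm_num)]; norm_num
      all_goals omega
  refine step1.trans ?_
  obtain ⟨g, hg, hgO⟩ := M24_octad_transitive hO baseOctad_mem
  apply conj_perm g⁻¹ (M24.inv_mem hg)
  rw [mkL_coe, w0L_eq]
  funext k
  show twoVec _ k = twoVec _ (g⁻¹ k)
  rw [twoVec_bind_apply, twoVec_bind_apply, ← hgO]
  have : k ∈ g • O ↔ g⁻¹ k ∈ O := by
    rw [← Finset.inv_smul_mem_iff]
    rfl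
  by_cases hk : g⁻¹ k ∈ O
  · rw [if_pos hk, if_pos (this.mpr hk)]
  · rw [if_neg hk, if_neg (fun h => hk (this.mp h))]

/-- the vector `(3 at k, -1 elsewhere)` -/
def rVec (k : GolayPt) : GolayPt → ℤ := fun i => if i = k then 3 else -1

theorem oddGen_eq_rVec : toV oddGen = rVec none := by
  rw [oddGen_eq]
  funext i
  unfold oddMin rVec
  by_cases hi : i = none
  · subst hi; simp
  · simp [hi]

theorem conj_S3 (x : leechLattice) (h : IsS3 x) : Conj x (mkL oddGen oddGen_in) := by
  obtain ⟨k, hk, hoff⟩ := h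
  have hx := x.2
  rw [mem_leech_iff] at hx
  have hc : wd (x : GolayPt → ℤ) 1 ∈ golayCode := by
    rcases hx with ⟨he, _, _⟩ | ⟨_, _, h⟩
    · exfalso
      have := he k
      rcases hk with h | h <;> rw [h] at this <;> norm_num at this
    · exact h
  have hsup := mem_supports_of_mem hc
  have hyΛ : signFun (support₂ (wd (x : GolayPt → ℤ) 1)) x ∈ leechLattice :=
    Cfsg.Agent.S0433.result _ hsup x x.2
  have hy : signFun (support₂ (wd (x : GolayPt → ℤ) 1)) x = rVec k := by
    funext i
    have hmem : i ∈ support₂ (wd (x : GolayPt → ℤ) 1) ↔ (x : GolayPt → ℤ) i % 4 = 1 := by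
      rw [mem_support₂_iff]
      unfold wd Int.ModEq
      by_cases h : (x : GolayPt → ℤ) i % 4 = 1
      · simp [h]
      · simp [h]
    unfold signFun rVec
    by_cases hik : i = k
    · subst hik
      rw [if_pos rfl]
      rcases hk with h | h
      · have hn : i ∉ support₂ (wd (x : GolayPt → ℤ) 1) := by rw [hmem, h]; norm_num
        rw [if_neg hn, h]
      · have hn : i ∈ support₂ (wd (x : GolayPt → ℤ) 1) := by rw [hmem, h]; norm_num
        rw [if_pos hn, h]; norm_num
    · rw [if_neg hik]
      rcases hoff i hik with h | h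
      · have hn : i ∈ support₂ (wd (x : GolayPt → ℤ) 1) := by rw [hmem, h]; norm_num
        rw [if_pos hn, h]
      · have hn : i ∉ support₂ (wd (x : GolayPt → ℤ) 1) := by rw [hmem, h]; norm_num
        rw [if_neg hn, h]
  have step1 : Conj x ⟨rVec k, hy ▸ hyΛ⟩ := conj_sign _ hsup x _ hy.symm
  refine step1.trans ?_
  obtain ⟨σ, hσ, h1⟩ := exists_M24_map k none
  apply conj_perm σ hσ
  rw [mkL_coe, oddGen_eq_rVec]
  funext i
  show rVec none i = rVec k (σ i)
  unfold rVec
  rw [← h1]
  simp only [σ.injective.eq_iff]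

/-! ### classification of the vectors of sum of squares 32 -/

theorem int_sq_eq_four {a : ℤ} (h : a ^ 2 = 4) : a = 2 ∨ a = -2 := by
  have : a ^ 2 = 2 ^ 2 := by rw [h]; norm_num
  exact sq_eq_sq_iff_eq_or_eq_neg.mp this

theorem int_sq_eq_nine {a : ℤ} (h : a ^ 2 = 9) : a = 3 ∨ a = -3 := by
  have : a ^ 2 = 3 ^ 2 := by rw [h]; norm_num
  exact sq_eq_sq_iff_eq_or_eq_neg.mp this

theorem int_sq_eq_one {a : ℤ} (h : a ^ 2 = 1) : a = 1 ∨ a = -1 := by
  have : a ^ 2 = 1 ^ 2 := by rw [h]; norm_num
  exact sq_eq_sq_iff_eq_or_eq_neg.mp this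

theorem int_sq_eq_sixteen {a : ℤ} (h : a ^ 2 = 16) : a = 4 ∨ a = -4 := by
  have : a ^ 2 = 4 ^ 2 := by rw [h]; norm_num
  exact sq_eq_sq_iff_eq_or_eq_neg.mp this

/-- a residue `2` modulo 4 has square at least 4, and more than that means at least 36 -/
theorem sq_of_res_two {a : ℤ} (h : a % 4 = 2) : a ^ 2 = 4 ∨ 36 ≤ a ^ 2 := by
  by_cases h1 : a = 2 ∨ a = -2
  · rcases h1 with h1 | h1 <;> rw [h1] <;> norm_num
  · right
    have : 6 ≤ a ∨ a ≤ -6 := by omega
    rcases this with h2 | h2 <;> nlinarith

theorem sq_of_res_zero {a : ℤ} (h : a % 4 = 0) : a = 0 ∨ a ^ 2 = 16 ∨ 64 ≤ a ^ 2 := by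
  by_cases h0 : a = 0
  · left; exact h0
  · right
    by_cases h1 : a = 4 ∨ a = -4
    · left; rcases h1 with h1 | h1 <;> rw [h1] <;> norm_num
    · right
      have : 8 ≤ a ∨ a ≤ -8 := by omega
      rcases this with h2 | h2 <;> nlinarith

theorem sq_of_odd {a : ℤ} (h : a % 2 = 1) : a ^ 2 = 1 ∨ a ^ 2 = 9 ∨ a ^ 2 = 25 ∨ 49 ≤ a ^ 2 := by
  by_cases h1 : a = 1 ∨ a = -1
  · left; rcases h1 with h1 | h1 <;> rw [h1] <;> norm_num
  · right
    by_cases h3 : a = 3 ∨ a = -3
    · left; rcases h3 with h3 | h3 <;> rw [h3] <;> norm_num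
    · right
      by_cases h5 : a = 5 ∨ a = -5
      · left; rcases h5 with h5 | h5 <;> rw [h5] <;> norm_num
      · right
        have : 7 ≤ a ∨ a ≤ -7 := by omega
        rcases this with h2 | h2 <;> nlinarith

/-- if nonnegative integers sum to zero they all vanish -/
theorem all_zero_of_sum_zero {f : GolayPt → ℤ} (h0 : ∀ i, 0 ≤ f i) (hs : ∑ i, f i = 0) :
    ∀ i, f i = 0 := by
  intro i
  exact (Finset.sum_eq_zero_iff_of_nonneg (fun j _ => h0 j)).mp hs i (Finset.mem_univ i)

theorem shape32 (x : GolayPt → ℤ) (hx : x ∈ leechLattice) (hn : sqNorm x = 32) :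
    IsS1 x ∨ IsS2 x ∨ IsS3 x := by
  classical
  have hx' := hx
  rw [mem_leech_iff] at hx'
  unfold sqNorm at hn
  rcases hx' with ⟨hev, hs8, hc⟩ | ⟨hodd, hs8, hc⟩
  · -- even type
    have hr : ∀ i, x i % 4 = if wd x 2 i = 1 then 2 else 0 :=
      res_of_wd_eq (by norm_num) rfl (fun i => by have := hev i; omega)
    have hw := Cfsg.Agent.S0359.result _ hc
    rw [hammingNorm_eq_card_support₂] at hw
    -- the sum of squares dominates four times the weight
    have hlow : ∀ i, (if wd x 2 i = 1 then (4 : ℤ) else 0) ≤ x i ^ 2 := by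
      intro i
      have := hr i
      split_ifs at this ⊢ with h1
      · rcases sq_of_res_two this with h | h <;> omega
      · positivity
    have hsum : ∑ i, (if wd x 2 i = 1 then (4 : ℤ) else 0) =
        4 * ((support₂ (wd x 2)).card : ℤ) + 0 * (24 - ((support₂ (wd x 2)).card : ℤ)) :=
      sum_ite_c (wd x 2) 4 0
    have hle := Finset.sum_le_sum (fun i (_ : i ∈ Finset.univ) => hlow i)
    rw [hsum, hn] at hle
    have hdiff : ∑ i, (x i ^ 2 - if wd x 2 i = 1 then (4 : ℤ) else 0) =
        32 - 4 * ((support₂ (wd x 2)).card : ℤ) := by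
      rw [Finset.sum_sub_distrib, hn, hsum]; ring
    rcases hw with h | h | h | h | h
    · -- weight 0: all coordinates divisible by 4
      left
      have hc0 : ∀ i, wd x 2 i ≠ 1 := by
        intro i hi
        have : i ∈ support₂ (wd x 2) := by rw [mem_support₂_iff, hi]; decide
        rw [Finset.card_eq_zero.mp h] at this
        exact absurd this (Finset.notMem_empty i)
      have h4 : ∀ i, x i % 4 = 0 := fun i => by rw [hr i, if_neg (hc0 i)]
      -- the nonzero coordinates
      have hnz : ∀ i, x i ≠ 0 → x i ^ 2 = 16 := by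
        intro i hi
        rcases sq_of_res_zero (h4 i) with h | h | h
        · exact absurd h hi
        · exact h
        · exfalso
          have hle2 : x i ^ 2 ≤ ∑ j, x j ^ 2 :=
            Finset.single_le_sum (f := fun j => x j ^ 2) (fun j _ => sq_nonneg (x j))
              (Finset.mem_univ i)
          omega
      have hsq : ∀ i, x i ^ 2 = if x i ≠ 0 then 16 else 0 := by
        intro i
        by_cases hi : x i = 0
        · rw [if_neg (not_not.mpr hi), hi]; norm_num
        · rw [if_pos hi]; exact hnz i hi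
      have hcard : (Finset.univ.filter fun i => x i ≠ 0).card = 2 := by
        have e : ∑ i, x i ^ 2 = 16 * ((Finset.univ.filter fun i => x i ≠ 0).card : ℤ) := by
          rw [Finset.sum_congr rfl (fun i _ => hsq i), Finset.sum_ite, Finset.sum_const,
            Finset.sum_const_zero, add_zero, nsmul_eq_mul, mul_comm]
        rw [hn] at e
        have : ((Finset.univ.filter fun i => x i ≠ 0).card : ℤ) = 2 := by omega
        exact_mod_cast this
      obtain ⟨i, j, hij, hS⟩ := Finset.card_eq_two.mp hcard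
      have hi : x i ≠ 0 := by
        have : i ∈ Finset.univ.filter fun i => x i ≠ 0 := by rw [hS]; simp
        simpa using this
      have hj : x j ≠ 0 := by
        have : j ∈ Finset.univ.filter fun i => x i ≠ 0 := by rw [hS]; simp
        simpa using this
      refine ⟨i, j, hij, int_sq_eq_sixteen (hnz i hi), int_sq_eq_sixteen (hnz j hj), ?_⟩
      intro k hk1 hk2
      by_contra hk
      have : k ∈ Finset.univ.filter fun i => x i ≠ 0 := by simpa using hk
      rw [hS] at this
      simp only [Finset.mem_insert, Finset.mem_singleton] at this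
      rcases this with h | h
      · exact hk1 h
      · exact hk2 h
    · -- weight 8: an octad
      right; left
      have hz : ∀ i, x i ^ 2 - (if wd x 2 i = 1 then (4 : ℤ) else 0) = 0 := by
        apply all_zero_of_sum_zero
        · intro i; have := hlow i; omega
        · rw [hdiff, h]; norm_num
      refine ⟨support₂ (wd x 2), ?_, ?_, ?_⟩
      · exact ⟨mem_supports_of_mem hc, h⟩
      · intro i hi
        rw [mem_support₂_iff, Cfsg.Agent.Lib.Helper4.zmod2_ne_zero_iff] at hi
        have := hz i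
        rw [if_pos hi] at this
        exact int_sq_eq_four (by omega)
      · intro i hi
        rw [mem_support₂_iff, Cfsg.Agent.Lib.Helper4.zmod2_ne_zero_iff] at hi
        have := hz i
        rw [if_neg hi] at this
        have : x i ^ 2 = 0 := by omega
        exact pow_eq_zero_iff (by norm_num) |>.mp this
    all_goals (exfalso; rw [h] at hle; norm_num at hle)
  · -- odd type
    right; right
    have hlow : ∀ i, 1 ≤ x i ^ 2 := by
      intro i
      rcases sq_of_odd (hodd i) with h | h | h | h <;> omega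
    have hdiff : ∑ i, (x i ^ 2 - 1) = 8 := by
      rw [Finset.sum_sub_distrib, hn]
      simp [LC.card_golayPt]
    -- some coordinate has square bigger than 1
    have hex : ∃ k, x k ^ 2 ≠ 1 := by
      by_contra hall
      push Not at hall
      have : ∑ i, (x i ^ 2 - 1) = 0 := Finset.sum_eq_zero fun i _ => by rw [hall i]; norm_num
      omega
    obtain ⟨k, hk⟩ := hex
    have hk9 : x k ^ 2 = 9 := by
      have h1 : x k ^ 2 - 1 ≤ ∑ i, (x i ^ 2 - 1) :=
        Finset.single_le_sum (f := fun i => x i ^ 2 - 1)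
          (fun j _ => by have := hlow j; omega) (Finset.mem_univ k)
      rw [hdiff] at h1
      rcases sq_of_odd (hodd k) with h | h | h | h <;> omega
    refine ⟨k, int_sq_eq_nine hk9, ?_⟩
    intro i hik
    have h2 : (x k ^ 2 - 1) + (x i ^ 2 - 1) ≤ ∑ j, (x j ^ 2 - 1) := by
      have := Finset.add_sum_erase Finset.univ (fun j => x j ^ 2 - 1) (Finset.mem_univ k)
      rw [← this]
      have h3 : x i ^ 2 - 1 ≤ ∑ j ∈ Finset.univ.erase k, (x j ^ 2 - 1) :=
        Finset.single_le_sum (f := fun j => x j ^ 2 - 1)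
          (fun j _ => by have := hlow j; omega)
          (Finset.mem_erase.mpr ⟨hik, Finset.mem_univ i⟩)
      omega
    rw [hdiff, hk9] at h2
    rcases sq_of_odd (hodd i) with h | h | h | h
    · exact int_sq_eq_one h
    all_goals omega

/-! ### transitivity -/

theorem conj_v0_w0 : Conj (mkL v0L v0L_in) (mkL w0L w0L_in) := by
  have h1 : Conj (mkL v0L v0L_in) (mkL xv0L xv0L_in) :=
    conj_matL xiMat xiMat_good v0L (by decide) _ _ rfl (by rw [mkL_coe, xi_v0])
  exact h1.trans (conj_S2 _ ⟨baseOctad, baseOctad_mem, xv0L_S2.1, xv0L_S2.2⟩)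

theorem conj_r0_w0 : Conj (mkL oddGen oddGen_in) (mkL w0L w0L_in) := by
  have h0 : Conj (mkL y0L y0L_in) (mkL oddGen oddGen_in) :=
    conj_S3 _ ⟨none, y0L_S3.1, y0L_S3.2⟩
  have h1 : Conj (mkL y0L y0L_in) (mkL xy0L xy0L_in) :=
    conj_matL xiMat xiMat_good y0L (by decide) _ _ rfl (by rw [mkL_coe, xi_y0])
  have h2 : Conj (mkL xy0L xy0L_in) (mkL w0L w0L_in) :=
    conj_S2 _ ⟨maskSet 8546577, maskSet_mem_octads _ mask2_facts.1 mask2_facts.2,
      xy0L_S2.1, xy0L_S2.2⟩
  exact h0.symm.trans (h1.trans h2)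

/-- every vector of sum of squares 32 is conjugate to the base vector -/
theorem conj_base32 (x : leechLattice) (hn : sqNorm (x : GolayPt → ℤ) = 32) :
    Conj x (mkL v0L v0L_in) := by
  rcases shape32 x x.2 hn with h | h | h
  · exact conj_S1 x h
  · exact (conj_S2 x h).trans conj_v0_w0.symm
  · exact (conj_S3 x h).trans (conj_r0_w0.trans conj_v0_w0.symm)

end Cfsg.Agent.Helper4.CO
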