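import Mathlib
import Cfsg.Agent.Lib.Helper10.PStableNormal
import Cfsg.Agent.Lib.Helper10.PComponent
import Cfsg.Agent.Lib.Helper10.PLength
import Cfsg.Agent.Lib.Helper1.Frattini
import Cfsg.Agent.Lib.Helper1.Fitting

set_option autoImplicit false
set_option linter.style.haveILetI false
set_option linter.deprecated false
set_option linter.unusedSectionVars false
set_option linter.unusedVariables false

/-! Solvable groups of odd order whose Sylow `p`-subgroups have cyclic derived subgroup have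
`p`-length one. -/

namespace Cfsg.Agent.Helper4.CycDer

open scoped commutatorElement

variable {G : Type*} [Group G]

/-- `Φ(O_p(G))` as a subgroup of `G` -/
def frattCore (p : ℕ) (G : Type*) [Group G] : Subgroup G :=
  (frattini ↥(Cfsg.pCore p G)).map (Cfsg.pCore p G).subtype

theorem frattCore_normal (p : ℕ) : (frattCore p G).Normal := by
  haveI hPn : (Cfsg.pCore p G).Normal := inferInstance
  have h1 := Cfsg.Agent.Lib.Helper1.normalizer_le_normalizer_map_of_characteristic
    (Cfsg.pCore p G) (frattini ↥(Cfsg.pCore p G))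
  rw [Subgroup.normalizer_eq_top] at h1
  exact Subgroup.normalizer_eq_top_iff.1 (top_le_iff.1 h1)

/-- an element acting quadratically on `O_p(G)/Φ(O_p(G))` lies in `O_p(G)` -/
theorem mem_pCore_of_quadratic_mod_frattini [Finite G] [Group.IsSolvable G]
    (hodd : Odd (Nat.card G)) {p : ℕ} [hp : Fact p.Prime] (hp2 : p ≠ 2)
    (hK : Cfsg.pPrimeCore p G = ⊥) (x : G)
    (hx : ∀ z ∈ Cfsg.pCore p G, ⁅⁅z, x⁆, x⁆ ∈ frattCore p G) : x ∈ Cfsg.pCore p G := by
  have hPn : (Cfsg.pCore p G).Normal := inferInstance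
  have hPp : IsPGroup p (Cfsg.pCore p G) := Cfsg.Agent.Lib.Helper1.pCore_isPGroup p
  haveI hNn : (frattCore p G).Normal := frattCore_normal p
  have hπs : Function.Surjective (QuotientGroup.mk' (frattCore p G)) :=
    QuotientGroup.mk'_surjective _
  have hker : ∀ g : G, QuotientGroup.mk' (frattCore p G) g = 1 ↔ g ∈ frattCore p G :=
    fun g => QuotientGroup.eq_one_iff g
  obtain ⟨V, hV⟩ : ∃ V : Subgroup (G ⧸ frattCore p G),
      V = (Cfsg.pCore p G).map (QuotientGroup.mk' (frattCore p G)) := ⟨_, rfl⟩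
  haveI hVn : V.Normal := by rw [hV]; exact hPn.map _ hπs
  have hVp : IsPGroup p V := by rw [hV]; exact hPp.map _
  have hoddY : Odd (Nat.card (G ⧸ frattCore p G)) :=
    Odd.of_dvd_nat hodd (Subgroup.card_quotient_dvd_card _)
  have hquad : ∀ v ∈ V, ⁅⁅v, QuotientGroup.mk' (frattCore p G) x⁆,
      QuotientGroup.mk' (frattCore p G) x⁆ = 1 := by
    intro v hv
    rw [hV] at hv
    obtain ⟨z, hz, rfl⟩ := hv
    rw [← map_commutatorElement, ← map_commutatorElement]
    exact (hker _).2 (hx z hz)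
  have key := Cfsg.Agent.Lib.Helper10.quadratic_image_mem_pCore_of_normal hoddY hp2 V hVp
    (QuotientGroup.mk' (frattCore p G) x) hquad
  obtain ⟨ρ, hρ⟩ : ∃ ρ : G →* (G ⧸ frattCore p G) ⧸ Subgroup.centralizer (V : Set (G ⧸ frattCore p G)),
      ρ = (QuotientGroup.mk' (Subgroup.centralizer (V : Set (G ⧸ frattCore p G)))).comp
        (QuotientGroup.mk' (frattCore p G)) := ⟨_, rfl⟩
  have hρa : ∀ g : G, ρ g = QuotientGroup.mk' (Subgroup.centralizer (V : Set (G ⧸ frattCore p G)))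
      (QuotientGroup.mk' (frattCore p G) g) := fun g => by rw [hρ]; rfl
  have hRp : IsPGroup p (Cfsg.pCore p
      ((G ⧸ frattCore p G) ⧸ Subgroup.centralizer (V : Set (G ⧸ frattCore p G)))) :=
    Cfsg.Agent.Lib.Helper1.pCore_isPGroup p
  have hTn : ((Cfsg.pCore p
      ((G ⧸ frattCore p G) ⧸ Subgroup.centralizer (V : Set (G ⧸ frattCore p G)))).comap ρ).Normal :=
    Subgroup.Normal.comap inferInstance ρ
  have hxT : x ∈ (Cfsg.pCore p
      ((G ⧸ frattCore p G) ⧸ Subgroup.centralizer (V : Set (G ⧸ frattCore p G)))).comap ρ := by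
    rw [Subgroup.mem_comap, hρa]; exact key
  have hTp : IsPGroup p ((Cfsg.pCore p
      ((G ⧸ frattCore p G) ⧸ Subgroup.centralizer (V : Set (G ⧸ frattCore p G)))).comap ρ) := by
    have hcard : ∀ {d : ℕ}, d.Prime → d ∣ Nat.card ((Cfsg.pCore p
        ((G ⧸ frattCore p G) ⧸ Subgroup.centralizer (V : Set (G ⧸ frattCore p G)))).comap ρ) →
        d = p := by
      intro d hd hdvd
      by_contra hne
      haveI : Fact d.Prime := ⟨hd⟩
      obtain ⟨t, ht⟩ := exists_prime_orderOf_dvd_card' d hdvd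
      have ht' : orderOf (t : G) = d := by rw [Subgroup.orderOf_coe]; exact ht
      have hcop : Nat.Coprime d p := (Nat.coprime_primes hd hp.out).2 hne
      have htT : ρ (t : G) ∈ Cfsg.pCore p
          ((G ⧸ frattCore p G) ⧸ Subgroup.centralizer (V : Set (G ⧸ frattCore p G))) := t.2
      have hq1 : ρ (t : G) = 1 := by
        obtain ⟨k, hk⟩ := hRp ⟨ρ (t : G), htT⟩
        have hk' : (ρ (t : G)) ^ p ^ k = 1 := by
          have := congrArg Subtype.val hk
          simpa using this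
        have h1 : orderOf (ρ (t : G)) ∣ p ^ k := orderOf_dvd_of_pow_eq_one hk'
        have h2 : orderOf (ρ (t : G)) ∣ d := by
          rw [← ht']; exact orderOf_map_dvd ρ (t : G)
        have h3 : orderOf (ρ (t : G)) ∣ Nat.gcd d (p ^ k) := Nat.dvd_gcd h2 h1
        rw [(Nat.Coprime.pow_right k hcop).gcd_eq_one] at h3
        exact orderOf_eq_one_iff.1 (Nat.dvd_one.1 h3)
      have hcent : QuotientGroup.mk' (frattCore p G) (t : G) ∈
          Subgroup.centralizer (V : Set (G ⧸ frattCore p G)) := by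
        rw [hρa] at hq1
        exact (QuotientGroup.eq_one_iff _).1 hq1
      have hA : Subgroup.zpowers (t : G) ≤ Subgroup.centralizer (Cfsg.pCore p G : Set G) := by
        apply Cfsg.Agent.Lib.Helper1.le_centralizer_of_commutator_le_frattini
          (Subgroup.zpowers (t : G)) (Cfsg.pCore p G)
        · rw [Subgroup.normalizer_eq_top]; exact le_top
        · rw [Nat.card_zpowers, ht']
          obtain ⟨n, hn⟩ := (hPp.to_subgroup (frattini ↥(Cfsg.pCore p G))).exists_card_eq
          rw [hn]; exact Nat.Coprime.pow_right n hcop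
        · intro a ha k hk
          have ha' : QuotientGroup.mk' (frattCore p G) a ∈
              Subgroup.centralizer (V : Set (G ⧸ frattCore p G)) := by
            obtain ⟨i, rfl⟩ := Subgroup.mem_zpowers_iff.1 ha
            rw [map_zpow]; exact Subgroup.zpow_mem _ hcent i
          have hk' : QuotientGroup.mk' (frattCore p G) k ∈ V := by
            rw [hV]; exact Subgroup.mem_map_of_mem _ hk
          have hcomm := (Subgroup.mem_centralizer_iff.1 ha') _ hk'
          have h5 : QuotientGroup.mk' (frattCore p G) (a * k * a⁻¹ * k⁻¹) = 1 := by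
            rw [map_mul, map_mul, map_mul, map_inv, map_inv, ← hcomm]; group
          exact (hker _).1 h5
      have htP : (t : G) ∈ Cfsg.pCore p G :=
        Cfsg.Agent.Lib.Helper1.centralizer_pCore_le p hK (hA (Subgroup.mem_zpowers _))
      obtain ⟨k, hk⟩ := hPp ⟨(t : G), htP⟩
      have hk' : (t : G) ^ p ^ k = 1 := by
        have := congrArg Subtype.val hk
        simpa using this
      have h4 : d ∣ p ^ k := by rw [← ht']; exact orderOf_dvd_of_pow_eq_one hk'
      exact hne ((Nat.prime_dvd_prime_iff_eq hd hp.out).1 (hd.dvd_of_dvd_pow h4))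
    have hT1 := Nat.eq_prime_pow_of_unique_prime_dvd (Nat.card_pos).ne' hcard
    exact IsPGroup.of_card hT1
  exact Cfsg.Agent.Lib.Helper1.le_pCore hTn hTp hxT

/-- a Sylow `p`-subgroup with cyclic derived subgroup lies in `O_p(G)` when `O_{p'}(G) = 1` -/
theorem sylow_le_pCore_of_cyclic_commutator [Finite G] [Group.IsSolvable G]
    (hodd : Odd (Nat.card G)) {p : ℕ} [hp : Fact p.Prime] (hp2 : p ≠ 2)
    (hK : Cfsg.pPrimeCore p G = ⊥) (T : Sylow p G) (c : G) (hcT : c ∈ (T : Subgroup G))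
    (hcomm : ∀ a ∈ (T : Subgroup G), ∀ b ∈ (T : Subgroup G), ⁅a, b⁆ ∈ Subgroup.zpowers c) :
    (T : Subgroup G) ≤ Cfsg.pCore p G := by
  intro x hx
  apply mem_pCore_of_quadratic_mod_frattini hodd hp2 hK
  intro z hz
  have hPn : (Cfsg.pCore p G).Normal := inferInstance
  have hPp : IsPGroup p (Cfsg.pCore p G) := Cfsg.Agent.Lib.Helper1.pCore_isPGroup p
  have hPT : Cfsg.pCore p G ≤ T := Cfsg.Agent.Lib.Helper1.pCore_le_sylow T
  obtain ⟨d, hd⟩ : ∃ d, d = ⁅z, x⁆ := ⟨_, rfl⟩
  rw [← hd]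
  have hdc : d ∈ Subgroup.zpowers c := hd ▸ hcomm z (hPT hz) x hx
  have hdP : d ∈ Cfsg.pCore p G := by
    rw [hd, commutatorElement_def]
    have h1 : x * z⁻¹ * x⁻¹ ∈ Cfsg.pCore p G := hPn.conj_mem z⁻¹ (inv_mem hz) x
    have h2 : z * x * z⁻¹ * x⁻¹ = z * (x * z⁻¹ * x⁻¹) := by group
    rw [h2]; exact mul_mem hz h1
  obtain ⟨r, hr⟩ : ∃ r : ℤ, c ^ r = x * c * x⁻¹ := by
    have h1 : ⁅x, c⁆ ∈ Subgroup.zpowers c := hcomm x hx c hcT
    have h2 : x * c * x⁻¹ = ⁅x, c⁆ * c := by rw [commutatorElement_def]; group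
    have h3 : x * c * x⁻¹ ∈ Subgroup.zpowers c := by
      rw [h2]; exact mul_mem h1 (Subgroup.mem_zpowers c)
    exact Subgroup.mem_zpowers_iff.1 h3
  obtain ⟨j, hj⟩ := Subgroup.mem_zpowers_iff.1 hdc
  have hxd : x * d * x⁻¹ = d ^ r := by
    rw [← hj]
    calc x * c ^ j * x⁻¹ = (x * c * x⁻¹) ^ j := (conj_zpow).symm
      _ = (c ^ r) ^ j := by rw [hr]
      _ = (c ^ j) ^ r := by rw [← zpow_mul, ← zpow_mul, mul_comm]
  have hdx : ⁅d, x⁆ = d ^ (1 - r) := by
    rw [commutatorElement_def]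
    have h1 : d * x * d⁻¹ * x⁻¹ = d * (x * d * x⁻¹)⁻¹ := by group
    rw [h1, hxd, zpow_sub, zpow_one]
  by_cases hc1 : c = 1
  · have hd1 : d = 1 := by rw [← hj, hc1, one_zpow]
    have h1 : ⁅(1 : G), x⁆ = 1 := by rw [commutatorElement_def]; group
    rw [hd1, h1]; exact one_mem _
  · have hpc : (p : ℤ) ∣ (orderOf c : ℤ) := by
      obtain ⟨m, hm⟩ := (IsPGroup.iff_orderOf.1 T.2) ⟨c, hcT⟩
      rw [Subgroup.orderOf_mk] at hm
      have hm0 : m ≠ 0 := by
        rintro rfl
        rw [pow_zero, orderOf_eq_one_iff] at hm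
        exact hc1 hm
      rw [hm]
      exact_mod_cast dvd_pow_self p hm0
    have hiter : ∀ n : ℕ, x ^ n * c * (x ^ n)⁻¹ = c ^ (r ^ n) := by
      intro n
      induction n with
      | zero => simp
      | succ n ih =>
        calc x ^ (n + 1) * c * (x ^ (n + 1))⁻¹ = x * (x ^ n * c * (x ^ n)⁻¹) * x⁻¹ := by
              rw [pow_succ', mul_inv_rev]; simp only [mul_assoc]
          _ = x * c ^ (r ^ n) * x⁻¹ := by rw [ih]
          _ = (x * c * x⁻¹) ^ (r ^ n) := (conj_zpow).symm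
          _ = (c ^ r) ^ (r ^ n) := by rw [hr]
          _ = c ^ (r ^ (n + 1)) := by rw [← zpow_mul, pow_succ']
    obtain ⟨k, hk⟩ := (IsPGroup.iff_orderOf.1 T.2) ⟨x, hx⟩
    rw [Subgroup.orderOf_mk] at hk
    have hxk : x ^ p ^ k = 1 := by rw [← hk]; exact pow_orderOf_eq_one x
    have h5 : c ^ (r ^ (p ^ k) - 1) = 1 := by
      have h6 := hiter (p ^ k)
      rw [hxk, one_mul, inv_one, mul_one] at h6
      rw [zpow_sub, zpow_one, ← h6]; exact mul_inv_cancel c
    have h6 : (p : ℤ) ∣ r ^ (p ^ k) - 1 := hpc.trans (orderOf_dvd_iff_zpow_eq_one.2 h5)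
    have h7 : (p : ℤ) ∣ r - 1 := by
      have h8 : ((r ^ (p ^ k) - 1 : ℤ) : ZMod p) = 0 :=
        (ZMod.intCast_zmod_eq_zero_iff_dvd _ p).2 h6
      rw [← ZMod.intCast_zmod_eq_zero_iff_dvd]
      push_cast at h8 ⊢
      rw [ZMod.pow_card_pow] at h8
      exact h8
    obtain ⟨t, ht⟩ := h7
    have hexp : d ^ (1 - r) = (d ^ (-t)) ^ p := by
      rw [← zpow_natCast, ← zpow_mul]
      congr 1
      linear_combination (-1 : ℤ) * ht
    rw [hdx, hexp]
    have he : d ^ (-t) ∈ Cfsg.pCore p G := Subgroup.zpow_mem _ hdP _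
    have h9 := Cfsg.Agent.Lib.Helper1.IsPGroup.pow_mem_frattini hPp ⟨d ^ (-t), he⟩
    show (d ^ (-t)) ^ p ∈ (frattini ↥(Cfsg.pCore p G)).map (Cfsg.pCore p G).subtype
    exact Subgroup.mem_map.2 ⟨_, h9, rfl⟩

/-- the theorem: `O_{p'}(X) S` is normal -/
theorem main {X : Type*} [Group X] [Finite X] [Group.IsSolvable X]
    (hX : Odd (Nat.card X)) (p : ℕ) [hp : Fact p.Prime] (S : Sylow p X)
    (hS : IsCyclic (commutator (S : Subgroup X))) :
    (Cfsg.pPrimeCore p X ⊔ (S : Subgroup X)).Normal := by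
  by_cases hp2 : p = 2
  · subst hp2
    have h1 : Nat.card (S : Subgroup X) = 1 := by
      obtain ⟨k, hk⟩ := S.2.exists_card_eq
      have hodd' : Odd (Nat.card (S : Subgroup X)) :=
        Odd.of_dvd_nat hX (Subgroup.card_subgroup_dvd_card _)
      rw [hk] at hodd' ⊢
      rcases Nat.eq_zero_or_pos k with h0 | h0
      · rw [h0, pow_zero]
      · exfalso
        have : Even (2 ^ k) := (Nat.even_pow.mpr ⟨even_two, h0.ne'⟩)
        exact (Nat.not_even_iff_odd.mpr hodd') this
    have h2 : (S : Subgroup X) = ⊥ := Subgroup.card_eq_one.mp h1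
    rw [h2, sup_bot_eq]
    infer_instance
  · have hSle : (S : Subgroup X) ≤ Cfsg.pPrimePCore p X := by
      have hπs : Function.Surjective (QuotientGroup.mk' (Cfsg.pPrimeCore p X)) :=
        QuotientGroup.mk'_surjective _
      have hoddQ : Odd (Nat.card (X ⧸ Cfsg.pPrimeCore p X)) :=
        Odd.of_dvd_nat hX (Subgroup.card_quotient_dvd_card _)
      have hbot := Cfsg.Agent.Lib.Helper10.pPrimeCore_quotient_eq_bot (G := X) p
      obtain ⟨c₀, hc₀⟩ := hS.exists_generator
      have hcT : QuotientGroup.mk' (Cfsg.pPrimeCore p X) ((c₀ : ↥(S : Subgroup X)) : X) ∈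
          ((S.mapSurjective hπs : Sylow p (X ⧸ Cfsg.pPrimeCore p X)) :
            Subgroup (X ⧸ Cfsg.pPrimeCore p X)) :=
        Subgroup.mem_map_of_mem _ (c₀ : ↥(S : Subgroup X)).2
      have hcomm : ∀ a ∈ ((S.mapSurjective hπs : Sylow p (X ⧸ Cfsg.pPrimeCore p X)) :
            Subgroup (X ⧸ Cfsg.pPrimeCore p X)),
          ∀ b ∈ ((S.mapSurjective hπs : Sylow p (X ⧸ Cfsg.pPrimeCore p X)) :
            Subgroup (X ⧸ Cfsg.pPrimeCore p X)),
          ⁅a, b⁆ ∈ Subgroup.zpowers
            (QuotientGroup.mk' (Cfsg.pPrimeCore p X) ((c₀ : ↥(S : Subgroup X)) : X)) := by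
        intro a' ha' b' hb'
        obtain ⟨a, ha, rfl⟩ := Subgroup.mem_map.1
          (show a' ∈ (S : Subgroup X).map (QuotientGroup.mk' (Cfsg.pPrimeCore p X)) from ha')
        obtain ⟨b, hb, rfl⟩ := Subgroup.mem_map.1
          (show b' ∈ (S : Subgroup X).map (QuotientGroup.mk' (Cfsg.pPrimeCore p X)) from hb')
        have hw : ⁅(⟨a, ha⟩ : ↥(S : Subgroup X)), ⟨b, hb⟩⁆ ∈ commutator ↥(S : Subgroup X) :=
          Subgroup.commutator_mem_commutator (Subgroup.mem_top _) (Subgroup.mem_top _)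
        obtain ⟨j, hj⟩ := Subgroup.mem_zpowers_iff.1 (hc₀ ⟨_, hw⟩)
        have hj' : (((c₀ : ↥(S : Subgroup X)) : X)) ^ j = ⁅a, b⁆ := by
          have := congrArg (fun y : ↥(commutator ↥(S : Subgroup X)) =>
            ((y : ↥(S : Subgroup X)) : X)) hj
          simpa [commutatorElement_def] using this
        rw [← map_commutatorElement, ← hj', map_zpow]
        exact Subgroup.zpow_mem _ (Subgroup.mem_zpowers _) j
      have hR := sylow_le_pCore_of_cyclic_commutator hoddQ hp2 hbot (S.mapSurjective hπs)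
        _ hcT hcomm
      intro x hx
      rw [Cfsg.Agent.Lib.Helper10.mem_pPrimePCore_iff]
      exact hR (Subgroup.mem_map_of_mem _ hx)
    rw [← Cfsg.Agent.Lib.Helper10.pPrimePCore_eq_sup_sylow p S hSle]
    infer_instance

end Cfsg.Agent.Helper4.CycDer
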