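import Mathlib
import Cfsg.Agent.Lib.Helper24.FL.Defs

/-!
# S3816 farm (helper24), leaf L13 `class2_key` -- spare by helper4

Official statement verbatim, under the namespace `Cfsg.Agent.Lib.Helper4.FLL13`.
Class 2 bilinear computation: if every `[h,P]` is abelian then `u ↦ ⁅h, u h u⁻¹⁆` is a homomorphism
from `P` (order `p`) to a `p'`-group, hence trivial; polarising gives `⁅u,k⁆ ∈ C(H)` for squares `u`,
and every element of `P` is a square as `p` is odd.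
-/

set_option autoImplicit false

namespace Cfsg.Agent.Lib.Helper4.FLL13

open Subgroup Cfsg.Agent.Lib.Helper24.FL
open scoped commutatorElement

universe u

variable {G : Type u} [Group G]

/-- class-2 data: commutators of elements of `H` commute with `H` and are fixed by `P`. -/
structure C2 (H P : Subgroup G) : Prop where
  norm : ∀ y ∈ P, ∀ a ∈ H, y * a * y⁻¹ ∈ H
  cH : ∀ a ∈ H, ∀ b ∈ H, ∀ x ∈ H, x * ⁅a, b⁆ = ⁅a, b⁆ * x
  cP : ∀ a ∈ H, ∀ b ∈ H, ∀ y ∈ P, y * ⁅a, b⁆ * y⁻¹ = ⁅a, b⁆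

variable {H P : Subgroup G}

theorem comm_mem {a b : G} (ha : a ∈ H) (hb : b ∈ H) : ⁅a, b⁆ ∈ H := by
  rw [commutatorElement_def]
  exact H.mul_mem (H.mul_mem (H.mul_mem ha hb) (H.inv_mem ha)) (H.inv_mem hb)

theorem pow_card_sub [Finite G] {K : Subgroup G} {n : ℕ} (hn : Nat.card K = n) {g : G}
    (hg : g ∈ K) : g ^ n = 1 := by
  have h1 : (⟨g, hg⟩ : K) ^ Nat.card K = 1 := pow_card_eq_one'
  have h2 : ((⟨g, hg⟩ : K) ^ Nat.card K : K).1 = (1 : K).1 := congrArg Subtype.val h1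
  rw [Subgroup.coe_pow, Subgroup.coe_one] at h2
  rw [← hn]
  exact h2

theorem bil_left (h : C2 H P) {a b d : G} (ha : a ∈ H) (hb : b ∈ H) (hd : d ∈ H) :
    ⁅a * b, d⁆ = ⁅a, d⁆ * ⁅b, d⁆ := by
  have e : ⁅a * b, d⁆ = a * ⁅b, d⁆ * a⁻¹ * ⁅a, d⁆ := by
    simp only [commutatorElement_def]; group
  have c1 : a * ⁅b, d⁆ = ⁅b, d⁆ * a := h.cH b hb d hd a ha
  have c2 : ⁅a, d⁆ * ⁅b, d⁆ = ⁅b, d⁆ * ⁅a, d⁆ := h.cH b hb d hd _ (comm_mem ha hd)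
  rw [e, c1, mul_inv_cancel_right, c2]

theorem bil_right (h : C2 H P) {a b d : G} (ha : a ∈ H) (hb : b ∈ H) (hd : d ∈ H) :
    ⁅a, b * d⁆ = ⁅a, b⁆ * ⁅a, d⁆ := by
  have e : ⁅a, b * d⁆ = ⁅a, b⁆ * (b * ⁅a, d⁆) * b⁻¹ := by
    simp only [commutatorElement_def]; group
  have c1 : b * ⁅a, d⁆ = ⁅a, d⁆ * b := h.cH a ha d hd b hb
  rw [e, c1, ← mul_assoc, mul_inv_cancel_right]

theorem comm_inv_right (h : C2 H P) {a b : G} (ha : a ∈ H) (hb : b ∈ H) :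
    ⁅a, b⁻¹⁆ = ⁅a, b⁆⁻¹ := by
  have h1 := bil_right h ha hb (H.inv_mem hb)
  rw [mul_inv_cancel, commutatorElement_one_right] at h1
  exact eq_inv_of_mul_eq_one_right h1.symm

theorem conj_comm (h : C2 H P) {y a b : G} (hy : y ∈ P) (ha : a ∈ H) (hb : b ∈ H) :
    ⁅y * a * y⁻¹, y * b * y⁻¹⁆ = ⁅a, b⁆ := by
  have e : ⁅y * a * y⁻¹, y * b * y⁻¹⁆ = y * ⁅a, b⁆ * y⁻¹ := by
    simp only [commutatorElement_def]; group
  rw [e, h.cP a ha b hb y hy]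

/-- the function `u ↦ ⁅h, u h u⁻¹⁆` is multiplicative when `D P h` is abelian -/
theorem f_mul (h : C2 H P) {x : G} (hx : x ∈ H)
    (hab : D P x ≤ centralizer ((D P x : Subgroup G) : Set G)) {u w : G} (hu : u ∈ P) (hw : w ∈ P) :
    ⁅x, (u * w) * x * (u * w)⁻¹⁆ = ⁅x, u * x * u⁻¹⁆ * ⁅x, w * x * w⁻¹⁆ := by
  set A := u * x * u⁻¹ with hA
  set B := (u * w) * x * (u * w)⁻¹ with hB
  have hAH : A ∈ H := h.norm u hu x hx
  have hBH : B ∈ H := h.norm (u * w) (P.mul_mem hu hw) x hx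
  have hxi : x⁻¹ ∈ H := H.inv_mem hx
  have gA : x⁻¹ * A ∈ D P x := Subgroup.subset_closure ⟨u, hu, rfl⟩
  have gB : x⁻¹ * B ∈ D P x := Subgroup.subset_closure ⟨u * w, P.mul_mem hu hw, rfl⟩
  have hc : (x⁻¹ * A) * (x⁻¹ * B) = (x⁻¹ * B) * (x⁻¹ * A) :=
    (Subgroup.mem_centralizer_iff.mp (hab gB)) _ gA
  have h1 : ⁅x⁻¹ * A, x⁻¹ * B⁆ = 1 := commutatorElement_eq_one_iff_mul_comm.mpr hc
  have e1 : ⁅x⁻¹ * A, x⁻¹ * B⁆ = ⁅x, B⁆⁻¹ * (⁅x, A⁆ * ⁅A, B⁆) := by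
    rw [bil_left h hxi hAH (H.mul_mem hxi hBH), bil_right h hxi hxi hBH,
      bil_right h hAH hxi hBH, commutatorElement_self, one_mul]
    have i1 : ⁅x⁻¹, B⁆ = ⁅x, B⁆⁻¹ := by
      rw [← commutatorElement_inv B x⁻¹, comm_inv_right h hBH hx, inv_inv, commutatorElement_inv]
    have i2 : ⁅A, x⁻¹⁆ = ⁅x, A⁆ := by
      rw [comm_inv_right h hAH hx, commutatorElement_inv]
    rw [i1, i2]
  rw [e1] at h1
  have h2 : ⁅x, B⁆ = ⁅x, A⁆ * ⁅A, B⁆ := by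
    have := eq_inv_of_mul_eq_one_right h1
    rw [inv_inv] at this
    exact this.symm
  have hwx : w * x * w⁻¹ ∈ H := h.norm w hw x hx
  have e2 : ⁅A, B⁆ = ⁅x, w * x * w⁻¹⁆ := by
    have : B = u * (w * x * w⁻¹) * u⁻¹ := by rw [hB]; group
    rw [this, hA]
    exact conj_comm h hu hx hwx
  rw [h2, e2]

theorem f_pow (h : C2 H P) {x : G} (hx : x ∈ H)
    (hab : D P x ≤ centralizer ((D P x : Subgroup G) : Set G)) {u : G} (hu : u ∈ P) (n : ℕ) :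
    ⁅x, (u ^ n) * x * (u ^ n)⁻¹⁆ = ⁅x, u * x * u⁻¹⁆ ^ n := by
  induction n with
  | zero => simp
  | succ k ih =>
    rw [pow_succ, f_mul h hx hab (P.pow_mem hu k) hu, ih, pow_succ]

theorem star [Finite G] {p : ℕ} (h : C2 H P) (hcard : Nat.card P = p)
    (hcop : (Nat.card H).Coprime p) {x : G} (hx : x ∈ H)
    (hab : D P x ≤ centralizer ((D P x : Subgroup G) : Set G)) {u : G} (hu : u ∈ P) :
    ⁅x, u * x * u⁻¹⁆ = 1 := by
  have hup : u ^ p = 1 := pow_card_sub hcard hu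
  have h1 : ⁅x, u * x * u⁻¹⁆ ^ p = 1 := by
    rw [← f_pow h hx hab hu p, hup]
    simp
  have hmem : ⁅x, u * x * u⁻¹⁆ ∈ H := comm_mem hx (h.norm u hu x hx)
  have h2 : ⁅x, u * x * u⁻¹⁆ ^ (Nat.card H) = 1 := pow_card_sub rfl hmem
  have d1 : orderOf ⁅x, u * x * u⁻¹⁆ ∣ p := orderOf_dvd_of_pow_eq_one h1
  have d2 : orderOf ⁅x, u * x * u⁻¹⁆ ∣ Nat.card H := orderOf_dvd_of_pow_eq_one h2
  have : orderOf ⁅x, u * x * u⁻¹⁆ = 1 :=
    Nat.Coprime.eq_one_of_dvd (Nat.Coprime.coprime_dvd_left d2 hcop) d1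
  exact orderOf_eq_one_iff.mp this

theorem pol (h : C2 H P)
    (hstar : ∀ x ∈ H, ∀ u ∈ P, ⁅x, u * x * u⁻¹⁆ = 1) {a k y : G} (ha : a ∈ H) (hk : k ∈ H)
    (hy : y ∈ P) : ⁅a, y * k * y⁻¹⁆ * ⁅k, y * a * y⁻¹⁆ = 1 := by
  have hA : y * a * y⁻¹ ∈ H := h.norm y hy a ha
  have hB : y * k * y⁻¹ ∈ H := h.norm y hy k hk
  have e0 : y * (a * k) * y⁻¹ = (y * a * y⁻¹) * (y * k * y⁻¹) := by group
  have h1 := hstar (a * k) (H.mul_mem ha hk) y hy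
  rw [e0, bil_left h ha hk (H.mul_mem hA hB), bil_right h ha hA hB, bil_right h hk hA hB,
    hstar a ha y hy, hstar k hk y hy, one_mul, mul_one] at h1
  exact h1

theorem sym (h : C2 H P)
    (hstar : ∀ x ∈ H, ∀ u ∈ P, ⁅x, u * x * u⁻¹⁆ = 1) {a k y : G} (ha : a ∈ H) (hk : k ∈ H)
    (hy : y ∈ P) : ⁅a, y * k * y⁻¹⁆ = ⁅a, y⁻¹ * k * y⁆ := by
  have hyi : y⁻¹ ∈ P := P.inv_mem hy
  have hk' : y⁻¹ * k * y ∈ H := by
    have := h.norm y⁻¹ hyi k hk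
    rwa [inv_inv] at this
  have e1 : ⁅k, y * a * y⁻¹⁆ = ⁅y⁻¹ * k * y, a⁆ := by
    have : k = y * (y⁻¹ * k * y) * y⁻¹ := by group
    conv_lhs => rw [this]
    exact conj_comm h hy hk' ha
  have h1 := pol h hstar ha hk hy
  rw [e1, ← commutatorElement_inv a (y⁻¹ * k * y)] at h1
  exact mul_inv_eq_one.mp h1

theorem central_sq (h : C2 H P)
    (hstar : ∀ x ∈ H, ∀ u ∈ P, ⁅x, u * x * u⁻¹⁆ = 1) {k y : G} (hk : k ∈ H) (hy : y ∈ P) :
    ⁅y * y, k⁆ ∈ centralizer (H : Set G) := by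
  rw [Subgroup.mem_centralizer_iff]
  intro a ha
  have hk1 : y * k * y⁻¹ ∈ H := h.norm y hy k hk
  have hs := sym h hstar ha hk1 hy
  have e1 : y⁻¹ * (y * k * y⁻¹) * y = k := by group
  rw [e1] at hs
  have hk2 : y * (y * k * y⁻¹) * y⁻¹ ∈ H := h.norm y hy _ hk1
  have h2 : ⁅a, y * (y * k * y⁻¹) * y⁻¹ * k⁻¹⁆ = 1 := by
    rw [bil_right h ha hk2 (H.inv_mem hk), comm_inv_right h ha hk, hs, mul_inv_cancel]
  have e2 : ⁅y * y, k⁆ = y * (y * k * y⁻¹) * y⁻¹ * k⁻¹ := by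
    simp only [commutatorElement_def]; group
  rw [e2]
  exact commutatorElement_eq_one_iff_mul_comm.mp h2

theorem exists_sq {p : ℕ} (hp : p.Prime) (hp2 : p ≠ 2) (hcard : Nat.card P = p) [Finite G]
    {u : G} (hu : u ∈ P) : ∃ y ∈ P, u = y * y := by
  have hup : u ^ p = 1 := pow_card_sub hcard hu
  have hodd : p % 2 = 1 := by
    rcases hp.eq_two_or_odd with h | h
    · exact absurd h hp2
    · exact h
  refine ⟨u ^ ((p + 1) / 2), P.pow_mem hu _, ?_⟩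
  rw [← pow_add]
  have : (p + 1) / 2 + (p + 1) / 2 = p + 1 := by omega
  rw [this, pow_succ, hup, one_mul]

theorem class2_key [Finite G] {p : ℕ} [Fact p.Prime] (hp2 : p ≠ 2) {H P : Subgroup G}
    (hA : Act p H P) (hHP : ⁅H, P⁆ = H) (hcl : ⁅H, H⁆ ≤ Cen H P)
    (hna : ¬ H ≤ Subgroup.centralizer (H : Set G)) :
    ∃ h ∈ H, ¬ D P h ≤ Subgroup.centralizer ((D P h : Subgroup G) : Set G) := by
  by_contra hcon
  push Not at hcon
  have hc2 : C2 H P := by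
    refine ⟨?_, ?_, ?_⟩
    · intro y hy a ha
      exact ((Subgroup.mem_normalizer_iff.mp (hA.norm hy)) a).mp ha
    · intro a ha b hb x hx
      have hm : ⁅a, b⁆ ∈ Cen H P := hcl (Subgroup.commutator_mem_commutator ha hb)
      exact (Subgroup.mem_centralizer_iff.mp hm.1) x hx
    · intro a ha b hb y hy
      have hm : ⁅a, b⁆ ∈ Cen H P := hcl (Subgroup.commutator_mem_commutator ha hb)
      have := (Subgroup.mem_centralizer_iff.mp hm.2) y hy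
      rw [this, mul_inv_cancel_right]
  have hstar : ∀ x ∈ H, ∀ u ∈ P, ⁅x, u * x * u⁻¹⁆ = 1 := fun x hx u hu =>
    star hc2 hA.cardP hA.cop hx (hcon x hx) hu
  apply hna
  rw [← hHP]
  rw [Subgroup.commutator_le]
  intro k hk u hu
  obtain ⟨y, hy, rfl⟩ := exists_sq (Fact.out : p.Prime) hp2 hA.cardP hu
  have := central_sq hc2 hstar hk hy
  rw [← commutatorElement_inv]
  rw [hHP]
  exact (centralizer (H : Set G)).inv_mem this

end Cfsg.Agent.Lib.Helper4.FLL13
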