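import Mathlib
import Cfsg.Agent.Lib.Helper4.PSLp3
import Cfsg.Agent.Lib.Helper15.PSLSimple

set_option autoImplicit false
set_option linter.unusedVariables false
set_option linter.unusedSectionVars false
set_option linter.style.haveILetI false
set_option linter.deprecated false

/-!
# The simple group of order 168: a decidable model and brute-force facts (helper4)

`M168 = SL₃(𝔽₂)`; every simple group of order 168 is isomorphic to it (both are `PSL₂(7)`).
-/

namespace Cfsg.Agent.Helper4.G168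

open Matrix

/-- the decidable model `SL₃(𝔽₂)` -/
abbrev M168 := Matrix.SpecialLinearGroup (Fin 3) (ZMod 2)

set_option maxRecDepth 100000 in
theorem fintype_card_M168 : Fintype.card M168 = 168 := by decide +kernel

theorem card_M168 : Nat.card M168 = 168 := by
  rw [Nat.card_eq_fintype_card, fintype_card_M168]

theorem center_M168 : Subgroup.center M168 = ⊥ := by
  ext A
  rw [Matrix.SpecialLinearGroup.mem_center_iff, Subgroup.mem_bot]
  constructor
  · rintro ⟨r, hr, hA⟩
    have hr1 : r = 1 := by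
      have h3 : r ^ 3 = 1 := by simpa using hr
      have hall : ∀ r : ZMod 2, r ^ 3 = 1 → r = 1 := by decide
      exact hall r h3
    subst hr1
    apply Subtype.ext
    rw [← hA]
    simp
  · rintro rfl
    exact ⟨1, by simp, by simp⟩

instance isSimpleGroup_M168 : IsSimpleGroup M168 := by
  haveI : IsSimpleGroup (Matrix.ProjectiveSpecialLinearGroup (Fin 3) (ZMod 2)) :=
    Cfsg.Agent.Lib.Helper15.PSLn_isSimpleGroup (F := ZMod 2) (ι := Fin 3) (by simp)
  haveI : Nontrivial M168 := by
    rw [← Finite.one_lt_card_iff_nontrivial, card_M168]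
    norm_num
  let e : Matrix.ProjectiveSpecialLinearGroup (Fin 3) (ZMod 2) ≃* M168 :=
    (QuotientGroup.quotientMulEquivOfEq center_M168).trans QuotientGroup.quotientBot
  exact e.symm.isSimpleGroup

/-- every simple group of order 168 is isomorphic to the model -/
theorem nonempty_equiv {G : Type*} [Group G] [Finite G] [IsSimpleGroup G]
    (h : Nat.card G = 168) : Nonempty (G ≃* M168) := by
  obtain ⟨e1⟩ := Cfsg.Agent.Helper4.PSLp.psl27 h
  obtain ⟨e2⟩ := Cfsg.Agent.Helper4.PSLp.psl27 (G := M168) card_M168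
  exact ⟨e1.trans e2.symm⟩

/-- a transvection (an involution) -/
def s2 : M168 := ⟨!![1, 1, 0; 0, 1, 0; 0, 0, 1], by decide⟩

/-- a second involution commuting with `s2` -/
def s2' : M168 := ⟨!![1, 0, 1; 0, 1, 0; 0, 0, 1], by decide⟩

/-- an element of order 3 -/
def s3 : M168 := ⟨!![0, 1, 0; 0, 0, 1; 1, 0, 0], by decide⟩

/-- an element of order 4 -/
def s4 : M168 := ⟨!![1, 1, 0; 0, 1, 1; 0, 0, 1], by decide⟩

set_option maxRecDepth 100000 in
theorem f_orders : ∀ g : M168, g = 1 ∨ g ^ 2 = 1 ∨ g ^ 3 = 1 ∨ g ^ 4 = 1 ∨ g ^ 7 = 1 := by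
  decide +kernel

set_option maxRecDepth 100000 in
theorem f_count2 : Fintype.card {g : M168 // g ≠ 1 ∧ g ^ 2 = 1} = 21 := by decide +kernel

set_option maxRecDepth 100000 in
theorem f_count3 : Fintype.card {g : M168 // g ≠ 1 ∧ g ^ 3 = 1} = 56 := by decide +kernel

set_option maxRecDepth 100000 in
theorem f_count4 : Fintype.card {g : M168 // g ^ 2 ≠ 1 ∧ g ^ 4 = 1} = 42 := by decide +kernel

set_option maxRecDepth 100000 in
theorem f_count7 : Fintype.card {g : M168 // g ≠ 1 ∧ g ^ 7 = 1} = 48 := by decide +kernel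

set_option maxRecDepth 100000 in
theorem f_s2 : s2 ≠ 1 ∧ s2 ^ 2 = 1 ∧ Fintype.card {g : M168 // g * s2 = s2 * g} = 8 := by
  decide +kernel

set_option maxRecDepth 100000 in
theorem f_s2' : s2' ≠ 1 ∧ s2' ≠ s2 ∧ s2' ^ 2 = 1 ∧ s2' * s2 = s2 * s2' := by decide +kernel

set_option maxRecDepth 100000 in
theorem f_s3 : s3 ≠ 1 ∧ s3 ^ 3 = 1 ∧ Fintype.card {g : M168 // g * s3 = s3 * g} = 3 := by
  decide +kernel

set_option maxRecDepth 100000 in
theorem f_s4 : s4 ^ 2 ≠ 1 ∧ s4 ^ 4 = 1 ∧ Fintype.card {g : M168 // g * s4 = s4 * g} = 4 := by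
  decide +kernel

set_option maxRecDepth 100000 in
theorem f_cent7 : ∀ x : M168, x ≠ 1 → x ^ 7 = 1 →
    Fintype.card {g : M168 // g * x = x * g} = 7 := by decide +kernel

set_option maxRecDepth 100000 in
theorem f_noinv7 : ∀ x : M168, x ≠ 1 → x ^ 7 = 1 → ∀ g : M168, g * x ≠ x⁻¹ * g := by
  decide +kernel

end Cfsg.Agent.Helper4.G168
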