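import Mathlib
import Cfsg.Agent.Lib.Helper4.G168a
import Cfsg.Agent.Lib.Helper14.SL2Unip

set_option autoImplicit false
set_option linter.unusedVariables false
set_option linter.unusedSectionVars false
set_option linter.style.haveILetI false
set_option linter.deprecated false

/-!
# Element-level facts about the simple group of order 168 (helper4)
-/

namespace Cfsg.Agent.Helper4.G168

/-- element-level facts about a simple group of order 168 -/
structure Facts (H : Type*) [Group H] : Prop where
  orders : ∀ g : H, orderOf g = 1 ∨ orderOf g = 2 ∨ orderOf g = 3 ∨ orderOf g = 4 ∨ orderOf g = 7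
  count2 : Nat.card {g : H // orderOf g = 2} = 21
  count3 : Nat.card {g : H // orderOf g = 3} = 56
  count4 : Nat.card {g : H // orderOf g = 4} = 42
  count7 : Nat.card {g : H // orderOf g = 7} = 48
  conj2 : ∀ s t : H, orderOf s = 2 → orderOf t = 2 → IsConj s t
  conj3 : ∀ s t : H, orderOf s = 3 → orderOf t = 3 → IsConj s t
  conj4 : ∀ s t : H, orderOf s = 4 → orderOf t = 4 → IsConj s t
  cent2 : ∀ s : H, orderOf s = 2 → Nat.card (Subgroup.centralizer ({s} : Set H)) = 8
  cent3 : ∀ s : H, orderOf s = 3 → Nat.card (Subgroup.centralizer ({s} : Set H)) = 3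
  cent4 : ∀ s : H, orderOf s = 4 → Nat.card (Subgroup.centralizer ({s} : Set H)) = 4
  cent7 : ∀ s : H, orderOf s = 7 → Nat.card (Subgroup.centralizer ({s} : Set H)) = 7
  noinv7 : ∀ x : H, orderOf x = 7 → ¬ IsConj x x⁻¹
  inv2 : ∀ s : H, orderOf s = 2 → ∃ a : H, orderOf a = 2 ∧ a ≠ s ∧ a * s = s * a

section general

variable {H : Type*} [Group H]

theorem orderOf_eq_four_iff {g : H} : orderOf g = 4 ↔ g ^ 2 ≠ 1 ∧ g ^ 4 = 1 := by
  haveI : Fact (Nat.Prime 2) := ⟨Nat.prime_two⟩
  constructor
  · intro h
    refine ⟨fun h2 => ?_, ?_⟩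
    · have h3 := orderOf_dvd_of_pow_eq_one h2
      rw [h] at h3
      omega
    · rw [← h]
      exact pow_orderOf_eq_one g
  · rintro ⟨h2, h4⟩
    have h5 : ¬ g ^ 2 ^ 1 = 1 := by simpa using h2
    have h6 : g ^ 2 ^ (1 + 1) = 1 := by simpa using h4
    have h7 := orderOf_eq_prime_pow h5 h6
    simpa using h7

theorem orderOf_eq_two_iff' {g : H} : orderOf g = 2 ↔ g ≠ 1 ∧ g ^ 2 = 1 := by
  haveI : Fact (Nat.Prime 2) := ⟨Nat.prime_two⟩
  rw [orderOf_eq_prime_iff, and_comm]

theorem orderOf_eq_three_iff' {g : H} : orderOf g = 3 ↔ g ≠ 1 ∧ g ^ 3 = 1 := by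
  haveI : Fact (Nat.Prime 3) := ⟨Nat.prime_three⟩
  rw [orderOf_eq_prime_iff, and_comm]

theorem orderOf_eq_seven_iff' {g : H} : orderOf g = 7 ↔ g ≠ 1 ∧ g ^ 7 = 1 := by
  haveI : Fact (Nat.Prime 7) := ⟨by norm_num⟩
  rw [orderOf_eq_prime_iff, and_comm]

theorem conj_of_count [Finite H] (A : Set H) (x : H) (hx : x ∈ A)
    (hA : ∀ a ∈ A, ∀ g : H, g * a * g⁻¹ ∈ A)
    (hcount : Nat.card A * Nat.card (Subgroup.centralizer ({x} : Set H)) = Nat.card H) :
    ∀ a ∈ A, IsConj x a := by
  have h1 := Cfsg.Agent.Lib.Helper14.card_class_mul_card_centralizer x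
  have hsub : (ConjClasses.mk x).carrier ⊆ A := by
    intro a ha
    rw [ConjClasses.mem_carrier_iff_mk_eq, ConjClasses.mk_eq_mk_iff_isConj] at ha
    obtain ⟨g, hg⟩ := isConj_iff.mp ha.symm
    rw [← hg]
    exact hA x hx g
  have hc : 0 < Nat.card (Subgroup.centralizer ({x} : Set H)) := Nat.card_pos
  have hcard : Nat.card A = Nat.card (ConjClasses.mk x).carrier := by
    apply Nat.eq_of_mul_eq_mul_right hc
    rw [hcount, h1]
  have heq : (ConjClasses.mk x).carrier = A := by
    apply Set.eq_of_subset_of_ncard_le hsub _ (Set.toFinite A)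
    rw [← Nat.card_coe_set_eq, ← Nat.card_coe_set_eq, hcard]
  intro a ha
  rw [← heq, ConjClasses.mem_carrier_iff_mk_eq, ConjClasses.mk_eq_mk_iff_isConj] at ha
  exact ha.symm

theorem card_centralizer_eq_of_isConj [Finite H] {x y : H} (h : IsConj x y) :
    Nat.card (Subgroup.centralizer ({x} : Set H)) = Nat.card (Subgroup.centralizer ({y} : Set H)) := by
  have h1 := Cfsg.Agent.Lib.Helper14.card_class_mul_card_centralizer x
  have h2 := Cfsg.Agent.Lib.Helper14.card_class_mul_card_centralizer y
  have h3 : ConjClasses.mk x = ConjClasses.mk y := ConjClasses.mk_eq_mk_iff_isConj.mpr h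
  rw [h3, ← h2] at h1
  have hc : 0 < Nat.card (ConjClasses.mk y).carrier := by
    haveI : Nonempty (ConjClasses.mk y).carrier := ⟨⟨y, ConjClasses.mem_carrier_mk⟩⟩
    exact Nat.card_pos
  exact Nat.eq_of_mul_eq_mul_left hc h1

theorem card_centralizer_eq_fintype (x : H) [Fintype {g : H // g * x = x * g}] :
    Nat.card (Subgroup.centralizer ({x} : Set H)) = Fintype.card {g : H // g * x = x * g} := by
  rw [← Nat.card_eq_fintype_card]
  exact Nat.card_congr (Equiv.subtypeEquivRight (fun g => Subgroup.mem_centralizer_singleton_iff))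

theorem conj_ne_one {a g : H} (ha : a ≠ 1) : g * a * g⁻¹ ≠ 1 := by
  intro h
  apply ha
  have h2 : a = g⁻¹ * (g * a * g⁻¹) * g := by group
  rw [h2, h]
  group

theorem conj_pow_eq_one {a g : H} {n : ℕ} (ha : a ^ n = 1) : (g * a * g⁻¹) ^ n = 1 := by
  rw [conj_pow, ha, mul_one, mul_inv_cancel]

theorem conj_pow_ne_one {a g : H} {n : ℕ} (ha : a ^ n ≠ 1) : (g * a * g⁻¹) ^ n ≠ 1 := by
  rw [conj_pow]
  exact conj_ne_one ha

end general

section model

theorem M_orders (g : M168) :
    orderOf g = 1 ∨ orderOf g = 2 ∨ orderOf g = 3 ∨ orderOf g = 4 ∨ orderOf g = 7 := by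
  by_cases h1 : g = 1
  · left
    rw [h1, orderOf_one]
  rcases f_orders g with h | h | h | h | h
  · exact absurd h h1
  · right; left
    exact orderOf_eq_two_iff'.mpr ⟨h1, h⟩
  · right; right; left
    exact orderOf_eq_three_iff'.mpr ⟨h1, h⟩
  · by_cases h2 : g ^ 2 = 1
    · right; left
      exact orderOf_eq_two_iff'.mpr ⟨h1, h2⟩
    · right; right; right; left
      exact orderOf_eq_four_iff.mpr ⟨h2, h⟩
  · right; right; right; right
    exact orderOf_eq_seven_iff'.mpr ⟨h1, h⟩

theorem M_count2 : Nat.card {g : M168 // orderOf g = 2} = 21 := by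
  rw [Nat.card_congr (Equiv.subtypeEquivRight (fun g : M168 => orderOf_eq_two_iff'))]
  rw [Nat.card_eq_fintype_card]
  convert f_count2

theorem M_count3 : Nat.card {g : M168 // orderOf g = 3} = 56 := by
  rw [Nat.card_congr (Equiv.subtypeEquivRight (fun g : M168 => orderOf_eq_three_iff'))]
  rw [Nat.card_eq_fintype_card]
  convert f_count3

theorem M_count4 : Nat.card {g : M168 // orderOf g = 4} = 42 := by
  rw [Nat.card_congr (Equiv.subtypeEquivRight (fun g : M168 => orderOf_eq_four_iff))]
  rw [Nat.card_eq_fintype_card]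
  convert f_count4

theorem M_count7 : Nat.card {g : M168 // orderOf g = 7} = 48 := by
  rw [Nat.card_congr (Equiv.subtypeEquivRight (fun g : M168 => orderOf_eq_seven_iff'))]
  rw [Nat.card_eq_fintype_card]
  convert f_count7

theorem M_cent_s2 : Nat.card (Subgroup.centralizer ({s2} : Set M168)) = 8 := by
  rw [card_centralizer_eq_fintype]
  convert f_s2.2.2

theorem M_cent_s3 : Nat.card (Subgroup.centralizer ({s3} : Set M168)) = 3 := by
  rw [card_centralizer_eq_fintype]
  convert f_s3.2.2

theorem M_cent_s4 : Nat.card (Subgroup.centralizer ({s4} : Set M168)) = 4 := by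
  rw [card_centralizer_eq_fintype]
  convert f_s4.2.2

theorem M_conj_s2 (a : M168) (ha : orderOf a = 2) : IsConj s2 a := by
  have h := conj_of_count (H := M168) {g | orderOf g = 2} s2
    (orderOf_eq_two_iff'.mpr ⟨f_s2.1, f_s2.2.1⟩)
    (by
      intro a ha g
      have ha' := orderOf_eq_two_iff'.mp ha
      exact orderOf_eq_two_iff'.mpr ⟨conj_ne_one ha'.1, conj_pow_eq_one ha'.2⟩)
    (by
      rw [M_cent_s2, card_M168]
      have h2 : Nat.card ({g | orderOf g = 2} : Set M168) = 21 := M_count2
      rw [h2])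
  exact h a ha

theorem M_conj_s3 (a : M168) (ha : orderOf a = 3) : IsConj s3 a := by
  have h := conj_of_count (H := M168) {g | orderOf g = 3} s3
    (orderOf_eq_three_iff'.mpr ⟨f_s3.1, f_s3.2.1⟩)
    (by
      intro a ha g
      have ha' := orderOf_eq_three_iff'.mp ha
      exact orderOf_eq_three_iff'.mpr ⟨conj_ne_one ha'.1, conj_pow_eq_one ha'.2⟩)
    (by
      rw [M_cent_s3, card_M168]
      have h2 : Nat.card ({g | orderOf g = 3} : Set M168) = 56 := M_count3
      rw [h2])
  exact h a ha

theorem M_conj_s4 (a : M168) (ha : orderOf a = 4) : IsConj s4 a := by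
  have h := conj_of_count (H := M168) {g | orderOf g = 4} s4
    (orderOf_eq_four_iff.mpr ⟨f_s4.1, f_s4.2.1⟩)
    (by
      intro a ha g
      have ha' := orderOf_eq_four_iff.mp ha
      exact orderOf_eq_four_iff.mpr ⟨conj_pow_ne_one ha'.1, conj_pow_eq_one ha'.2⟩)
    (by
      rw [M_cent_s4, card_M168]
      have h2 : Nat.card ({g | orderOf g = 4} : Set M168) = 42 := M_count4
      rw [h2])
  exact h a ha

theorem facts_M168 : Facts M168 where
  orders := M_orders
  count2 := M_count2
  count3 := M_count3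
  count4 := M_count4
  count7 := M_count7
  conj2 := fun s t hs ht => (M_conj_s2 s hs).symm.trans (M_conj_s2 t ht)
  conj3 := fun s t hs ht => (M_conj_s3 s hs).symm.trans (M_conj_s3 t ht)
  conj4 := fun s t hs ht => (M_conj_s4 s hs).symm.trans (M_conj_s4 t ht)
  cent2 := fun s hs => by
    rw [← card_centralizer_eq_of_isConj (M_conj_s2 s hs)]
    exact M_cent_s2
  cent3 := fun s hs => by
    rw [← card_centralizer_eq_of_isConj (M_conj_s3 s hs)]
    exact M_cent_s3
  cent4 := fun s hs => by
    rw [← card_centralizer_eq_of_isConj (M_conj_s4 s hs)]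
    exact M_cent_s4
  cent7 := fun s hs => by
    have hs' := orderOf_eq_seven_iff'.mp hs
    rw [card_centralizer_eq_fintype]
    convert f_cent7 s hs'.1 hs'.2
  noinv7 := fun x hx hc => by
    have hx' := orderOf_eq_seven_iff'.mp hx
    obtain ⟨g, hg⟩ := isConj_iff.mp hc
    apply f_noinv7 x hx'.1 hx'.2 g
    rw [← hg]
    group
  inv2 := fun s hs => by
    obtain ⟨g, hg⟩ := isConj_iff.mp (M_conj_s2 s hs)
    refine ⟨g * s2' * g⁻¹, ?_, ?_, ?_⟩
    · exact orderOf_eq_two_iff'.mpr ⟨conj_ne_one f_s2'.1, conj_pow_eq_one f_s2'.2.2.1⟩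
    · rw [← hg]
      intro h
      apply f_s2'.2.1
      have h2 : s2' = g⁻¹ * (g * s2' * g⁻¹) * g := by group
      rw [h2, h]
      group
    · rw [← hg]
      have h3 := f_s2'.2.2.2
      calc g * s2' * g⁻¹ * (g * s2 * g⁻¹) = g * (s2' * s2) * g⁻¹ := by group
        _ = g * (s2 * s2') * g⁻¹ := by rw [h3]
        _ = g * s2 * g⁻¹ * (g * s2' * g⁻¹) := by group

end model

/-- transfer of the facts along an isomorphism -/
theorem Facts.of_equiv {G : Type*} [Group G] {H : Type*} [Group H] (e : G ≃* H) (h : Facts H) :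
    Facts G := by
  have hord : ∀ g : G, orderOf (e g) = orderOf g := fun g => e.orderOf_eq g
  have hconj : ∀ s t : G, IsConj (e s) (e t) → IsConj s t := by
    intro s t hc
    obtain ⟨c, hc⟩ := isConj_iff.mp hc
    refine isConj_iff.mpr ⟨e.symm c, ?_⟩
    apply e.injective
    rw [map_mul, map_mul, map_inv, e.apply_symm_apply, hc]
  have hcount : ∀ k : ℕ, Nat.card {g : G // orderOf g = k} = Nat.card {g : H // orderOf g = k} :=
    fun k => Nat.card_congr (e.toEquiv.subtypeEquiv (fun g => by
      show orderOf g = k ↔ orderOf (e g) = k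
      rw [hord]))
  have hcent : ∀ s : G, Nat.card (Subgroup.centralizer ({s} : Set G))
      = Nat.card (Subgroup.centralizer ({e s} : Set H)) :=
    fun s => Nat.card_congr (e.toEquiv.subtypeEquiv (fun g => by
      show g ∈ Subgroup.centralizer ({s} : Set G) ↔ e g ∈ Subgroup.centralizer ({e s} : Set H)
      rw [Subgroup.mem_centralizer_singleton_iff, Subgroup.mem_centralizer_singleton_iff,
        ← map_mul, ← map_mul, e.injective.eq_iff]))
  refine
    { orders := fun g => by rw [← hord]; exact h.orders (e g)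
      count2 := by rw [hcount]; exact h.count2
      count3 := by rw [hcount]; exact h.count3
      count4 := by rw [hcount]; exact h.count4
      count7 := by rw [hcount]; exact h.count7
      conj2 := fun s t hs ht => hconj s t (h.conj2 _ _ (by rw [hord]; exact hs) (by rw [hord]; exact ht))
      conj3 := fun s t hs ht => hconj s t (h.conj3 _ _ (by rw [hord]; exact hs) (by rw [hord]; exact ht))
      conj4 := fun s t hs ht => hconj s t (h.conj4 _ _ (by rw [hord]; exact hs) (by rw [hord]; exact ht))
      cent2 := fun s hs => by rw [hcent]; exact h.cent2 _ (by rw [hord]; exact hs)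
      cent3 := fun s hs => by rw [hcent]; exact h.cent3 _ (by rw [hord]; exact hs)
      cent4 := fun s hs => by rw [hcent]; exact h.cent4 _ (by rw [hord]; exact hs)
      cent7 := fun s hs => by rw [hcent]; exact h.cent7 _ (by rw [hord]; exact hs)
      noinv7 := fun x hx hc => by
        apply h.noinv7 (e x) (by rw [hord]; exact hx)
        have h2 := MonoidHom.map_isConj e.toMonoidHom hc
        simpa using h2
      inv2 := fun s hs => by
        obtain ⟨a, ha1, ha2, ha3⟩ := h.inv2 (e s) (by rw [hord]; exact hs)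
        refine ⟨e.symm a, ?_, ?_, ?_⟩
        · rw [← hord, e.apply_symm_apply]
          exact ha1
        · intro h3
          apply ha2
          rw [← h3, e.apply_symm_apply]
        · apply e.injective
          rw [map_mul, map_mul, e.apply_symm_apply]
          exact ha3 }

/-- the facts hold in every simple group of order 168 -/
theorem facts {G : Type*} [Group G] [Finite G] [IsSimpleGroup G] (h : Nat.card G = 168) :
    Facts G := by
  obtain ⟨e⟩ := nonempty_equiv h
  exact Facts.of_equiv e facts_M168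

/-- the size of the conjugacy class of an element of order 7 -/
theorem card_class7 {G : Type*} [Group G] [Finite G] (h : Nat.card G = 168) (F : Facts G)
    (x : G) (hx : orderOf x = 7) : Nat.card {g : G // IsConj x g} = 24 := by
  have h1 := Cfsg.Agent.Lib.Helper14.card_class_mul_card_centralizer x
  rw [F.cent7 x hx, h] at h1
  have h2 : Nat.card {g : G // IsConj x g} = Nat.card (ConjClasses.mk x).carrier :=
    Nat.card_congr (Equiv.subtypeEquivRight (fun g => by
      rw [ConjClasses.mem_carrier_iff_mk_eq, ConjClasses.mk_eq_mk_iff_isConj]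
      exact ⟨fun h => h.symm, fun h => h.symm⟩))
  rw [h2]
  omega

end Cfsg.Agent.Helper4.G168
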