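import Mathlib
import Cfsg.Agent.Lib.Helper4.G168b
import Cfsg.Agent.Lib.Helper10.DihedralRecog

set_option autoImplicit false
set_option linter.unusedVariables false
set_option linter.unusedSectionVars false
set_option linter.style.haveILetI false
set_option linter.deprecated false

/-!
# Sylow structure of the simple group of order 168 (helper4)
-/

namespace Cfsg.Agent.Helper4.G168

open scoped Pointwise

variable {G : Type*} [Group G] [Finite G]

theorem card_sylow_eq {p : ℕ} [hp : Fact p.Prime] (k m : ℕ) (hG : Nat.card G = p ^ k * m)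
    (hm : ¬ p ∣ m) (P : Sylow p G) : Nat.card P = p ^ k := by
  have hm0 : m ≠ 0 := by
    rintro rfl
    exact hm (dvd_zero p)
  rw [Sylow.card_eq_multiplicity, hG, Nat.factorization_mul (pow_ne_zero k hp.out.ne_zero) hm0,
    Finsupp.add_apply, hp.out.factorization_pow, Finsupp.single_eq_same,
    Nat.factorization_eq_zero_of_not_dvd hm, add_zero]

theorem card_sylow2 (h : Nat.card G = 168) (T : Sylow 2 G) : Nat.card T = 8 := by
  haveI : Fact (Nat.Prime 2) := ⟨Nat.prime_two⟩
  have h1 := card_sylow_eq (p := 2) 3 21 (by rw [h]; norm_num) (by norm_num) T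
  simpa using h1

theorem card_sylow3 (h : Nat.card G = 168) (P : Sylow 3 G) : Nat.card P = 3 := by
  haveI : Fact (Nat.Prime 3) := ⟨Nat.prime_three⟩
  have h1 := card_sylow_eq (p := 3) 1 56 (by rw [h]; norm_num) (by norm_num) P
  simpa using h1

/-- an element of order 4 in a given Sylow 2-subgroup -/
theorem exists_order4_mem (F : Facts G) (T : Sylow 2 G) :
    ∃ x ∈ (T : Subgroup G), orderOf x = 4 := by
  haveI : Fact (Nat.Prime 2) := ⟨Nat.prime_two⟩
  have hne : Nonempty {g : G // orderOf g = 4} := by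
    have h1 := F.count4
    have h2 : 0 < Nat.card {g : G // orderOf g = 4} := by omega
    exact (Nat.card_pos_iff.mp h2).1
  obtain ⟨⟨y, hy⟩⟩ := hne
  have hp : IsPGroup 2 (Subgroup.zpowers y) :=
    IsPGroup.of_card (n := 2) (by rw [Nat.card_zpowers, hy]; norm_num)
  obtain ⟨T', hT'⟩ := hp.exists_le_sylow
  obtain ⟨g, hg⟩ := MulAction.exists_smul_eq G T' T
  refine ⟨g * y * g⁻¹, ?_, ?_⟩
  · have hTT : (T : Subgroup G) = MulAut.conj g • (T' : Subgroup G) := by
      rw [← hg]
      exact Sylow.coe_subgroup_smul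
    rw [hTT]
    have hy' : y ∈ (T' : Subgroup G) := hT' (Subgroup.mem_zpowers y)
    have h3 := Subgroup.smul_mem_pointwise_smul y (MulAut.conj g) (T' : Subgroup G) hy'
    simpa [MulAut.smul_def, MulAut.conj_apply] using h3
  · have h4 := orderOf_eq_four_iff.mp hy
    exact orderOf_eq_four_iff.mpr ⟨conj_pow_ne_one h4.1, conj_pow_eq_one h4.2⟩

/-- a non-identity element central in a Sylow 2-subgroup is an involution whose centralizer is the
Sylow subgroup -/
theorem central_props (h : Nat.card G = 168) (F : Facts G) (T : Sylow 2 G) (z : G)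
    (hz : z ∈ (T : Subgroup G)) (hz1 : z ≠ 1)
    (hc : ∀ t ∈ (T : Subgroup G), t * z = z * t) :
    orderOf z = 2 ∧ Subgroup.centralizer ({z} : Set G) = T := by
  have hT := card_sylow2 h T
  have hle : (T : Subgroup G) ≤ Subgroup.centralizer ({z} : Set G) := by
    intro t ht
    rw [Subgroup.mem_centralizer_singleton_iff]
    exact hc t ht
  have hcard := Subgroup.card_le_of_le hle
  have hdvd : orderOf z ∣ 8 := by
    rw [← hT]
    exact Subgroup.orderOf_dvd_natCard (T : Subgroup G) hz
  have h2 : orderOf z = 2 := by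
    rcases F.orders z with h1 | h1 | h1 | h1 | h1
    · exact absurd (orderOf_eq_one_iff.mp h1) hz1
    · exact h1
    · rw [h1] at hdvd
      omega
    · rw [F.cent4 z h1, hT] at hcard
      omega
    · rw [h1] at hdvd
      omega
  refine ⟨h2, ?_⟩
  symm
  apply Subgroup.eq_of_le_of_card_ge hle
  rw [F.cent2 z h2, hT]

/-- an involution commuting with an element `x` of order 4 is `x²` -/
theorem eq_sq_of_commute (F : Facts G) {x z : G} (hx : orderOf x = 4) (hz : orderOf z = 2)
    (hxz : z * x = x * z) : z = x ^ 2 := by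
  have hle : Subgroup.zpowers x ≤ Subgroup.centralizer ({x} : Set G) := by
    rw [Subgroup.zpowers_le, Subgroup.mem_centralizer_singleton_iff]
  have heq : Subgroup.zpowers x = Subgroup.centralizer ({x} : Set G) :=
    Subgroup.eq_of_le_of_card_ge hle (by rw [F.cent4 x hx, Nat.card_zpowers, hx])
  have hzmem : z ∈ Subgroup.zpowers x := by
    rw [heq, Subgroup.mem_centralizer_singleton_iff]
    exact hxz
  rw [← mem_powers_iff_mem_zpowers, Submonoid.mem_powers_iff] at hzmem
  obtain ⟨k, hk⟩ := hzmem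
  rw [← pow_mod_orderOf, hx] at hk
  have hk4 : k % 4 < 4 := Nat.mod_lt _ (by norm_num)
  have hx4 := orderOf_eq_four_iff.mp hx
  have hz2 := orderOf_eq_two_iff'.mp hz
  generalize k % 4 = j at hk hk4
  interval_cases j
  · rw [pow_zero] at hk
    exact absurd hk.symm hz2.1
  · rw [pow_one] at hk
    rw [← hk] at hz2
    exact absurd hz2.2 hx4.1
  · exact hk.symm
  · exfalso
    have h6 : z ^ 2 = x ^ 2 := by
      rw [← hk, ← pow_mul]
      have : x ^ (3 * 2) = x ^ 4 * x ^ 2 := by rw [← pow_add]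
      rw [this, hx4.2, one_mul]
    rw [hz2.2] at h6
    exact hx4.1 h6.symm

theorem exists_central (h : Nat.card G = 168) (T : Sylow 2 G) :
    ∃ z ∈ (T : Subgroup G), z ≠ 1 ∧ ∀ t ∈ (T : Subgroup G), t * z = z * t := by
  haveI : Fact (Nat.Prime 2) := ⟨Nat.prime_two⟩
  haveI : Nontrivial (T : Subgroup G) := by
    rw [← Finite.one_lt_card_iff_nontrivial, card_sylow2 h T]
    norm_num
  haveI := IsPGroup.center_nontrivial T.2
  obtain ⟨z, hz⟩ := exists_ne (1 : Subgroup.center (T : Subgroup G))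
  refine ⟨((z : (T : Subgroup G)) : G), (z : (T : Subgroup G)).2, ?_, ?_⟩
  · intro h1
    apply hz
    apply Subtype.ext
    apply Subtype.ext
    exact h1
  · intro t ht
    have h2 := Subgroup.mem_center_iff.mp z.2 ⟨t, ht⟩
    exact congrArg Subtype.val h2

theorem normalizer_sylow2 (h : Nat.card G = 168) (F : Facts G) (T : Sylow 2 G) :
    Subgroup.normalizer ((T : Subgroup G) : Set G) = T := by
  obtain ⟨x, hxT, hx⟩ := exists_order4_mem F T
  obtain ⟨z0, hz0T, hz01, hz0c⟩ := exists_central h T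
  obtain ⟨hz0o, hz0C⟩ := central_props h F T z0 hz0T hz01 hz0c
  apply le_antisymm _ Subgroup.le_normalizer
  intro n hn
  have hz1T : n * z0 * n⁻¹ ∈ (T : Subgroup G) := (Subgroup.mem_normalizer_iff.mp hn z0).mp hz0T
  have hz1c : ∀ t ∈ (T : Subgroup G), t * (n * z0 * n⁻¹) = (n * z0 * n⁻¹) * t := by
    intro t ht
    have ht' : n⁻¹ * t * n ∈ (T : Subgroup G) := by
      have h1 := (Subgroup.mem_normalizer_iff.mp (inv_mem hn) t).mp ht
      rwa [inv_inv] at h1
    have e := hz0c _ ht'
    calc t * (n * z0 * n⁻¹) = n * ((n⁻¹ * t * n) * z0) * n⁻¹ := by group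
      _ = n * (z0 * (n⁻¹ * t * n)) * n⁻¹ := by rw [e]
      _ = (n * z0 * n⁻¹) * t := by group
  have hz11 : n * z0 * n⁻¹ ≠ 1 := conj_ne_one hz01
  obtain ⟨hz1o, _⟩ := central_props h F T _ hz1T hz11 hz1c
  have e0 : z0 = x ^ 2 := eq_sq_of_commute F hx hz0o (hz0c x hxT).symm
  have e1 : n * z0 * n⁻¹ = x ^ 2 := eq_sq_of_commute F hx hz1o (hz1c x hxT).symm
  have hmem : n ∈ Subgroup.centralizer ({z0} : Set G) := by
    rw [Subgroup.mem_centralizer_singleton_iff]
    have e2 : n * z0 * n⁻¹ = z0 := e1.trans e0.symm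
    calc n * z0 = (n * z0 * n⁻¹) * n := by group
      _ = z0 * n := by rw [e2]
  rw [hz0C] at hmem
  exact hmem

theorem sylow2_dihedral (h : Nat.card G = 168) (F : Facts G) (T : Sylow 2 G) :
    Nonempty (↥(T : Subgroup G) ≃* DihedralGroup 4) := by
  obtain ⟨x, hxT, hx⟩ := exists_order4_mem F T
  obtain ⟨z0, hz0T, hz01, hz0c⟩ := exists_central h T
  obtain ⟨hz0o, hz0C⟩ := central_props h F T z0 hz0T hz01 hz0c
  have e0 : z0 = x ^ 2 := eq_sq_of_commute F hx hz0o (hz0c x hxT).symm
  obtain ⟨a, hao, hane, hacomm⟩ := F.inv2 z0 hz0o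
  have haT : a ∈ (T : Subgroup G) := by
    rw [← hz0C, Subgroup.mem_centralizer_singleton_iff]
    exact hacomm
  have hT8 := card_sylow2 h T
  have hx4 := orderOf_eq_four_iff.mp hx
  have ha2 := orderOf_eq_two_iff'.mp hao
  -- `a` does not commute with `x`
  have hnc : a * x ≠ x * a := fun hcomm =>
    hane ((eq_sq_of_commute F hx hao hcomm).trans e0.symm)
  have hx'o : orderOf (⟨x, hxT⟩ : (T : Subgroup G)) = 4 := by
    rw [Subgroup.orderOf_mk]
    exact hx
  have ha'2 : (⟨a, haT⟩ : (T : Subgroup G)) * ⟨a, haT⟩ = 1 := by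
    apply Subtype.ext
    show a * a = 1
    rw [← sq]
    exact ha2.2
  have ha'_notin : (⟨a, haT⟩ : (T : Subgroup G)) ∉ Subgroup.zpowers (⟨x, hxT⟩ : (T : Subgroup G)) := by
    intro hmem
    obtain ⟨k, hk⟩ := Subgroup.mem_zpowers_iff.mp hmem
    have hk' : x ^ k = a := by
      have h1 := congrArg Subtype.val hk
      simpa using h1
    apply hnc
    rw [← hk']
    exact (Commute.zpow_left (Commute.refl x) k).eq
  have hidx : (Subgroup.zpowers (⟨x, hxT⟩ : (T : Subgroup G))).index = 2 := by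
    have h1 := Subgroup.card_mul_index (Subgroup.zpowers (⟨x, hxT⟩ : (T : Subgroup G)))
    rw [Nat.card_zpowers, hx'o, hT8] at h1
    omega
  have hnormal : (Subgroup.zpowers (⟨x, hxT⟩ : (T : Subgroup G))).Normal :=
    Subgroup.normal_of_index_eq_two hidx
  have hconj := hnormal.conj_mem _ (Subgroup.mem_zpowers (⟨x, hxT⟩ : (T : Subgroup G)))
    (⟨a, haT⟩ : (T : Subgroup G))
  rw [← mem_powers_iff_mem_zpowers, Submonoid.mem_powers_iff] at hconj
  obtain ⟨k, hk⟩ := hconj
  rw [← pow_mod_orderOf, hx'o] at hk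
  have hk4 : k % 4 < 4 := Nat.mod_lt _ (by norm_num)
  have hkG : x ^ (k % 4) = a * x * a⁻¹ := by
    have h1 := congrArg Subtype.val hk
    simpa using h1
  have hinvG : a * x * a⁻¹ = x⁻¹ := by
    generalize k % 4 = j at hkG hk4
    interval_cases j
    · exfalso
      rw [pow_zero] at hkG
      have hx1 : x ≠ 1 := by
        rintro rfl
        exact hx4.1 (one_pow 2)
      exact conj_ne_one hx1 hkG.symm
    · exfalso
      rw [pow_one] at hkG
      apply hnc
      calc a * x = (a * x * a⁻¹) * a := by group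
        _ = x * a := by rw [← hkG]
    · exfalso
      have h5 : (a * x * a⁻¹) ^ 2 = 1 := by
        rw [← hkG, ← pow_mul]
        exact hx4.2
      exact conj_pow_ne_one hx4.1 h5
    · rw [← hkG]
      apply eq_inv_of_mul_eq_one_left
      rw [← pow_succ]
      exact hx4.2
  have hinv : (⟨a, haT⟩ : (T : Subgroup G)) * ⟨x, hxT⟩ * (⟨a, haT⟩ : (T : Subgroup G))⁻¹
      = (⟨x, hxT⟩ : (T : Subgroup G))⁻¹ := by
    apply Subtype.ext
    show a * x * a⁻¹ = x⁻¹
    exact hinvG
  obtain ⟨e⟩ := Cfsg.Agent.Lib.Helper10.nonempty_mulEquiv_dihedralGroup 4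
    (⟨a, haT⟩ : (T : Subgroup G)) ⟨x, hxT⟩ hx'o ha'2 hinv ha'_notin
  have htop : Subgroup.zpowers (⟨a, haT⟩ : (T : Subgroup G)) ⊔ Subgroup.zpowers ⟨x, hxT⟩ = ⊤ := by
    apply Subgroup.eq_top_of_card_eq
    rw [Nat.card_congr e.toEquiv, DihedralGroup.nat_card, hT8]
  exact ⟨(Subgroup.topEquiv.symm.trans (MulEquiv.subgroupCongr htop.symm)).trans e⟩

theorem card_sylow2_eq (h : Nat.card G = 168) (F : Facts G) : Nat.card (Sylow 2 G) = 21 := by
  haveI : Fact (Nat.Prime 2) := ⟨Nat.prime_two⟩
  obtain ⟨T⟩ : Nonempty (Sylow 2 G) := inferInstance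
  rw [Sylow.card_eq_index_normalizer T]
  show (Subgroup.normalizer ((T : Subgroup G) : Set G)).index = 21
  rw [normalizer_sylow2 h F T]
  have h1 := Subgroup.card_mul_index (T : Subgroup G)
  rw [card_sylow2 h T, h] at h1
  omega

theorem card_sylow3_eq (h : Nat.card G = 168) (F : Facts G) : Nat.card (Sylow 3 G) = 28 := by
  haveI : Fact (Nat.Prime 3) := ⟨Nat.prime_three⟩
  obtain ⟨P⟩ : Nonempty (Sylow 3 G) := inferInstance
  have hP3 := card_sylow3 h P
  haveI : Nontrivial (P : Subgroup G) := by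
    rw [← Finite.one_lt_card_iff_nontrivial, hP3]
    norm_num
  obtain ⟨x', hx'⟩ := exists_ne (1 : (P : Subgroup G))
  obtain ⟨x, hxP⟩ := x'
  have hx1 : x ≠ 1 := fun h1 => hx' (Subtype.ext h1)
  have hx3 : orderOf x = 3 := by
    have hd := Subgroup.orderOf_dvd_natCard (P : Subgroup G) hxP
    rw [hP3] at hd
    rcases (Nat.dvd_prime Nat.prime_three).mp hd with h1 | h1
    · exact absurd (orderOf_eq_one_iff.mp h1) hx1
    · exact h1
  have hx3' := orderOf_eq_three_iff'.mp hx3
  have hzp : Subgroup.zpowers x = (P : Subgroup G) :=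
    Subgroup.eq_of_le_of_card_ge (Subgroup.zpowers_le.mpr hxP)
      (by rw [Nat.card_zpowers, hx3, hP3])
  have hC : Subgroup.centralizer ({x} : Set G) = (P : Subgroup G) := by
    rw [← hzp]
    symm
    apply Subgroup.eq_of_le_of_card_ge
    · rw [Subgroup.zpowers_le, Subgroup.mem_centralizer_singleton_iff]
    · rw [F.cent3 x hx3, Nat.card_zpowers, hx3]
  obtain ⟨g, hg⟩ := isConj_iff.mp (F.conj3 x x⁻¹ hx3 (by rw [orderOf_inv]; exact hx3))
  have hg' : g⁻¹ * x * g = x⁻¹ := by
    have h1 : x = g⁻¹ * x⁻¹ * g := by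
      rw [← hg]
      group
    calc g⁻¹ * x * g = (g⁻¹ * x⁻¹ * g)⁻¹ := by group
      _ = x⁻¹ := by rw [← h1]
  have hxinv : x⁻¹ ≠ x := by
    intro h1
    have h2 : x ^ 2 = 1 := by
      rw [sq]
      nth_rewrite 1 [← h1]
      exact inv_mul_cancel x
    have h3 := orderOf_dvd_of_pow_eq_one h2
    rw [hx3] at h3
    omega
  -- `g` normalizes `P`
  have hgN : g ∈ Subgroup.normalizer ((P : Subgroup G) : Set G) := by
    rw [Subgroup.mem_normalizer_iff]
    intro y
    rw [← hzp]
    constructor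
    · intro hy
      obtain ⟨k, rfl⟩ := Subgroup.mem_zpowers_iff.mp hy
      rw [← conj_zpow, hg]
      exact Subgroup.zpow_mem _ (Subgroup.inv_mem _ (Subgroup.mem_zpowers x)) k
    · intro hy
      obtain ⟨k, hk⟩ := Subgroup.mem_zpowers_iff.mp hy
      have h1 : y = (g⁻¹ * x * g) ^ k := by
        have h2 : (g⁻¹ * x * g) ^ k = g⁻¹ * x ^ k * g := by
          have h3 := conj_zpow (i := k) (a := g⁻¹) (b := x)
          rwa [inv_inv] at h3
        rw [h2, hk]
        group
      rw [h1, hg']
      exact Subgroup.zpow_mem _ (Subgroup.inv_mem _ (Subgroup.mem_zpowers x)) k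
  have hgP : g ∉ (P : Subgroup G) := by
    intro hgP
    rw [← hC, Subgroup.mem_centralizer_singleton_iff] at hgP
    apply hxinv
    rw [← hg, hgP]
    group
  -- every element of the normalizer lies in `P ∪ gP`
  have hcases : ∀ n ∈ Subgroup.normalizer ((P : Subgroup G) : Set G),
      n ∈ (P : Subgroup G) ∨ g⁻¹ * n ∈ (P : Subgroup G) := by
    intro n hn
    have hy : n * x * n⁻¹ ∈ (P : Subgroup G) := (Subgroup.mem_normalizer_iff.mp hn x).mp hxP
    rw [← hzp, ← mem_powers_iff_mem_zpowers, Submonoid.mem_powers_iff] at hy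
    obtain ⟨k, hk⟩ := hy
    rw [← pow_mod_orderOf, hx3] at hk
    have hk3 : k % 3 < 3 := Nat.mod_lt _ (by norm_num)
    generalize k % 3 = j at hk hk3
    interval_cases j
    · exfalso
      rw [pow_zero] at hk
      exact conj_ne_one hx1 hk.symm
    · left
      rw [← hC, Subgroup.mem_centralizer_singleton_iff]
      rw [pow_one] at hk
      calc n * x = (n * x * n⁻¹) * n := by group
        _ = x * n := by rw [← hk]
    · right
      rw [← hC, Subgroup.mem_centralizer_singleton_iff]
      have hx2 : x ^ 2 = x⁻¹ := by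
        apply eq_inv_of_mul_eq_one_left
        rw [← pow_succ]
        exact hx3'.2
      rw [hx2] at hk
      calc g⁻¹ * n * x = g⁻¹ * (n * x * n⁻¹) * n := by group
        _ = g⁻¹ * x⁻¹ * n := by rw [← hk]
        _ = (g⁻¹ * x * g)⁻¹ * g⁻¹ * n := by group
        _ = x * (g⁻¹ * n) := by rw [hg']; group
  -- the order of the normalizer
  have hsub : ((Subgroup.normalizer ((P : Subgroup G) : Set G) : Subgroup G) : Set G)
      ⊆ ((P : Subgroup G) : Set G) ∪ (fun c => g * c) '' ((P : Subgroup G) : Set G) := by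
    intro n hn
    rcases hcases n hn with h1 | h1
    · exact Or.inl h1
    · exact Or.inr ⟨g⁻¹ * n, h1, by group⟩
  have hPn : ((P : Subgroup G) : Set G).ncard = 3 := by
    rw [← Nat.card_coe_set_eq]
    exact hP3
  have hle : Nat.card (Subgroup.normalizer ((P : Subgroup G) : Set G)) ≤ 6 := by
    have e : Nat.card (Subgroup.normalizer ((P : Subgroup G) : Set G))
        = ((Subgroup.normalizer ((P : Subgroup G) : Set G) : Subgroup G) : Set G).ncard :=
      Nat.card_coe_set_eq _
    rw [e]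
    calc ((Subgroup.normalizer ((P : Subgroup G) : Set G) : Subgroup G) : Set G).ncard
        ≤ (((P : Subgroup G) : Set G) ∪ (fun c => g * c) '' ((P : Subgroup G) : Set G)).ncard :=
          Set.ncard_le_ncard hsub (Set.toFinite _)
      _ ≤ ((P : Subgroup G) : Set G).ncard
          + ((fun c => g * c) '' ((P : Subgroup G) : Set G)).ncard := Set.ncard_union_le _ _
      _ ≤ 3 + 3 := by
          have h1 := Set.ncard_image_le (f := fun c => g * c) (Set.toFinite ((P : Subgroup G) : Set G))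
          rw [hPn] at h1 ⊢
          omega
      _ = 6 := by norm_num
  have hdvd : 3 ∣ Nat.card (Subgroup.normalizer ((P : Subgroup G) : Set G)) := by
    have h1 := Subgroup.card_dvd_of_le (Subgroup.le_normalizer (H := (P : Subgroup G)))
    rw [hP3] at h1
    exact h1
  have hne3 : Nat.card (Subgroup.normalizer ((P : Subgroup G) : Set G)) ≠ 3 := by
    intro h3
    have heq : (P : Subgroup G) = Subgroup.normalizer ((P : Subgroup G) : Set G) :=
      Subgroup.eq_of_le_of_card_ge Subgroup.le_normalizer (by rw [h3, hP3])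
    apply hgP
    rw [heq]
    exact hgN
  have hpos : 0 < Nat.card (Subgroup.normalizer ((P : Subgroup G) : Set G)) := Nat.card_pos
  have h6 : Nat.card (Subgroup.normalizer ((P : Subgroup G) : Set G)) = 6 := by
    obtain ⟨c, hc⟩ := hdvd
    rw [hc] at hle hne3 hpos ⊢
    have : c = 2 := by omega
    rw [this]
  rw [Sylow.card_eq_index_normalizer P]
  show (Subgroup.normalizer ((P : Subgroup G) : Set G)).index = 28
  have h1 := Subgroup.card_mul_index (Subgroup.normalizer ((P : Subgroup G) : Set G))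
  rw [h6, h] at h1
  omega

theorem card_sylow7_eq [IsSimpleGroup G] (h : Nat.card G = 168) : Nat.card (Sylow 7 G) = 8 := by
  haveI : Fact (Nat.Prime 7) := ⟨by norm_num⟩
  have hG : 2 * Nat.card G = 7 * (7 ^ 2 - 1) := by rw [h]; norm_num
  obtain ⟨S⟩ := Cfsg.Agent.Helper4.PSLp.exists_setup (G := G) 7 (by norm_num) hG (by decide)
  exact S.hΩ

end Cfsg.Agent.Helper4.G168
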