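import Mathlib
import Cfsg.Prelude.Def_Balance
import Cfsg.Agent.Lib.Helper12.Generation
import Cfsg.Agent.Lib.Helper9.Misc

/-!
# The `k`-balanced functor is a signalizer functor (S1299), helper4.

`Δ F = signalizerDelta p F`, `Y x = centralizerPPrimeCore p x`.
Key facts: `Δ F ∩ C(B) ≤ Δ (F ⊔ B)` (from `k`-balance) for `F` of order `≥ p ^ k`; the subgroups
`K ≤ A` of relative index `≤ p` containing `a` pairwise meet in order `≥ p ^ k`; a subgroup `R` is
"well generated" if `R = ⟨R ∩ Δ K⟩`; this passes to the derived subgroup, and by descending the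
derived series (solvability) one gets `C_R(K₀) ≤ Δ K₀`.
-/

set_option autoImplicit false

namespace Cfsg.Agent.Lib.Helper4.KBal

open Cfsg Subgroup
open scoped commutatorElement

universe u
variable {G : Type u} [Group G]

section Basic
variable (p : ℕ)

theorem delta_anti {F₁ F₂ : Subgroup G} (h : F₁ ≤ F₂) :
    signalizerDelta p F₂ ≤ signalizerDelta p F₁ := by
  unfold signalizerDelta
  refine le_iInf fun a => ?_
  exact iInf_le (fun a : {a : G // a ∈ F₂ ∧ a ≠ 1} => centralizerPPrimeCore p (a : G))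
    ⟨a.1, h a.2.1, a.2.2⟩

theorem delta_le_cpc {F : Subgroup G} {f : G} (hf : f ∈ F) (hf1 : f ≠ 1) :
    signalizerDelta p F ≤ centralizerPPrimeCore p f := by
  unfold signalizerDelta
  exact iInf_le (fun a : {a : G // a ∈ F ∧ a ≠ 1} => centralizerPPrimeCore p (a : G)) ⟨f, hf, hf1⟩

theorem cpc_le_centralizer (x : G) : centralizerPPrimeCore p x ≤ centralizer ({x} : Set G) := by
  unfold centralizerPPrimeCore
  exact Subgroup.map_subtype_le _

theorem delta_le_centralizer (F : Subgroup G) :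
    signalizerDelta p F ≤ centralizer (F : Set G) := by
  intro x hx
  rw [mem_centralizer_iff]
  intro f hf
  by_cases hf1 : f = 1
  · subst hf1; simp
  · have h1 := cpc_le_centralizer p f (delta_le_cpc p hf hf1 hx)
    exact (mem_centralizer_iff.mp h1) f rfl

theorem cpc_conj_mem {x y d : G} (hy : y * x = x * y) (hd : d ∈ centralizerPPrimeCore p x) :
    y * d * y⁻¹ ∈ centralizerPPrimeCore p x := by
  have hyc : y ∈ centralizer ({x} : Set G) := by
    rw [mem_centralizer_iff]
    intro w hw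
    rw [Set.mem_singleton_iff] at hw
    rw [hw]; exact hy.symm
  unfold centralizerPPrimeCore at hd ⊢
  obtain ⟨z, hz, rfl⟩ := hd
  have hn : (pPrimeCore p ↥(centralizer ({x} : Set G))).Normal :=
    Cfsg.Agent.Lib.Helper1.pPrimeCore_normal p
  exact ⟨⟨y, hyc⟩ * z * ⟨y, hyc⟩⁻¹, hn.conj_mem _ hz _, rfl⟩

theorem delta_conj_mem {F : Subgroup G} {g x : G} (hg : g ∈ centralizer (F : Set G))
    (hx : x ∈ signalizerDelta p F) : g * x * g⁻¹ ∈ signalizerDelta p F := by
  unfold signalizerDelta at hx ⊢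
  rw [mem_iInf] at hx ⊢
  intro a
  exact cpc_conj_mem p ((mem_centralizer_iff.mp hg a.1 a.2.1).symm) (hx a)

theorem cpc_coprime [Finite G] (x : G) : (Nat.card (centralizerPPrimeCore p x)).Coprime p := by
  unfold centralizerPPrimeCore
  rw [Subgroup.card_map_of_injective (Subgroup.subtype_injective _)]
  exact Cfsg.Agent.Lib.Helper1.pPrimeCore_coprime p

theorem comm_of_ea {A : Subgroup G} (hA : IsElementaryAbelian p A) :
    ∀ x ∈ A, ∀ y ∈ A, x * y = y * x :=
  Cfsg.Agent.Lib.Helper12.isElementaryAbelian_comm hA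

theorem ea_of_le {A D : Subgroup G} (hA : IsElementaryAbelian p A) (hD : D ≤ A) :
    IsElementaryAbelian p D :=
  ⟨⟨⟨fun x y => Subtype.ext (comm_of_ea p hA x.1 (hD x.2) y.1 (hD y.2))⟩⟩,
    fun x hx => hA.2 x (hD hx)⟩

theorem le_normalizer_delta {A F : Subgroup G} (hA : IsElementaryAbelian p A) (hF : F ≤ A) :
    A ≤ normalizer (signalizerDelta p F : Set G) := by
  apply Cfsg.Agent.Lib.Helper1.le_normalizer_of_forall_conj_mem
  intro b hb x hx
  refine delta_conj_mem p ?_ hx
  rw [mem_centralizer_iff]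
  intro f hf
  exact comm_of_ea p hA f (hF hf) b hb

theorem le_normalizer_centralizer_of_comm {A B : Subgroup G}
    (h : ∀ x ∈ A, ∀ y ∈ B, x * y = y * x) :
    A ≤ normalizer (centralizer (B : Set G) : Set G) := by
  apply Cfsg.Agent.Lib.Helper1.le_normalizer_of_forall_conj_mem
  intro x hx n hn
  rw [mem_centralizer_iff] at hn ⊢
  intro b hb
  have h1 : b * n = n * b := hn b hb
  have h2 : x * b = b * x := h x hx b hb
  have h3 : b * x⁻¹ = x⁻¹ * b := by
    have := congrArg (fun z => x⁻¹ * z * x⁻¹) h2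
    simpa [mul_assoc] using this
  calc b * (x * n * x⁻¹) = (b * x) * n * x⁻¹ := by group
    _ = (x * b) * n * x⁻¹ := by rw [h2]
    _ = x * (b * n) * x⁻¹ := by group
    _ = x * (n * b) * x⁻¹ := by rw [h1]
    _ = x * n * (b * x⁻¹) := by group
    _ = x * n * (x⁻¹ * b) := by rw [h3]
    _ = x * n * x⁻¹ * b := by group

end Basic

section Card
variable [Finite G]

theorem card_lower {A K : Subgroup G} {m r : ℕ} (hKA : K ≤ A) (hr : K.relIndex A ≤ r)
    (hm : m * r ≤ Nat.card A) (hr0 : 0 < r) : m ≤ Nat.card K := by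
  have h4 : Nat.card K * K.relIndex A = Nat.card A :=
    Cfsg.Agent.Lib.Helper1.card_mul_relIndex_of_le hKA
  by_contra hlt
  push Not at hlt
  have h5 : Nat.card A < m * r := by
    calc Nat.card A = Nat.card K * K.relIndex A := h4.symm
      _ ≤ Nat.card K * r := Nat.mul_le_mul_left _ hr
      _ < m * r := Nat.mul_lt_mul_of_pos_right hlt hr0
  omega

theorem exists_le_card_pow {p k : ℕ} [Fact p.Prime] {A F : Subgroup G}
    (hA : IsElementaryAbelian p A) (hF : F ≤ A) (hFk : p ^ k ≤ Nat.card F) :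
    ∃ D : Subgroup G, D ≤ F ∧ Nat.card D = p ^ k := by
  have hp : p.Prime := Fact.out
  have hFp : IsPGroup p F :=
    Cfsg.Agent.Lib.Helper12.isPGroup_of_exponent (fun x hx => hA.2 x (hF hx))
  obtain ⟨m, hm⟩ := IsPGroup.iff_card.mp hFp
  have hkm : k ≤ m := by
    rw [hm] at hFk
    exact (Nat.pow_le_pow_iff_right hp.one_lt).mp hFk
  have hdvd : p ^ k ∣ Nat.card F := by
    rw [hm]; exact pow_dvd_pow p hkm
  obtain ⟨K, hK⟩ := Sylow.exists_subgroup_card_pow_prime p hdvd
  refine ⟨K.map F.subtype, Subgroup.map_subtype_le K, ?_⟩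
  rw [Subgroup.card_map_of_injective (Subgroup.subtype_injective _)]
  exact hK

end Card

section Balance
variable [Finite G] {p k : ℕ} [Fact p.Prime]

/-- `k`-balance for subgroups of order `≥ p ^ k`. -/
theorem delta_inf_centralizer_le_cpc (hbal : IsKBalanced p k G) {A : Subgroup G}
    (hA : IsElementaryAbelian p A) {F : Subgroup G} (hF : F ≤ A) (hFk : p ^ k ≤ Nat.card F)
    {x : G} (hx : x ∈ A) (hx1 : x ≠ 1) :
    signalizerDelta p F ⊓ centralizer {x} ≤ centralizerPPrimeCore p x := by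
  have hp : p.Prime := Fact.out
  obtain ⟨D, hDF, hDk⟩ := exists_le_card_pow hA hF hFk
  have hD : IsElementaryAbelian p D := ea_of_le p hA (hDF.trans hF)
  exact (inf_le_inf_right _ (delta_anti p hDF)).trans
    (hbal D hD hDk x (orderOf_eq_prime (hA.2 x hx) hx1)
      (fun a ha => comm_of_ea p hA a (hF (hDF ha)) x hx))

/-- `Δ F ∩ C(B) ≤ Δ (F ⊔ B)`. -/
theorem le_delta_sup (hbal : IsKBalanced p k G) {A : Subgroup G}
    (hA : IsElementaryAbelian p A) {F B X : Subgroup G} (hF : F ≤ A) (hB : B ≤ A)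
    (hFk : p ^ k ≤ Nat.card F) (hXF : X ≤ signalizerDelta p F)
    (hXB : X ≤ centralizer (B : Set G)) : X ≤ signalizerDelta p (F ⊔ B) := by
  intro g hg
  unfold signalizerDelta
  rw [mem_iInf]
  rintro ⟨x, hx, hx1⟩
  have hxA : x ∈ A := (sup_le hF hB) hx
  apply delta_inf_centralizer_le_cpc hbal hA hF hFk hxA hx1
  refine mem_inf.mpr ⟨hXF hg, ?_⟩
  have hFc : F ≤ centralizer ({g} : Set G) := fun f hf => by
    rw [mem_centralizer_iff]
    intro h hh
    rw [Set.mem_singleton_iff] at hh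
    subst hh
    exact ((mem_centralizer_iff.mp (delta_le_centralizer p F (hXF hg))) f hf).symm
  have hBc : B ≤ centralizer ({g} : Set G) := fun f hf => by
    rw [mem_centralizer_iff]
    intro h hh
    rw [Set.mem_singleton_iff] at hh
    subst hh
    exact ((mem_centralizer_iff.mp (hXB hg)) f hf).symm
  have hxc := (sup_le hFc hBc) hx
  rw [mem_centralizer_iff] at hxc ⊢
  intro h hh
  rw [Set.mem_singleton_iff] at hh
  subst hh
  exact (hxc g rfl).symm

/-- The index family: subgroups of `A` of relative index `≤ p` containing `a`. -/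
def Hyp (p : ℕ) (A : Subgroup G) (a : G) (K : Subgroup G) : Prop :=
  K ≤ A ∧ a ∈ K ∧ K.relIndex A ≤ p

theorem Hyp.card_ge {A : Subgroup G} {a : G} {K : Subgroup G} (hAk : p ^ (k + 2) ≤ Nat.card A)
    (h : Hyp p A a K) : p ^ k ≤ Nat.card K := by
  have hp : p.Prime := Fact.out
  refine card_lower h.1 h.2.2 (le_trans ?_ hAk) hp.pos
  calc p ^ k * p = p ^ (k + 1) := by ring
    _ ≤ p ^ (k + 2) := Nat.pow_le_pow_right hp.pos (by omega)

theorem Hyp.card_inf_ge {A : Subgroup G} {a : G} {K₁ K₂ : Subgroup G}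
    (hAk : p ^ (k + 2) ≤ Nat.card A) (h1 : Hyp p A a K₁) (h2 : Hyp p A a K₂) :
    p ^ k ≤ Nat.card ↥(K₁ ⊓ K₂) := by
  have hp : p.Prime := Fact.out
  have h3 : (K₁ ⊓ K₂).relIndex A ≤ p * p :=
    (Subgroup.relIndex_inf_le (H := K₁) (K := K₂) (L := A)).trans (Nat.mul_le_mul h1.2.2 h2.2.2)
  refine card_lower (inf_le_left.trans h1.1) h3 (le_trans (le_of_eq ?_) hAk)
    (Nat.mul_pos hp.pos hp.pos)
  ring

/-- **Redecomposition**: an `A`-invariant subgroup of some `Δ F` (`a ∈ F`, `|F| ≥ p ^ k`) is generated by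
its intersections with the `Δ K`, `K` in the index family. -/
theorem le_iSup_inf_delta (hbal : IsKBalanced p k G) {A : Subgroup G}
    (hA : IsElementaryAbelian p A) {a : G} (ha1 : a ≠ 1) {F X : Subgroup G} (hF : F ≤ A)
    (hFk : p ^ k ≤ Nat.card F) (haF : a ∈ F) (hXA : A ≤ normalizer (X : Set G))
    (hXF : X ≤ signalizerDelta p F) :
    X ≤ ⨆ K : {K : Subgroup G // Hyp p A a K}, X ⊓ signalizerDelta p K.1 := by
  have hp : p.Prime := Fact.out
  have hpX : ¬ p ∣ Nat.card X := by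
    have h1 : Nat.card X ∣ Nat.card (centralizerPPrimeCore p a) :=
      Subgroup.card_dvd_of_le (hXF.trans (delta_le_cpc p haF ha1))
    intro h2
    have h3 := (cpc_coprime p a)
    exact hp.one_lt.ne' (Nat.eq_one_of_dvd_coprimes h3.symm (dvd_refl p) (h2.trans h1))
  refine (Cfsg.Agent.Lib.Helper12.le_iSup_relIndex_le_of_isElementaryAbelian hA hXA hpX).trans
    (iSup_le ?_)
  rintro ⟨D, hDA, hDp⟩
  have hK : Hyp p A a (F ⊔ D) :=
    ⟨sup_le hF hDA, mem_sup_left haF, (Subgroup.relIndex_le_of_le_left le_sup_right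
      (by rw [Subgroup.relIndex]; exact Subgroup.index_ne_zero_of_finite)).trans hDp⟩
  refine le_trans ?_ (le_iSup (fun K : {K : Subgroup G // Hyp p A a K} =>
    X ⊓ signalizerDelta p K.1) ⟨F ⊔ D, hK⟩)
  exact le_inf inf_le_left
    (le_delta_sup hbal hA hF hDA hFk (inf_le_left.trans hXF) inf_le_right)

end Balance

section Inv

theorem le_normalizer_iSup {ι : Sort*} {A : Subgroup G} (S : ι → Subgroup G)
    (h : ∀ i, A ≤ normalizer (S i : Set G)) : A ≤ normalizer ((⨆ i, S i : Subgroup G) : Set G) := by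
  apply Cfsg.Agent.Lib.Helper1.le_normalizer_of_forall_conj_mem
  intro x hx n hn
  refine Subgroup.iSup_induction S (C := fun n => x * n * x⁻¹ ∈ ⨆ i, S i) hn ?_ ?_ ?_
  · intro i n hn
    exact (le_iSup S i) ((mem_normalizer_iff.mp (h i hx) n).mp hn)
  · simp
  · intro y z hy hz
    have : x * (y * z) * x⁻¹ = (x * y * x⁻¹) * (x * z * x⁻¹) := by group
    rw [this]
    exact mul_mem hy hz

theorem le_normalizer_inf {A U V : Subgroup G} (hU : A ≤ normalizer (U : Set G))
    (hV : A ≤ normalizer (V : Set G)) : A ≤ normalizer ((U ⊓ V : Subgroup G) : Set G) := by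
  apply Cfsg.Agent.Lib.Helper1.le_normalizer_of_forall_conj_mem
  intro x hx n hn
  exact mem_inf.mpr ⟨(mem_normalizer_iff.mp (hU hx) n).mp hn.1,
    (mem_normalizer_iff.mp (hV hx) n).mp hn.2⟩

theorem le_normalizer_sup {A U V : Subgroup G} (hU : A ≤ normalizer (U : Set G))
    (hV : A ≤ normalizer (V : Set G)) : A ≤ normalizer ((U ⊔ V : Subgroup G) : Set G) := by
  rw [sup_eq_iSup]
  apply le_normalizer_iSup
  intro b
  cases b <;> assumption

theorem mem_centralizer_sup {B C : Subgroup G} {x : G} (hB : x ∈ centralizer (B : Set G))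
    (hC : x ∈ centralizer (C : Set G)) : x ∈ centralizer ((B ⊔ C : Subgroup G) : Set G) := by
  have hBc : B ≤ centralizer ({x} : Set G) := fun f hf => by
    rw [mem_centralizer_iff]
    intro h hh
    rw [Set.mem_singleton_iff] at hh
    subst hh
    exact ((mem_centralizer_iff.mp hB) f hf).symm
  have hCc : C ≤ centralizer ({x} : Set G) := fun f hf => by
    rw [mem_centralizer_iff]
    intro h hh
    rw [Set.mem_singleton_iff] at hh
    subst hh
    exact ((mem_centralizer_iff.mp hC) f hf).symm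
  rw [mem_centralizer_iff]
  intro f hf
  have := (sup_le hBc hCc) hf
  rw [mem_centralizer_iff] at this
  exact (this x rfl).symm

theorem mem_centralizer_zpowers {a x : G} (h : x ∈ centralizer ({a} : Set G)) :
    x ∈ centralizer ((zpowers a : Subgroup G) : Set G) := by
  rw [Subgroup.zpowers_eq_closure, Subgroup.centralizer_closure]
  simpa using h

end Inv

section Main
variable [Finite G] {p k : ℕ} [Fact p.Prime]

/-- `Q ∩ Δ (K₁ ∩ K₂)` redecomposes along the index family. -/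
theorem inf_delta_inf_le (hbal : IsKBalanced p k G) {A : Subgroup G}
    (hA : IsElementaryAbelian p A) (hAk : p ^ (k + 2) ≤ Nat.card A) {a : G} (ha1 : a ≠ 1)
    {K₁ K₂ : Subgroup G} (h1 : Hyp p A a K₁) (h2 : Hyp p A a K₂) {Q : Subgroup G}
    (hQA : A ≤ normalizer (Q : Set G)) :
    Q ⊓ signalizerDelta p (K₁ ⊓ K₂) ≤
      ⨆ K : {K : Subgroup G // Hyp p A a K}, Q ⊓ signalizerDelta p K.1 := by
  have hF : K₁ ⊓ K₂ ≤ A := inf_le_left.trans h1.1
  refine (le_iSup_inf_delta hbal hA ha1 hF (Hyp.card_inf_ge hAk h1 h2)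
    (mem_inf.mpr ⟨h1.2.1, h2.2.1⟩) (le_normalizer_inf hQA (le_normalizer_delta p hA hF))
    inf_le_right).trans ?_
  exact iSup_mono fun K => inf_le_inf_right _ inf_le_left

theorem conj_mem_delta_inf {K₁ K₂ : Subgroup G} {s u : G} (hs : s ∈ signalizerDelta p K₁)
    (hu : u ∈ signalizerDelta p K₂) : s * u * s⁻¹ ∈ signalizerDelta p (K₁ ⊓ K₂) :=
  mul_mem (mul_mem (delta_anti p inf_le_left hs) (delta_anti p inf_le_right hu))
    (inv_mem (delta_anti p inf_le_left hs))

theorem comm_mem_delta_inf {K₁ K₂ : Subgroup G} {s u : G} (hs : s ∈ signalizerDelta p K₁)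
    (hu : u ∈ signalizerDelta p K₂) : ⁅s, u⁆ ∈ signalizerDelta p (K₁ ⊓ K₂) := by
  rw [commutatorElement_def]
  exact mul_mem (conj_mem_delta_inf hs hu) (inv_mem (delta_anti p inf_le_right hu))

/-- The derived step: with `M = ⟨R' ∩ Δ K⟩`, `R` normalizes `M` and `[R, R] ≤ M`. -/
theorem derived_step (hbal : IsKBalanced p k G) {A : Subgroup G}
    (hA : IsElementaryAbelian p A) (hAk : p ^ (k + 2) ≤ Nat.card A) {a : G} (ha1 : a ≠ 1)
    {R : Subgroup G} (hRA : A ≤ normalizer (R : Set G))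
    (hRw : R ≤ ⨆ K : {K : Subgroup G // Hyp p A a K}, R ⊓ signalizerDelta p K.1) :
    (∀ x ∈ R, ∀ n ∈ (⨆ K : {K : Subgroup G // Hyp p A a K}, ⁅R, R⁆ ⊓ signalizerDelta p K.1),
      x * n * x⁻¹ ∈ (⨆ K : {K : Subgroup G // Hyp p A a K}, ⁅R, R⁆ ⊓ signalizerDelta p K.1)) ∧
    (∀ x ∈ R, ∀ y ∈ R,
      ⁅x, y⁆ ∈ (⨆ K : {K : Subgroup G // Hyp p A a K}, ⁅R, R⁆ ⊓ signalizerDelta p K.1)) := by
  set M : Subgroup G := ⨆ K : {K : Subgroup G // Hyp p A a K}, ⁅R, R⁆ ⊓ signalizerDelta p K.1
    with hM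
  have hR'A : A ≤ normalizer ((⁅R, R⁆ : Subgroup G) : Set G) :=
    Cfsg.Agent.Lib.Helper12.commutator_self_le_normalizer' hRA
  have hR'R : R ≤ normalizer ((⁅R, R⁆ : Subgroup G) : Set G) :=
    Cfsg.Agent.Lib.Helper12.commutator_self_le_normalizer' le_normalizer
  -- (α) generators normalize `M`
  have hα : ∀ (K₁ : {K : Subgroup G // Hyp p A a K}), ∀ s ∈ R ⊓ signalizerDelta p K₁.1,
      ∀ u ∈ M, s * u * s⁻¹ ∈ M := by
    intro K₁ s hs u hu
    refine Subgroup.iSup_induction
      (fun K : {K : Subgroup G // Hyp p A a K} => ⁅R, R⁆ ⊓ signalizerDelta p K.1)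
      (C := fun u => s * u * s⁻¹ ∈ M) hu ?_ ?_ ?_
    · intro K₂ u hu
      apply inf_delta_inf_le hbal hA hAk ha1 K₁.2 K₂.2 hR'A
      exact mem_inf.mpr ⟨(mem_normalizer_iff.mp (hR'R hs.1) u).mp hu.1,
        conj_mem_delta_inf hs.2 hu.2⟩
    · simp
    · intro y z hy hz
      have : s * (y * z) * s⁻¹ = (s * y * s⁻¹) * (s * z * s⁻¹) := by group
      rw [this]
      exact mul_mem hy hz
  have hnorm : ∀ x ∈ R, ∀ n ∈ M, x * n * x⁻¹ ∈ M := by
    intro x hx
    refine Subgroup.iSup_induction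
      (fun K : {K : Subgroup G // Hyp p A a K} => R ⊓ signalizerDelta p K.1)
      (C := fun x => ∀ n ∈ M, x * n * x⁻¹ ∈ M) (hRw hx) ?_ ?_ ?_
    · intro K₁ s hs n hn
      exact hα K₁ s hs n hn
    · intro n hn
      simpa using hn
    · intro y z hy hz n hn
      have : y * z * n * (y * z)⁻¹ = y * (z * n * z⁻¹) * y⁻¹ := by group
      rw [this]
      exact hy _ (hz n hn)
  -- (β) commutators of generators
  have hβ : ∀ (K₁ K₂ : {K : Subgroup G // Hyp p A a K}), ∀ s ∈ R ⊓ signalizerDelta p K₁.1,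
      ∀ t ∈ R ⊓ signalizerDelta p K₂.1, ⁅s, t⁆ ∈ M := by
    intro K₁ K₂ s hs t ht
    apply inf_delta_inf_le hbal hA hAk ha1 K₁.2 K₂.2 hR'A
    exact mem_inf.mpr ⟨Subgroup.commutator_mem_commutator hs.1 ht.1, comm_mem_delta_inf hs.2 ht.2⟩
  -- (γ) all commutators
  have hγ1 : ∀ (K₂ : {K : Subgroup G // Hyp p A a K}), ∀ t ∈ R ⊓ signalizerDelta p K₂.1,
      ∀ x ∈ R, ⁅x, t⁆ ∈ M := by
    intro K₂ t ht x hx
    have := Subgroup.iSup_induction
      (fun K : {K : Subgroup G // Hyp p A a K} => R ⊓ signalizerDelta p K.1)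
      (C := fun x => x ∈ R ∧ ⁅x, t⁆ ∈ M) (hRw hx) ?_ ?_ ?_
    · exact this.2
    · intro K₁ s hs
      exact ⟨hs.1, hβ K₁ K₂ s hs t ht⟩
    · exact ⟨one_mem _, by simp⟩
    · rintro y z ⟨hyR, hy⟩ ⟨hzR, hz⟩
      refine ⟨mul_mem hyR hzR, ?_⟩
      have : ⁅y * z, t⁆ = (y * ⁅z, t⁆ * y⁻¹) * ⁅y, t⁆ := by
        simp only [commutatorElement_def]; group
      rw [this]
      exact mul_mem (hnorm y hyR _ hz) hy
  have hγ : ∀ x ∈ R, ∀ y ∈ R, ⁅x, y⁆ ∈ M := by
    intro x hx y hy
    have := Subgroup.iSup_induction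
      (fun K : {K : Subgroup G // Hyp p A a K} => R ⊓ signalizerDelta p K.1)
      (C := fun y => y ∈ R ∧ ⁅x, y⁆ ∈ M) (hRw hy) ?_ ?_ ?_
    · exact this.2
    · intro K₂ t ht
      exact ⟨ht.1, hγ1 K₂ t ht x hx⟩
    · exact ⟨one_mem _, by simp⟩
    · rintro y z ⟨hyR, hy⟩ ⟨hzR, hz⟩
      refine ⟨mul_mem hyR hzR, ?_⟩
      have : ⁅x, y * z⁆ = ⁅x, y⁆ * (y * ⁅x, z⁆ * y⁻¹) := by
        simp only [commutatorElement_def]; group
      rw [this]
      exact mul_mem hy (hnorm y hyR _ hz)
  exact ⟨hnorm, hγ⟩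

theorem not_dvd_of_le_cpc {a : G} {P : Subgroup G} (h : P ≤ centralizerPPrimeCore p a) :
    ¬ p ∣ Nat.card P := by
  have hp : p.Prime := Fact.out
  intro h2
  have h3 := (cpc_coprime p a)
  exact hp.one_lt.ne' (Nat.eq_one_of_dvd_coprimes h3.symm (dvd_refl p)
    (h2.trans (Subgroup.card_dvd_of_le h)))

/-- **Main induction**: a solvable `A`-invariant well-generated subgroup `R` has
`C_R(K₀) ≤ Δ K₀`. -/
theorem main_induction (hbal : IsKBalanced p k G) {A : Subgroup G}
    (hA : IsElementaryAbelian p A) (hAk : p ^ (k + 2) ≤ Nat.card A) {a : G} (ha1 : a ≠ 1)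
    {K₀ : Subgroup G} (hK₀ : Hyp p A a K₀) :
    ∀ (n : ℕ) (R : Subgroup G), Nat.card R = n → A ≤ normalizer (R : Set G) →
      Group.IsSolvable ↥R →
      R ≤ (⨆ K : {K : Subgroup G // Hyp p A a K}, R ⊓ signalizerDelta p K.1) →
      R ⊓ centralizer (K₀ : Set G) ≤ signalizerDelta p K₀ := by
  intro n
  induction n using Nat.strong_induction_on with
  | _ n ih =>
  intro R hn hRA hRs hRw
  by_cases hbot : R = ⊥
  · subst hbot; simp
  set M : Subgroup G := ⨆ K : {K : Subgroup G // Hyp p A a K}, ⁅R, R⁆ ⊓ signalizerDelta p K.1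
    with hM
  obtain ⟨hnorm, hγ⟩ := derived_step hbal hA hAk ha1 hRA hRw
  have hR'A : A ≤ normalizer ((⁅R, R⁆ : Subgroup G) : Set G) :=
    Cfsg.Agent.Lib.Helper12.commutator_self_le_normalizer' hRA
  have hMR' : M ≤ ⁅R, R⁆ := iSup_le fun K => inf_le_left
  have hR'lt : ⁅R, R⁆ < R := Cfsg.Agent.Lib.Helper12.commutator_self_lt hRs hbot
  have hMR : M ≤ R := hMR'.trans hR'lt.le
  have hMlt : Nat.card M < n := by
    rw [← hn]
    have hlt : M < R := lt_of_le_of_lt hMR' hR'lt
    exact lt_of_le_of_ne (Subgroup.card_le_of_le hlt.le)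
      (fun he => hlt.ne (Subgroup.eq_of_le_of_card_ge hlt.le he.ge))
  have hMA : A ≤ normalizer (M : Set G) :=
    le_normalizer_iSup _ (fun K => le_normalizer_inf hR'A (le_normalizer_delta p hA K.2.1))
  have hMs : Group.IsSolvable ↥M := by
    haveI := hRs
    exact solvable_of_solvable_injective (Subgroup.inclusion_injective hMR)
  have hMw : M ≤ ⨆ K : {K : Subgroup G // Hyp p A a K}, M ⊓ signalizerDelta p K.1 :=
    iSup_le fun K => (le_inf (le_iSup (fun K : {K : Subgroup G // Hyp p A a K} =>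
      ⁅R, R⁆ ⊓ signalizerDelta p K.1) K) inf_le_right).trans
      (le_iSup (fun K : {K : Subgroup G // Hyp p A a K} => M ⊓ signalizerDelta p K.1) K)
  have ihM := ih _ hMlt M rfl hMA hMs hMw
  have hRcpc : R ≤ centralizerPPrimeCore p a :=
    hRw.trans (iSup_le fun K => inf_le_right.trans (delta_le_cpc p K.2.2.1 ha1))
  have hδ : ∀ P : Subgroup G, M ≤ P → P ≤ R → R ≤ normalizer (P : Set G) := by
    intro P hMP hPR
    apply Cfsg.Agent.Lib.Helper1.le_normalizer_of_forall_conj_mem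
    intro x hx n hn
    have : x * n * x⁻¹ = ⁅x, n⁆ * n := by simp [commutatorElement_def]
    rw [this]
    exact mul_mem (hMP (hγ x hx n (hPR hn))) hn
  have hK₀A : K₀ ≤ A := hK₀.1
  classical
  haveI : Fintype {K : Subgroup G // Hyp p A a K} := Fintype.ofFinite _
  have key : ∀ s : Finset {K : Subgroup G // Hyp p A a K},
      (M ⊔ ⨆ K ∈ s, R ⊓ signalizerDelta p K.1) ⊓ centralizer (K₀ : Set G) ≤
        signalizerDelta p K₀ := by
    intro s
    induction s using Finset.induction_on with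
    | empty => simpa using ihM
    | insert K s hKs ihs =>
      set Y : Subgroup G := M ⊔ ⨆ K' ∈ s, R ⊓ signalizerDelta p K'.1 with hY
      set X : Subgroup G := R ⊓ signalizerDelta p K.1 with hX
      have hrew : (M ⊔ ⨆ K' ∈ insert K s, R ⊓ signalizerDelta p K'.1) = Y ⊔ X := by
        rw [Finset.iSup_insert, hY, ← hX]
        ac_rfl
      rw [hrew]
      have hYR : Y ≤ R := sup_le hMR (iSup₂_le fun K' _ => inf_le_left)
      have hMY : M ≤ Y := le_sup_left
      have hXR : X ≤ R := inf_le_left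
      have hXnY : X ≤ normalizer (Y : Set G) := hXR.trans (hδ Y hMY hYR)
      have hYA : A ≤ normalizer (Y : Set G) :=
        le_normalizer_sup hMA (le_normalizer_iSup _ fun K' => le_normalizer_iSup _ fun _ =>
          le_normalizer_inf hRA (le_normalizer_delta p hA K'.2.1))
      have hXA : A ≤ normalizer (X : Set G) :=
        le_normalizer_inf hRA (le_normalizer_delta p hA K.2.1)
      have hact : Cfsg.Agent.Lib.Helper1.CoprimeAct K₀ (Y ⊔ X) :=
        Cfsg.Agent.Lib.Helper12.coprimeAct_of_exponent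
          (fun x hx y hy => comm_of_ea p hA x (hK₀A hx) y (hK₀A hy))
          (fun x hx => hA.2 x (hK₀A hx)) (hK₀A.trans (le_normalizer_sup hYA hXA))
          (not_dvd_of_le_cpc ((sup_le hYR hXR).trans hRcpc))
      intro g hg
      obtain ⟨y, hy, x, hx, hgyx⟩ := hact.centralizer_mul (X := Y) (Y := X) le_sup_left
        le_sup_right (hK₀A.trans hYA) (hK₀A.trans hXA)
        (fun k hk => by
          obtain ⟨y, hy, x, hx, h⟩ :=
            (Cfsg.Agent.Lib.Helper9.mem_sup_of_le_normalizer hXnY).mp hk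
          exact ⟨y, hy, x, hx, h.symm⟩) g hg
      have hyΔ : y ∈ signalizerDelta p K₀ := ihs hy
      have hxΔ : x ∈ signalizerDelta p K₀ := by
        have h1 : x ∈ signalizerDelta p (K.1 ⊔ K₀) :=
          le_delta_sup hbal hA K.2.1 hK₀A (Hyp.card_ge hAk K.2)
            (X := X ⊓ centralizer (K₀ : Set G)) (inf_le_left.trans inf_le_right) inf_le_right hx
        exact delta_anti p le_sup_right h1
      rw [hgyx]
      exact mul_mem hyΔ hxΔ
  refine le_trans (inf_le_inf_right _ ?_) (key Finset.univ)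
  exact hRw.trans (iSup_le fun K => le_sup_of_le_right
    (le_iSup₂_of_le K (Finset.mem_univ K) le_rfl))

end Main

section Final
variable [Finite G] {p k : ℕ} [Fact p.Prime]

/-- **S1299**. -/
theorem kBalanced_isSignalizerFunctor (hk : 1 ≤ k) (hbal : IsKBalanced p k G) (A : Subgroup G)
    (hA : IsElementaryAbelian p A) (hAk : p ^ (k + 2) ≤ Nat.card A)
    (hsolv : ∀ a ∈ A, a ≠ 1 → Group.IsSolvable ↥(centralizerPPrimeCore p a)) :
    IsSignalizerFunctor p A (fun a => ⨆ D : {D : Subgroup G // D ≤ A ∧ Nat.card ↥D = p ^ k},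
      signalizerDelta p (D : Subgroup G) ⊓ Subgroup.centralizer {a}) := by
  have hp : p.Prime := Fact.out
  -- each `θ a ≤ O_{p'}(C(a))`
  have hθcpc : ∀ a ∈ A, a ≠ 1 →
      (⨆ D : {D : Subgroup G // D ≤ A ∧ Nat.card ↥D = p ^ k},
        signalizerDelta p (D : Subgroup G) ⊓ Subgroup.centralizer {a}) ≤
        centralizerPPrimeCore p a := by
    intro a ha ha1
    refine iSup_le fun D => ?_
    exact hbal D.1 (ea_of_le p hA D.2.1) D.2.2 a (orderOf_eq_prime (hA.2 a ha) ha1)
      (fun d hd => comm_of_ea p hA d (D.2.1 hd) a ha)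
  -- `A`-invariance
  have hθA : ∀ a ∈ A, A ≤ normalizer
      ((⨆ D : {D : Subgroup G // D ≤ A ∧ Nat.card ↥D = p ^ k},
        signalizerDelta p (D : Subgroup G) ⊓ Subgroup.centralizer {a} : Subgroup G) : Set G) := by
    intro a ha
    refine le_normalizer_iSup _ fun D => le_normalizer_inf (le_normalizer_delta p hA D.2.1) ?_
    intro b hb
    exact Cfsg.Agent.Lib.Helper12.mem_normalizer_centralizer_singleton (comm_of_ea p hA b hb a ha)
  refine ⟨?_, ?_, ?_, ?_⟩
  · intro a _ _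
    exact iSup_le fun D => inf_le_right
  · intro a ha ha1
    exact not_dvd_of_le_cpc (hθcpc a ha ha1)
  · intro a ha _ b hb x hx
    exact (mem_normalizer_iff.mp (hθA a ha hb) x).mp hx
  · intro a ha ha1 b hb hb1
    set θa : Subgroup G := ⨆ D : {D : Subgroup G // D ≤ A ∧ Nat.card ↥D = p ^ k},
        signalizerDelta p (D : Subgroup G) ⊓ Subgroup.centralizer {a} with hθa
    set T : Subgroup G := ⨆ K : {K : Subgroup G // Hyp p A a K}, signalizerDelta p K.1 with hT
    -- `θ a ≤ T`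
    have hθT : θa ≤ T := by
      refine iSup_le fun D => ?_
      set X : Subgroup G := signalizerDelta p (D : Subgroup G) ⊓ Subgroup.centralizer {a} with hX
      have hza : zpowers a ≤ A := zpowers_le.mpr ha
      have h1 : X ≤ signalizerDelta p (D.1 ⊔ zpowers a) :=
        le_delta_sup hbal hA D.2.1 hza (le_of_eq D.2.2.symm) inf_le_left
          (fun x hx => mem_centralizer_zpowers hx.2)
      have hXA : A ≤ normalizer (X : Set G) := by
        refine le_normalizer_inf (le_normalizer_delta p hA D.2.1) ?_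
        intro b hb
        exact Cfsg.Agent.Lib.Helper12.mem_normalizer_centralizer_singleton
          (comm_of_ea p hA b hb a ha)
      have hcard : p ^ k ≤ Nat.card ↥(D.1 ⊔ zpowers a) :=
        (le_of_eq D.2.2.symm).trans (Subgroup.card_le_of_le le_sup_left)
      refine (le_iSup_inf_delta hbal hA ha1 (sup_le D.2.1 hza) hcard
        (mem_sup_right (mem_zpowers a)) hXA h1).trans ?_
      exact iSup_mono fun K => inf_le_right
    have hTcpc : T ≤ centralizerPPrimeCore p a :=
      iSup_le fun K => delta_le_cpc p K.2.2.1 ha1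
    have hTs : Group.IsSolvable ↥T := by
      haveI := hsolv a ha ha1
      exact solvable_of_solvable_injective (Subgroup.inclusion_injective hTcpc)
    have hTA : A ≤ normalizer (T : Set G) :=
      le_normalizer_iSup _ fun K => le_normalizer_delta p hA K.2.1
    have hTw : T ≤ ⨆ K : {K : Subgroup G // Hyp p A a K}, T ⊓ signalizerDelta p K.1 :=
      iSup_le fun K => (le_inf (le_iSup (fun K : {K : Subgroup G // Hyp p A a K} =>
        signalizerDelta p K.1) K) le_rfl).trans
        (le_iSup (fun K : {K : Subgroup G // Hyp p A a K} => T ⊓ signalizerDelta p K.1) K)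
    -- generation of `W = θ a ∩ C(b)`
    set W : Subgroup G := θa ⊓ Subgroup.centralizer {b} with hW
    have hWA : A ≤ normalizer (W : Set G) := by
      refine le_normalizer_inf (hθA a ha) ?_
      intro c hc
      exact Cfsg.Agent.Lib.Helper12.mem_normalizer_centralizer_singleton
        (comm_of_ea p hA c hc b hb)
    have hpW : ¬ p ∣ Nat.card W := not_dvd_of_le_cpc (inf_le_left.trans (hθcpc a ha ha1))
    refine (Cfsg.Agent.Lib.Helper12.le_iSup_relIndex_le_of_isElementaryAbelian hA hWA hpW).trans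
      (iSup_le ?_)
    rintro ⟨D, hDA, hDp⟩
    intro x hx
    have hxW : x ∈ W := hx.1
    have hxθ : x ∈ θa := hxW.1
    have hxb : x ∈ Subgroup.centralizer ({b} : Set G) := hxW.2
    have hxD : x ∈ centralizer (D : Set G) := hx.2
    have hxa : x ∈ Subgroup.centralizer ({a} : Set G) :=
      cpc_le_centralizer p a (hθcpc a ha ha1 hxθ)
    have hza : zpowers a ≤ A := zpowers_le.mpr ha
    have hK₀ : Hyp p A a (D ⊔ zpowers a) :=
      ⟨sup_le hDA hza, mem_sup_right (mem_zpowers a),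
        (Subgroup.relIndex_le_of_le_left le_sup_left
          (by rw [Subgroup.relIndex]; exact Subgroup.index_ne_zero_of_finite)).trans hDp⟩
    have hxK₀ : x ∈ centralizer ((D ⊔ zpowers a : Subgroup G) : Set G) :=
      mem_centralizer_sup hxD (mem_centralizer_zpowers hxa)
    have hxΔ : x ∈ signalizerDelta p (D ⊔ zpowers a) :=
      main_induction hbal hA hAk ha1 hK₀ _ T rfl hTA hTs hTw (mem_inf.mpr ⟨hθT hxθ, hxK₀⟩)
    obtain ⟨D', hD'K, hD'k⟩ := exists_le_card_pow hA hK₀.1 (Hyp.card_ge hAk hK₀)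
    have hxD' : x ∈ signalizerDelta p D' := delta_anti p hD'K hxΔ
    exact (le_iSup (fun D : {D : Subgroup G // D ≤ A ∧ Nat.card ↥D = p ^ k} =>
      signalizerDelta p (D : Subgroup G) ⊓ Subgroup.centralizer {b})
      ⟨D', hD'K.trans hK₀.1, hD'k⟩) (mem_inf.mpr ⟨hxD', hxb⟩)

end Final

end Cfsg.Agent.Lib.Helper4.KBal
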