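import Cfsg.Agent.Lib.Helper29.Law.Defs
import Cfsg.Prelude.Def_Classical

/-!
# S2355 farm piece [OMINUS]: `g ↦ diag(g, g⁻ᵀ, 1)` embeds `GL_m(F)` into the isometry group of
`quadFormMinus m F a b`.
-/

set_option autoImplicit false

namespace Cfsg.Agent.Lib.Helper29.Law

open Matrix

namespace Helper4

variable {F : Type*} [Field F] {m : ℕ}

/-- the block matrix `diag(g, g⁻ᵀ, 1)` -/
def blkMinus (g : Matrix.GeneralLinearGroup (Fin m) F) :
    Matrix ((Fin m ⊕ Fin m) ⊕ Fin 2) ((Fin m ⊕ Fin m) ⊕ Fin 2) F :=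
  Matrix.fromBlocks
    (Matrix.fromBlocks (g : Matrix (Fin m) (Fin m) F) 0 0
      ((g⁻¹ : Matrix.GeneralLinearGroup (Fin m) F) : Matrix (Fin m) (Fin m) F)ᵀ) 0 0 1

theorem blkMinus_one : blkMinus (1 : Matrix.GeneralLinearGroup (Fin m) F) = 1 := by
  unfold blkMinus
  simp [Matrix.fromBlocks_one]

theorem blkMinus_mul (g h : Matrix.GeneralLinearGroup (Fin m) F) :
    blkMinus (g * h) = blkMinus g * blkMinus h := by
  unfold blkMinus
  rw [Matrix.fromBlocks_multiply, Matrix.fromBlocks_multiply]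
  simp [Matrix.transpose_mul]

/-- the monoid hom into matrices -/
def blkMinusHom (F : Type*) [Field F] (m : ℕ) :
    Matrix.GeneralLinearGroup (Fin m) F →* Matrix ((Fin m ⊕ Fin m) ⊕ Fin 2) ((Fin m ⊕ Fin m) ⊕ Fin 2) F where
  toFun := blkMinus
  map_one' := blkMinus_one
  map_mul' := blkMinus_mul

theorem dot_inv_transpose (g : Matrix.GeneralLinearGroup (Fin m) F) (x y : Fin m → F) :
    ((g : Matrix (Fin m) (Fin m) F) *ᵥ x) ⬝ᵥ
      (((g⁻¹ : Matrix.GeneralLinearGroup (Fin m) F) : Matrix (Fin m) (Fin m) F)ᵀ *ᵥ y) = x ⬝ᵥ y := by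
  rw [Matrix.mulVec_transpose, dotProduct_comm, ← Matrix.dotProduct_mulVec, Matrix.mulVec_mulVec]
  have h : ((g⁻¹ : Matrix.GeneralLinearGroup (Fin m) F) : Matrix (Fin m) (Fin m) F)
      * (g : Matrix (Fin m) (Fin m) F) = 1 := by
    rw [← Matrix.GeneralLinearGroup.coe_mul, inv_mul_cancel]
    rfl
  rw [h, Matrix.one_mulVec, dotProduct_comm]

theorem quadFormMinus_blkMinus (a b : F) (g : Matrix.GeneralLinearGroup (Fin m) F)
    (u : (Fin m ⊕ Fin m) ⊕ Fin 2 → F) :
    Cfsg.quadFormMinus m F a b (blkMinus g *ᵥ u) = Cfsg.quadFormMinus m F a b u := by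
  unfold Cfsg.quadFormMinus blkMinus
  have h := dot_inv_transpose g (fun i => u (.inl (.inl i))) (fun i => u (.inl (.inr i)))
  simp only [dotProduct] at h
  simp only [Matrix.fromBlocks_mulVec, Sum.elim_inl, Sum.elim_inr, Matrix.zero_mulVec, add_zero,
    zero_add, Matrix.one_mulVec, Function.comp_apply]
  congr 1

end Helper4

/-- [OMINUS] `g ↦ fromBlocks (fromBlocks g 0 0 (g⁻¹)ᵀ) 0 0 1` preserves `Σ x_i y_i + (binary form)`. -/
theorem exists_GL_to_isomMinus (F : Type*) [Field F] (m : ℕ) (a b : F) :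
    ∃ φ : Matrix.GeneralLinearGroup (Fin m) F →* Cfsg.isometryGroup F (Cfsg.quadFormMinus m F a b),
      Function.Injective φ := by
  have hmem : ∀ g : Matrix.GeneralLinearGroup (Fin m) F,
      (Helper4.blkMinusHom F m).toHomUnits g ∈ Cfsg.isometryGroup F (Cfsg.quadFormMinus m F a b) := by
    intro g u v
    exact Helper4.quadFormMinus_blkMinus a b g u
  refine ⟨(Helper4.blkMinusHom F m).toHomUnits.codRestrict _ hmem, ?_⟩
  intro g h hgh
  have h1 : Units.val ((Helper4.blkMinusHom F m).toHomUnits g)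
      = Units.val ((Helper4.blkMinusHom F m).toHomUnits h) := by
    have := congrArg (fun x : Cfsg.isometryGroup F (Cfsg.quadFormMinus m F a b) =>
      Units.val (x.1 : Matrix.GeneralLinearGroup ((Fin m ⊕ Fin m) ⊕ Fin 2) F)) hgh
    exact this
  rw [MonoidHom.coe_toHomUnits, MonoidHom.coe_toHomUnits] at h1
  have h2 : Helper4.blkMinus g = Helper4.blkMinus h := h1
  unfold Helper4.blkMinus at h2
  rw [Matrix.fromBlocks_inj] at h2
  have h3 := h2.1
  rw [Matrix.fromBlocks_inj] at h3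
  exact Units.ext h3.1

end Cfsg.Agent.Lib.Helper29.Law
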