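import Mathlib

set_option autoImplicit false
set_option linter.style.haveILetI false
set_option linter.unusedVariables false
set_option linter.unusedSectionVars false

/-! Generating-function counting machine: list polynomials over `ℤ` and the coefficient formula
for the number of integer vectors with prescribed coordinate sets and given sum of squares. -/

namespace Cfsg.Agent.Helper4.LC

open Polynomial

/-- coefficientwise sum of two coefficient lists -/
def addL : List ℤ → List ℤ → List ℤ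
  | [], l => l
  | a :: l, [] => a :: l
  | a :: l, b :: l' => (a + b) :: addL l l'

/-- the polynomial denoted by a coefficient list -/
noncomputable def den : List ℤ → ℤ[X]
  | [] => 0
  | a :: l => C a + X * den l

theorem den_addL : ∀ l l' : List ℤ, den (addL l l') = den l + den l'
  | [], l => by simp [addL, den]
  | a :: l, [] => by simp [addL, den]
  | a :: l, b :: l' => by
      simp only [addL, den, den_addL l l', map_add]; ring

def smulL (a : ℤ) (l : List ℤ) : List ℤ := l.map (fun b => a * b)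

theorem den_smulL (a : ℤ) : ∀ l : List ℤ, den (smulL a l) = C a * den l
  | [] => by simp [smulL, den]
  | b :: l => by
      have := den_smulL a l
      simp only [smulL, List.map_cons, den, map_mul] at this ⊢
      rw [this]; ring

def mulL : List ℤ → List ℤ → List ℤ
  | [], _ => []
  | a :: l, l' => addL (smulL a l') (0 :: mulL l l')

theorem den_mulL : ∀ l l' : List ℤ, den (mulL l l') = den l * den l'
  | [], l' => by simp [mulL, den]
  | a :: l, l' => by
      simp only [mulL, den_addL, den_smulL, den, den_mulL l l', map_zero, zero_add]; ring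

def powL (l : List ℤ) : ℕ → List ℤ
  | 0 => [1]
  | k + 1 => mulL l (powL l k)

theorem den_powL (l : List ℤ) : ∀ k, den (powL l k) = den l ^ k
  | 0 => by simp [powL, den]
  | k + 1 => by simp only [powL, den_mulL, den_powL l k, pow_succ]; ring

theorem coeff_den : ∀ (l : List ℤ) (n : ℕ), (den l).coeff n = l.getD n 0
  | [], n => by simp [den]
  | a :: l, 0 => by simp [den]
  | a :: l, n + 1 => by
      simp only [den, coeff_add, coeff_C_succ, coeff_X_mul, zero_add, List.getD_cons_succ]
      exact coeff_den l n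

/-- the list of the monomial `a X^n` -/
def monoL (a : ℤ) : ℕ → List ℤ
  | 0 => [a]
  | n + 1 => 0 :: monoL a n

theorem den_monoL (a : ℤ) : ∀ n, den (monoL a n) = C a * X ^ n
  | 0 => by simp [monoL, den]
  | n + 1 => by simp only [monoL, den, den_monoL a n, map_zero, zero_add, pow_succ]; ring

/-- exponent attached to a coordinate value: its square -/
def nu (v : ℤ) : ℕ := v.natAbs ^ 2

/-- sign of an integer: `1` if even, `-1` if odd -/
def sgz (z : ℤ) : ℤ := if z % 2 = 0 then 1 else -1

/-- sign attached to a coordinate value `v`: parity sign of `⌊v/4⌋` -/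
def sg (v : ℤ) : ℤ := sgz (v / 4)

theorem sgz_add (a b : ℤ) : sgz (a + b) = sgz a * sgz b := by
  unfold sgz
  split_ifs <;> first | rfl | (exfalso; omega)

theorem sgz_zero : sgz 0 = 1 := by simp [sgz]

theorem prod_sgz {ι : Type*} (s : Finset ι) (f : ι → ℤ) :
    ∏ i ∈ s, sgz (f i) = sgz (∑ i ∈ s, f i) := by
  classical
  induction s using Finset.induction_on with
  | empty => simp [sgz]
  | insert a s ha ih => rw [Finset.prod_insert ha, Finset.sum_insert ha, ih, sgz_add]

/-- the coefficient list of `∑ v ∈ vs, σ v X^(v²)` -/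
def polyOf (σ : ℤ → ℤ) : List ℤ → List ℤ
  | [] => []
  | v :: vs => addL (monoL (σ v) (nu v)) (polyOf σ vs)

theorem den_polyOf (σ : ℤ → ℤ) :
    ∀ vs : List ℤ, den (polyOf σ vs) = (vs.map (fun v => C (σ v) * X ^ nu v)).sum
  | [] => by simp [polyOf, den]
  | v :: vs => by
      simp only [polyOf, den_addL, den_monoL, den_polyOf σ vs, List.map_cons, List.sum_cons]

theorem den_polyOf_toFinset (σ : ℤ → ℤ) (vs : List ℤ) (h : vs.Nodup) :
    den (polyOf σ vs) = ∑ v ∈ vs.toFinset, C (σ v) * X ^ nu v := by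
  rw [den_polyOf, List.sum_toFinset _ h]

section gf

variable {ι : Type*} [Fintype ι] [DecidableEq ι]

theorem prod_sum_eq (T : ι → Finset ℤ) (σ : ℤ → ℤ) :
    (∏ i, ∑ v ∈ T i, C (σ v) * X ^ nu v : ℤ[X]) =
      ∑ x ∈ Fintype.piFinset T, C (∏ i, σ (x i)) * X ^ (∑ i, nu (x i)) := by
  rw [Finset.prod_univ_sum]
  refine Finset.sum_congr rfl fun x _ => ?_
  rw [Finset.prod_mul_distrib, map_prod, Finset.prod_pow_eq_pow_sum]

theorem coeff_prod_sum (T : ι → Finset ℤ) (σ : ℤ → ℤ) (N : ℕ) :
    (∏ i, ∑ v ∈ T i, C (σ v) * X ^ nu v : ℤ[X]).coeff N =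
      ∑ x ∈ (Fintype.piFinset T).filter (fun x => ∑ i, nu (x i) = N), ∏ i, σ (x i) := by
  rw [prod_sum_eq, finset_sum_coeff, Finset.sum_filter]
  refine Finset.sum_congr rfl fun x _ => ?_
  rw [coeff_C_mul_X_pow]
  by_cases h : ∑ i, nu (x i) = N
  · simp [h]
  · have h' : ¬ N = ∑ i, nu (x i) := fun e => h e.symm
    simp [h, h']

/-- number of vectors with coordinates in `T`, sum of squares `N` and `∑ ⌊x_i/4⌋` even -/
def cntE (T : ι → Finset ℤ) (N : ℕ) : ℕ :=
  ((Fintype.piFinset T).filter (fun x => ∑ i, nu (x i) = N ∧ (∑ i, x i / 4) % 2 = 0)).card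

/-- number of vectors with coordinates in `T`, sum of squares `N` and `∑ ⌊x_i/4⌋` odd -/
def cntO (T : ι → Finset ℤ) (N : ℕ) : ℕ :=
  ((Fintype.piFinset T).filter (fun x => ∑ i, nu (x i) = N ∧ ¬ (∑ i, x i / 4) % 2 = 0)).card

theorem coeff_gfA (T : ι → Finset ℤ) (N : ℕ) :
    (∏ i, ∑ v ∈ T i, C ((fun _ => (1 : ℤ)) v) * X ^ nu v : ℤ[X]).coeff N =
      (cntE T N : ℤ) + (cntO T N : ℤ) := by
  rw [coeff_prod_sum]
  simp only [Finset.prod_const_one, Finset.sum_const, nsmul_eq_mul, mul_one]
  unfold cntE cntO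
  rw [← Nat.cast_add]
  congr 1
  have := Finset.card_filter_add_card_filter_not
    (s := (Fintype.piFinset T).filter (fun x => ∑ i, nu (x i) = N))
    (fun x => (∑ i, x i / 4) % 2 = 0)
  rw [Finset.filter_filter, Finset.filter_filter] at this
  exact this.symm

theorem coeff_gfB (T : ι → Finset ℤ) (N : ℕ) :
    (∏ i, ∑ v ∈ T i, C (sg v) * X ^ nu v : ℤ[X]).coeff N =
      (cntE T N : ℤ) - (cntO T N : ℤ) := by
  rw [coeff_prod_sum]
  have h1 : ∀ x : ι → ℤ, ∏ i, sg (x i) = if (∑ i, x i / 4) % 2 = 0 then (1 : ℤ) else -1 := by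
    intro x
    unfold sg
    rw [prod_sgz]
    rfl
  simp only [h1]
  rw [Finset.sum_ite]
  simp only [Finset.sum_const, nsmul_eq_mul, mul_one, mul_neg]
  unfold cntE cntO
  rw [Finset.filter_filter, Finset.filter_filter]
  ring

theorem two_mul_cntE (T : ι → Finset ℤ) (N : ℕ) :
    2 * (cntE T N : ℤ) =
      (∏ i, ∑ v ∈ T i, C ((fun _ => (1 : ℤ)) v) * X ^ nu v : ℤ[X]).coeff N +
      (∏ i, ∑ v ∈ T i, C (sg v) * X ^ nu v : ℤ[X]).coeff N := by
  rw [coeff_gfA, coeff_gfB]; ring

theorem two_mul_cntO (T : ι → Finset ℤ) (N : ℕ) :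
    2 * (cntO T N : ℤ) =
      (∏ i, ∑ v ∈ T i, C ((fun _ => (1 : ℤ)) v) * X ^ nu v : ℤ[X]).coeff N -
      (∏ i, ∑ v ∈ T i, C (sg v) * X ^ nu v : ℤ[X]).coeff N := by
  rw [coeff_gfA, coeff_gfB]; ring

end gf

end Cfsg.Agent.Helper4.LC
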