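import Cfsg.Agent.Lib.Helper4.LeechCount1
import Cfsg.Agent.Lib.Helper4.Leech
import Cfsg.Agent.Lib.Helper4.Golay
import Cfsg.Agent.S0361

set_option autoImplicit false
set_option linter.style.haveILetI false
set_option linter.unusedVariables false
set_option linter.unusedSectionVars false

/-! Counting vectors of the rank-24 lattice with given sum of squares and coordinates in a box:
`two_mul_ncard`. -/

namespace Cfsg.Agent.Helper4.LC

open Cfsg Cfsg.Agent.Lib.Helper4 Polynomial

/-- coefficient of `X^N` in `P^k Q^(24-k)` computed on lists -/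
def cf (P Q : List ℤ) (k N : ℕ) : ℤ := (mulL (powL P k) (powL Q (24 - k))).getD N 0

/-- twice the number of even-type vectors over a code word of weight `k` -/
def hE (L : List ℤ) (N k : ℕ) : ℤ :=
  cf (polyOf (fun _ => 1) (L.filter (fun v => decide (v % 4 = 2))))
      (polyOf (fun _ => 1) (L.filter (fun v => decide (v % 4 = 0)))) k N +
    cf (polyOf sg (L.filter (fun v => decide (v % 4 = 2))))
      (polyOf sg (L.filter (fun v => decide (v % 4 = 0)))) k N

/-- twice the number of odd-type vectors over a code word of weight `k` -/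
def hO (L : List ℤ) (N k : ℕ) : ℤ :=
  cf (polyOf (fun _ => 1) (L.filter (fun v => decide (v % 4 = 1))))
      (polyOf (fun _ => 1) (L.filter (fun v => decide (v % 4 = 3)))) k N -
    cf (polyOf sg (L.filter (fun v => decide (v % 4 = 1))))
      (polyOf sg (L.filter (fun v => decide (v % 4 = 3)))) k N

/-- twice the number of lattice vectors with sum of squares `N` and all coordinates in `L` -/
def count2 (L : List ℤ) (N : ℕ) : ℤ :=
  (hE L N 0 + hO L N 0) + 759 * (hE L N 8 + hO L N 8) + 2576 * (hE L N 12 + hO L N 12) +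
    759 * (hE L N 16 + hO L N 16) + (hE L N 24 + hO L N 24)

theorem coeff_cf (P Q : List ℤ) (k N : ℕ) :
    ((den P) ^ k * (den Q) ^ (24 - k)).coeff N = cf P Q k N := by
  unfold cf
  rw [← coeff_den, den_mulL, den_powL, den_powL]

theorem card_golayPt : Fintype.card GolayPt = 24 := by rfl

/-- characterisation of the lattice: even type or odd type -/
theorem mem_leech_iff (x : GolayPt → ℤ) :
    x ∈ leechLattice ↔
      ((∀ i, x i % 2 = 0) ∧ (∑ i, x i) % 8 = 0 ∧ wd x 2 ∈ golayCode) ∨
      ((∀ i, x i % 2 = 1) ∧ (∑ i, x i) % 8 = 4 ∧ wd x 1 ∈ golayCode) := by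
  rw [mem_leechLattice_iff, mem_leechSet_iff]
  constructor
  · rintro ⟨m, h1, h2, h3⟩
    rcases Int.emod_two_eq_zero_or_one m with hm | hm
    · left
      refine ⟨fun i => ?_, ?_, h3 2⟩
      · have := h1 i; unfold Int.ModEq at this; omega
      · unfold Int.ModEq at h2; omega
    · right
      refine ⟨fun i => ?_, ?_, h3 1⟩
      · have := h1 i; unfold Int.ModEq at this; omega
      · unfold Int.ModEq at h2; omega
  · rintro (⟨h1, h2, h3⟩ | ⟨h1, h2, h3⟩)
    · refine ⟨0, fun i => ?_, ?_, fun k => ?_⟩
      · have := h1 i; unfold Int.ModEq; omega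
      · unfold Int.ModEq; omega
      · have hk : k % 4 = 0 ∨ k % 4 = 1 ∨ k % 4 = 2 ∨ k % 4 = 3 := by omega
        rcases hk with hk | hk | hk | hk
        · have : wd x k = wd x 2 + 1 := by
            funext i
            have a1 := h1 i
            simp only [wd, Pi.add_apply, Pi.one_apply]
            split_ifs <;> first | rfl | (exfalso; unfold Int.ModEq at *; omega)
          rw [this]; exact golayCode.add_mem h3 one_mem_golayCode
        · have : wd x k = 0 := by
            funext i
            have a1 := h1 i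
            simp only [wd, Pi.zero_apply]
            split_ifs <;> first | rfl | (exfalso; unfold Int.ModEq at *; omega)
          rw [this]; exact golayCode.zero_mem
        · have : wd x k = wd x 2 := by
            funext i
            have a1 := h1 i
            simp only [wd]
            split_ifs <;> first | rfl | (exfalso; unfold Int.ModEq at *; omega)
          rw [this]; exact h3
        · have : wd x k = 0 := by
            funext i
            have a1 := h1 i
            simp only [wd, Pi.zero_apply]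
            split_ifs <;> first | rfl | (exfalso; unfold Int.ModEq at *; omega)
          rw [this]; exact golayCode.zero_mem
    · refine ⟨1, fun i => ?_, ?_, fun k => ?_⟩
      · have := h1 i; unfold Int.ModEq; omega
      · unfold Int.ModEq; omega
      · have hk : k % 4 = 0 ∨ k % 4 = 1 ∨ k % 4 = 2 ∨ k % 4 = 3 := by omega
        rcases hk with hk | hk | hk | hk
        · have : wd x k = 0 := by
            funext i
            have a1 := h1 i
            simp only [wd, Pi.zero_apply]
            split_ifs <;> first | rfl | (exfalso; unfold Int.ModEq at *; omega)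
          rw [this]; exact golayCode.zero_mem
        · have : wd x k = wd x 1 := by
            funext i
            have a1 := h1 i
            simp only [wd]
            split_ifs <;> first | rfl | (exfalso; unfold Int.ModEq at *; omega)
          rw [this]; exact h3
        · have : wd x k = 0 := by
            funext i
            have a1 := h1 i
            simp only [wd, Pi.zero_apply]
            split_ifs <;> first | rfl | (exfalso; unfold Int.ModEq at *; omega)
          rw [this]; exact golayCode.zero_mem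
        · have : wd x k = wd x 1 + 1 := by
            funext i
            have a1 := h1 i
            simp only [wd, Pi.add_apply, Pi.one_apply]
            split_ifs <;> first | rfl | (exfalso; unfold Int.ModEq at *; omega)
          rw [this]; exact golayCode.add_mem h3 one_mem_golayCode

theorem sum_eq_div_mod (x : GolayPt → ℤ) : ∑ i, x i = 4 * ∑ i, x i / 4 + ∑ i, x i % 4 := by
  rw [Finset.mul_sum, ← Finset.sum_add_distrib]
  exact Finset.sum_congr rfl fun i _ => by omega

theorem filter_c_eq (c : GolayPt → ZMod 2) :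
    (Finset.univ.filter (fun i => c i = 1)) = support₂ c := by
  ext i
  simp only [support₂, Finset.mem_filter, Finset.mem_univ, true_and]
  exact (zmod2_ne_zero_iff (c i)).symm

theorem card_filter_not_c (c : GolayPt → ZMod 2) :
    (Finset.univ.filter (fun i => ¬ c i = 1)).card = 24 - (support₂ c).card := by
  have := Finset.card_filter_add_card_filter_not (s := (Finset.univ : Finset GolayPt))
    (fun i => c i = 1)
  rw [filter_c_eq, Finset.card_univ, card_golayPt] at this
  omega

theorem card_support₂_le (c : GolayPt → ZMod 2) : (support₂ c).card ≤ 24 := by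
  have := Finset.card_le_univ (support₂ c)
  rwa [card_golayPt] at this

theorem sum_ite_c (c : GolayPt → ZMod 2) (a b : ℤ) :
    ∑ i, (if c i = 1 then a else b) =
      a * ((support₂ c).card : ℤ) + b * (24 - ((support₂ c).card : ℤ)) := by
  rw [Finset.sum_ite, Finset.sum_const, Finset.sum_const, filter_c_eq, card_filter_not_c]
  have := card_support₂_le c
  simp only [nsmul_eq_mul]
  push_cast [Nat.cast_sub this]
  ring

/-- allowed coordinate values over a code word, even type -/
def Te (B : Finset ℤ) (c : GolayPt → ZMod 2) (i : GolayPt) : Finset ℤ :=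
  if c i = 1 then B.filter (fun v => v % 4 = 2) else B.filter (fun v => v % 4 = 0)

/-- allowed coordinate values over a code word, odd type -/
def To (B : Finset ℤ) (c : GolayPt → ZMod 2) (i : GolayPt) : Finset ℤ :=
  if c i = 1 then B.filter (fun v => v % 4 = 1) else B.filter (fun v => v % 4 = 3)

theorem mem_Te {B : Finset ℤ} {c : GolayPt → ZMod 2} {i : GolayPt} {v : ℤ} :
    v ∈ Te B c i ↔ v ∈ B ∧ v % 4 = if c i = 1 then 2 else 0 := by
  unfold Te; split_ifs <;> simp

theorem mem_To {B : Finset ℤ} {c : GolayPt → ZMod 2} {i : GolayPt} {v : ℤ} :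
    v ∈ To B c i ↔ v ∈ B ∧ v % 4 = if c i = 1 then 1 else 3 := by
  unfold To; split_ifs <;> simp

theorem sqNorm_eq (x : GolayPt → ℤ) : sqNorm x = ((∑ i, nu (x i) : ℕ) : ℤ) := by
  unfold sqNorm nu
  push_cast
  exact Finset.sum_congr rfl fun i _ => (sq_abs (x i)).symm

theorem wd_eq_of_res {x : GolayPt → ℤ} {c : GolayPt → ZMod 2} {a b : ℤ} (ha : a % 4 = a)
    (hb : b % 4 = b) (hab : a ≠ b) (hr : ∀ i, x i % 4 = if c i = 1 then a else b) : wd x a = c := by
  funext i
  have := hr i
  simp only [wd]
  by_cases hci : c i = 1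
  · rw [if_pos hci] at this
    rw [if_pos (by unfold Int.ModEq; omega), hci]
  · rw [if_neg hci] at this
    rw [if_neg (by unfold Int.ModEq; omega)]
    rcases zmod2_eq_zero_or_one (c i) with h | h
    · exact h.symm
    · exact absurd h hci

theorem res_of_wd_eq {x : GolayPt → ℤ} {c : GolayPt → ZMod 2} {a b : ℤ} (ha : a % 4 = a)
    (hwd : wd x a = c) (hx : ∀ i, x i % 4 = a ∨ x i % 4 = b) :
    ∀ i, x i % 4 = if c i = 1 then a else b := by
  intro i
  have h1 := congrFun hwd i
  simp only [wd] at h1
  by_cases hci : c i = 1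
  · rw [if_pos hci]
    by_cases hxi : x i ≡ a [ZMOD 4]
    · unfold Int.ModEq at hxi; omega
    · rw [if_neg hxi, hci] at h1; exact absurd h1 (by decide)
  · rw [if_neg hci]
    by_cases hxi : x i ≡ a [ZMOD 4]
    · rw [if_pos hxi] at h1; exact absurd h1.symm hci
    · unfold Int.ModEq at hxi
      rcases hx i with h | h
      · omega
      · exact h

section fibers

open Classical

theorem fiber_even (B : Finset ℤ) (N : ℕ) (c : GolayPt → ZMod 2) (hc : c ∈ golayCode) :
    ((Fintype.piFinset (fun _ : GolayPt => B)).filter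
        (fun x => (x ∈ leechLattice ∧ sqNorm x = (N : ℤ)) ∧ ∀ i, x i % 2 = 0)).filter
        (fun x => wd x 2 = c) =
      (Fintype.piFinset (Te B c)).filter
        (fun x => ∑ i, nu (x i) = N ∧ (∑ i, x i / 4) % 2 = 0) := by
  obtain ⟨t, ht⟩ := golay_doubly_even hc
  ext x
  simp only [Finset.mem_filter, Fintype.mem_piFinset]
  constructor
  · rintro ⟨⟨hB, ⟨hΛ, hN⟩, hev⟩, hwd⟩
    have hr : ∀ i, x i % 4 = if c i = 1 then 2 else 0 :=
      res_of_wd_eq (by norm_num) hwd (fun i => by have := hev i; omega)
    refine ⟨fun i => mem_Te.mpr ⟨hB i, hr i⟩, ?_, ?_⟩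
    · have := sqNorm_eq x; rw [hN] at this; exact_mod_cast this.symm
    · rw [mem_leech_iff] at hΛ
      rcases hΛ with ⟨_, h8, _⟩ | ⟨ho, _, _⟩
      · have e1 := sum_eq_div_mod x
        have e2 := (Finset.sum_congr rfl (fun i _ => hr i)).trans (sum_ite_c c 2 0)
        rw [ht] at e2; push_cast at e2
        omega
      · exfalso; have := ho none; have := hev none; omega
  · rintro ⟨hT, hν, hz⟩
    have hr : ∀ i, x i % 4 = if c i = 1 then 2 else 0 := fun i => (mem_Te.mp (hT i)).2
    have hev : ∀ i, x i % 2 = 0 := by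
      intro i; have := hr i; split_ifs at this <;> omega
    have hwd : wd x 2 = c := wd_eq_of_res (by norm_num) (by norm_num) (by norm_num) hr
    refine ⟨⟨fun i => (mem_Te.mp (hT i)).1, ⟨?_, ?_⟩, hev⟩, hwd⟩
    · rw [mem_leech_iff]; left
      refine ⟨hev, ?_, by rw [hwd]; exact hc⟩
      have e1 := sum_eq_div_mod x
      have e2 := (Finset.sum_congr rfl (fun i _ => hr i)).trans (sum_ite_c c 2 0)
      rw [ht] at e2; push_cast at e2
      omega
    · rw [sqNorm_eq, hν]

theorem fiber_odd (B : Finset ℤ) (N : ℕ) (c : GolayPt → ZMod 2) (hc : c ∈ golayCode) :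
    ((Fintype.piFinset (fun _ : GolayPt => B)).filter
        (fun x => (x ∈ leechLattice ∧ sqNorm x = (N : ℤ)) ∧ ∀ i, x i % 2 = 1)).filter
        (fun x => wd x 1 = c) =
      (Fintype.piFinset (To B c)).filter
        (fun x => ∑ i, nu (x i) = N ∧ ¬ (∑ i, x i / 4) % 2 = 0) := by
  obtain ⟨t, ht⟩ := golay_doubly_even hc
  ext x
  simp only [Finset.mem_filter, Fintype.mem_piFinset]
  constructor
  · rintro ⟨⟨hB, ⟨hΛ, hN⟩, hod⟩, hwd⟩
    have hr : ∀ i, x i % 4 = if c i = 1 then 1 else 3 :=
      res_of_wd_eq (by norm_num) hwd (fun i => by have := hod i; omega)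
    refine ⟨fun i => mem_To.mpr ⟨hB i, hr i⟩, ?_, ?_⟩
    · have := sqNorm_eq x; rw [hN] at this; exact_mod_cast this.symm
    · rw [mem_leech_iff] at hΛ
      rcases hΛ with ⟨he, _, _⟩ | ⟨_, h8, _⟩
      · exfalso; have := he none; have := hod none; omega
      · have e1 := sum_eq_div_mod x
        have e2 := (Finset.sum_congr rfl (fun i _ => hr i)).trans (sum_ite_c c 1 3)
        rw [ht] at e2; push_cast at e2
        omega
  · rintro ⟨hT, hν, hz⟩
    have hr : ∀ i, x i % 4 = if c i = 1 then 1 else 3 := fun i => (mem_To.mp (hT i)).2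
    have hod : ∀ i, x i % 2 = 1 := by
      intro i; have := hr i; split_ifs at this <;> omega
    have hwd : wd x 1 = c := wd_eq_of_res (by norm_num) (by norm_num) (by norm_num) hr
    refine ⟨⟨fun i => (mem_To.mp (hT i)).1, ⟨?_, ?_⟩, hod⟩, hwd⟩
    · rw [mem_leech_iff]; right
      refine ⟨hod, ?_, by rw [hwd]; exact hc⟩
      have e1 := sum_eq_div_mod x
      have e2 := (Finset.sum_congr rfl (fun i _ => hr i)).trans (sum_ite_c c 1 3)
      rw [ht] at e2; push_cast at e2
      omega
    · rw [sqNorm_eq, hν]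

theorem gf_Te (B : Finset ℤ) (c : GolayPt → ZMod 2) (σ : ℤ → ℤ) :
    (∏ i, ∑ v ∈ Te B c i, C (σ v) * X ^ nu v : ℤ[X]) =
      (∑ v ∈ B.filter (fun v => v % 4 = 2), C (σ v) * X ^ nu v) ^ (support₂ c).card *
      (∑ v ∈ B.filter (fun v => v % 4 = 0), C (σ v) * X ^ nu v) ^ (24 - (support₂ c).card) := by
  have h : ∀ i, (∑ v ∈ Te B c i, C (σ v) * X ^ nu v : ℤ[X]) =
      if c i = 1 then (∑ v ∈ B.filter (fun v => v % 4 = 2), C (σ v) * X ^ nu v)
      else (∑ v ∈ B.filter (fun v => v % 4 = 0), C (σ v) * X ^ nu v) := by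
    intro i; unfold Te; split_ifs <;> rfl
  simp only [h]
  rw [Finset.prod_ite, Finset.prod_const, Finset.prod_const, filter_c_eq, card_filter_not_c]

theorem gf_To (B : Finset ℤ) (c : GolayPt → ZMod 2) (σ : ℤ → ℤ) :
    (∏ i, ∑ v ∈ To B c i, C (σ v) * X ^ nu v : ℤ[X]) =
      (∑ v ∈ B.filter (fun v => v % 4 = 1), C (σ v) * X ^ nu v) ^ (support₂ c).card *
      (∑ v ∈ B.filter (fun v => v % 4 = 3), C (σ v) * X ^ nu v) ^ (24 - (support₂ c).card) := by
  have h : ∀ i, (∑ v ∈ To B c i, C (σ v) * X ^ nu v : ℤ[X]) =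
      if c i = 1 then (∑ v ∈ B.filter (fun v => v % 4 = 1), C (σ v) * X ^ nu v)
      else (∑ v ∈ B.filter (fun v => v % 4 = 3), C (σ v) * X ^ nu v) := by
    intro i; unfold To; split_ifs <;> rfl
  simp only [h]
  rw [Finset.prod_ite, Finset.prod_const, Finset.prod_const, filter_c_eq, card_filter_not_c]

theorem sum_filter_eq_den (L : List ℤ) (hL : L.Nodup) (σ : ℤ → ℤ) (r : ℤ) :
    (∑ v ∈ L.toFinset.filter (fun v => v % 4 = r), C (σ v) * X ^ nu v : ℤ[X]) =
      den (polyOf σ (L.filter (fun v => decide (v % 4 = r)))) := by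
  rw [den_polyOf_toFinset σ _ (hL.filter _)]
  congr 1
  ext v
  simp

theorem two_mul_card_fiber_even (L : List ℤ) (hL : L.Nodup) (N : ℕ) (c : GolayPt → ZMod 2)
    (hc : c ∈ golayCode) :
    2 * ((((Fintype.piFinset (fun _ : GolayPt => L.toFinset)).filter
        (fun x => (x ∈ leechLattice ∧ sqNorm x = (N : ℤ)) ∧ ∀ i, x i % 2 = 0)).filter
        (fun x => wd x 2 = c)).card : ℤ) = hE L N (support₂ c).card := by
  rw [fiber_even _ _ _ hc]
  have := two_mul_cntE (Te L.toFinset c) N
  unfold cntE at this
  rw [this, gf_Te, gf_Te, sum_filter_eq_den L hL, sum_filter_eq_den L hL, sum_filter_eq_den L hL,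
    sum_filter_eq_den L hL, coeff_cf, coeff_cf]
  rfl

theorem two_mul_card_fiber_odd (L : List ℤ) (hL : L.Nodup) (N : ℕ) (c : GolayPt → ZMod 2)
    (hc : c ∈ golayCode) :
    2 * ((((Fintype.piFinset (fun _ : GolayPt => L.toFinset)).filter
        (fun x => (x ∈ leechLattice ∧ sqNorm x = (N : ℤ)) ∧ ∀ i, x i % 2 = 1)).filter
        (fun x => wd x 1 = c)).card : ℤ) = hO L N (support₂ c).card := by
  rw [fiber_odd _ _ _ hc]
  have := two_mul_cntO (To L.toFinset c) N
  unfold cntO at this
  rw [this, gf_To, gf_To, sum_filter_eq_den L hL, sum_filter_eq_den L hL, sum_filter_eq_den L hL,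
    sum_filter_eq_den L hL, coeff_cf, coeff_cf]
  rfl

/-- the code as a finset of words -/
noncomputable def codeF : Finset (GolayPt → ZMod 2) := Finset.univ.filter (fun w => w ∈ golayCode)

theorem mem_codeF {w : GolayPt → ZMod 2} : w ∈ codeF ↔ w ∈ golayCode := by
  simp [codeF]

theorem hammingNorm_eq_card_support₂ (w : GolayPt → ZMod 2) :
    hammingNorm w = (support₂ w).card := by
  rw [Cfsg.Agent.Lib.Helper28.support₂_eq_bsupp]; rfl

theorem card_wt12 : (Cfsg.Agent.S0361.wt 12).card = 2576 := by
  rw [← Cfsg.Agent.S0361.ncard_wordsOfWeight]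
  exact Cfsg.Agent.S0361.result

theorem sum_code (h : ℕ → ℤ) :
    ∑ c ∈ codeF, h (support₂ c).card =
      h 0 + 759 * h 8 + 2576 * h 12 + 759 * h 16 + h 24 := by
  have hmaps : ∀ c ∈ codeF, (support₂ c).card ∈ ({0, 8, 12, 16, 24} : Finset ℕ) := by
    intro c hc
    have := Cfsg.Agent.S0359.result c (mem_codeF.mp hc)
    rw [hammingNorm_eq_card_support₂] at this
    simp only [Finset.mem_insert, Finset.mem_singleton]
    exact this
  rw [← Finset.sum_fiberwise_of_maps_to hmaps]
  have hin : ∀ k, ∑ c ∈ codeF.filter (fun c => (support₂ c).card = k), h (support₂ c).card =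
      ((Cfsg.Agent.S0361.wt k).card : ℤ) * h k := by
    intro k
    have e : codeF.filter (fun c => (support₂ c).card = k) = Cfsg.Agent.S0361.wt k := by
      ext w
      rw [Finset.mem_filter, mem_codeF, Cfsg.Agent.S0361.mem_wt, hammingNorm_eq_card_support₂]
    rw [← e, Finset.card_eq_sum_ones, Nat.cast_sum, Finset.sum_mul]
    refine Finset.sum_congr rfl fun c hc => ?_
    rw [(Finset.mem_filter.mp hc).2]; simp
  simp only [hin]
  rw [Finset.sum_insert (by decide), Finset.sum_insert (by decide), Finset.sum_insert (by decide),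
    Finset.sum_insert (by decide), Finset.sum_singleton, Cfsg.Agent.S0361.card_wt0,
    Cfsg.Agent.S0361.card_wt8, card_wt12, Cfsg.Agent.S0361.card_wt16,
    Cfsg.Agent.S0361.card_wt24]
  push_cast
  ring

theorem two_mul_card_even (L : List ℤ) (hL : L.Nodup) (N : ℕ) :
    2 * (((Fintype.piFinset (fun _ : GolayPt => L.toFinset)).filter
        (fun x => (x ∈ leechLattice ∧ sqNorm x = (N : ℤ)) ∧ ∀ i, x i % 2 = 0)).card : ℤ) =
      ∑ c ∈ codeF, hE L N (support₂ c).card := by
  have hfib := Finset.card_eq_sum_card_fiberwise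
    (s := (Fintype.piFinset (fun _ : GolayPt => L.toFinset)).filter
        (fun x => (x ∈ leechLattice ∧ sqNorm x = (N : ℤ)) ∧ ∀ i, x i % 2 = 0))
    (t := codeF) (f := fun x => wd x 2) (by
      intro x hx
      rw [Finset.mem_coe, Finset.mem_filter] at hx
      rw [Finset.mem_coe, mem_codeF]
      have hΛ := hx.2.1.1
      rw [mem_leech_iff] at hΛ
      rcases hΛ with ⟨_, _, h⟩ | ⟨ho, _, _⟩
      · exact h
      · exfalso; have := ho none; have := hx.2.2 none; omega)
  rw [hfib, Nat.cast_sum, Finset.mul_sum]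
  exact Finset.sum_congr rfl fun c hc => two_mul_card_fiber_even L hL N c (mem_codeF.mp hc)

theorem two_mul_card_odd (L : List ℤ) (hL : L.Nodup) (N : ℕ) :
    2 * (((Fintype.piFinset (fun _ : GolayPt => L.toFinset)).filter
        (fun x => (x ∈ leechLattice ∧ sqNorm x = (N : ℤ)) ∧ ∀ i, x i % 2 = 1)).card : ℤ) =
      ∑ c ∈ codeF, hO L N (support₂ c).card := by
  have hfib := Finset.card_eq_sum_card_fiberwise
    (s := (Fintype.piFinset (fun _ : GolayPt => L.toFinset)).filter
        (fun x => (x ∈ leechLattice ∧ sqNorm x = (N : ℤ)) ∧ ∀ i, x i % 2 = 1))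
    (t := codeF) (f := fun x => wd x 1) (by
      intro x hx
      rw [Finset.mem_coe, Finset.mem_filter] at hx
      rw [Finset.mem_coe, mem_codeF]
      have hΛ := hx.2.1.1
      rw [mem_leech_iff] at hΛ
      rcases hΛ with ⟨he, _, _⟩ | ⟨_, _, h⟩
      · exfalso; have := he none; have := hx.2.2 none; omega
      · exact h)
  rw [hfib, Nat.cast_sum, Finset.mul_sum]
  exact Finset.sum_congr rfl fun c hc => two_mul_card_fiber_odd L hL N c (mem_codeF.mp hc)

/-- Main counting theorem. -/
theorem two_mul_ncard (L : List ℤ) (hL : L.Nodup) (N : ℕ) :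
    2 * (({x : GolayPt → ℤ | x ∈ leechLattice ∧ sqNorm x = (N : ℤ) ∧ ∀ i, x i ∈ L}).ncard : ℤ) =
      count2 L N := by
  have hset : {x : GolayPt → ℤ | x ∈ leechLattice ∧ sqNorm x = (N : ℤ) ∧ ∀ i, x i ∈ L} =
      ((Fintype.piFinset (fun _ : GolayPt => L.toFinset)).filter
        (fun x => x ∈ leechLattice ∧ sqNorm x = (N : ℤ)) : Finset (GolayPt → ℤ)) := by
    ext x
    simp only [Set.mem_ofPred_eq, Finset.coe_filter, Fintype.mem_piFinset, List.mem_toFinset]
    tauto
  rw [hset, Set.ncard_coe_finset]
  have hsplit := Finset.card_filter_add_card_filter_not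
    (s := (Fintype.piFinset (fun _ : GolayPt => L.toFinset)).filter
        (fun x => x ∈ leechLattice ∧ sqNorm x = (N : ℤ))) (fun x => ∀ i, x i % 2 = 0)
  have hodd : ((Fintype.piFinset (fun _ : GolayPt => L.toFinset)).filter
        (fun x => x ∈ leechLattice ∧ sqNorm x = (N : ℤ))).filter (fun x => ¬ ∀ i, x i % 2 = 0) =
      ((Fintype.piFinset (fun _ : GolayPt => L.toFinset)).filter
        (fun x => x ∈ leechLattice ∧ sqNorm x = (N : ℤ))).filter (fun x => ∀ i, x i % 2 = 1) := by
    apply Finset.filter_congr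
    intro x hx
    have hΛ := (Finset.mem_filter.mp hx).2.1
    rw [mem_leech_iff] at hΛ
    rcases hΛ with ⟨he, _, _⟩ | ⟨ho, _, _⟩
    · constructor
      · intro h; exact absurd he h
      · intro h; exfalso; have := he none; have := h none; omega
    · constructor
      · intro _; exact ho
      · intro _ h; have := ho none; have := h none; omega
  rw [hodd, Finset.filter_filter, Finset.filter_filter] at hsplit
  rw [← hsplit]
  push_cast
  rw [mul_add, two_mul_card_even L hL N, two_mul_card_odd L hL N, ← Finset.sum_add_distrib,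
    sum_code (fun k => hE L N k + hO L N k)]
  rfl

end fibers

end Cfsg.Agent.Helper4.LC
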