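import Cfsg.Agent.Lib.Helper4.LeechCount3

set_option autoImplicit false
set_option linter.style.haveILetI false
set_option linter.unusedVariables false
set_option linter.unusedSectionVars false

/-! Counts of lattice vectors of given norm having a coordinate of a given absolute value, and the
shape `(±3)^3 (±1)^21`. -/

namespace Cfsg.Agent.Helper4.LC

open Cfsg Cfsg.Agent.Lib.Helper4

/-- lattice vectors of norm `N` having some coordinate of absolute value `a` -/
theorem ncard_exists_abs (N b : ℕ) (hb : N < (b + 1) ^ 2) (a : ℕ) (m m' : ℕ)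
    (h1 : count2 (boxL b) N = 2 * m)
    (h2 : count2 ((boxL b).filter (fun v => decide (v.natAbs ≠ a))) N = 2 * m') (hm' : 0 < m') :
    ({x : GolayPt → ℤ | x ∈ leechLattice ∧ sqNorm x = (N : ℤ) ∧ ∃ i, |x i| = (a : ℤ)}).ncard =
      m - m' := by
  have hA := ncard_norm_box N (boxL b) (nodup_boxL b) m h1
  have hA' := ncard_norm_box N ((boxL b).filter (fun v => decide (v.natAbs ≠ a)))
    ((nodup_boxL b).filter _) m' h2
  have hsub : {x : GolayPt → ℤ | x ∈ leechLattice ∧ sqNorm x = (N : ℤ) ∧
        ∀ i, x i ∈ (boxL b).filter (fun v => decide (v.natAbs ≠ a))} ⊆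
      {x : GolayPt → ℤ | x ∈ leechLattice ∧ sqNorm x = (N : ℤ) ∧ ∀ i, x i ∈ boxL b} := by
    rintro x ⟨h1, h2, h3⟩
    exact ⟨h1, h2, fun i => (List.mem_filter.mp (h3 i)).1⟩
  have hfin : {x : GolayPt → ℤ | x ∈ leechLattice ∧ sqNorm x = (N : ℤ) ∧
        ∀ i, x i ∈ (boxL b).filter (fun v => decide (v.natAbs ≠ a))}.Finite := by
    apply Set.finite_of_ncard_pos
    rw [hA']; exact hm'
  have hset : {x : GolayPt → ℤ | x ∈ leechLattice ∧ sqNorm x = (N : ℤ) ∧ ∃ i, |x i| = (a : ℤ)} =
      {x : GolayPt → ℤ | x ∈ leechLattice ∧ sqNorm x = (N : ℤ) ∧ ∀ i, x i ∈ boxL b} \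
      {x : GolayPt → ℤ | x ∈ leechLattice ∧ sqNorm x = (N : ℤ) ∧
        ∀ i, x i ∈ (boxL b).filter (fun v => decide (v.natAbs ≠ a))} := by
    ext x
    simp only [Set.mem_ofPred_eq, Set.mem_diff]
    constructor
    · rintro ⟨h1, h2, i, hi⟩
      refine ⟨⟨h1, h2, fun j => mem_boxL_of_sqNorm h2 hb j⟩, ?_⟩
      rintro ⟨_, _, h3⟩
      have := (List.mem_filter.mp (h3 i)).2
      simp only [decide_eq_true_eq] at this
      apply this
      have : ((x i).natAbs : ℤ) = (a : ℤ) := by rw [← hi, Int.natCast_natAbs]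
      exact_mod_cast this
    · rintro ⟨⟨h1, h2, h3⟩, h4⟩
      refine ⟨h1, h2, ?_⟩
      by_contra hcon
      push Not at hcon
      apply h4
      refine ⟨h1, h2, fun i => List.mem_filter.mpr ⟨h3 i, ?_⟩⟩
      simp only [decide_eq_true_eq]
      intro h
      apply hcon i
      rw [← h, Int.natCast_natAbs]
  rw [hset, Set.ncard_diff hsub hfin, hA, hA']

theorem sqNorm_eq_of_mem_three {x : GolayPt → ℤ} (h : ∀ i, x i ∈ ([-3, -1, 1, 3] : List ℤ)) :
    sqNorm x = 24 + 8 * ((Finset.univ.filter (fun i => x i ^ 2 = 9)).card : ℤ) := by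
  have h1 : ∀ i, x i ^ 2 = if x i ^ 2 = 9 then 9 else 1 := by
    intro i
    have := h i
    simp only [List.mem_cons, List.not_mem_nil, or_false] at this
    rcases this with h | h | h | h <;> rw [h] <;> norm_num
  unfold sqNorm
  rw [Finset.sum_congr rfl (fun i _ => h1 i), Finset.sum_ite, Finset.sum_const, Finset.sum_const]
  have := Finset.card_filter_add_card_filter_not (s := (Finset.univ : Finset GolayPt))
    (fun i => x i ^ 2 = 9)
  rw [Finset.card_univ, card_golayPt] at this
  simp only [nsmul_eq_mul]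
  have h2 : ((Finset.univ.filter (fun i => ¬ x i ^ 2 = 9)).card : ℤ) =
      24 - ((Finset.univ.filter (fun i => x i ^ 2 = 9)).card : ℤ) := by omega
  rw [h2]; ring

/-- the shape `(±3)^3 (±1)^21` as a box condition -/
theorem three_threes_iff (x : GolayPt → ℤ) (hx : x ∈ leechLattice) (hN : sqNorm x = 48) :
    (∃ i j k, i ≠ j ∧ j ≠ k ∧ i ≠ k ∧ |x i| = 3 ∧ |x j| = 3 ∧ |x k| = 3) ↔
      ∀ i, x i ∈ ([-3, -1, 1, 3] : List ℤ) := by
  constructor
  · rintro ⟨i, j, k, hij, hjk, hik, hi, hj, hk⟩
    -- all coordinates are odd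
    have hodd : ∀ l, x l % 2 = 1 := by
      rw [mem_leech_iff] at hx
      rcases hx with ⟨he, _, _⟩ | ⟨ho, _, _⟩
      · exfalso
        have := he i
        rcases abs_eq (by norm_num : (0 : ℤ) ≤ 3) |>.mp hi with h | h <;> omega
      · exact ho
    have hsq : ∀ l, 1 ≤ x l ^ 2 := by
      intro l
      have := hodd l
      have : x l ≠ 0 := by intro h; rw [h] at this; norm_num at this
      have := sq_nonneg (x l)
      have : x l ^ 2 ≠ 0 := pow_ne_zero 2 ‹x l ≠ 0›
      omega
    have h9 : ∀ l, |x l| = 3 → x l ^ 2 = 9 := by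
      intro l hl
      rw [← sq_abs, hl]; norm_num
    let S : Finset GolayPt := {i, j, k}
    have hS : ∑ l ∈ S, (x l ^ 2 - 1) = 24 := by
      simp only [S]
      rw [Finset.sum_insert (by simp [hij, hik]), Finset.sum_insert (by simp [hjk]),
        Finset.sum_singleton, h9 i hi, h9 j hj, h9 k hk]
      norm_num
    have htot : ∑ l, (x l ^ 2 - 1) = 24 := by
      rw [Finset.sum_sub_distrib]
      have : ∑ l, x l ^ 2 = 48 := hN
      rw [this]
      simp
    have hcompl : ∑ l ∈ Sᶜ, (x l ^ 2 - 1) = 0 := by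
      have := Finset.sum_add_sum_compl S (fun l => x l ^ 2 - 1)
      rw [hS, htot] at this
      omega
    have hz : ∀ l ∈ Sᶜ, x l ^ 2 - 1 = 0 :=
      (Finset.sum_eq_zero_iff_of_nonneg (fun l _ => by have := hsq l; omega)).mp hcompl
    intro l
    simp only [List.mem_cons, List.not_mem_nil, or_false]
    by_cases hl : l ∈ S
    · have : |x l| = 3 := by
        simp only [S, Finset.mem_insert, Finset.mem_singleton] at hl
        rcases hl with rfl | rfl | rfl <;> assumption
      rcases abs_eq (by norm_num : (0 : ℤ) ≤ 3) |>.mp this with h | h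
      · right; right; right; exact h
      · left; exact h
    · have := hz l (Finset.mem_compl.mpr hl)
      have h1 : x l ^ 2 = 1 := by omega
      have h2 : (x l - 1) * (x l + 1) = 0 := by nlinarith
      rcases mul_eq_zero.mp h2 with h | h
      · right; right; left; omega
      · right; left; omega
  · intro h
    have h1 := sqNorm_eq_of_mem_three h
    rw [hN] at h1
    have hc : (Finset.univ.filter (fun i => x i ^ 2 = 9)).card = 3 := by omega
    obtain ⟨i, j, k, hij, hik, hjk, hS⟩ := Finset.card_eq_three.mp hc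
    have hmem : ∀ l, l ∈ Finset.univ.filter (fun i => x i ^ 2 = 9) → |x l| = 3 := by
      intro l hl
      have := (Finset.mem_filter.mp hl).2
      have h3 : |x l| ^ 2 = 3 ^ 2 := by rw [sq_abs, this]; norm_num
      have := abs_nonneg (x l)
      nlinarith
    refine ⟨i, j, k, hij, hjk, hik, hmem i ?_, hmem j ?_, hmem k ?_⟩ <;> rw [hS] <;> simp

end Cfsg.Agent.Helper4.LC
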