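import Cfsg.Agent.Lib.Helper4.LeechCount2

set_option autoImplicit false
set_option linter.style.haveILetI false
set_option linter.unusedVariables false
set_option linter.unusedSectionVars false

/-! The minimal vectors generate the rank-24 lattice. -/

namespace Cfsg.Agent.Helper4.LC

open Cfsg Cfsg.Agent.Lib.Helper4

/-- the vector `4 e_i` -/
def E (i : GolayPt) : GolayPt → ℤ := Pi.single i 4

set_option maxRecDepth 1000000 in
theorem E_facts : ∀ i j : GolayPt, i ≠ j →
    ((∀ k, (E i + E j) k % 4 = 0) ∧ (∑ k, (E i + E j) k) % 8 = 0 ∧ sqNorm (E i + E j) = 32) ∧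
    ((∀ k, (E i - E j) k % 4 = 0) ∧ (∑ k, (E i - E j) k) % 8 = 0 ∧ sqNorm (E i - E j) = 32) := by
  decide +kernel

theorem mem_of_four {x : GolayPt → ℤ} (h4 : ∀ k, x k % 4 = 0) (h8 : (∑ k, x k) % 8 = 0) :
    x ∈ leechLattice := by
  rw [mem_leech_iff]; left
  refine ⟨fun k => by have := h4 k; omega, h8, ?_⟩
  have : wd x 2 = 0 := by
    funext k
    simp only [wd, Pi.zero_apply]
    rw [if_neg]
    unfold Int.ModEq
    have := h4 k
    omega
  rw [this]; exact golayCode.zero_mem

/-- the minimal vectors -/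
def minVecs : Set (GolayPt → ℤ) := {x | x ∈ leechLattice ∧ sqNorm x = 32}

theorem E_add_mem {i j : GolayPt} (h : i ≠ j) : E i + E j ∈ AddSubgroup.closure minVecs := by
  obtain ⟨⟨h4, h8, hn⟩, _⟩ := E_facts i j h
  exact AddSubgroup.subset_closure ⟨mem_of_four h4 h8, hn⟩

theorem E_sub_mem (i j : GolayPt) : E i - E j ∈ AddSubgroup.closure minVecs := by
  by_cases h : i = j
  · rw [h, sub_self]; exact AddSubgroup.zero_mem _
  · obtain ⟨_, ⟨h4, h8, hn⟩⟩ := E_facts i j h
    exact AddSubgroup.subset_closure ⟨mem_of_four h4 h8, hn⟩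

theorem eq_sum_E {x : GolayPt → ℤ} (h4 : ∀ k, x k % 4 = 0) : x = ∑ k, (x k / 4) • E k := by
  funext j
  rw [Finset.sum_apply]
  simp only [E, Pi.smul_apply, Pi.single_apply, smul_eq_mul, mul_ite, mul_zero]
  rw [Finset.sum_ite_eq]
  simp only [Finset.mem_univ, if_true]
  have := h4 j
  omega

theorem stepA {x : GolayPt → ℤ} (hx : x ∈ leechLattice) (h4 : ∀ k, x k % 4 = 0) :
    x ∈ AddSubgroup.closure minVecs := by
  have h8 : (∑ k, x k) % 8 = 0 := by
    rw [mem_leech_iff] at hx
    rcases hx with ⟨_, h, _⟩ | ⟨ho, _, _⟩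
    · exact h
    · exfalso; have := ho none; have := h4 none; omega
  have hs : ∑ k, x k = 4 * ∑ k, x k / 4 := by
    rw [Finset.mul_sum]
    exact Finset.sum_congr rfl fun k _ => by have := h4 k; omega
  obtain ⟨t, ht⟩ : ∃ t, ∑ k, x k / 4 = 2 * t := ⟨(∑ k, x k / 4) / 2, by omega⟩
  have hdec : x = ∑ k, (x k / 4) • (E k - E none) + t • ((E none + E (some 0)) + (E none - E (some 0))) := by
    have h1 : (E none + E (some 0)) + (E none - E (some 0)) = (2 : ℤ) • E none := by
      rw [two_smul]; abel
    rw [h1, smul_smul, mul_comm, ← ht]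
    simp only [smul_sub, Finset.sum_sub_distrib, ← Finset.sum_smul]
    rw [sub_add_cancel]
    exact eq_sum_E h4
  rw [hdec]
  refine AddSubgroup.add_mem _ (AddSubgroup.sum_mem _ fun k _ => ?_) ?_
  · exact AddSubgroup.zsmul_mem _ (E_sub_mem k none) _
  · exact AddSubgroup.zsmul_mem _
      (AddSubgroup.add_mem _ (E_add_mem (by decide)) (E_sub_mem none (some 0))) _

/-- the odd minimal vector attached to a code word -/
def oddMin (C : GolayPt → ZMod 2) : GolayPt → ℤ := fun i =>
  (if C i = 1 then 1 else -1) + (if i = none then (if C none = 1 then -4 else 4) else 0)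

theorem oddMin_res (C : GolayPt → ZMod 2) (i : GolayPt) :
    oddMin C i % 4 = if C i = 1 then 1 else 3 := by
  unfold oddMin
  by_cases hi : i = none
  · subst hi
    split_ifs <;> norm_num
  · rw [if_neg hi]
    split_ifs <;> norm_num

theorem oddMin_sq (C : GolayPt → ZMod 2) (i : GolayPt) :
    oddMin C i ^ 2 = 1 + if i = none then 8 else 0 := by
  unfold oddMin
  by_cases hi : i = none
  · subst hi
    split_ifs <;> norm_num
  · rw [if_neg hi, if_neg hi]
    split_ifs <;> norm_num

theorem sqNorm_oddMin (C : GolayPt → ZMod 2) : sqNorm (oddMin C) = 32 := by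
  unfold sqNorm
  rw [Finset.sum_congr rfl (fun i _ => oddMin_sq C i), Finset.sum_add_distrib,
    Finset.sum_ite_eq']
  simp [card_golayPt]

theorem oddMin_mem {C : GolayPt → ZMod 2} (hC : C ∈ golayCode) : oddMin C ∈ leechLattice := by
  obtain ⟨t, ht⟩ := golay_doubly_even hC
  rw [mem_leech_iff]; right
  have hr := oddMin_res C
  refine ⟨fun i => ?_, ?_, ?_⟩
  · have := hr i; split_ifs at this <;> omega
  · have e1 : ∑ i, oddMin C i =
        (1 * ((support₂ C).card : ℤ) + (-1) * (24 - ((support₂ C).card : ℤ))) +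
          (if C none = 1 then -4 else 4) := by
      unfold oddMin
      rw [Finset.sum_add_distrib, sum_ite_c, Finset.sum_ite_eq']
      simp
    rw [e1, ht]
    push_cast
    split_ifs <;> omega
  · rw [wd_eq_of_res (by norm_num) (by norm_num) (by norm_num) hr]; exact hC

theorem oddMin_memM {C : GolayPt → ZMod 2} (hC : C ∈ golayCode) :
    oddMin C ∈ AddSubgroup.closure minVecs :=
  AddSubgroup.subset_closure ⟨oddMin_mem hC, sqNorm_oddMin C⟩

theorem stepB {x : GolayPt → ℤ} (hx : x ∈ leechLattice) (hev : ∀ k, x k % 2 = 0) :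
    x ∈ AddSubgroup.closure minVecs := by
  have hc : wd x 2 ∈ golayCode := by
    rw [mem_leech_iff] at hx
    rcases hx with ⟨_, _, h⟩ | ⟨ho, _, _⟩
    · exact h
    · exfalso; have := ho none; have := hev none; omega
  have h0 : (0 : GolayPt → ZMod 2) ∈ golayCode := golayCode.zero_mem
  have hr : ∀ i, x i % 4 = if wd x 2 i = 1 then 2 else 0 :=
    res_of_wd_eq (by norm_num) rfl (fun i => by have := hev i; omega)
  have hy : oddMin (wd x 2) - oddMin 0 ∈ AddSubgroup.closure minVecs :=
    AddSubgroup.sub_mem _ (oddMin_memM hc) (oddMin_memM h0)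
  have hyΛ : oddMin (wd x 2) - oddMin 0 ∈ leechLattice :=
    leechLattice.sub_mem (oddMin_mem hc) (oddMin_mem h0)
  have hd : x - (oddMin (wd x 2) - oddMin 0) ∈ AddSubgroup.closure minVecs := by
    apply stepA (leechLattice.sub_mem hx hyΛ)
    intro k
    have h1 := hr k
    have h2 := oddMin_res (wd x 2) k
    have h3 := oddMin_res 0 k
    simp only [Pi.zero_apply, zero_ne_one, if_false] at h3
    simp only [Pi.sub_apply]
    split_ifs at h1 h2 <;> omega
  have := AddSubgroup.add_mem _ hd hy
  rwa [sub_add_cancel] at this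

theorem stepC {x : GolayPt → ℤ} (hx : x ∈ leechLattice) : x ∈ AddSubgroup.closure minVecs := by
  have hx' := hx
  rw [mem_leech_iff] at hx'
  rcases hx' with ⟨he, _, _⟩ | ⟨ho, _, _⟩
  · exact stepB hx he
  · have h0 : (0 : GolayPt → ZMod 2) ∈ golayCode := golayCode.zero_mem
    have hd : x - oddMin 0 ∈ AddSubgroup.closure minVecs := by
      apply stepB (leechLattice.sub_mem hx (oddMin_mem h0))
      intro k
      have h1 := ho k
      have h3 := oddMin_res 0 k
      simp only [Pi.zero_apply, zero_ne_one, if_false] at h3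
      simp only [Pi.sub_apply]
      omega
    have := AddSubgroup.add_mem _ hd (oddMin_memM h0)
    rwa [sub_add_cancel] at this

theorem closure_minVecs : AddSubgroup.closure minVecs = leechLattice := by
  apply le_antisymm
  · rw [AddSubgroup.closure_le]
    rintro x ⟨hx, _⟩
    exact hx
  · intro x hx
    exact stepC hx

end Cfsg.Agent.Helper4.LC
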