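import Cfsg.Agent.Lib.Helper4.LeechCount2

set_option autoImplicit false
set_option linter.style.haveILetI false
set_option linter.unusedVariables false
set_option linter.unusedSectionVars false

/-! A set of integer vectors of equal norm, closed under negation and otherwise pairwise orthogonal,
has at most `2 * dim` elements; index computations for `2Λ`. -/

namespace Cfsg.Agent.Helper4.LC

open Cfsg Cfsg.Agent.Lib.Helper4

section bessel

variable {ι : Type*} [Fintype ι] [DecidableEq ι]

theorem dotProduct_self_nonneg (w : ι → ℤ) : 0 ≤ dotProduct w w := by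
  unfold dotProduct
  exact Finset.sum_nonneg fun i _ => mul_self_nonneg (w i)

theorem bessel_aux (F : Finset (ι → ℤ)) (n : ℤ) (hn : 0 < n)
    (hnorm : ∀ y ∈ F, dotProduct y y = n) (hneg : ∀ y ∈ F, -y ∈ F)
    (horth : ∀ y ∈ F, ∀ y' ∈ F, y' = y ∨ y' = -y ∨ dotProduct y y' = 0) (u : ι → ℤ) :
    ∑ y ∈ F, (dotProduct y u) ^ 2 ≤ 2 * n * dotProduct u u := by
  set b : ι → ℤ := ∑ y ∈ F, (dotProduct y u) • y with hb
  have hyb : ∀ y ∈ F, dotProduct y b = 2 * n * dotProduct y u := by
    intro y hy
    rw [hb, dotProduct_sum]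
    simp only [dotProduct_smul, smul_eq_mul]
    have hne : y ≠ -y := by
      intro h
      have h0 : y = 0 := by
        funext i
        have := congrFun h i
        simp only [Pi.neg_apply, Pi.zero_apply] at this ⊢
        omega
      have := hnorm y hy
      rw [h0] at this
      simp at this
      omega
    have hsub : ({y, -y} : Finset (ι → ℤ)) ⊆ F := by
      intro z hz
      simp only [Finset.mem_insert, Finset.mem_singleton] at hz
      rcases hz with rfl | rfl
      · exact hy
      · exact hneg _ hy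
    rw [← Finset.sum_subset hsub]
    · rw [Finset.sum_pair hne, hnorm y hy, dotProduct_neg, hnorm y hy, neg_dotProduct]
      ring
    · intro z hz hz'
      simp only [Finset.mem_insert, Finset.mem_singleton, not_or] at hz'
      rcases horth y hy z hz with h | h | h
      · exact absurd h hz'.1
      · exact absurd h hz'.2
      · rw [h, mul_zero]
  have hbb : dotProduct b b = 2 * n * ∑ y ∈ F, (dotProduct y u) ^ 2 := by
    conv_lhs => rw [hb]
    rw [sum_dotProduct]
    rw [Finset.mul_sum]
    refine Finset.sum_congr rfl fun y hy => ?_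
    rw [smul_dotProduct, smul_eq_mul, ← hb, hyb y hy]
    ring
  have hub : dotProduct u b = ∑ y ∈ F, (dotProduct y u) ^ 2 := by
    rw [hb, dotProduct_sum]
    refine Finset.sum_congr rfl fun y hy => ?_
    rw [dotProduct_smul, smul_eq_mul, dotProduct_comm u y]
    ring
  have hW := dotProduct_self_nonneg ((2 * n) • u - b)
  rw [sub_dotProduct, dotProduct_sub, dotProduct_sub, smul_dotProduct, smul_dotProduct,
    dotProduct_smul, dotProduct_smul, dotProduct_comm b u, hub, hbb] at hW
  simp only [smul_eq_mul] at hW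
  nlinarith

theorem card_le_of_orth (F : Finset (ι → ℤ)) (n : ℤ) (hn : 0 < n)
    (hnorm : ∀ y ∈ F, dotProduct y y = n) (hneg : ∀ y ∈ F, -y ∈ F)
    (horth : ∀ y ∈ F, ∀ y' ∈ F, y' = y ∨ y' = -y ∨ dotProduct y y' = 0) :
    F.card ≤ 2 * Fintype.card ι := by
  have h1 : ∀ i : ι, ∑ y ∈ F, (y i) ^ 2 ≤ 2 * n := by
    intro i
    have := bessel_aux F n hn hnorm hneg horth (Pi.single i 1)
    simp only [dotProduct_single, mul_one, single_dotProduct, Pi.single_eq_same] at this
    linarith
  have h2 : ∑ i : ι, ∑ y ∈ F, (y i) ^ 2 ≤ ∑ i : ι, 2 * n := Finset.sum_le_sum fun i _ => h1 i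
  rw [Finset.sum_comm] at h2
  have h3 : ∑ y ∈ F, ∑ i : ι, (y i) ^ 2 = ∑ y ∈ F, n := by
    refine Finset.sum_congr rfl fun y hy => ?_
    rw [← hnorm y hy]
    unfold dotProduct
    exact Finset.sum_congr rfl fun i _ => sq (y i)
  rw [h3, Finset.sum_const, Finset.sum_const, Finset.card_univ] at h2
  simp only [nsmul_eq_mul] at h2
  have h4 : (F.card : ℤ) * n ≤ (2 * (Fintype.card ι : ℤ)) * n := by linarith
  have := le_of_mul_le_mul_right h4 hn
  exact_mod_cast this

end bessel

end Cfsg.Agent.Helper4.LC
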