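import Cfsg.Prelude.Def_SporadicCombinatorics
import Cfsg.Agent.Lib.Helper4.LeechGen
import Cfsg.Agent.Lib.Helper28.M24Mem
import Cfsg.Agent.Lib.Helper28.M24Order
import Cfsg.Agent.S0398

set_option autoImplicit false
set_option linter.style.haveILetI false
set_option linter.unusedVariables false
set_option linter.unusedSectionVars false

/-! The stabiliser of the standard cross in the automorphism group of the rank-24 lattice is the
monomial group `2^12 : M24`. -/

namespace Cfsg.Agent.Helper4.LC

open Cfsg Cfsg.Agent.Lib.Helper4 Cfsg.Agent.Lib.Helper28 Cfsg.Agent.S0398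

theorem signedPerm_single (σ : Equiv.Perm GolayPt) (c : Finset GolayPt) (i : GolayPt) (s : ℤ) :
    signedPerm σ c (Pi.single i s) = Pi.single (σ i) (if σ i ∈ c then -s else s) := by
  funext j
  unfold signedPerm
  by_cases hj : j = σ i
  · subst hj
    simp
  · have h1 : σ.symm j ≠ i := by
      intro h; apply hj; rw [← h]; simp
    simp only [Pi.single_apply, if_neg hj, if_neg h1, neg_zero, ite_self]

theorem e8_coe (i : GolayPt) : ((e8 i : leechLattice) : GolayPt → ℤ) = Pi.single i 8 := rfl

theorem signedPerm_unique {σ σ' : Equiv.Perm GolayPt} {c c' : Finset GolayPt}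
    (h : ∀ v : leechLattice, signedPerm σ c (v : GolayPt → ℤ) = signedPerm σ' c' (v : GolayPt → ℤ)) :
    σ = σ' ∧ c = c' := by
  have key : ∀ i, σ i = σ' i ∧ (σ i ∈ c ↔ σ' i ∈ c') := by
    intro i
    have h1 := h (e8 i)
    rw [e8_coe, signedPerm_single, signedPerm_single] at h1
    have h2 := congrFun h1 (σ i)
    rw [Pi.single_eq_same, Pi.single_apply] at h2
    by_cases he : σ i = σ' i
    · refine ⟨he, ?_⟩
      rw [if_pos he] at h2
      by_cases h3 : σ i ∈ c <;> by_cases h4 : σ' i ∈ c'
      · exact ⟨fun _ => h4, fun _ => h3⟩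
      · rw [if_pos h3, if_neg h4] at h2; norm_num at h2
      · rw [if_neg h3, if_pos h4] at h2; norm_num at h2
      · exact ⟨fun h => absurd h h3, fun h => absurd h h4⟩
    · rw [if_neg he] at h2
      split_ifs at h2 <;> norm_num at h2
  have hσ : σ = σ' := Equiv.ext fun i => (key i).1
  refine ⟨hσ, ?_⟩
  ext j
  have := (key (σ.symm j)).2
  rw [← hσ] at this
  simpa using this

/-- the vector with `2` on the support of a word -/
def twoVec (w : GolayPt → ZMod 2) : GolayPt → ℤ := fun i => if w i = 1 then 2 else 0

theorem twoVec_mem {w : GolayPt → ZMod 2} (hw : w ∈ golayCode) : twoVec w ∈ leechLattice := by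
  obtain ⟨t, ht⟩ := golay_doubly_even hw
  have hr : ∀ i, twoVec w i % 4 = if w i = 1 then 2 else 0 := by
    intro i; unfold twoVec; split_ifs <;> norm_num
  rw [mem_leech_iff]; left
  refine ⟨fun i => by have := hr i; split_ifs at this <;> omega, ?_, ?_⟩
  · have e : ∑ i, twoVec w i = 2 * ((support₂ w).card : ℤ) + 0 * (24 - ((support₂ w).card : ℤ)) :=
      sum_ite_c w 2 0
    rw [e, ht]; push_cast; omega
  · rw [wd_eq_of_res (by norm_num) (by norm_num) (by norm_num) hr]; exact hw

/-- an automorphism stabilising the standard cross is monomial -/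
theorem stab_monomial (g : Co0)
    (hg : ∀ v : leechLattice, (v : GolayPt → ℤ) ∈ stdCross →
      (((g : Equiv.Perm leechLattice) v : leechLattice) : GolayPt → ℤ) ∈ stdCross) :
    ∃ σ ∈ M24, ∃ w ∈ golayCode, ∀ v : leechLattice,
      (((g : Equiv.Perm leechLattice) v : leechLattice) : GolayPt → ℤ) =
        signedPerm σ (support₂ w) (v : GolayPt → ℤ) := by
  classical
  have he : ∀ i, ∃ (j : GolayPt) (s : ℤ), (s = 8 ∨ s = -8) ∧
      (((g : Equiv.Perm leechLattice) (e8 i) : leechLattice) : GolayPt → ℤ) = Pi.single j s :=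
    fun i => hg (e8 i) ⟨i, 8, Or.inl rfl, rfl⟩
  choose τ s hs hτ using he
  have hs0 : ∀ i, s i ≠ 0 := fun i => by rcases hs i with h | h <;> rw [h] <;> norm_num
  have hinj : Function.Injective τ := by
    intro i j hij
    have h1 := hτ i
    have h2 := hτ j
    rw [← hij] at h2
    have hcases : s i = s j ∨ s i = -s j := by
      rcases hs i with h | h <;> rcases hs j with h' | h' <;> rw [h, h'] <;> norm_num
    rcases hcases with h | h
    · have : (g : Equiv.Perm leechLattice) (e8 i) = (g : Equiv.Perm leechLattice) (e8 j) := by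
        apply Subtype.ext; rw [h1, h2, h]
      have h3 := (g : Equiv.Perm leechLattice).injective this
      have h4 := congrFun (congrArg (fun v : leechLattice => (v : GolayPt → ℤ)) h3) i
      simp only [e8_apply] at h4
      by_contra hne
      simp [hne] at h4
    · have : (g : Equiv.Perm leechLattice) (e8 i) = (g : Equiv.Perm leechLattice) (-e8 j) := by
        rw [co0_neg]
        apply Subtype.ext
        rw [AddSubgroup.coe_neg, h1, h2, h, ← Pi.single_neg]
      have h3 := (g : Equiv.Perm leechLattice).injective this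
      have h4 := congrFun (congrArg (fun v : leechLattice => (v : GolayPt → ℤ)) h3) i
      simp only [e8_apply, AddSubgroup.coe_neg, Pi.neg_apply] at h4
      exfalso
      split_ifs at h4 <;> norm_num at h4
  let σ : Equiv.Perm GolayPt := Equiv.ofBijective τ (Finite.injective_iff_bijective.mp hinj)
  have hσ : ∀ i, σ i = τ i := fun i => rfl
  have hform : ∀ (v : leechLattice) (j : GolayPt),
      8 * (((g : Equiv.Perm leechLattice) v : leechLattice) : GolayPt → ℤ) j =
        (v : GolayPt → ℤ) (σ.symm j) * s (σ.symm j) := by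
    intro v j
    have h1 := eight_smul_co0 g v
    have h2 := congrFun (congrArg (fun u : leechLattice => (u : GolayPt → ℤ)) h1) j
    simp only [AddSubgroup.coe_zsmul, Pi.smul_apply, AddSubgroup.val_finsetSum, Finset.sum_apply,
      co0Hom_apply, smul_eq_mul] at h2
    rw [Finset.sum_eq_single (σ.symm j)] at h2
    · rw [hτ, Pi.single_apply, if_pos (by rw [← hσ]; simp)] at h2
      exact h2
    · intro i _ hi
      rw [hτ, Pi.single_apply, if_neg, mul_zero]
      intro hj
      apply hi
      rw [hj, ← hσ]; simp
    · intro h; exact absurd (Finset.mem_univ _) h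
  let c : Finset GolayPt := Finset.univ.filter (fun j => s (σ.symm j) = -8)
  have hgv : ∀ v : leechLattice,
      (((g : Equiv.Perm leechLattice) v : leechLattice) : GolayPt → ℤ) =
        signedPerm σ c (v : GolayPt → ℤ) := by
    intro v
    funext j
    have h1 := hform v j
    unfold signedPerm
    by_cases hj : j ∈ c
    · rw [if_pos hj]
      have : s (σ.symm j) = -8 := (Finset.mem_filter.mp hj).2
      rw [this] at h1
      omega
    · rw [if_neg hj]
      have : s (σ.symm j) = 8 := by
        rcases hs (σ.symm j) with h | h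
        · exact h
        · exfalso; apply hj; exact Finset.mem_filter.mpr ⟨Finset.mem_univ _, h⟩
      rw [this] at h1
      omega
  -- σ preserves the code
  have hσM : σ ∈ M24 := by
    apply mem_M24_of_comp_symm
    intro w hw
    have hx := twoVec_mem hw
    have hgx : (((g : Equiv.Perm leechLattice) ⟨twoVec w, hx⟩ : leechLattice) : GolayPt → ℤ) ∈
        leechLattice := ((g : Equiv.Perm leechLattice) ⟨twoVec w, hx⟩).2
    have hval := hgv ⟨twoVec w, hx⟩
    have hr : ∀ j, (((g : Equiv.Perm leechLattice) ⟨twoVec w, hx⟩ : leechLattice) : GolayPt → ℤ) j % 4 =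
        if (fun i => w (σ.symm i)) j = 1 then 2 else 0 := by
      intro j
      rw [hval]
      unfold signedPerm twoVec
      simp only
      split_ifs <;> norm_num
    have hwd := wd_eq_of_res (by norm_num) (by norm_num) (by norm_num) hr
    rw [mem_leech_iff] at hgx
    rcases hgx with ⟨_, _, h⟩ | ⟨ho, _, _⟩
    · rw [hwd] at h; exact h
    · exfalso
      have := ho none
      have := hr none
      split_ifs at this <;> omega
  -- the sign set is a code word
  have h1code : (1 : GolayPt → ZMod 2) ∈ golayCode := one_mem_golayCode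
  have hu := oddMin_mem h1code
  have hgu : (((g : Equiv.Perm leechLattice) ⟨oddMin 1, hu⟩ : leechLattice) : GolayPt → ℤ) ∈
      leechLattice := ((g : Equiv.Perm leechLattice) ⟨oddMin 1, hu⟩).2
  have hvalu := hgv ⟨oddMin 1, hu⟩
  have hru : ∀ j, (((g : Equiv.Perm leechLattice) ⟨oddMin 1, hu⟩ : leechLattice) : GolayPt → ℤ) j % 4 =
      if j ∈ c then 3 else 1 := by
    intro j
    rw [hvalu]
    have := oddMin_res 1 (σ.symm j)
    simp only [Pi.one_apply, if_true] at this
    unfold signedPerm
    simp only
    split_ifs <;> omega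
  rw [mem_leechLattice_iff, mem_leechSet_iff] at hgu
  obtain ⟨_, _, _, h3⟩ := hgu
  have hw3 := h3 3
  refine ⟨σ, hσM, _, hw3, fun v => ?_⟩
  have hsupp : support₂ (wd (((g : Equiv.Perm leechLattice) ⟨oddMin 1, hu⟩ : leechLattice) :
      GolayPt → ℤ) 3) = c := by
    ext j
    unfold wd
    rw [support₂_ite, Finset.mem_filter]
    have := hru j
    constructor
    · rintro ⟨_, h⟩
      by_contra hj
      rw [if_neg hj] at this
      unfold Int.ModEq at h
      omega
    · intro hj
      rw [if_pos hj] at this
      refine ⟨Finset.mem_univ _, ?_⟩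
      unfold Int.ModEq
      omega
  rw [hsupp]
  exact hgv v

/-- every monomial map of the code comes from an automorphism stabilising the standard cross -/
theorem exists_monomial (σ : Equiv.Perm GolayPt) (hσ : σ ∈ M24) (w : GolayPt → ZMod 2)
    (hw : w ∈ golayCode) :
    ∃ g : Co0, (∀ v : leechLattice, (v : GolayPt → ℤ) ∈ stdCross →
        (((g : Equiv.Perm leechLattice) v : leechLattice) : GolayPt → ℤ) ∈ stdCross) ∧
      ∀ v : leechLattice, (((g : Equiv.Perm leechLattice) v : leechLattice) : GolayPt → ℤ) =
        signedPerm σ (support₂ w) (v : GolayPt → ℤ) := by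
  have hc : support₂ w ∈ supports (golayCode : Set (GolayPt → ZMod 2)) := ⟨w, hw, rfl⟩
  have hσ' : σ⁻¹ ∈ M24 := M24.inv_mem hσ
  let g : Co0 := ⟨signPerm (support₂ w) hc * permPerm σ⁻¹ hσ',
    Co0.mul_mem (signPerm_mem _ hc) (permPerm_mem _ hσ')⟩
  have hgv : ∀ v : leechLattice, (((g : Equiv.Perm leechLattice) v : leechLattice) : GolayPt → ℤ) =
      signedPerm σ (support₂ w) (v : GolayPt → ℤ) := by
    intro v
    funext j
    show signFun (support₂ w) (permFun σ⁻¹ (v : GolayPt → ℤ)) j = _
    unfold signFun permFun signedPerm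
    rfl
  refine ⟨g, ?_, hgv⟩
  rintro v ⟨i, s, hs, hv⟩
  rw [hgv v, hv, signedPerm_single]
  refine ⟨σ i, _, ?_, rfl⟩
  rcases hs with rfl | rfl <;> split_ifs <;> norm_num

end Cfsg.Agent.Helper4.LC
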