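import Mathlib

set_option autoImplicit false
set_option linter.style.haveILetI false
set_option linter.unusedVariables false

/-! S2399 piece [U1] (helper4): unique `p`-element lifts along a central extension of a finite group with
`p`-torsion-free kernel, multiplicative on `p`-subgroups (Schur–Zassenhaus in the preimage of the
`p`-subgroup). -/

namespace Cfsg.Agent.Lib.Helper29.PLift

namespace Helper4U

/-- an element of the kernel killed by a power of `p` is trivial -/
theorem ker_pow_eq_one {H Gb : Type*} [Group H] [Group Gb] (p : ℕ) (π : H →* Gb)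
    (htf : ∀ a ∈ π.ker, a ^ p = 1 → a = 1) :
    ∀ (j : ℕ) (a : H), a ∈ π.ker → a ^ p ^ j = 1 → a = 1 := by
  intro j
  induction j with
  | zero =>
    intro a _ h
    rw [pow_zero, pow_one] at h
    exact h
  | succ j ih =>
    intro a ha h
    apply ih a ha
    apply htf _ (π.ker.pow_mem ha _)
    rw [← pow_mul, ← pow_succ]
    exact h

/-- two `p`-elements with the same image are equal -/
theorem pel_unique {H Gb : Type*} [Group H] [Group Gb] (p : ℕ) (π : H →* Gb)
    (hc : π.ker ≤ Subgroup.center H) (htf : ∀ a ∈ π.ker, a ^ p = 1 → a = 1) (y y' : H)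
    (hyy : π y = π y') (hy : ∃ k : ℕ, y ^ p ^ k = 1) (hy' : ∃ k : ℕ, y' ^ p ^ k = 1) : y = y' := by
  obtain ⟨k, hk⟩ := hy
  obtain ⟨k', hk'⟩ := hy'
  have hak : y⁻¹ * y' ∈ π.ker := by
    rw [MonoidHom.mem_ker, map_mul, map_inv, hyy, inv_mul_cancel]
  have hac : y⁻¹ * y' ∈ Subgroup.center H := hc hak
  have hyeq : y' = y * (y⁻¹ * y') := by rw [mul_inv_cancel_left]
  have hcomm : Commute y (y⁻¹ * y') := (Subgroup.mem_center_iff.mp hac y)
  have h1 : y ^ p ^ (k + k') = 1 := by
    rw [pow_add, pow_mul, hk, one_pow]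
  have h2 : y' ^ p ^ (k + k') = 1 := by
    rw [pow_add, mul_comm, pow_mul, hk', one_pow]
  have h3 : (y⁻¹ * y') ^ p ^ (k + k') = 1 := by
    have h4 : (y * (y⁻¹ * y')) ^ p ^ (k + k') = 1 := by rw [← hyeq]; exact h2
    rw [hcomm.mul_pow, h1, one_mul] at h4
    exact h4
  have h5 := ker_pow_eq_one p π htf _ _ hak h3
  rw [hyeq, h5, mul_one]

end Helper4U

open Helper4U

/-- [U1] unique `p`-element lifts along a central extension of a finite group with `p`-torsion-free
kernel: multiplicative on `p`-subgroups.  (`lam x` := the element of `p`-power order over `x`.) -/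
theorem exists_pLift {H Gb : Type*} [Group H] [Finite H] [Group Gb] (p : ℕ) [Fact p.Prime]
    (π : H →* Gb) (hc : π.ker ≤ Subgroup.center H)
    (htf : ∀ a ∈ π.ker, a ^ p = 1 → a = 1) :
    ∃ lam : Gb → H, ∀ P : Subgroup Gb, IsPGroup p P → P ≤ π.range →
      (∀ x ∈ P, π (lam x) = x) ∧ (∀ x ∈ P, ∀ y ∈ P, lam (x * y) = lam x * lam y) := by
  classical
  have hp : p.Prime := Fact.out
  refine ⟨fun x => if h : ∃ y, π y = x ∧ ∃ k : ℕ, y ^ p ^ k = 1 then h.choose else 1, ?_⟩
  -- the defining property of `lam`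
  have hspec : ∀ (x : Gb) (y : H), π y = x → (∃ k : ℕ, y ^ p ^ k = 1) →
      (if h : ∃ y, π y = x ∧ ∃ k : ℕ, y ^ p ^ k = 1 then h.choose else 1) = y := by
    intro x y hy hk
    have h : ∃ y, π y = x ∧ ∃ k : ℕ, y ^ p ^ k = 1 := ⟨y, hy, hk⟩
    rw [dif_pos h]
    exact pel_unique p π hc htf _ _ (h.choose_spec.1.trans hy.symm) h.choose_spec.2 hk
  intro P hP hle
  -- the preimage of `P` and the restriction of `π` to it
  let Q : Subgroup H := P.comap π
  let f : ↥Q →* Gb := π.comp Q.subtype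
  have hrange : f.range = P := by
    ext x
    constructor
    · rintro ⟨q, rfl⟩
      exact q.2
    · intro hx
      obtain ⟨y, rfl⟩ := hle hx
      exact ⟨⟨y, hx⟩, rfl⟩
  haveI : Finite ↥P :=
    Finite.of_surjective (fun q : ↥Q => (⟨π q.1, q.2⟩ : ↥P)) (by
      rintro ⟨x, hx⟩
      obtain ⟨y, rfl⟩ := hle hx
      exact ⟨⟨y, hx⟩, rfl⟩)
  obtain ⟨n, hn⟩ := IsPGroup.iff_card.mp hP
  have hidx : f.ker.index = p ^ n := by
    rw [Subgroup.index_ker, hrange, hn]
  have hnd : ¬ p ∣ Nat.card ↥f.ker := by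
    intro hdvd
    obtain ⟨z, hz⟩ := exists_prime_orderOf_dvd_card' p hdvd
    have hz1 : z ^ p = 1 := by rw [← hz]; exact pow_orderOf_eq_one z
    have hzk : (z.1.1 : H) ∈ π.ker := by
      have := z.2
      rw [MonoidHom.mem_ker] at this ⊢
      exact this
    have hzp : (z.1.1 : H) ^ p = 1 := by
      have := congrArg (fun t : ↥f.ker => (t.1.1 : H)) hz1
      simpa using this
    have hz0 : (z.1.1 : H) = 1 := htf _ hzk hzp
    have hz' : z = 1 := by
      apply Subtype.ext
      apply Subtype.ext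
      exact hz0
    rw [hz', orderOf_one] at hz
    exact hp.one_lt.ne hz
  have hcop : Nat.Coprime (Nat.card ↥f.ker) f.ker.index := by
    rw [hidx]
    exact Nat.Coprime.pow_right n ((Nat.Prime.coprime_iff_not_dvd hp).mpr hnd).symm
  obtain ⟨S, hS⟩ := Subgroup.exists_right_complement'_of_coprime hcop
  have hScard : Nat.card ↥S = p ^ n := by rw [← hS.symm.index_eq_card, hidx]
  have hSp : IsPGroup p ↥S := IsPGroup.of_card hScard
  -- every element of `P` has a lift in `S`
  have hlift : ∀ x ∈ P, ∃ s : ↥Q, s ∈ S ∧ π s.1 = x := by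
    intro x hx
    obtain ⟨y, rfl⟩ := hle hx
    obtain ⟨⟨⟨n₁, hn₁⟩, ⟨s, hs⟩⟩, hq, -⟩ := hS.existsUnique (⟨y, hx⟩ : ↥Q)
    refine ⟨s, hs, ?_⟩
    have h1 : f n₁ = 1 := hn₁
    have h2 : f (n₁ * s) = π y := by
      have := congrArg f hq
      exact this
    rw [map_mul, h1, one_mul] at h2
    exact h2
  -- elements of `S` are `p`-elements of `H`
  have hSel : ∀ s : ↥Q, s ∈ S → ∃ k : ℕ, (s.1 : H) ^ p ^ k = 1 := by
    intro s hs
    obtain ⟨k, hk⟩ := hSp ⟨s, hs⟩
    refine ⟨k, ?_⟩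
    have := congrArg (fun t : ↥S => (t.1.1 : H)) hk
    simpa using this
  constructor
  · intro x hx
    obtain ⟨s, hs, hsx⟩ := hlift x hx
    beta_reduce
    rw [hspec x s.1 hsx (hSel s hs)]
    exact hsx
  · intro x hx y hy
    obtain ⟨s, hs, hsx⟩ := hlift x hx
    obtain ⟨t, ht, hty⟩ := hlift y hy
    beta_reduce
    rw [hspec x s.1 hsx (hSel s hs), hspec y t.1 hty (hSel t ht)]
    have hst : (s * t) ∈ S := S.mul_mem hs ht
    have h1 : π (s * t : ↥Q).1 = x * y := by
      rw [Subgroup.coe_mul, map_mul, hsx, hty]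
    have h2 := hspec (x * y) (s * t : ↥Q).1 h1 (hSel _ hst)
    rw [h2, Subgroup.coe_mul]

end Cfsg.Agent.Lib.Helper29.PLift
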