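import Mathlib
import Cfsg.Prelude.Def_RootSubgroups
import Cfsg.Prelude.Def_QuasithinSetup
import Cfsg.Agent.H26.RootInv2
import Cfsg.Agent.Lib.Helper1.Cores
import Cfsg.Agent.Lib.Helper1.BaerSuzuki
import Cfsg.Agent.Lib.Helper4.RedCONJ

/-!
# Root involutions: `S(G) = O_{2,Z}(G)` and `G / O_{2,Z}(G)` is simple (Timmesfeld (2.5))

Elementary proof.  `D` is one class generating `G`, so a proper normal subgroup `N` misses `D`.
For `d ∈ D`, a member `x ∈ D` congruent to `d` modulo `N` is never an odd partner of `d`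
(`ri_line_odd` applied to a line `{b', d, b' d}` through `d`, read modulo `N`), so `⟨d, x⟩` is a
2-group; by Baer–Suzuki in `N ⟨d⟩` we get `d ∈ O_2(N ⟨d⟩)`, hence `[N, d] ≤ O_2(N) ≤ O_2(G)` and
`N ≤ O_{2,Z}(G)`.
-/

set_option autoImplicit false

namespace Cfsg.Agent.Lib.Helper4.RIS

open Cfsg Cfsg.Agent.H26

variable {G : Type*} [Group G] {D : Set G}

/-- a normal subgroup meeting the generating class `D` is everything -/
theorem eq_top_of_mem (hD : IsRootInvolutionSet D)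
    (hconj : ∀ a ∈ D, ∀ b ∈ D, ∃ w : G, b = w * a * w⁻¹) (N : Subgroup G) [hN : N.Normal]
    {d : G} (hd : d ∈ D) (hdN : d ∈ N) : N = ⊤ := by
  rw [eq_top_iff, ← hD.generates, Subgroup.closure_le]
  intro b hb
  obtain ⟨w, rfl⟩ := hconj d hd b hb
  exact hN.conj_mem d hdN w

/-- key lemma: members of `D` congruent modulo a normal subgroup missing `D` generate a 2-group -/
theorem pow_four_of_congr (hD : IsRootInvolutionSet D)
    (hconj : ∀ a ∈ D, ∀ b ∈ D, ∃ w : G, b = w * a * w⁻¹)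
    (hDD : (D ∩ commutingProducts D).Nonempty)
    (N : Subgroup G) [N.Normal] (hDN : ∀ d ∈ D, d ∉ N)
    {d x : G} (hd : d ∈ D) (hx : x ∈ D)
    (hdx : (QuotientGroup.mk' N) x = (QuotientGroup.mk' N) d) :
    (d * x) ^ 4 = 1 := by
  have hnot : ¬ OddAdj D d x := by
    intro hodd
    obtain ⟨b', hb'D, hae, hcomm⟩ : ∃ b' ∈ D, b' * d ∈ D ∧ b' * d = d * b' := by
      obtain ⟨c, hcD, a0, ha0, b0, hb0, hcomm0, hne0, rfl⟩ := hDD
      obtain ⟨g, rfl⟩ := hconj a0 ha0 d hd
      have hprod : g * b0 * g⁻¹ * (g * a0 * g⁻¹) = g * (a0 * b0) * g⁻¹ := by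
        rw [hcomm0]; group
      have hprod2 : g * a0 * g⁻¹ * (g * b0 * g⁻¹) = g * (a0 * b0) * g⁻¹ := by group
      refine ⟨g * b0 * g⁻¹, hD.conj_mem b0 hb0 g, ?_, hprod.trans hprod2.symm⟩
      rw [hprod]; exact hD.conj_mem _ hcD g
    have hd2 := ri_mul_self hD hd
    have hb2 := ri_mul_self hD hb'D
    rcases ri_line_odd hD hb'D hd hae hcomm hodd with h | h
    · obtain ⟨-, -, -, hodd1⟩ := h
      -- `x * b'` has odd order; modulo `N` it is `d * b'`, an involution or `1`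
      have himg : (QuotientGroup.mk' N) (x * b') = (QuotientGroup.mk' N) (d * b') := by
        rw [map_mul, hdx, ← map_mul]
      have hsq : ((QuotientGroup.mk' N) (x * b')) ^ 2 = 1 := by
        rw [himg, ← map_pow, ri_sq_of_comm hD hd hb'D hcomm.symm, map_one]
      have hodd2 : Odd (orderOf ((QuotientGroup.mk' N) (x * b'))) :=
        Odd.of_dvd_nat hodd1 (orderOf_map_dvd _ _)
      have h1 := odd_orderOf_eq_one_of_sq hodd2 hsq
      rw [himg, ← hcomm] at h1
      exact hDN _ hae ((QuotientGroup.eq_one_iff _).mp h1)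
    · obtain ⟨-, -, -, hodd1⟩ := h
      have hbb : d * (b' * d) = b' := by
        rw [hcomm, ← mul_assoc, hd2, one_mul]
      have himg : (QuotientGroup.mk' N) (x * (b' * d)) = (QuotientGroup.mk' N) b' := by
        rw [map_mul, hdx, ← map_mul, hbb]
      have hsq : ((QuotientGroup.mk' N) (x * (b' * d))) ^ 2 = 1 := by
        rw [himg, ← map_pow, sq, hb2, map_one]
      have hodd2 : Odd (orderOf ((QuotientGroup.mk' N) (x * (b' * d)))) :=
        Odd.of_dvd_nat hodd1 (orderOf_map_dvd _ _)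
      have h1 := odd_orderOf_eq_one_of_sq hodd2 hsq
      rw [himg] at h1
      exact hDN _ hb'D ((QuotientGroup.eq_one_iff _).mp h1)
  rcases hD.pair d hd x hx with h | h | ⟨h, -⟩
  · have h2 := ri_sq_of_comm hD hd hx h
    rw [show 4 = 2 * 2 from rfl, pow_mul, h2, one_pow]
  · by_cases hxd : d = x
    · subst hxd; rw [ri_mul_self hD hd, one_pow]
    · exact absurd ⟨hd, hx, hxd, h⟩ hnot
  · rw [← h, pow_orderOf_eq_one]

/-- Baer–Suzuki inside a subgroup `H ≥ N` whose image modulo `N` centralises `d`: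
`d ∈ O_2(H)`. -/
theorem mem_pCore_of_le [Finite G] (hD : IsRootInvolutionSet D)
    (hconj : ∀ a ∈ D, ∀ b ∈ D, ∃ w : G, b = w * a * w⁻¹)
    (hDD : (D ∩ commutingProducts D).Nonempty)
    (N : Subgroup G) [N.Normal] (hDN : ∀ d ∈ D, d ∉ N)
    {d : G} (hd : d ∈ D) (H : Subgroup G) (hdH : d ∈ H)
    (hH : H ≤ (Subgroup.centralizer {(QuotientGroup.mk' N) d}).comap (QuotientGroup.mk' N)) :
    (⟨d, hdH⟩ : H) ∈ pCore 2 H := by
  have : Fact (Nat.Prime 2) := ⟨Nat.prime_two⟩
  have hKinv : ∀ g : H, ∀ x ∈ {x : H | ∃ h : H, x = h * ⟨d, hdH⟩ * h⁻¹},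
      g * x * g⁻¹ ∈ {x : H | ∃ h : H, x = h * ⟨d, hdH⟩ * h⁻¹} := by
    rintro g x ⟨h, rfl⟩
    exact ⟨g * h, by group⟩
  have hKD : ∀ x ∈ {x : H | ∃ h : H, x = h * ⟨d, hdH⟩ * h⁻¹},
      (x : G) ∈ D ∧ (QuotientGroup.mk' N) (x : G) = (QuotientGroup.mk' N) d := by
    rintro x ⟨h, rfl⟩
    refine ⟨?_, ?_⟩
    · simpa using hD.conj_mem d hd (h : G)
    · have h1 := hH h.2
      rw [Subgroup.mem_comap, Subgroup.mem_centralizer_iff] at h1
      have h2 := h1 _ rfl
      simp only [Subgroup.coe_mul, Subgroup.coe_inv, map_mul, map_inv]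
      rw [← h2, mul_inv_cancel_right]
  have hK : ∀ x ∈ {x : H | ∃ h : H, x = h * ⟨d, hdH⟩ * h⁻¹},
      ∀ y ∈ {x : H | ∃ h : H, x = h * ⟨d, hdH⟩ * h⁻¹},
      IsPGroup 2 (Subgroup.closure ({x, y} : Set H)) := by
    intro x hx y hy
    obtain ⟨hxD, hxπ⟩ := hKD x hx
    obtain ⟨hyD, hyπ⟩ := hKD y hy
    have h4 : ((x : G) * (y : G)) ^ 4 = 1 :=
      pow_four_of_congr hD hconj hDD N hDN hxD hyD (hyπ.trans hxπ.symm)
    have hP := isPGroup_two_closure_pair (ri_mul_self hD hxD) (ri_mul_self hD hyD) h4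
    have hP2 := hP.comap_of_injective H.subtype H.subtype_injective
    refine hP2.to_le ?_
    rw [Subgroup.closure_le]
    rintro z (rfl | rfl)
    · exact Subgroup.subset_closure (by simp)
    · exact Subgroup.subset_closure (by simp)
  exact Cfsg.Agent.Lib.Helper1.baer_suzuki _ hKinv hK ⟨d, hdH⟩ ⟨1, by group⟩

/-- commutators `[n, d]` (`n ∈ N`, `d ∈ D`) lie in `O_2(G)`. -/
theorem comm_mem_pCore [Finite G] (hD : IsRootInvolutionSet D)
    (hconj : ∀ a ∈ D, ∀ b ∈ D, ∃ w : G, b = w * a * w⁻¹)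
    (hDD : (D ∩ commutingProducts D).Nonempty)
    (N : Subgroup G) [hN : N.Normal] (hDN : ∀ d ∈ D, d ∉ N)
    {d n : G} (hd : d ∈ D) (hn : n ∈ N) : n * d * n⁻¹ * d⁻¹ ∈ pCore 2 G := by
  have hNH : N ≤ N ⊔ Subgroup.zpowers d := le_sup_left
  have hdH : d ∈ N ⊔ Subgroup.zpowers d :=
    (le_sup_right : Subgroup.zpowers d ≤ _) (Subgroup.mem_zpowers d)
  have hH : N ⊔ Subgroup.zpowers d ≤
      (Subgroup.centralizer {(QuotientGroup.mk' N) d}).comap (QuotientGroup.mk' N) := by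
    refine sup_le ?_ ?_
    · intro m hm
      have h1 : (QuotientGroup.mk' N) m = 1 := (QuotientGroup.eq_one_iff m).mpr hm
      rw [Subgroup.mem_comap, h1]
      exact Subgroup.one_mem _
    · rw [Subgroup.zpowers_le, Subgroup.mem_comap, Subgroup.mem_centralizer_iff]
      intro y hy
      rw [Set.mem_singleton_iff.mp hy]
  have hd' := mem_pCore_of_le hD hconj hDD N hDN hd _ hdH hH
  -- the commutator, inside `O_2(H)`
  have hc' : (⟨n, hNH hn⟩ : ↥(N ⊔ Subgroup.zpowers d)) * ⟨d, hdH⟩ * (⟨n, hNH hn⟩)⁻¹ *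
      (⟨d, hdH⟩)⁻¹ ∈ pCore 2 ↥(N ⊔ Subgroup.zpowers d) :=
    mul_mem ((inferInstance : (pCore 2 ↥(N ⊔ Subgroup.zpowers d)).Normal).conj_mem _ hd' _)
      (inv_mem hd')
  -- pull back to `N`
  have hcN : n * d * n⁻¹ * d⁻¹ ∈ N := by
    have : d * n⁻¹ * d⁻¹ ∈ N := hN.conj_mem _ (inv_mem hn) d
    have h2 := mul_mem hn this
    simpa [mul_assoc] using h2
  have hM : (pCore 2 ↥(N ⊔ Subgroup.zpowers d)).comap (Subgroup.inclusion hNH) ≤ pCore 2 ↥N := by
    apply Cfsg.Agent.Lib.Helper1.le_pCore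
    · exact Subgroup.Normal.comap inferInstance _
    · exact (Cfsg.Agent.Lib.Helper1.pCore_isPGroup 2).comap_of_injective _
        (Subgroup.inclusion_injective hNH)
  have hcN' : (⟨n * d * n⁻¹ * d⁻¹, hcN⟩ : N) ∈ pCore 2 ↥N := by
    apply hM
    rw [Subgroup.mem_comap]
    exact hc'
  have : (pCore 2 ↥N).Characteristic := Cfsg.Agent.Lib.Helper1.pCore_characteristic 2
  have hR : (pCore 2 ↥N).map N.subtype ≤ pCore 2 G := by
    apply Cfsg.Agent.Lib.Helper1.le_pCore
    · exact ConjAct.normal_of_characteristic_of_normal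
    · exact (Cfsg.Agent.Lib.Helper1.pCore_isPGroup 2).map _
  exact hR (Subgroup.mem_map_of_mem N.subtype hcN')

/-- a proper normal subgroup lies in `O_{2,Z}(G)`. -/
theorem le_twoZCore [Finite G] (hD : IsRootInvolutionSet D)
    (hconj : ∀ a ∈ D, ∀ b ∈ D, ∃ w : G, b = w * a * w⁻¹)
    (hDD : (D ∩ commutingProducts D).Nonempty)
    (N : Subgroup G) [hN : N.Normal] (hDN : ∀ d ∈ D, d ∉ N) : N ≤ twoZCore G := by
  intro n hn
  have hC : (⊤ : Subgroup G) ≤ (Subgroup.centralizer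
      {(QuotientGroup.mk' (pCore 2 G)) n}).comap (QuotientGroup.mk' (pCore 2 G)) := by
    rw [← hD.generates, Subgroup.closure_le]
    intro d hd
    have hc := comm_mem_pCore hD hconj hDD N hDN hd hn
    have h1 := (QuotientGroup.eq_one_iff _).mpr hc
    change (QuotientGroup.mk' (pCore 2 G)) (n * d * n⁻¹ * d⁻¹) = 1 at h1
    simp only [map_mul, map_inv] at h1
    rw [mul_inv_eq_one, mul_inv_eq_iff_eq_mul] at h1
    show (QuotientGroup.mk' (pCore 2 G)) d ∈ Subgroup.centralizer _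
    rw [Subgroup.mem_centralizer_iff]
    intro y hy
    rw [Set.mem_singleton_iff.mp hy]
    exact h1
  show (QuotientGroup.mk' (pCore 2 G)) n ∈ Subgroup.center _
  rw [Subgroup.mem_center_iff]
  intro q
  obtain ⟨g, rfl⟩ := QuotientGroup.mk'_surjective _ q
  have h1 := hC (Subgroup.mem_top g)
  rw [Subgroup.mem_comap, Subgroup.mem_centralizer_iff] at h1
  exact (h1 _ rfl).symm

/-- `O_{2,Z}(G)` is a proper subgroup. -/
theorem twoZCore_ne_top [Finite G] (hD : IsRootInvolutionSet D)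
    (hc : IsConnectedSet (OddAdj D) D) (hDD : (D ∩ commutingProducts D).Nonempty) :
    twoZCore G ≠ ⊤ := by
  intro htop
  obtain ⟨c, hcD, a, ha, b, hb, hcomm, hne, rfl⟩ := hDD
  have ha2 := ri_mul_self hD ha
  have hab : a ≠ b := by
    rintro rfl
    exact hne ha2
  rcases Relation.ReflTransGen.cases_head (hc a ha b hb) with h | ⟨e, hae, -⟩
  · exact hab h
  · obtain ⟨-, he, hne2, hodd⟩ := hae
    obtain ⟨w, rfl⟩ := Cfsg.Agent.Lib.Helper3.Red.conj_of_conn hD hc ha he
    -- the image of `a` in `G / O_2(G)` is central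
    have hcen : (QuotientGroup.mk' (pCore 2 G)) a ∈ Subgroup.center (G ⧸ pCore 2 G) := by
      have : a ∈ twoZCore G := by rw [htop]; exact Subgroup.mem_top a
      exact this
    rw [Subgroup.mem_center_iff] at hcen
    have h1 : (QuotientGroup.mk' (pCore 2 G)) (a * (w * a * w⁻¹)) = 1 := by
      have h2 := hcen ((QuotientGroup.mk' (pCore 2 G)) w)
      simp only [map_mul, map_inv]
      rw [h2, mul_inv_cancel_right, ← map_mul, ha2, map_one]
    have hmem : a * (w * a * w⁻¹) ∈ pCore 2 G := (QuotientGroup.eq_one_iff _).mp h1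
    obtain ⟨k, hk⟩ := (Cfsg.Agent.Lib.Helper1.pCore_isPGroup (G := G) 2) ⟨_, hmem⟩
    have hk' : (a * (w * a * w⁻¹)) ^ 2 ^ k = 1 := by
      have := congrArg Subtype.val hk
      simpa using this
    have hdvd : orderOf (a * (w * a * w⁻¹)) ∣ 2 ^ k := orderOf_dvd_of_pow_eq_one hk'
    have hone : orderOf (a * (w * a * w⁻¹)) = 1 := by
      have hcop : Nat.Coprime (orderOf (a * (w * a * w⁻¹))) (2 ^ k) :=
        Nat.Coprime.pow_right k (Nat.coprime_two_right.mpr hodd)
      exact Nat.Coprime.eq_one_of_dvd hcop hdvd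
    rw [orderOf_eq_one_iff] at hone
    apply hne2
    have h3 : w * a * w⁻¹ = a⁻¹ := eq_inv_of_mul_eq_one_right hone
    rw [h3]
    exact (inv_eq_of_mul_eq_one_right ha2).symm

/-- `O_{2,Z}(G)` is solvable. -/
theorem twoZCore_isSolvable [Finite G] : Group.IsSolvable (twoZCore G) := by
  have hle : pCore 2 G ≤ twoZCore G := by
    intro x hx
    show (QuotientGroup.mk' (pCore 2 G)) x ∈ Subgroup.center _
    have h1 : (QuotientGroup.mk' (pCore 2 G)) x = 1 := (QuotientGroup.eq_one_iff x).mpr hx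
    rw [h1]
    exact Subgroup.one_mem _
  have : Fact (Nat.Prime 2) := ⟨Nat.prime_two⟩
  have hnil : Group.IsNilpotent (pCore 2 G) :=
    (Cfsg.Agent.Lib.Helper1.pCore_isPGroup (G := G) 2).isNilpotent
  have hsol1 : Group.IsSolvable (pCore 2 G) := inferInstance
  have hsol2 : Group.IsSolvable (Subgroup.center (G ⧸ pCore 2 G)) :=
    Group.isSolvable_of_comm (fun a b => Subtype.ext (Subgroup.mem_center_iff.mp b.2 a))
  refine Group.isSolvable_of_ker_le_range (Subgroup.inclusion hle)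
    (((QuotientGroup.mk' (pCore 2 G)).comp (twoZCore G).subtype).codRestrict
      (Subgroup.center (G ⧸ pCore 2 G)) (fun z => z.2)) ?_
  intro z hz
  rw [MonoidHom.mem_ker] at hz
  have h1 : (QuotientGroup.mk' (pCore 2 G)) (z : G) = 1 := congrArg Subtype.val hz
  have h2 : (z : G) ∈ pCore 2 G := (QuotientGroup.eq_one_iff _).mp h1
  exact ⟨⟨z, h2⟩, Subtype.ext rfl⟩

/-- Timmesfeld (2.5): `S(G) = O_{2,Z}(G)` and `G / O_{2,Z}(G)` is simple. -/
theorem main [Finite G] (hD : IsRootInvolutionSet D)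
    (hc : IsConnectedSet (OddAdj D) D) (hDD : (D ∩ commutingProducts D).Nonempty) :
    solvableRadical G = twoZCore G ∧ IsSimpleGroup (G ⧸ twoZCore G) := by
  have hconj : ∀ a ∈ D, ∀ b ∈ D, ∃ w : G, b = w * a * w⁻¹ :=
    fun a ha b hb => Cfsg.Agent.Lib.Helper3.Red.conj_of_conn hD hc ha hb
  have hkey : ∀ N : Subgroup G, N.Normal → N ≠ ⊤ → N ≤ twoZCore G := by
    intro N hN hne
    exact le_twoZCore hD hconj hDD N (fun d hd hdN => hne (eq_top_of_mem hD hconj N hd hdN))
  have hZ : twoZCore G ≠ ⊤ := twoZCore_ne_top hD hc hDD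
  have hDZ : ∀ d ∈ D, d ∉ twoZCore G :=
    fun d hd hdN => hZ (eq_top_of_mem hD hconj (twoZCore G) hd hdN)
  have hnt : Nontrivial (G ⧸ twoZCore G) := by
    rw [← not_subsingleton_iff_nontrivial]
    intro hsub
    apply hZ
    rw [eq_top_iff]
    intro g _
    have h1 : (QuotientGroup.mk' (twoZCore G)) g = 1 := Subsingleton.elim _ _
    exact (QuotientGroup.eq_one_iff g).mp h1
  have hsimple : IsSimpleGroup (G ⧸ twoZCore G) := by
    refine { eq_bot_or_eq_top_of_normal := ?_ }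
    intro K hK
    by_cases htop : K.comap (QuotientGroup.mk' (twoZCore G)) = ⊤
    · right
      rw [eq_top_iff]
      intro q _
      obtain ⟨g, rfl⟩ := QuotientGroup.mk'_surjective _ q
      have : g ∈ K.comap (QuotientGroup.mk' (twoZCore G)) := by rw [htop]; exact Subgroup.mem_top g
      exact this
    · left
      have hle := hkey _ (Subgroup.Normal.comap hK _) htop
      rw [eq_bot_iff]
      intro q hq
      obtain ⟨g, rfl⟩ := QuotientGroup.mk'_surjective _ q
      have h1 : g ∈ twoZCore G := hle hq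
      rw [Subgroup.mem_bot]
      exact (QuotientGroup.eq_one_iff g).mpr h1
  refine ⟨le_antisymm ?_ ?_, hsimple⟩
  · apply sSup_le
    rintro N ⟨hN, hsol⟩
    by_cases htop : N = ⊤
    · exfalso
      subst htop
      have hG : Group.IsSolvable G :=
        Group.isSolvable_of_surjective (f := (⊤ : Subgroup G).subtype)
          (fun g => ⟨⟨g, Subgroup.mem_top g⟩, rfl⟩)
      have hQ : Group.IsSolvable (G ⧸ twoZCore G) :=
        Group.isSolvable_of_surjective (QuotientGroup.mk'_surjective (twoZCore G))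
      have hcommQ := IsSimpleGroup.comm_iff_isSolvable.mpr hQ
      obtain ⟨c, hcD, a, ha, b, hb, hcomm, hne, rfl⟩ := hDD
      obtain ⟨w, rfl⟩ := hconj a ha b hb
      have h1 : (QuotientGroup.mk' (twoZCore G)) (a * (w * a * w⁻¹)) = 1 := by
        simp only [map_mul, map_inv]
        rw [hcommQ ((QuotientGroup.mk' (twoZCore G)) w), mul_inv_cancel_right, ← map_mul,
          ri_mul_self hD ha, map_one]
      exact hDZ _ hcD ((QuotientGroup.eq_one_iff _).mp h1)
    · exact hkey N hN htop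
  · exact le_sSup ⟨inferInstance, twoZCore_isSolvable⟩

end Cfsg.Agent.Lib.Helper4.RIS
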