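import Mathlib
import Cfsg.Agent.Lib.Helper24.SLB.Defs
import Cfsg.Agent.Lib.Helper4.SLBFlag

/-!
S4538 farm (architect helper24), piece [L]: small structure facts on `Tsl`, `Usl`, `Bsl`, `xs`.
-/

set_option autoImplicit false

namespace Cfsg.Agent.Lib.Helper24.SLB

open Matrix

variable {n : ℕ} {F : Type*} [Field F]

namespace Helper4B

theorem coe_inv_mul_self (t : SpecialLinearGroup (Fin n) F) :
    ((t⁻¹ : SpecialLinearGroup (Fin n) F) : Matrix (Fin n) (Fin n) F) *
      (t : Matrix (Fin n) (Fin n) F) = 1 := by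
  rw [← Matrix.SpecialLinearGroup.coe_mul, inv_mul_cancel, Matrix.SpecialLinearGroup.coe_one]

/-- the standard flag: `stdFlag i` is spanned by the first `i` basis vectors -/
def stdFlag (n : ℕ) (F : Type*) [Field F] (i : Fin (n + 1)) : Submodule F (Fin n → F) where
  carrier := {v | ∀ j : Fin n, i.val ≤ j.val → v j = 0}
  add_mem' := by
    intro a b ha hb j hj
    rw [Pi.add_apply, ha j hj, hb j hj, add_zero]
  zero_mem' := by
    intro j _
    rfl
  smul_mem' := by
    intro c a ha j hj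
    rw [Pi.smul_apply, ha j hj, smul_zero]

theorem mem_stdFlag {i : Fin (n + 1)} {v : Fin n → F} :
    v ∈ stdFlag n F i ↔ ∀ j : Fin n, i.val ≤ j.val → v j = 0 := Iff.rfl

theorem stdFlag_zero : stdFlag n F 0 = ⊥ := by
  rw [eq_bot_iff]
  intro v hv
  rw [Submodule.mem_bot]
  funext j
  exact hv j (Nat.zero_le _)

theorem stdFlag_last : stdFlag n F (Fin.last n) = ⊤ := by
  rw [eq_top_iff]
  intro v _ j hj
  exact absurd (lt_of_lt_of_le j.isLt hj) (lt_irrefl _)

theorem sub_one_mulVec_mem_stdFlag {u : SpecialLinearGroup (Fin n) F} (hu : u ∈ Usl n F)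
    (i : Fin n) (v : Fin n → F) (hv : v ∈ stdFlag n F i.succ) :
    ((u : Matrix (Fin n) (Fin n) F) - 1) *ᵥ v ∈ stdFlag n F i.castSucc := by
  intro l hl
  have hl' : i.val ≤ l.val := hl
  rw [Matrix.mulVec, dotProduct]
  apply Finset.sum_eq_zero
  intro j _
  by_cases hj : i.val + 1 ≤ j.val
  · have : v j = 0 := hv j (by simpa using hj)
    rw [this, mul_zero]
  · have hjl : j.val ≤ l.val := by omega
    rcases Nat.lt_or_eq_of_le hjl with h | h
    · have h1 : (u : Matrix (Fin n) (Fin n) F) l j = 0 := hu.1 (show id j < id l from h)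
      have h2 : (1 : Matrix (Fin n) (Fin n) F) l j = 0 :=
        Matrix.one_apply_ne (fun e => by rw [e] at h; exact lt_irrefl _ h)
      rw [Matrix.sub_apply, h1, h2, sub_zero, zero_mul]
    · have hjl' : j = l := Fin.ext h
      rw [hjl', Matrix.sub_apply, hu.2 l, Matrix.one_apply_eq, sub_self, zero_mul]

end Helper4B

/-- **[L1]** the torus normalizes `U` -/
theorem Tsl_normalizes_Usl (t : SpecialLinearGroup (Fin n) F) (ht : t ∈ Tsl n F)
    (u : SpecialLinearGroup (Fin n) F) (hu : u ∈ Usl n F) : t⁻¹ * u * t ∈ Usl n F := by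
  have htB : t ∈ Bsl n F := Tsl_le_Bsl ht
  have htiB : t⁻¹ ∈ Bsl n F := (Bsl n F).inv_mem htB
  have huB : u ∈ Bsl n F := Usl_le_Bsl hu
  have h1 : t⁻¹ * u ∈ Bsl n F := (Bsl n F).mul_mem htiB huB
  have h2 : t⁻¹ * u * t ∈ Bsl n F := (Bsl n F).mul_mem h1 htB
  refine ⟨h2, fun i => ?_⟩
  rw [Matrix.SpecialLinearGroup.coe_mul, diag_mul_of_upper (mem_Bsl.mp h1) (mem_Bsl.mp htB),
    Matrix.SpecialLinearGroup.coe_mul, diag_mul_of_upper (mem_Bsl.mp htiB) (mem_Bsl.mp huB),
    hu.2 i, mul_one, ← diag_mul_of_upper (mem_Bsl.mp htiB) (mem_Bsl.mp htB),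
    Helper4B.coe_inv_mul_self, Matrix.one_apply_eq]

/-- **[L2]** `B = T U` -/
theorem Bsl_eq_mul (b : SpecialLinearGroup (Fin n) F) (hb : b ∈ Bsl n F) :
    ∃ t ∈ Tsl n F, ∃ u ∈ Usl n F, b = t * u := by
  have hbB : (b : Matrix (Fin n) (Fin n) F).BlockTriangular id := mem_Bsl.mp hb
  have hdet : (Matrix.diagonal fun i => (b : Matrix (Fin n) (Fin n) F) i i).det = 1 := by
    rw [Matrix.det_diagonal, ← Matrix.det_of_upperTriangular hbB, b.det_coe]
  let t : SpecialLinearGroup (Fin n) F :=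
    ⟨Matrix.diagonal fun i => (b : Matrix (Fin n) (Fin n) F) i i, hdet⟩
  have htT : t ∈ Tsl n F := by
    intro i j hij
    exact Matrix.diagonal_apply_ne _ hij
  have htB : t ∈ Bsl n F := Tsl_le_Bsl htT
  have htiB : t⁻¹ ∈ Bsl n F := (Bsl n F).inv_mem htB
  have h1 : t⁻¹ * b ∈ Bsl n F := (Bsl n F).mul_mem htiB hb
  refine ⟨t, htT, t⁻¹ * b, ⟨h1, fun i => ?_⟩, by group⟩
  have htii : (t : Matrix (Fin n) (Fin n) F) i i = (b : Matrix (Fin n) (Fin n) F) i i :=
    Matrix.diagonal_apply_eq _ i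
  rw [Matrix.SpecialLinearGroup.coe_mul, diag_mul_of_upper (mem_Bsl.mp htiB) hbB, ← htii,
    ← diag_mul_of_upper (mem_Bsl.mp htiB) (mem_Bsl.mp htB), Helper4B.coe_inv_mul_self,
    Matrix.one_apply_eq]

/-- **[L3]** `U` is a `p`-group -/
theorem Usl_isPGroup [Fintype F] (p : ℕ) [Fact p.Prime] [CharP F p] : IsPGroup p (Usl n F) := by
  rintro ⟨u, hu⟩
  refine ⟨n, ?_⟩
  have hnil : ((u : Matrix (Fin n) (Fin n) F) - 1) ^ n = 0 :=
    Helper4B.pow_eq_zero_of_flag (Helper4B.stdFlag n F) Helper4B.stdFlag_zero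
      Helper4B.stdFlag_last _ (fun i v hv => Helper4B.sub_one_mulVec_mem_stdFlag hu i v hv)
  have h1 := Helper4B.pow_p_pow_eq_one p (u : Matrix (Fin n) (Fin n) F) n hnil
  apply Subtype.ext
  apply Subtype.ext
  rw [Subgroup.coe_pow, Matrix.SpecialLinearGroup.coe_pow]
  exact h1

/-- **[L4]** the simple root elements lie in `U` -/
theorem xs_mem_Usl (k : ℕ) (hk : k + 1 < n) (a : F) : xs k hk a ∈ Usl n F := by
  rw [mem_Usl, xs_coe]
  constructor
  · intro i j hij
    have hij' : j < i := hij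
    rw [Matrix.add_apply, Matrix.one_apply_ne (ne_of_gt hij'), zero_add]
    apply Matrix.single_apply_of_ne
    rintro ⟨h1, h2⟩
    rw [← h1, ← h2] at hij'
    exact absurd hij' (by simp [Fin.lt_def])
  · intro i
    rw [Matrix.add_apply, Matrix.one_apply_eq]
    have : Matrix.single (fi k hk) (fs k hk) a i i = 0 := by
      apply Matrix.single_apply_of_ne
      rintro ⟨h1, h2⟩
      exact fi_ne_fs k hk (h1.trans h2.symm)
    rw [this, add_zero]

end Cfsg.Agent.Lib.Helper24.SLB
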