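import Mathlib

/-!
S2086 farm (architect helper25), piece [G1]: the centre of `SL_n(F)`, `F` finite, is cyclic of
order `gcd(n, |F| - 1)`.
-/

set_option autoImplicit false

namespace Cfsg.Agent.Lib.Helper25.SLCC

open Matrix

namespace Helper4S

theorem rootsOfUnity_eq_ker (F : Type*) [Field F] (k : ℕ) :
    rootsOfUnity k F = (powMonoidHom k : Fˣ →* Fˣ).ker := by
  ext ζ
  rw [mem_rootsOfUnity, MonoidHom.mem_ker, powMonoidHom_apply]

theorem card_rootsOfUnity_finite (F : Type*) [Field F] [Fintype F] (k : ℕ) :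
    Nat.card (rootsOfUnity k F) = Nat.gcd k (Fintype.card F - 1) := by
  rw [rootsOfUnity_eq_ker, IsCyclic.card_powMonoidHom_ker, Nat.card_units, Nat.card_eq_fintype_card,
    Nat.gcd_comm]

end Helper4S

/-- [G1] the centre of `SL_n(F)`, `F` finite, is cyclic of order `gcd(n, |F| - 1)` -/
theorem center_SL_equiv {F : Type*} [Field F] [Fintype F] (n : ℕ) (hn : 1 ≤ n) :
    Nonempty (Subgroup.center (SpecialLinearGroup (Fin n) F) ≃*
      Multiplicative (ZMod (Nat.gcd n (Fintype.card F - 1)))) := by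
  have e1 : Subgroup.center (SpecialLinearGroup (Fin n) F) ≃*
      rootsOfUnity (max (Fintype.card (Fin n)) 1) F :=
    Matrix.SpecialLinearGroup.center_equiv_rootsOfUnity
  have hmax : max (Fintype.card (Fin n)) 1 = n := by
    rw [Fintype.card_fin]; exact max_eq_left hn
  rw [hmax] at e1
  have e2 : Multiplicative (ZMod (Nat.card (rootsOfUnity n F))) ≃* rootsOfUnity n F :=
    zmodCyclicMulEquiv inferInstance
  rw [Helper4S.card_rootsOfUnity_finite] at e2
  exact ⟨e1.trans e2.symm⟩

end Cfsg.Agent.Lib.Helper25.SLCC
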