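import Mathlib
import Cfsg.Prelude.Def_KGroupFacts

/-!
S2086 farm (architect helper25), piece [N2]: a perfect group with trivial Schur multiplier
(in the sense of the Prelude) is centrally closed: its finite central extensions split.
-/

set_option autoImplicit false

namespace Cfsg.Agent.Lib.Helper25.SLCC

open scoped commutatorElement

universe u

namespace Helper4S

theorem comm_mul_central_left {E : Type*} [Group E] {z : E} (hz : z ∈ Subgroup.center E)
    (g h : E) : ⁅g * z, h⁆ = ⁅g, h⁆ := by
  rw [commutatorElement_def, commutatorElement_def, mul_inv_rev]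
  have h1 : z * h = h * z := (Subgroup.mem_center_iff.mp hz h).symm
  calc g * z * h * (z⁻¹ * g⁻¹) * h⁻¹ = g * (z * h * z⁻¹) * g⁻¹ * h⁻¹ := by group
    _ = g * h * g⁻¹ * h⁻¹ := by rw [h1, mul_inv_cancel_right]

theorem comm_mul_central_right {E : Type*} [Group E] {w : E} (hw : w ∈ Subgroup.center E)
    (g h : E) : ⁅g, h * w⁆ = ⁅g, h⁆ := by
  rw [commutatorElement_def, commutatorElement_def, mul_inv_rev]
  have h1 : w * g⁻¹ = g⁻¹ * w := (Subgroup.mem_center_iff.mp hw g⁻¹).symm
  calc g * (h * w) * g⁻¹ * (w⁻¹ * h⁻¹) = g * h * (w * g⁻¹ * w⁻¹) * h⁻¹ := by group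
    _ = g * h * g⁻¹ * h⁻¹ := by rw [h1, mul_inv_cancel_right]

theorem eq_one_of_zmod_one (a : Multiplicative (ZMod 1)) : a = 1 := by
  apply Multiplicative.toAdd.injective
  haveI : Subsingleton (ZMod 1) := inferInstanceAs (Subsingleton (Fin 1))
  exact Subsingleton.elim _ _

end Helper4S

/-- [N2] a perfect group with trivial Schur multiplier (in the sense of the Prelude) is centrally
closed: its finite central extensions split -/
theorem exists_section_of_multiplier_one {S : Type u} [Group S] (hperf : commutator S = ⊤)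
    (hM : Cfsg.HasCyclicSchurMultiplier S 1) (E : Type u) [Group E] [Finite E] (ψ : E →* S)
    (hψ : Function.Surjective ψ) (hc : ψ.ker ≤ Subgroup.center E) :
    ∃ τ : S →* E, ψ.comp τ = MonoidHom.id S := by
  classical
  let ψ' : (commutator E) →* S := ψ.comp (commutator E).subtype
  have hψ' : ∀ x : commutator E, ψ' x = ψ x.1 := fun _ => rfl
  -- `ψ'` is surjective
  have hmap : (commutator E).map ψ = commutator S := by
    rw [commutator_def, Subgroup.map_commutator, Subgroup.map_top_of_surjective ψ hψ,
      ← commutator_def]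
  have hsurj : Function.Surjective ψ' := by
    intro s
    have hs : s ∈ commutator S := by rw [hperf]; exact Subgroup.mem_top s
    rw [← hmap] at hs
    obtain ⟨e, he, rfl⟩ := hs
    exact ⟨⟨e, he⟩, rfl⟩
  -- `commutator E` is perfect
  have hperfE : commutator (commutator E) = ⊤ := by
    have hle : commutator E ≤ (commutator (commutator E)).map (commutator E).subtype := by
      refine (commutator_eq_closure E).le.trans ((Subgroup.closure_le _).mpr ?_)
      rintro g ⟨a, b, rfl⟩
      obtain ⟨a', ha'⟩ := hsurj (ψ a)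
      obtain ⟨b', hb'⟩ := hsurj (ψ b)
      have hza : a'.1⁻¹ * a ∈ Subgroup.center E := by
        apply hc
        rw [MonoidHom.mem_ker, map_mul, map_inv, ← hψ', ha', inv_mul_cancel]
      have hzb : b'.1⁻¹ * b ∈ Subgroup.center E := by
        apply hc
        rw [MonoidHom.mem_ker, map_mul, map_inv, ← hψ', hb', inv_mul_cancel]
      have hab : ⁅a, b⁆ = ⁅a'.1, b'.1⁆ := by
        have e1 : a = a'.1 * (a'.1⁻¹ * a) := by group
        have e2 : b = b'.1 * (b'.1⁻¹ * b) := by group
        rw [e1, e2, Helper4S.comm_mul_central_left hza, Helper4S.comm_mul_central_right hzb]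
      rw [hab]
      refine ⟨⁅a', b'⁆, ?_, ?_⟩
      · exact Subgroup.commutator_mem_commutator (Subgroup.mem_top a') (Subgroup.mem_top b')
      · simp [commutatorElement_def]
    rw [eq_top_iff]
    intro x _
    obtain ⟨y, hy, hyx⟩ := hle x.2
    have : y = x := Subtype.ext hyx
    rw [← this]
    exact hy
  -- `ψ'` is a stem extension
  have hstem : Cfsg.IsStemExtension ψ' := by
    refine ⟨hsurj, ?_, ?_⟩
    · intro x hx
      rw [Subgroup.mem_center_iff]
      intro g
      have hx' : x.1 ∈ Subgroup.center E := hc (by rw [MonoidHom.mem_ker]; exact hx)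
      exact Subtype.ext (Subgroup.mem_center_iff.mp hx' g.1)
    · rw [hperfE]; exact le_top
  obtain ⟨π, hπ⟩ := hM.2 (commutator E) ψ' hstem
  have hinj : Function.Injective ψ' := by
    rw [← MonoidHom.ker_eq_bot_iff, eq_bot_iff]
    intro x hx
    obtain ⟨a, ha⟩ := hπ ⟨x, hx⟩
    rw [Helper4S.eq_one_of_zmod_one a, map_one] at ha
    rw [Subgroup.mem_bot]
    have := congrArg Subtype.val ha
    simpa using this.symm
  let e : (commutator E) ≃* S := MulEquiv.ofBijective ψ' ⟨hinj, hsurj⟩
  refine ⟨(commutator E).subtype.comp e.symm.toMonoidHom, ?_⟩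
  ext s
  have h1 : ψ' (e.symm s) = s := e.apply_symm_apply s
  exact h1

end Cfsg.Agent.Lib.Helper25.SLCC
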