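import Mathlib
import Cfsg.Agent.Lib.Helper4.SharpTrans

set_option autoImplicit false
set_option linter.style.haveILetI false
set_option linter.deprecated false

/-!
Sharply `k`-transitive actions, continued: degrees for `k ≥ 5`, simplicity of the sharply
4-transitive group of degree 11 and of the sharply 5-transitive group of degree 12.
-/

namespace Cfsg.Agent.Helper4.SharpTrans

open MulAction

universe u v

section more

variable {G : Type*} [Group G] {α : Type*} [MulAction G α]

theorem nonempty_of_le_card {k : ℕ} (hk : k + 1 ≤ Nat.card α) : Nonempty α :=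
  (Nat.card_pos_iff.mp (by omega)).1

/-- **Jordan**: a sharply 5-transitive group has degree 5, 6, 7 or 12. -/
theorem card_of_sharp_five [Finite α] (hS : IsSharp G α 5) (h5 : 5 ≤ Nat.card α) :
    Nat.card α = 5 ∨ Nat.card α = 6 ∨ Nat.card α = 7 ∨ Nat.card α = 12 := by
  obtain ⟨a⟩ : Nonempty α := nonempty_of_le_card (k := 4) h5
  have h1 := hS.ofStabilizer h5 a
  have h2 := SubMulAction.nat_card_ofStabilizer_eq G a
  have h3 := card_of_sharp_four h1 (by omega)
  omega

theorem sylow_card_of [Finite G] {p m : ℕ} [hp : Fact p.Prime] (hG : Nat.card G = p * m)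
    (hm : ¬ p ∣ m) (P : Sylow p G) : Nat.card P = p := by
  have hm0 : m ≠ 0 := by
    rintro rfl
    exact hm (dvd_zero p)
  rw [P.card_eq_multiplicity, hG, Nat.factorization_mul hp.out.ne_zero hm0, Finsupp.add_apply,
    hp.out.factorization_self, Nat.factorization_eq_zero_of_not_dvd hm, pow_one]

/-- the normaliser of a subgroup of prime order `p` in a faithful action of degree `p` -/
theorem card_normalizer_eq [Finite G] [Finite α]
    (hfaith : ∀ g : G, (∀ a : α, g • a = a) → g = 1)
    {p : ℕ} [hp : Fact p.Prime] (hα : Nat.card α = p) (P : Subgroup G) (hP : Nat.card P = p) :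
    ∃ m, m ∣ p - 1 ∧ Nat.card (Subgroup.normalizer (P : Set G)) = p * m ∧
      P.relIndex (Subgroup.normalizer (P : Set G)) = m := by
  classical
  haveI : IsCyclic P := isCyclic_of_prime_card hP
  have hPcomm : ∀ x ∈ P, ∀ y ∈ P, x * y = y * x := by
    intro x hx y hy
    have := isMulCommutative_iff.mp (IsCyclic.isMulCommutative (α := P)) ⟨x, hx⟩ ⟨y, hy⟩
    exact congrArg Subtype.val this
  obtain ⟨x, hxP, hx1⟩ : ∃ x ∈ P, x ≠ 1 := by
    by_contra hcon
    push_neg at hcon
    have : P = ⊥ := (Subgroup.eq_bot_iff_forall _).mpr hcon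
    rw [this, Subgroup.card_bot] at hP
    exact hp.out.one_lt.ne hP
  obtain ⟨a, hxa⟩ : ∃ a : α, x • a ≠ a := by
    by_contra hcon
    push_neg at hcon
    exact hx1 (hfaith x hcon)
  have htrans : ∀ b : α, ∃ y ∈ P, y • a = b := by
    have h1 : (orbit P a).ncard ∣ p := by
      rw [← index_stabilizer, ← hP]
      exact Subgroup.index_dvd_card _
    have h2 : (orbit P a).ncard ≠ 1 := by
      intro h
      rw [Set.ncard_eq_one] at h
      obtain ⟨z, hz⟩ := h
      have ha : a ∈ orbit P a := mem_orbit_self a
      have hxa' : x • a ∈ orbit P a := ⟨⟨x, hxP⟩, rfl⟩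
      rw [hz, Set.mem_singleton_iff] at ha hxa'
      exact hxa (hxa'.trans ha.symm)
    have h3 : (orbit P a).ncard = p := ((Nat.dvd_prime hp.out).mp h1).resolve_left h2
    have h4 : orbit P a = Set.univ := by
      apply Set.eq_of_subset_of_ncard_le (Set.subset_univ _) _ Set.finite_univ
      rw [Set.ncard_univ, hα, h3]
    intro b
    have : b ∈ orbit P a := by rw [h4]; trivial
    obtain ⟨y, hy⟩ := this
    exact ⟨y.1, y.2, hy⟩
  have hcent : Subgroup.centralizer (P : Set G) = P := by
    apply le_antisymm
    · intro g hg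
      rw [Subgroup.mem_centralizer_iff] at hg
      obtain ⟨y, hyP, hy⟩ := htrans (g • a)
      have h1 : y⁻¹ * g = 1 := by
        apply hfaith
        intro b
        obtain ⟨z, hzP, rfl⟩ := htrans b
        have e1 : g * z = z * g := (hg z hzP).symm
        calc (y⁻¹ * g) • z • a = y⁻¹ • (g * z) • a := by rw [mul_smul, mul_smul]
          _ = y⁻¹ • z • g • a := by rw [e1, mul_smul]
          _ = y⁻¹ • z • y • a := by rw [hy]
          _ = (y⁻¹ * (z * y)) • a := by rw [mul_smul, mul_smul]
          _ = (y⁻¹ * (y * z)) • a := by rw [hPcomm z hzP y hyP]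
          _ = z • a := by rw [inv_mul_cancel_left]
      have h2 : g = y := by
        calc g = y * (y⁻¹ * g) := by group
          _ = y := by rw [h1, mul_one]
      rw [h2]
      exact hyP
    · intro z hz
      rw [Subgroup.mem_centralizer_iff]
      intro h hh
      exact hPcomm h hh z hz
  have key := Subgroup.card_dvd_of_injective _
    (QuotientGroup.kerLift_injective P.normalizerMonoidHom)
  rw [Subgroup.normalizerMonoidHom_ker, ← Subgroup.index, ← Subgroup.relIndex, hcent] at key
  rw [IsCyclic.card_mulAut, hP, Nat.totient_prime hp.out] at key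
  refine ⟨P.relIndex (Subgroup.normalizer (P : Set G)), key, ?_, rfl⟩
  have := Subgroup.relIndex_mul_relIndex ⊥ P (Subgroup.normalizer (P : Set G)) bot_le
    Subgroup.le_normalizer
  rw [Subgroup.relIndex_bot_left, Subgroup.relIndex_bot_left, hP] at this
  exact this.symm

/-- there is no sharply 6-transitive group of degree 13 -/
theorem not_sharp_six_thirteen [Finite α] (hS : IsSharp G α 6) (h13 : Nat.card α = 13) :
    False := by
  classical
  have h6 : 6 ≤ Nat.card α := by omega
  haveI : Finite G := finite_of_sharp hS h6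
  have hG : Nat.card G = 1235520 := by
    rw [card_eq hS h6, h13]
    decide
  haveI : Fact (Nat.Prime 13) := ⟨by norm_num⟩
  obtain ⟨P⟩ := (Sylow.nonempty : Nonempty (Sylow 13 G))
  have hP : Nat.card P = 13 := sylow_card_of (m := 95040) (by rw [hG]) (by norm_num) P
  obtain ⟨m, hm, hN, -⟩ := card_normalizer_eq (faithful hS h6) h13 (P : Subgroup G) hP
  have h1 := card_sylow_modEq_one 13 G
  rw [P.card_eq_index_normalizer] at h1
  have h2 := Subgroup.card_mul_index (Subgroup.normalizer ((P : Subgroup G) : Set G))
  rw [hN, hG] at h2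
  have hm12 : m ∣ 12 := hm
  have hmle : m ≤ 12 := Nat.le_of_dvd (by norm_num) hm12
  have hmpos : 0 < m := Nat.pos_of_dvd_of_pos hm12 (by norm_num)
  have h1' : (Subgroup.normalizer ((P : Subgroup G) : Set G)).index % 13 = 1 % 13 := h1
  interval_cases m <;> omega

theorem card_of_sharp_six [Finite α] (hS : IsSharp G α 6) (h6 : 6 ≤ Nat.card α) :
    Nat.card α = 6 ∨ Nat.card α = 7 ∨ Nat.card α = 8 := by
  obtain ⟨a⟩ : Nonempty α := nonempty_of_le_card (k := 5) h6
  have h1 := hS.ofStabilizer h6 a
  have h2 := SubMulAction.nat_card_ofStabilizer_eq G a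
  have h3 := card_of_sharp_five h1 (by omega)
  have h4 : Nat.card α ≠ 13 := fun h => not_sharp_six_thirteen hS h
  omega

end more

/-- **Jordan**: for `k ≥ 6` a sharply `k`-transitive group has degree `k`, `k+1` or `k+2`. -/
theorem card_of_sharp_large (k : ℕ) (hk : 6 ≤ k) :
    ∀ (G : Type u) [Group G] (α : Type v) [MulAction G α] [Finite α],
      IsSharp G α k → k ≤ Nat.card α →
      Nat.card α = k ∨ Nat.card α = k + 1 ∨ Nat.card α = k + 2 := by
  induction k, hk using Nat.le_induction with
  | base =>
    intro G _ α _ _ hS h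
    exact card_of_sharp_six hS h
  | succ k hk ih =>
    intro G _ α _ _ hS h
    obtain ⟨a⟩ : Nonempty α := nonempty_of_le_card (k := k) h
    have h1 := hS.ofStabilizer h a
    have h2 := SubMulAction.nat_card_ofStabilizer_eq G a
    have h3 := ih (stabilizer G a) (SubMulAction.ofStabilizer G a) h1 (by omega)
    omega

end Cfsg.Agent.Helper4.SharpTrans
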