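import Mathlib
import Cfsg.Agent.Lib.Helper4.SharpTrans2

set_option autoImplicit false
set_option linter.style.haveILetI false
set_option linter.deprecated false

/-!
Simplicity of the sharply 4-transitive group of degree 11 and of the sharply 5-transitive group
of degree 12.
-/

namespace Cfsg.Agent.Helper4.SharpTrans

open MulAction

section simple

variable {G : Type*} [Group G] {α : Type*} [MulAction G α]

theorem fixedPoints_ne_univ (hfaith : ∀ g : G, (∀ a : α, g • a = a) → g = 1)
    (N : Subgroup G) (hNbot : N ≠ ⊥) : fixedPoints N α ≠ Set.univ := by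
  intro h
  apply hNbot
  rw [Subgroup.eq_bot_iff_forall]
  intro n hn
  apply hfaith
  intro a
  have : a ∈ fixedPoints N α := by rw [h]; trivial
  exact this ⟨n, hn⟩

/-- A sharply 4-transitive group of degree 11 is simple of order 7920. -/
theorem simple_of_sharp_four_eleven [Finite α] (hS : IsSharp G α 4) (h11 : Nat.card α = 11) :
    IsSimpleGroup G ∧ Nat.card G = 7920 := by
  classical
  have h4 : 4 ≤ Nat.card α := by omega
  haveI : Finite G := finite_of_sharp hS h4
  have hG : Nat.card G = 7920 := by
    rw [card_eq hS h4, h11]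
    decide
  refine ⟨?_, hG⟩
  haveI : Nontrivial G := by
    rw [← Finite.one_lt_card_iff_nontrivial, hG]
    norm_num
  haveI := hS.1
  haveI h2t : IsMultiplyPretransitive G α 2 :=
    isMultiplyPretransitive_of_le (n := 4) (by norm_num) h4
  haveI : IsPreprimitive G α := isPreprimitive_of_is_two_pretransitive h2t
  haveI : IsPretransitive G α := isPretransitive_of_is_two_pretransitive
  haveI : Fact (Nat.Prime 11) := ⟨by norm_num⟩
  have hfaith := faithful hS h4
  obtain ⟨a₀⟩ : Nonempty α := nonempty_of_le_card (k := 3) h4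
  refine { toNontrivial := inferInstance, eq_bot_or_eq_top_of_normal := fun N hN => ?_ }
  by_cases hNbot : N = ⊥
  · exact Or.inl hNbot
  right
  haveI := hN
  haveI : IsPretransitive N α :=
    IsQuasiPreprimitive.isPretransitive_of_normal (fixedPoints_ne_univ hfaith N hNbot)
  have hstabN := index_stabilizer_of_transitive N a₀
  have h11N : 11 ∣ Nat.card N := by
    rw [← h11, ← hstabN]
    exact Subgroup.index_dvd_card _
  have hNG : Nat.card N ∣ 7920 := by
    rw [← hG]
    exact Subgroup.card_subgroup_dvd_card N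
  obtain ⟨m', hm'⟩ := h11N
  have hm'11 : ¬ 11 ∣ m' := by
    rintro ⟨r, rfl⟩
    rw [hm'] at hNG
    have : 121 ∣ 7920 := Dvd.dvd.trans ⟨r, by ring⟩ hNG
    norm_num at this
  obtain ⟨Q⟩ := (Sylow.nonempty : Nonempty (Sylow 11 N))
  have hQ : Nat.card Q = 11 := sylow_card_of hm' hm'11 Q
  obtain ⟨P, hPdef⟩ : ∃ P : Subgroup G, P = (Q : Subgroup N).map N.subtype := ⟨_, rfl⟩
  have hP : Nat.card P = 11 := by
    rw [hPdef, Subgroup.card_map_of_injective (Subgroup.subtype_injective _)]
    exact hQ
  have hPN : P ≤ N := by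
    rw [hPdef]
    exact Subgroup.map_subtype_le _
  have hfrat : Subgroup.normalizer (P : Set G) ⊔ N = ⊤ := by
    rw [hPdef]
    exact Sylow.normalizer_sup_eq_top Q
  have hfac : (Nat.card G).factorization 11 = 1 := by
    rw [hG, show (7920 : ℕ) = 11 * 720 by norm_num,
      Nat.factorization_mul (by norm_num) (by norm_num), Finsupp.add_apply,
      Nat.Prime.factorization_self (by norm_num),
      Nat.factorization_eq_zero_of_not_dvd (by norm_num)]
  let PS : Sylow 11 G := Sylow.ofCard P (by rw [hP, hfac, pow_one])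
  have hPS : (PS : Subgroup G) = P := Sylow.coe_ofCard _ _
  obtain ⟨m, hm, hNm, hrel⟩ := card_normalizer_eq hfaith h11 P hP
  have h1 := card_sylow_modEq_one 11 G
  rw [PS.card_eq_index_normalizer] at h1
  have h1' : (Subgroup.normalizer (P : Set G)).index % 11 = 1 % 11 := by
    rw [← hPS]
    exact h1
  have h2 := Subgroup.card_mul_index (Subgroup.normalizer (P : Set G))
  rw [hNm, hG] at h2
  have hm5 : m = 5 := by
    have hm10 : m ∣ 10 := hm
    have hmle : m ≤ 10 := Nat.le_of_dvd (by norm_num) hm10
    have hmpos : 0 < m := Nat.pos_of_dvd_of_pos hm10 (by norm_num)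
    interval_cases m <;> omega
  have hidx : N.index ∣ 5 := by
    have e1 : N.relIndex (Subgroup.normalizer (P : Set G) ⊔ N) =
        N.relIndex (Subgroup.normalizer (P : Set G)) := Subgroup.relIndex_sup_right _ _
    rw [hfrat, Subgroup.relIndex_top_right] at e1
    rw [e1, ← hm5, ← hrel]
    exact Subgroup.relIndex_dvd_of_le_left _ hPN
  rcases (Nat.dvd_prime (by norm_num : Nat.Prime 5)).mp hidx with h | h
  · exact Subgroup.index_eq_one.mp h
  · exfalso
    have hNcard : Nat.card N = 1584 := by
      have := Subgroup.card_mul_index N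
      rw [h, hG] at this
      omega
    -- the stabiliser of `a₀` in `N` has order 144
    have hstab : Nat.card (stabilizer N a₀) = 144 := by
      have := Subgroup.card_mul_index (stabilizer N a₀)
      rw [hstabN, h11, hNcard] at this
      omega
    obtain ⟨n, hn, hn1⟩ : ∃ n ∈ stabilizer N a₀, n ≠ 1 := by
      by_contra hcon
      push_neg at hcon
      have : stabilizer N a₀ = ⊥ := (Subgroup.eq_bot_iff_forall _).mpr hcon
      rw [this, Subgroup.card_bot] at hstab
      omega
    have hna : (n : G) • a₀ = a₀ := mem_stabilizer_iff.mp hn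
    have hn1' : (n : G) ≠ 1 := fun h => hn1 (Subtype.ext h)
    obtain ⟨b, hb⟩ : ∃ b : α, (n : G) • b ≠ b := by
      by_contra hcon
      push_neg at hcon
      exact hn1' (hfaith _ hcon)
    have hba : b ≠ a₀ := by
      rintro rfl
      exact hb hna
    -- the action of the stabiliser of `a₀`
    have h3t : IsMultiplyPretransitive (stabilizer G a₀) (SubMulAction.ofStabilizer G a₀) 3 :=
      SubMulAction.ofStabilizer.isMultiplyPretransitive.mp hS.1
    have hcard10 : Nat.card (SubMulAction.ofStabilizer G a₀) = 10 := by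
      rw [SubMulAction.nat_card_ofStabilizer_eq, h11]
    haveI h2t' : IsMultiplyPretransitive (stabilizer G a₀) (SubMulAction.ofStabilizer G a₀) 2 :=
      isMultiplyPretransitive_of_le (n := 3) (by norm_num) (by rw [hcard10]; norm_num)
    haveI : IsPreprimitive (stabilizer G a₀) (SubMulAction.ofStabilizer G a₀) :=
      isPreprimitive_of_is_two_pretransitive h2t'
    haveI hMn : (N.subgroupOf (stabilizer G a₀)).Normal := hN.subgroupOf _
    have hfixM : fixedPoints (N.subgroupOf (stabilizer G a₀)) (SubMulAction.ofStabilizer G a₀) ≠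
        Set.univ := by
      intro hcon
      have hmem : (⟨b, hba⟩ : SubMulAction.ofStabilizer G a₀) ∈
          fixedPoints (N.subgroupOf (stabilizer G a₀)) (SubMulAction.ofStabilizer G a₀) := by
        rw [hcon]; trivial
      have := hmem ⟨⟨(n : G), mem_stabilizer_iff.mpr hna⟩, Subgroup.mem_subgroupOf.mpr n.2⟩
      exact hb (congrArg Subtype.val this)
    haveI : IsPretransitive (N.subgroupOf (stabilizer G a₀)) (SubMulAction.ofStabilizer G a₀) :=
      IsQuasiPreprimitive.isPretransitive_of_normal hfixM
    have h10 : 10 ∣ Nat.card (N.subgroupOf (stabilizer G a₀)) := by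
      have := index_stabilizer_of_transitive (N.subgroupOf (stabilizer G a₀))
        (⟨b, hba⟩ : SubMulAction.ofStabilizer G a₀)
      rw [← hcard10, ← this]
      exact Subgroup.index_dvd_card _
    have hMN : Nat.card (N.subgroupOf (stabilizer G a₀)) ∣ Nat.card N := by
      rw [← Subgroup.card_map_of_injective (Subgroup.subtype_injective (stabilizer G a₀)),
        Subgroup.subgroupOf_map_subtype]
      exact Subgroup.card_dvd_of_le inf_le_left
    have : 10 ∣ 1584 := by
      rw [← hNcard]
      exact h10.trans hMN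
    norm_num at this

/-- A sharply 5-transitive group of degree 12 is simple of order 95040. -/
theorem simple_of_sharp_five_twelve [Finite α] (hS : IsSharp G α 5) (h12 : Nat.card α = 12) :
    IsSimpleGroup G ∧ Nat.card G = 95040 := by
  classical
  have h5 : 5 ≤ Nat.card α := by omega
  haveI : Finite G := finite_of_sharp hS h5
  have hG : Nat.card G = 95040 := by
    rw [card_eq hS h5, h12]
    decide
  refine ⟨?_, hG⟩
  haveI : Nontrivial G := by
    rw [← Finite.one_lt_card_iff_nontrivial, hG]
    norm_num
  haveI := hS.1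
  haveI h2t : IsMultiplyPretransitive G α 2 :=
    isMultiplyPretransitive_of_le (n := 5) (by norm_num) h5
  haveI : IsPreprimitive G α := isPreprimitive_of_is_two_pretransitive h2t
  haveI : IsPretransitive G α := isPretransitive_of_is_two_pretransitive
  have hfaith := faithful hS h5
  obtain ⟨a⟩ : Nonempty α := nonempty_of_le_card (k := 4) h5
  have hSa := hS.ofStabilizer h5 a
  have hca : Nat.card (SubMulAction.ofStabilizer G a) = 11 := by
    rw [SubMulAction.nat_card_ofStabilizer_eq, h12]
  obtain ⟨hsimple, -⟩ := simple_of_sharp_four_eleven hSa hca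
  refine { toNontrivial := inferInstance, eq_bot_or_eq_top_of_normal := fun N hN => ?_ }
  by_cases hNbot : N = ⊥
  · exact Or.inl hNbot
  right
  haveI := hN
  haveI : IsPretransitive N α :=
    IsQuasiPreprimitive.isPretransitive_of_normal (fixedPoints_ne_univ hfaith N hNbot)
  have hMn : (N.subgroupOf (stabilizer G a)).Normal := hN.subgroupOf _
  rcases hsimple.eq_bot_or_eq_top_of_normal _ hMn with hM | hM
  · exfalso
    rw [Subgroup.subgroupOf_eq_bot] at hM
    have hreg : ∀ n ∈ N, n • a = a → n = 1 := by
      intro n hn hna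
      exact (Subgroup.disjoint_def.mp hM) hn (mem_stabilizer_iff.mpr hna)
    have hNcard : Nat.card N = 12 := by
      have h1 := index_stabilizer_of_transitive N a
      have h2 : stabilizer N a = ⊥ := by
        rw [Subgroup.eq_bot_iff_forall]
        intro n hn
        exact Subtype.ext (hreg n.1 n.2 (mem_stabilizer_iff.mp hn))
      rw [h2, Subgroup.index_bot, h12] at h1
      exact h1
    haveI : Fact (Nat.Prime 2) := ⟨Nat.prime_two⟩
    haveI : Fact (Nat.Prime 3) := ⟨Nat.prime_three⟩
    obtain ⟨x, hx⟩ := exists_prime_orderOf_dvd_card' (G := N) 2 (by rw [hNcard]; norm_num)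
    obtain ⟨y, hy⟩ := exists_prime_orderOf_dvd_card' (G := N) 3 (by rw [hNcard]; norm_num)
    have hx1 : x ≠ 1 := by
      rintro rfl
      rw [orderOf_one] at hx
      omega
    have hy1 : y ≠ 1 := by
      rintro rfl
      rw [orderOf_one] at hy
      omega
    have hxa : (x : G) • a ≠ a := fun h => hx1 (Subtype.ext (hreg x.1 x.2 h))
    have hya : (y : G) • a ≠ a := fun h => hy1 (Subtype.ext (hreg y.1 y.2 h))
    have h2t'' : ∀ a b c d : α, a ≠ b → c ≠ d → ∃ g : G, g • a = c ∧ g • b = d :=
      fun a b c d h h' => is_two_pretransitive_iff.mp h2t h h'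
    obtain ⟨g, hga, hgb⟩ := h2t'' a ((x : G) • a) a ((y : G) • a) (Ne.symm hxa) (Ne.symm hya)
    have hconjN : g * x * g⁻¹ ∈ N := hN.conj_mem x.1 x.2 g
    have hginv : g⁻¹ • a = a := inv_smul_eq_iff.mpr hga.symm
    have heq : g * x * g⁻¹ = y := by
      have h1 : (y : G)⁻¹ * (g * x * g⁻¹) ∈ N := N.mul_mem (N.inv_mem y.2) hconjN
      have h2 : ((y : G)⁻¹ * (g * x * g⁻¹)) • a = a := by
        rw [mul_smul, mul_smul, mul_smul, hginv, hgb, inv_smul_smul]
      have h3 := hreg _ h1 h2
      exact (inv_mul_eq_one.mp h3).symm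
    have ho : orderOf (g * (x : G) * g⁻¹) = orderOf (x : G) := by
      rw [← MulAut.conj_apply]
      exact MulEquiv.orderOf_eq (MulAut.conj g) (x : G)
    rw [heq, Subgroup.orderOf_coe, Subgroup.orderOf_coe, hx, hy] at ho
    omega
  · rw [Subgroup.subgroupOf_eq_top] at hM
    rw [eq_top_iff]
    intro g _
    obtain ⟨n, hn⟩ := exists_smul_eq N a (g • a)
    have hn' : (n : G) • a = g • a := hn
    have h1 : (n : G)⁻¹ * g ∈ stabilizer G a := by
      rw [mem_stabilizer_iff, mul_smul, inv_smul_eq_iff]
      exact hn'.symm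
    have h2 := hM h1
    have h3 : g = n * ((n : G)⁻¹ * g) := by group
    rw [h3]
    exact N.mul_mem n.2 h2

end simple

end Cfsg.Agent.Helper4.SharpTrans
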