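import Cfsg.Agent.Lib.Helper28.SylAlt.Defs
import Cfsg.Agent.Lib.Helper10.PGroup
import Cfsg.Prelude.Def_TwoFusion

set_option autoImplicit false
set_option linter.style.haveILetI false
set_option linter.deprecated false

/-! S2221 piece [G] (helper4): generic lemmas on non-trivial internal direct products. -/

namespace Cfsg.Agent.Lib.Helper28.SylAlt

namespace Helper4G

/-- an element of `A` commuting with `A`, where `B` centralises `A` and `A ⊔ B = ⊤`, is central -/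
theorem mem_center_of_sup {H : Type*} [Group H] (A B : Subgroup H)
    (hAB : ∀ a ∈ A, ∀ b ∈ B, a * b = b * a) (hsup : A ⊔ B = ⊤) (x : H)
    (hxA : ∀ a ∈ A, a * x = x * a) (hxB : ∀ b ∈ B, b * x = x * b) : x ∈ Subgroup.center H := by
  rw [Subgroup.mem_center_iff]
  intro g
  have hle : A ⊔ B ≤ Subgroup.centralizer {x} := by
    refine sup_le ?_ ?_
    · intro a ha
      rw [Subgroup.mem_centralizer_iff]
      intro h hh
      rw [Set.mem_singleton_iff] at hh
      rw [hh]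
      exact (hxA a ha).symm
    · intro b hb
      rw [Subgroup.mem_centralizer_iff]
      intro h hh
      rw [Set.mem_singleton_iff] at hh
      rw [hh]
      exact (hxB b hb).symm
  have hg : g ∈ Subgroup.centralizer {x} := hle (hsup ▸ Subgroup.mem_top g)
  rw [Subgroup.mem_centralizer_iff] at hg
  exact (hg x rfl).symm

/-- a non-trivial subgroup of a finite `2`-group has a non-trivial element commuting with it -/
theorem exists_central {H : Type*} [Group H] [Finite H] (hH : IsPGroup 2 H) (A : Subgroup H)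
    (hA : A ≠ ⊥) : ∃ x ∈ A, x ≠ 1 ∧ ∀ a ∈ A, a * x = x * a := by
  haveI : Fact (Nat.Prime 2) := ⟨Nat.prime_two⟩
  haveI : Nontrivial ↥A := (Subgroup.nontrivial_iff_ne_bot A).mpr hA
  have hAp : IsPGroup 2 ↥A := hH.to_subgroup A
  haveI : Nontrivial ↥(Subgroup.center ↥A) := hAp.center_nontrivial
  obtain ⟨⟨z, hz⟩, hne⟩ := exists_ne (1 : ↥(Subgroup.center ↥A))
  refine ⟨z.1, z.2, ?_, ?_⟩
  · intro h1
    apply hne
    apply Subtype.ext
    apply Subtype.ext
    exact h1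
  · intro a ha
    have := (Subgroup.mem_center_iff.mp hz) ⟨a, ha⟩
    exact congrArg Subtype.val this

/-- if `B` centralises `A` and `A ⊔ B = ⊤` then `A` is normal -/
theorem normal_of_sup {H : Type*} [Group H] (A B : Subgroup H)
    (hAB : ∀ a ∈ A, ∀ b ∈ B, a * b = b * a) (hsup : A ⊔ B = ⊤) : A.Normal := by
  rw [← Subgroup.normalizer_eq_top_iff, eq_top_iff, ← hsup]
  refine sup_le Subgroup.le_normalizer ?_
  intro b hb
  rw [Subgroup.mem_normalizer_iff]
  intro a
  have key : ∀ a ∈ A, b * a * b⁻¹ = a := by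
    intro a ha
    rw [← hAB a ha b hb, mul_inv_cancel_right]
  constructor
  · intro ha
    rw [key a ha]
    exact ha
  · intro ha
    have h2 := key _ ha
    have h3 : b⁻¹ * (b * a * b⁻¹) * b = a := by group
    have h4 : b⁻¹ * (b * a * b⁻¹) * b = b * a * b⁻¹ := by
      have h5 : b * (b * a * b⁻¹) * b⁻¹ = b * a * b⁻¹ := h2
      calc b⁻¹ * (b * a * b⁻¹) * b = b⁻¹ * (b * (b * a * b⁻¹) * b⁻¹) * b := by rw [h5]
        _ = b * a * b⁻¹ := by group
    rw [← h3, h4]
    exact ha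

end Helper4G

open Helper4G

theorem decomp_of_mulEquiv {H K : Type*} [Group H] [Group K] (e : H ≃* K) (h : Decomp H) :
    Decomp K := by
  obtain ⟨A, B, hA, hB, hc, hi, hs⟩ := h
  refine ⟨A.map e.toMonoidHom, B.map e.toMonoidHom, ?_, ?_, ?_, ?_, ?_⟩
  · exact fun h => hA ((Subgroup.map_eq_bot_iff_of_injective A e.injective).mp h)
  · exact fun h => hB ((Subgroup.map_eq_bot_iff_of_injective B e.injective).mp h)
  · rintro _ ⟨a, ha, rfl⟩ _ ⟨b, hb, rfl⟩
    rw [← map_mul, ← map_mul, hc a ha b hb]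
  · rw [← Subgroup.map_inf_eq A B e.toMonoidHom e.injective, hi, Subgroup.map_bot]
  · rw [← Subgroup.map_sup, hs, Subgroup.map_top_of_surjective e.toMonoidHom e.surjective]

theorem decomp_iff_subgroup {G : Type*} [Group G] (P : Subgroup G) :
    (∃ S₁ S₂ : Subgroup G, S₁ ≠ ⊥ ∧ S₂ ≠ ⊥ ∧ Cfsg.IsInternalDirectProduct S₁ S₂ P) ↔ Decomp ↥P := by
  constructor
  · rintro ⟨S₁, S₂, h1, h2, hle1, hle2, hc, hi, hs⟩
    refine ⟨S₁.subgroupOf P, S₂.subgroupOf P, ?_, ?_, ?_, ?_, ?_⟩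
    · intro h
      apply h1
      rw [Subgroup.eq_bot_iff_forall]
      intro x hx
      have hx' : (⟨x, hle1 hx⟩ : ↥P) ∈ S₁.subgroupOf P := Subgroup.mem_subgroupOf.mpr hx
      rw [h, Subgroup.mem_bot] at hx'
      exact congrArg Subtype.val hx'
    · intro h
      apply h2
      rw [Subgroup.eq_bot_iff_forall]
      intro x hx
      have hx' : (⟨x, hle2 hx⟩ : ↥P) ∈ S₂.subgroupOf P := Subgroup.mem_subgroupOf.mpr hx
      rw [h, Subgroup.mem_bot] at hx'
      exact congrArg Subtype.val hx'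
    · intro a ha b hb
      apply Subtype.ext
      exact hc a.1 (Subgroup.mem_subgroupOf.mp ha) b.1 (Subgroup.mem_subgroupOf.mp hb)
    · rw [Subgroup.eq_bot_iff_forall]
      intro x hx
      have hx1 : x.1 ∈ S₁ ⊓ S₂ :=
        ⟨Subgroup.mem_subgroupOf.mp hx.1, Subgroup.mem_subgroupOf.mp hx.2⟩
      rw [hi, Subgroup.mem_bot] at hx1
      exact Subtype.ext hx1
    · rw [← Subgroup.subgroupOf_sup hle1 hle2, hs, Subgroup.subgroupOf_self]
  · rintro ⟨A, B, hA, hB, hc, hi, hs⟩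
    refine ⟨A.map P.subtype, B.map P.subtype, ?_, ?_, ?_, ?_, ?_, ?_, ?_⟩
    · exact fun h => hA ((Subgroup.map_eq_bot_iff_of_injective A P.subtype_injective).mp h)
    · exact fun h => hB ((Subgroup.map_eq_bot_iff_of_injective B P.subtype_injective).mp h)
    · exact Subgroup.map_subtype_le A
    · exact Subgroup.map_subtype_le B
    · rintro _ ⟨a, ha, rfl⟩ _ ⟨b, hb, rfl⟩
      exact congrArg Subtype.val (hc a ha b hb)
    · rw [← Subgroup.map_inf_eq A B P.subtype P.subtype_injective, hi, Subgroup.map_bot]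
    · rw [← Subgroup.map_sup, hs, ← MonoidHom.range_eq_map, Subgroup.range_subtype]

theorem not_decomp_of_center {H : Type*} [Group H] [Finite H] (hH : IsPGroup 2 H) (z₀ : H)
    (hc : ∀ z ∈ Subgroup.center H, z = 1 ∨ z = z₀) : ¬ Decomp H := by
  rintro ⟨A, B, hA, hB, hAB, hinf, hsup⟩
  obtain ⟨x, hxA, hx1, hxc⟩ := exists_central hH A hA
  obtain ⟨y, hyB, hy1, hyc⟩ := exists_central hH B hB
  have hxZ : x ∈ Subgroup.center H :=
    mem_center_of_sup A B hAB hsup x hxc (fun b hb => (hAB x hxA b hb).symm)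
  have hyZ : y ∈ Subgroup.center H :=
    mem_center_of_sup A B hAB hsup y (fun a ha => hAB a ha y hyB) hyc
  have hx0 : x = z₀ := (hc x hxZ).resolve_left hx1
  have hy0 : y = z₀ := (hc y hyZ).resolve_left hy1
  have hmem : x ∈ A ⊓ B := ⟨hxA, by rw [hx0, ← hy0]; exact hyB⟩
  rw [hinf, Subgroup.mem_bot] at hmem
  exact hx1 hmem

theorem centralizes_of_decomp {H : Type*} [Group H] [Finite H] (hH : IsPGroup 2 H)
    (A B N : Subgroup H) (hAB : ∀ a ∈ A, ∀ b ∈ B, a * b = b * a) (hinf : A ⊓ B = ⊥)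
    (hsup : A ⊔ B = ⊤) (hN : N.Normal) (z₀ : H)
    (hz : ∀ z ∈ Subgroup.center H, z ∈ N → z = 1 ∨ z = z₀) :
    (∀ a ∈ A, ∀ x ∈ N, a * x = x * a) ∨ (∀ b ∈ B, ∀ x ∈ N, b * x = x * b) := by
  haveI : Fact (Nat.Prime 2) := ⟨Nat.prime_two⟩
  -- a subgroup `C` which is normal, centralised by the other factor, and does not centralise `N`,
  -- contains `z₀ ≠ 1`
  have key : ∀ C : Subgroup H, C.Normal → (¬ ∀ a ∈ C, ∀ x ∈ N, a * x = x * a) →
      z₀ ∈ C ∧ z₀ ≠ 1 := by
    intro C hC hnot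
    push_neg at hnot
    obtain ⟨a0, ha0, x0, hx0, hne⟩ := hnot
    haveI : (C ⊓ N).Normal := Subgroup.normal_inf_normal C N
    have hcmem : a0 * x0 * a0⁻¹ * x0⁻¹ ∈ C ⊓ N := by
      constructor
      · have h1 : x0 * a0⁻¹ * x0⁻¹ ∈ C := hC.conj_mem _ (C.inv_mem ha0) x0
        have h2 : a0 * (x0 * a0⁻¹ * x0⁻¹) ∈ C := C.mul_mem ha0 h1
        have e : a0 * x0 * a0⁻¹ * x0⁻¹ = a0 * (x0 * a0⁻¹ * x0⁻¹) := by group
        rw [e]
        exact h2
      · have h1 : a0 * x0 * a0⁻¹ ∈ N := hN.conj_mem _ hx0 a0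
        exact N.mul_mem h1 (N.inv_mem hx0)
    have hcne : a0 * x0 * a0⁻¹ * x0⁻¹ ≠ 1 := by
      intro h1
      apply hne
      have h2 : a0 * x0 = (a0 * x0 * a0⁻¹ * x0⁻¹) * (x0 * a0) := by group
      rw [h2, h1, one_mul]
    have hbot : C ⊓ N ≠ ⊥ := by
      intro h
      rw [h, Subgroup.mem_bot] at hcmem
      exact hcne hcmem
    have hmeet := Cfsg.Agent.Lib.Helper10.normal_inf_center_ne_bot hH (C ⊓ N) hbot
    rw [Ne, Subgroup.eq_bot_iff_forall] at hmeet
    push_neg at hmeet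
    obtain ⟨z, hzmem, hz1⟩ := hmeet
    have hz0 : z = z₀ := (hz z hzmem.2 hzmem.1.2).resolve_left hz1
    exact ⟨hz0 ▸ hzmem.1.1, hz0 ▸ hz1⟩
  by_contra hcon
  push_neg at hcon
  obtain ⟨hA', hB'⟩ := hcon
  have hAn : A.Normal := normal_of_sup A B hAB hsup
  have hBn : B.Normal :=
    normal_of_sup B A (fun b hb a ha => (hAB a ha b hb).symm) (by rw [sup_comm]; exact hsup)
  have h1 := key A hAn (by push_neg; exact hA')
  have h2 := key B hBn (by push_neg; exact hB')
  have hmem : z₀ ∈ A ⊓ B := ⟨h1.1, h2.1⟩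
  rw [hinf, Subgroup.mem_bot] at hmem
  exact h1.2 hmem

end Cfsg.Agent.Lib.Helper28.SylAlt
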